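/-
Phan's theorem for `PSU₄(q)`, `q` odd, with commuting involutions.
-/
import Cfsg.Agent.H17.TI
import Cfsg.Agent.H27.PH5
import Cfsg.Agent.S2089
import Cfsg.Agent.S0283
import Cfsg.Agent.H11.LowDim

set_option autoImplicit false
set_option linter.unusedSectionVars false

namespace H21.UF
universe u
section
open Cfsg H11 H11.TM H11.TM.SU H14 H14.St H8 Matrix Subgroup
theorem su1 {F : Type*} [Field F] [Fintype F] {q : ℕ} (hF : Fintype.card F = q ^ 2) (h3 : 3 < q) :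
    HasCyclicSchurMultiplier (SU 3 F q) 1 := by
  obtain ⟨p, hp⟩ := CharP.exists F
  have := Fact.mk (CharP.char_is_prime F p)
  have hφ : ∃ t, frob hF t ≠ t := not_forall.1 fun h => frob_ne_id hF (RingHom.ext h)
  have X : Cx 2 (frob hF) q := ⟨frob_frob hF, frob_apply hF, hF, by omega, by omega, by omega, by omega, by omega⟩
  obtain ⟨e⟩ := nonempty_suMat_equiv hF (M := SUT.J 2 F) (n := 2 + 1) (by
    ext a b
    simp [-frob_apply, SUT.J, Matrix.one_apply, apply_ite (frob hF), Fin.rev_eq_iff, eq_comm (a := b)])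
    (left_ne_zero_of_mul_eq_one (by rw [← det_mul, SUT.J_J, det_one])) (Fintype.card_fin _)
  have h : (SUT.T 2 (frob hF)).Emb (suMat hF (SUT.J 2 F)).subtype :=
    ⟨Subtype.val_injective, by ext g; rw [Subgroup.range_subtype]; exact (SUT.σ_eq_iff _ g).symm,
      SUT.ex (frob_frob hF) (frob_ne_id hF)⟩
  have hG := range_eq_gen h.ex (slSt_hmul 2 F) (h.range ▸ Tw.big_fix _) h.mem
    (perfect_of_equiv e.symm (su_perfect hF le_rfl (by omega)))
  exact H23.schur_congr_left (schur_one p aut X.lang h.ex (fun M hM => (h.range.ge.trans hG.le).trans hM.gen_le) (MB.cok _)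
    (slSt_tor 2 F) (fun _ _ _ h => rank_one h X.h2 X.hN hφ) fun _ _ _ h => X.exists_cpl h)
    (((MonoidHom.ofInjective h.inj).trans (MulEquiv.subgroupCongr h.range)).symm.trans e)
end

open H11 H12 Cfsg H27.PH Subgroup
open Matrix hiding mul_apply'
open scoped MatrixGroups

variable {F : Type} [Field F] [Fintype F] {q : ℕ} (hF : Fintype.card F = q ^ 2) {G : Type u} [Group G] [Finite G]
  {A B : Subgroup G} {a b : G}
local notation "𝐂" => hermC (Fin 3) hF
local notation "𝐞" k => (Pi.single k (1 : F) : Fin 3 → F)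
include hF

theorem neg_of (h2 : (2 : F) ≠ 0) {d : SU 3 F q} (e : d • (𝐞 2) = 𝐞 2) (d2 : d * d = 1) (d1 : d ≠ 1) :
    d.1.1 = diagonal ![-1, -1, 1] := by
  obtain ⟨y, rfl⟩ := (rg0 hF).ge (show d ∈ Bk F q {0, 1} from mem_Bk.2 fun i hi => by
    obtain rfl : i = 2 := by fin_cases i <;> simp at hi ⊢
    exact e)
  have e := (sl2_eq_of_mul_self h2 y.1 (congrArg Subtype.val (bl_inj (a₂ := 1) _ ((map_mul (i0 hF) y y).trans
    (d2.trans (map_one (i0 hF)).symm))))).resolve_left fun e => d1 (by rw [su_ext (g := y) (h := 1) e, map_one])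
  ext i j
  fin_cases i <;> fin_cases j <;> simp [i0, coe_bl, e, Fin.sum_univ_succ, mul_apply, Jm_apply, ct_Jm]

theorem side (h2 : (2 : F) ≠ 0) {ψ : SU 3 F q →* G} (k3 : ∀ z, ψ z = 1 → z ^ 3 = 1) (hk : ψ.ker ≤ center _)
    (l : A ≤ ψ.range) (p : ⁅A, A⁆ = A) (ha : a ∈ A) (o : orderOf a = 2) (c : ∀ g ∈ A, g * a = a * g) :
    ∃ (A' : Subgroup (SU 3 F q)) (a' : SU 3 F q) (x : Fin 3 → F), A'.map ψ = A ∧ a' ∈ A' ∧ ψ a' = a ∧ a' * a' = 1 ∧
      (𝐂).B x x = 1 ∧ (∀ g ∈ A', g • x = x) ∧ ∀ g, ψ g * a = a * ψ g → ∃ c : F, g • x = c • x := by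
  have e : ⁅A.comap ψ, A.comap ψ⁆.map ψ = A := by rw [map_commutator, map_comap_eq_self l, p]
  obtain ⟨r, hr, rfl⟩ := e.ge ha
  have a2 : ψ r * ψ r = 1 := by rw [← sq, ← o, pow_orderOf_eq_one]
  have e1 : ψ (r ^ 3) = ψ r := by rw [map_pow, pow_three, a2, mul_one]
  have e2 : r ^ 3 * r ^ 3 = 1 := by rw [← (Commute.refl r).mul_pow, k3 _ ((map_mul ..).trans a2)]
  obtain ⟨x, x0, hx⟩ := fix_odd hF h2 e2 fun k => by simp [← e1, k] at o
  obtain ⟨s, -, hs⟩ := unit x0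
  have k : ∀ g, ψ g * ψ r = ψ r * ψ g → ∃ c : F, g • s • x = c • s • x := fun g hg => by
    have z1 : ψ (g * r ^ 3 * g⁻¹ * (r ^ 3)⁻¹) = 1 := by simp only [map_mul, map_inv, e1, hg]; group
    obtain ⟨z, hz⟩ : ∃ z, z = g * r ^ 3 * g⁻¹ * (r ^ 3)⁻¹ := ⟨_, rfl⟩
    rw [← hz] at z1
    have z2 : z * z = 1 := by
      have : z * r ^ 3 * (z * r ^ 3) = 1 := by rw [hz, inv_mul_cancel_right, conj_mul, e2]; simp
      rwa [mul_assoc, ← mul_assoc (r ^ 3), mem_center_iff.1 (hk z1), mul_assoc, e2, mul_one] at this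
    have z3 := k3 z z1
    rw [pow_three, z2, mul_one, hz, mul_inv_eq_one, mul_inv_eq_iff_eq_mul] at z3
    obtain ⟨c, hc⟩ := hx g z3
    exact ⟨c, by rw [smul_comm, hc, smul_comm]⟩
  refine ⟨_, r ^ 3, s • x, e, pow_mem hr 3, e1, e2, hs, fun g hg => (commutator_le.2 fun u hu v hv => ?_ :
    _ ≤ MulAction.stabilizer _ (s • x)) hg, k⟩
  obtain ⟨c1, h1⟩ := k u⁻¹ (c _ (A.comap ψ |>.inv_mem hu))
  obtain ⟨c2, h2⟩ := k v⁻¹ (c _ (A.comap ψ |>.inv_mem hv))
  generalize s • x = w at h1 h2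
  rw [MulAction.mem_stabilizer_iff, commutatorElement_def, mul_smul, mul_smul, mul_smul, ← eq_inv_smul_iff,
    ← eq_inv_smul_iff, h1, h2, smul_comm u⁻¹, smul_comm v⁻¹, h1, h2, smul_comm]

theorem edge (h2 : (2 : F) ≠ 0) (h3 : 3 < q) (cA : Nat.card A = Nat.card (SU 2 F q)) (cB : Nat.card B = Nat.card (SU 2 F q))
    (pA : ⁅A, A⁆ = A) (pB : ⁅B, B⁆ = B) (ha : a ∈ A) (hb : b ∈ B) (oa : orderOf a = 2) (ob : orderOf b = 2)
    (ca : ∀ g ∈ A, g * a = a * g) (cb : ∀ g ∈ B, g * b = b * g) (ne : a ≠ b) (c : a * b = b * a) (h : H17.T.UE F q A B) :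
    ∃ ψ : SU 3 F q →* G, (ψ.comp (i0 hF)).range = A ∧ (ψ.comp (i1 hF)).range = B := by
  obtain ⟨ξ, hs, hk⟩ := h
  obtain ⟨η, e⟩ := H23.exists_lift_of_schur_one ⟨su_perfect hF le_rfl (by omega)⟩ (su1 hF h3) ξ hs hk (QuotientGroup.mk' _)
  have l : A ⊔ B ≤ ((A ⊔ B).subtype.comp η).range :=
    (sup_le (pA.ge.trans (H19.der_mono le_sup_left)) (pB.ge.trans (H19.der_mono le_sup_right))).trans
      (commutator_le.2 fun x hx y hy => by
        have : ∀ x : ↥(A ⊔ B), ∃ a, ∃ z ∈ center ↥(A ⊔ B), x = η a * z := fun x => by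
          obtain ⟨a, ha⟩ := QuotientGroup.mk'_surjective _ (ξ x)
          exact ⟨a, (η a)⁻¹ * x, hk (by rw [MonoidHom.mem_ker, map_mul, map_inv, ← ha, ← e]; simp), by simp⟩
        obtain ⟨a, z, hz, e1⟩ := this ⟨x, hx⟩
        obtain ⟨b, v, hv, e2⟩ := this ⟨y, hy⟩
        refine ⟨a * b * a⁻¹ * b⁻¹, congrArg Subtype.val (show η _ = ⟨x, hx⟩ * ⟨y, hy⟩ * ⟨x, hx⟩⁻¹ * ⟨y, hy⟩⁻¹ from ?_)⟩
        rw [e1, e2]; simp only [map_mul, map_inv]
        calc _ = η a * (η b * (v * (η a)⁻¹ * v⁻¹) * (η b)⁻¹) := by rw [← mem_center_iff.1 hv]; group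
          _ = η a * (z * (η b * v) * z⁻¹) * (η a)⁻¹ * v⁻¹ * (η b)⁻¹ := by rw [← mem_center_iff.1 hz]; group
          _ = _ := by group)
  have kk : ((A ⊔ B).subtype.comp η).ker ≤ center _ := fun x hx => by
    rw [← QuotientGroup.ker_mk' (center (SU 3 F q)), ← e, MonoidHom.mem_ker, MonoidHom.comp_apply,
      show η x = 1 from Subtype.ext hx, map_one]
  generalize (A ⊔ B).subtype.comp η = ψ at l kk
  have k3 : ∀ z, ψ z = 1 → z ^ 3 = 1 := fun z hz => orderOf_dvd_iff_pow_eq_one.1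
    ((orderOf_dvd_natCard _ (kk hz)).trans ((card_center_SU hF (by omega)).dvd.trans (Nat.gcd_dvd_left _ _)))
  obtain ⟨A', a', x, rfl, ha', rfl, a2, x1, hx, -⟩ := side hF h2 k3 kk (le_sup_left.trans l) pA ha oa ca
  obtain ⟨B', b', y, rfl, hb', rfl, b2, y1, hy, fy⟩ := side hF h2 k3 kk (le_sup_right.trans l) pB hb ob cb
  obtain ⟨k, -, rfl⟩ := tran hF (s := Set.univ) (a := 2) (b := 1) trivial trivial (by simp) (mem_Ws.2 (by simp)) x1
  have ng : ∀ d : SU 3 F q, d • k • (𝐞 2) = k • (𝐞 2) → d * d = 1 → orderOf (ψ d) = 2 →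
      (k⁻¹ * d * k).1.1 = diagonal ![-1, -1, 1] := fun d e d2 o => neg_of hF h2 (by
    rw [mul_smul, mul_smul, e, inv_smul_smul]) (by simp [mul_assoc, ← mul_assoc d, d2]) fun k' => by
      rw [show d = 1 by simpa [mul_assoc, inv_mul_eq_iff_eq_mul] using k'] at o; simp at o
  obtain ⟨y, rfl⟩ := MulAction.surjective k y
  have o : y 2 = 0 := by_contra fun n => by
    obtain ⟨s, e⟩ := fy a' c
    have ea := ng a' (hx _ ha') a2 oa
    replace e : (k⁻¹ * a' * k) • y = s • y := by rw [mul_smul, mul_smul, inv_smul_eq_iff, smul_comm k s]; exact e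
    rw [su_smul, ea] at e
    have e0 := congrFun e 0
    have e1 := congrFun e 1
    have e2 := congrFun e 2
    simp [mulVec_diagonal, n] at e0 e1 e2
    have ey : y = y 2 • (𝐞 2) := funext fun i => by
      fin_cases i <;> simp
      exacts [mul_left_cancel₀ h2 (by linear_combination -e0 - y 0 * e2), mul_left_cancel₀ h2 (by linear_combination -e1 - y 1 * e2)]
    have eb := ng b' (smul_right_injective _ n (by
      show y 2 • _ = y 2 • _
      rw [← smul_comm b', ← smul_comm k, ← ey, hy _ hb'])) b2 ob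
    exact ne (congrArg ψ (mul_left_cancel (mul_right_cancel (su_ext (ea.trans eb.symm)))))
  obtain ⟨l, hl, e⟩ := tran hF (s := {0, 1}) (a := 0) (b := 1) (by simp) (by simp) (by simp) (u := y)
    (mem_Ws.2 fun i hi => by
      obtain rfl : i = 2 := by fin_cases i <;> simp at hi ⊢
      exact o) (by rwa [B_g] at y1)
  have f : ∀ (i : SU 2 F q →* SU 3 F q) (A : Subgroup (SU 3 F q)), Nat.card (A.map ψ) = Nat.card (SU 2 F q) →
      (∀ g ∈ A, (k * l)⁻¹ * g * (k * l) ∈ i.range) →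
      ((ψ.comp (MulAut.conj (k * l)).toMonoidHom).comp i).range = A.map ψ := fun i A e h =>
    (eq_of_le_of_card_ge (by
      rintro _ ⟨g, hg, rfl⟩
      obtain ⟨z, hz⟩ := h g hg
      exact ⟨z, by simp [hz, mul_assoc]⟩) ((card_range_dvd _ |> Nat.le_of_dvd Nat.card_pos).trans e.ge)).symm
  refine ⟨_, f _ A' cA fun g hg => (rg0 hF).ge (mem_Bk.2 fun i hi => ?_), f _ B' cB fun g hg => (rg1 hF).ge (mem_Bk.2 fun i hi => ?_)⟩
  · obtain rfl : i = 2 := by fin_cases i <;> simp at hi ⊢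
    rw [mul_smul, mul_smul, inv_smul_eq_iff, mul_smul, mem_Bk.1 hl 2 (by simp), hx g hg]
  · obtain rfl : i = 0 := by fin_cases i <;> simp at hi ⊢
    rw [mul_smul, mul_smul, inv_smul_eq_iff, mul_smul, e, hy g hg]

omit hF in
theorem uf : H17.T.UF.{u} := by
  intro G _ _ _ F E _ _ _ _ o h3 hE A B C ⟨eA⟩ ⟨eB⟩ ⟨eC⟩ top cm a ha b hb c hc oa ob oc ab bc c1 c2 h1 h2
  obtain ⟨e⟩ := nonempty_su_two_equiv hE (K := F) rfl
  have t : ∀ (K : Type) [Field K] [Fintype K], Odd (Fintype.card K) → (2 : K) ≠ 0 := fun K _ _ o =>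
    Ring.two_ne_zero fun k => by have := FiniteField.even_card_iff_char_two.1 k; have := Nat.odd_iff.1 o; omega
  have k : ∀ {A : Subgroup G} {a : G}, (SL(2, F) ≃* A) → a ∈ A → orderOf a = 2 →
      Nat.card A = Nat.card (SU 2 E (Fintype.card F)) ∧ ⁅A, A⁆ = A ∧ ∀ g ∈ A, g * a = a * g := fun {A a} ε ha oa => by
    refine ⟨Nat.card_congr (e.trans ε).symm.toEquiv, ?_, fun g hg => ?_⟩
    · rw [← map_subtype_commutator, perfect_of_equiv ε (sl2_perfect h3), ← MonoidHom.range_eq_map, range_subtype]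
    obtain ⟨u, hu⟩ := ε.surjective ⟨a, ha⟩
    obtain ⟨v, hv⟩ := ε.surjective ⟨g, hg⟩
    have := sl2_eq_of_mul_self (t F o) u (ε.injective (Subtype.ext (by simp [hu, ← sq, ← oa])))
    have : v * u = u * v := Subtype.ext (by rcases this with k | k <;> simp [k])
    simpa [hu, hv, Subtype.ext_iff] using congrArg ε this
  obtain ⟨a1, a2, a3⟩ := k eA ha oa
  obtain ⟨b1, b2, b3⟩ := k eB hb ob
  obtain ⟨d1, d2, d3⟩ := k eC hc oc
  have tE := t E (hE ▸ o.pow)
  obtain ⟨f, hf⟩ := phan hE h3 (n := 3) (by omega) ![A, B, C] (fun i => Nonempty.some (by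
      fin_cases i
      exacts [⟨e.trans eA⟩, ⟨e.trans eB⟩, ⟨e.trans eC⟩])) (fun i j h => by
      fin_cases i <;> fin_cases j <;> simp at h
      exact cm) fun i j h => by
    fin_cases i <;> fin_cases j <;> simp at h
    exacts [edge hE tE h3 a1 b1 a2 b2 ha hb oa ob a3 b3 ab c1 h1, edge hE tE h3 b1 d1 b2 d2 hb hc ob oc b3 d3 bc c2 h2]
  have hs : Function.Surjective f := MonoidHom.range_eq_top.1 (top_le_iff.1 (top.ge.trans (sup_le (sup_le
    ((le_iSup ![A, B, C] 0).trans hf) ((le_iSup ![A, B, C] 1).trans hf)) ((le_iSup ![A, B, C] 2).trans hf))))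
  have := Cfsg.Agent.S0283.result hE 4 (by omega) (by omega)
  have hz : center _ ≤ f.ker := (Subgroup.map_eq_bot_iff _).1 ((IsSimpleGroup.eq_bot_or_eq_top_of_normal _
    ((inferInstance : (center _).Normal).map f hs)).resolve_right fun k => by
      have : A ≤ ⊥ := a2.ge.trans (commutator_le.2 fun x _ y _ => by
        obtain ⟨x, hx, rfl⟩ := k.ge (mem_top x)
        obtain ⟨y, rfl⟩ := hs y
        rw [← map_commutatorElement, commutatorElement_eq_one_iff_mul_comm.2 (mem_center_iff.1 hx y).symm, map_one]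
        exact one_mem _)
      rw [mem_bot.1 (this ha)] at oa; simp at oa)
  have hs' := QuotientGroup.lift_surjective_of_surjective _ f hs hz
  refine ⟨(MulEquiv.ofBijective _ ⟨(MonoidHom.ker_eq_bot_iff _).1 ((IsSimpleGroup.eq_bot_or_eq_top_of_normal _
    inferInstance).resolve_right fun k => ?_), hs'⟩).symm⟩
  obtain ⟨x, rfl⟩ := hs' a
  rw [show QuotientGroup.lift _ f hz x = 1 from k.ge (mem_top x)] at oa; simp at oa

end H21.UF
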