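import Cfsg.Agent.H27.MS1

/-! S5899: `Φ(N)` does not induce transvections with central axis. -/

set_option autoImplicit false
set_option linter.unusedVariables false

namespace H21.MS
open Cfsg Subgroup H18 H17.GS H28.S H2.GW H27.MS
open H19 hiding eq_bot_mono
open H28.NG hiding Hyp Uniq Ch
open scoped IsMulCommutative

universe u
variable {G : Type u} [Group G] [Finite G] {N Q T X : Subgroup G}

theorem sup_eq (h : Fr N Q T) (l : X ≤ N) (k : N ≤ X ⊔ Q) : X = N := by_contra fun n =>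
  h.ns (sol_mono (sol_sup h.pg.sol (h.sol X (l.lt_of_ne n)) (l.trans h.nq.norm)) (sup_comm X Q ▸ k))

theorem fu : FU.{u} := fun {G} _ _ {N Q T Z U} h hU zu uq nU cZ mx _ => by
  have qn := h.nq.le
  have nZ := cZ.trans (centralizer_le_normalizer _)
  have c : ⁅U, Q⁆ ≤ Z := by
    rcases mx (Z ⊔ ⁅U, Q⁆) le_sup_left (sup_le zu (commg_le_left (qn.trans nU))) (norms_sup nZ (norms_comm nU h.nq.norm)) with e | e
    · exact le_sup_right.trans e.le
    exact (commg_le_left (qn.trans nU)).trans (H29.commutator_lt_mod (H19.abelem_pg Nat.prime_two hU).isPGroup h.pg.isPGroup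
      (qn.trans nU) (uq.trans (qn.trans nZ)) (qn.trans nZ) e.ge)
  refine fun q0 hq => mem_cent.2 fun u0 hu => by_contra fun ne => ?_
  have := hU.1
  let α := U.normalizerMonoidHom.comp (inclusion nU)
  have hα : ∀ (g : N) (v : U), (α g v : G) = g * v * (g : G)⁻¹ := fun _ _ => rfl
  have cz : ∀ (q : N) (v : U), q.1 ∈ Q → (α q v / v : U).1 ∈ Z := fun q v a => by
    simpa [hα, commutatorElement_def, div_eq_mul_inv, mul_assoc] using inv_mem (c (commutator_mem_commutator v.2 a))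
  have fz : ∀ (g : N) (v : U), v.1 ∈ Z → α g v = v := fun g v a => Subtype.ext (by
    rw [hα, ← mem_cent.1 (cZ g.2) _ a, mul_inv_cancel_right])
  obtain ⟨χ, hχ⟩ := CommGroup.exists_apply_ne_one_of_hasEnoughRootsOfUnity U ℂ (a := α ⟨q0, qn hq⟩ ⟨u0, hu⟩ / ⟨u0, hu⟩) fun e =>
    ne (mul_inv_eq_iff_eq_mul.1 (congrArg Subtype.val (div_eq_one.1 e))).symm
  let ψ : N → U →* ℂˣ := fun g => χ.comp (α g).toMonoidHom / χ
  have hψ : ∀ g v, ψ g v = χ (α g v / v) := fun g v => (map_div χ _ _).symm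
  let μ : Q.subgroupOf N →* U →* ℂˣ := MonoidHom.mk' (fun q => ψ q) fun a b => MonoidHom.ext fun v => by
    rw [MonoidHom.mul_apply, hψ, hψ, hψ, ← map_mul, coe_mul, map_mul, MulAut.mul_apply, ← fz a _ (cz b v b.2), map_div (α a), mul_comm, div_mul_div_cancel]
  let Z0 := Z ⊓ χ.ker.map U.subtype
  have n0 : N ≤ N(Z0) := cZ.trans ((centralizer_le (by exact inf_le_left)).trans (centralizer_le_normalizer _))
  have m0 : ∀ (q : N) (v : U), q.1 ∈ Q → ((v : G) * q * (v : G)⁻¹ * (q : G)⁻¹ ∈ Z0 ↔ ψ q v = 1) := fun q v a => by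
    rw [← inv_mem_iff, hψ, show ((v : G) * q * (v : G)⁻¹ * (q : G)⁻¹)⁻¹ = (α q v / v : U).1 by simp [hα, div_eq_mul_inv, mul_assoc]]
    exact ⟨fun k => (mem_map_iff_mem (K := χ.ker) U.subtype_injective).1 k.2, fun k => ⟨cz q v a, _, k, rfl⟩⟩
  rcases mx (U ⊓ Cm Z0 Q) (le_inf zu fun z hz => ⟨n0 (qn (uq (zu hz))), fun j hj => by
      rw [mem_cent.1 (cZ (qn hj)) z hz]; simp⟩) inf_le_left (norms_inf nU (norms_Cm n0 h.nq.norm)) with e | e
  swap
  · exact hχ ((hψ _ _).symm.trans ((m0 ⟨q0, qn hq⟩ ⟨u0, hu⟩ hq).1 ((e.ge hu).2.2 q0 hq)))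
  let Y : Subgroup N := ⟨⟨⟨{g | ∀ v, χ (α g v) = χ v}, fun {a b} p q v => by rw [map_mul, MulAut.mul_apply, p, q]⟩, fun v => by simp⟩,
    fun {a} p v => by rw [← p, ← MulAut.mul_apply, ← map_mul]; simp⟩
  have e2 := sup_eq h (map_subtype_le Y) fun g hg => ?_
  · exact hχ (by rw [map_div, (mem_map_iff_mem N.subtype_injective (x := ⟨q0, qn hq⟩)).1 (e2.ge (qn hq)), div_self'])
  obtain ⟨q, k⟩ : ψ ⟨g, hg⟩ ∈ μ.range := by
    rw [← OrderDual.ofDual_toDual μ.range, ← (CommGroup.subgroupOrderIsoSubgroupMonoidHom U ℂ).apply_symm_apply (OrderDual.toDual _),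
      CommGroup.mem_subgroupOrderIsoSubgroupMonoidHom_iff]
    intro v hv
    rw [CommGroup.mem_subgroupOrderIsoSubgroupMonoidHom_symm_iff] at hv
    rw [hψ, fz _ v (e.le ⟨v.2, n0 (qn (uq v.2)), fun j hj => (m0 ⟨j, qn hj⟩ v hj).2 (hv _ ⟨⟨_, hj⟩, rfl⟩)⟩), div_self', map_one]
  rw [← inv_mul_cancel_right g q.1.1]
  refine mul_mem (mem_sup_left (mem_map_of_mem _ (x := ⟨g, hg⟩ * q.1⁻¹) fun v => ?_)) (mem_sup_right q.2)
  have := mul_right_cancel (DFunLike.congr_fun k (α q.1⁻¹ v))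
  rw [map_mul, MulAut.mul_apply]
  exact this.symm.trans (by simp)

end H21.MS
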