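import Cfsg.Agent.H27.MS2
import Cfsg.Agent.H21.MS2

/-! S5899: insoluble `2`-local subgroups. -/

set_option autoImplicit false
set_option linter.unusedVariables false
set_option linter.unusedSectionVars false

namespace H21.MS
open Cfsg Subgroup H18 H17.GS H28.S H2.GW H27.MS
open H19 hiding eq_bot_mono
open H28.NG hiding Hyp Uniq Ch
open H29.PU (bm)

universe u
variable {G : Type u} [Group G] [Finite G] {N Q T X S V : Subgroup G}

theorem norm_ne (h : Hy G) (n : X ≠ ⊥) (t : X ≠ ⊤) : N(X) ≠ ⊤ := fun e =>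
  (h.simple.eq_bot_or_eq_top_of_normal X (normalizer_eq_top_iff.1 e)).elim n t

theorem zs_le_bm : Zs S ≤ bm 2 S :=
  (Ohm1_le _ _).trans (inf_le_inf_left _ (centralizer_le (by exact H29.PU.zj_le)))

theorem zs_ne (h : H19.PG 2 S) (n : S ≠ ⊥) : Zs S ≠ ⊥ := h.Ohm1_center_ne_bot n

theorem fr_le (h : Fr N Q T) : Q ≤ T := (le_Oc h.nq h.pg).trans (Oc_le_hall h.syl)

/-- `Ω₁ Z(T) ≤ Ω₁ Z(Q)` -/
theorem zs_le (h : Lc N Q T) : Zs T ≤ Zs Q := Ohm1_mono _ (le_inf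
  (inf_le_right.trans ((centralizer_le (by exact fr_le h.toFr)).trans h.chr)) (inf_le_right.trans (centralizer_le (by exact fr_le h.toFr))))

/-- weak closure of the Baumann subgroup -/
theorem norm_bm (h : Fr N Q T) (l : bm 2 T ≤ Q) : N ≤ N(bm 2 T) := fun g hg =>
  mem_norm_iff_cj.2 (bm_wc ((cj_le_of_mem_norm (h.nq.norm hg) l).trans (fr_le h)))

theorem lc : LC.{u} := fun {G} _ _ {L R T} h r0 rp l ns s => by
  have nt := norm_ne h r0 fun e => ns (sol_mono rp.sol (e ▸ le_top))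
  obtain rfl : L = N(R) := by_contra fun n => h.nch ⟨_, _, l.lt_of_ne n, nt, ns⟩
  have mx : ∀ X, N(R) ≤ X → X = N(R) ∨ X = ⊤ := fun X a => by_contra fun k =>
    h.nch ⟨_, X, a.lt_of_ne fun e => k (.inl e.symm), fun e => k (.inr e), ns⟩
  have nrm : ∀ X, X ≠ ⊥ → X ⊴ N(R) → N(X) = N(R) := fun X a b =>
    (mx _ b.norm).resolve_right (norm_ne h a fun e => nt (top_le_iff.1 (e ▸ b.le)))
  have sol : ∀ X, X < N(R) → Sol X := fun X a => by_contra fun k => h.nch ⟨_, _, a, nt, k⟩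
  have q0 : Oc {2} N(R) ≠ ⊥ := fun e => r0 (le_bot_iff.1 (e ▸ le_Oc ⟨le_normalizer, le_rfl⟩ rp))
  have chr : C(Oc {2} N(R)) ≤ Oc {2} N(R) :=
    (le_inf ((centralizer_le_normalizer _).trans (nrm _ q0 (Oc_normal _ _)).le) le_rfl).trans (h.chr R r0 rp)
  refine ⟨⟨⟨Oc_pi _ _, Oc_normal _ _, s, ns, sol, fun X n => or_iff_not_imp_right.2 fun ne => ?_⟩, h, q0, chr, rfl, mx, nrm⟩, rfl⟩
  refine le_of_exists_syl fun p hp _ => ?_
  have := Fact.mk hp
  obtain ⟨P, hP⟩ := exists_syl p X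
  have k : P ⊴ N(R) := ⟨hP.le.trans n.le, by_contra fun k => ns (hP.frattini n ▸ sol_sup (sol _ (n.le.lt_of_ne ne))
    (sol _ (inf_lt_left.2 k)) (inf_le_left.trans n.norm))⟩
  refine ⟨P, hP, ?_⟩
  by_cases e : p = 2
  · exact le_Oc k (e ▸ hP.pi)
  · exact (cents_symm (Oc_cents k (hP.pi.mono (by simpa using Ne.symm e)))).trans chr

theorem no8 (h : Hz G) (f : Fr N Q T) (s : Sec N Q ⊥ V) : #V ≠ 8 := fun c =>
  (h.i3 V ⟨comm_iff_le_cent.2 (Cm_bot (W := V) ▸ s.ea.cm), fun a m => pow_two a ▸ s.ea.sq a m⟩ c).elim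
    (fun k => s.nc (Cm_bot (W := V) ▸ s.nV.trans k)) fun k => f.ns (sol_mono k s.nV)

theorem nt (mb1 : MB1.{u}) : NT.{u} := fun h l s a b => lt_of_not_ge fun k =>
  have := (mb1 l.toFr s a b (by rw [Eb, Cm_bot, cent_zpowers, pow_one, mul_comm]; exact k)).2
  no8 h l.toFr this.1 (by simpa using this.2)

theorem no (nf : NF.{u}) (ff : FF.{u}) : NO.{u} := fun h l s v a b c => lt_of_not_ge fun k =>
  let ⟨_, _, c, w⟩ := ff l.toFr (nf l.toFr l.q0 s a b c (by rwa [Cm_bot])) s v a b c k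
  no8 h l.toFr w c

theorem cm (tr : TR.{u}) : CM.{u} := fun {G} _ _ {N Q T} h l => by
  have z0 := zs_ne l.syl.pi fun e => l.q0 (le_bot_iff.1 (e ▸ fr_le l.toFr))
  by_cases c : N ≤ C(Zs T)
  · have e := l.nrm _ z0 ⟨(Ohm1_le _ _).trans (inf_le_left.trans l.syl.le), c.trans (centralizer_le_normalizer _)⟩
    exact ⟨l.syl.syl_of_norm_le le_top (inf_le_right.trans ((norm_le_norm_Ohm1_center _ _).trans e.le)),
      .inl (c.antisymm ((centralizer_le_normalizer _).trans e.le))⟩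
  have b := (tr h l fun k => c (k.trans (centralizer_le (by exact zs_le l)))).resolve_right fun k => c k.cen
  have e := l.nrm _ (fun e => z0 (le_bot_iff.1 (e ▸ zs_le_bm))) ⟨b.trans l.nq.le, norm_bm l.toFr b⟩
  exact ⟨l.syl.syl_of_norm_le le_top (inf_le_right.trans ((H29.PU.nrm_bm le_rfl).trans e.le)), .inr ⟨e.symm, b, c⟩⟩

end H21.MS
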