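import Cfsg.Agent.H24.FCStr

/-! Amitsur: nonsolvable finite subgroups of division rings. -/

namespace H21.Amit

open Finset

/-- Gauss's factorisation of the cyclotomic polynomial over the quadratic subfield. -/
theorem gauss_aux {F E : Type*} [Field F] [Field E] [Algebra F E] [IsGalois F E]
    [FiniteDimensional F E] [CharZero E] {q : ℕ} [hq : Fact q.Prime] (h4 : q % 4 = 3)
    {ω : E} (hω : IsPrimitiveRoot ω q)
    (z w : F) (hw : w * (1 - z) = 1 - z ^ q) (hz1 : z ≠ 1) :
    ∃ α β : F, (q : F) * (α ^ 2 - 4 * w) + β ^ 2 = 0 := by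
  classical
  haveI : NeZero q := ⟨hq.out.ne_zero⟩
  let ψ : AddChar (ZMod q) E := AddChar.zmodChar q ((IsPrimitiveRoot.iff_def ω q).mp hω).left
  have hψ : ψ.IsPrimitive := AddChar.zmodChar_primitive_of_primitive_root q hω
  let χ₀ := quadraticChar (ZMod q)
  let χ : MulChar (ZMod q) E := χ₀.ringHomComp (Int.castRingHom E)
  have h2 : ringChar (ZMod q) ≠ 2 := by rw [ZMod.ringChar_zmod_n]; omega
  have hχ1 : χ ≠ 1 :=
    (MulChar.ringHomComp_ne_one_iff (RingHom.injective_int _)).2 (quadraticChar_ne_one h2)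
  have hm1 : χ₀ (-1) = -1 := by
    rw [quadraticChar_neg_one h2, ZMod.card, ZMod.χ₄_nat_three_mod_four h4]
  have hg : gaussSum χ ψ ^ 2 = -(q : E) := by
    rw [gaussSum_sq hχ1 ((quadraticChar_isQuadratic _).comp _) hψ, ZMod.card]
    simp [χ, hm1]
  set z' := algebraMap F E z
  let P : ℤ → E := fun ε => ∏ k with χ₀ k = ε, (1 - ψ k * z')
  have hP : P 1 * P (-1) * (1 - z') = 1 - z' ^ q := by
    have e1 : ∏ k : ZMod q, (1 - ψ k * z') = 1 - z' ^ q := by
      have := congrArg (Polynomial.eval 1) (X_pow_sub_C_eq_prod hω hq.out.pos (α := z') rfl)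
      simp only [Polynomial.eval_sub, Polynomial.eval_pow, Polynomial.eval_X, Polynomial.eval_C,
        one_pow, Polynomial.eval_prod] at this
      rw [this]
      refine prod_nbij ZMod.val (fun k _ => mem_range.2 (ZMod.val_lt k))
        (fun a _ b _ h => ZMod.val_injective q h)
        (fun i hi => ⟨i, by simp, ZMod.val_cast_of_lt (by simpa using hi)⟩) fun k _ => ?_
      rw [AddChar.zmodChar_apply]
    rw [← e1, ← prod_filter_mul_prod_filter_not univ (fun k => χ₀ k = 1), mul_assoc,
      ← prod_filter_mul_prod_filter_not (filter (fun k => ¬χ₀ k = 1) univ) (fun k => χ₀ k = -1)]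
    congr 2
    · rw [filter_filter]
      refine prod_congr (filter_congr fun k _ => ?_) fun _ _ => rfl
      exact ⟨fun h => ⟨by rw [h]; decide, h⟩, fun h => h.2⟩
    · have : filter (fun k => ¬χ₀ k = -1) (filter (fun k => ¬χ₀ k = 1) univ) = {0} := by
        ext k
        simp only [mem_filter, mem_univ, true_and, mem_singleton]
        constructor
        · intro h
          by_contra h0
          rcases quadraticChar_dichotomy h0 with h1 | h1
          exacts [h.1 h1, h.2 h1]
        · rintro rfl; simp [χ₀]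
      rw [this, prod_singleton, AddChar.map_zero_eq_one, one_mul]
  have key : ∀ σ : E ≃ₐ[F] E, ∃ ε : ℤ, (ε = 1 ∨ ε = -1) ∧ σ (gaussSum χ ψ) = ε * gaussSum χ ψ ∧
      ∀ δ, σ (P δ) = P (ε * δ) := by
    intro σ
    obtain ⟨m, hm, e⟩ := hω.eq_pow_of_pow_eq_one (ξ := σ ω) (by rw [← map_pow, hω.pow_eq_one, map_one])
    have hm0 : (m : ZMod q) ≠ 0 := by
      intro h
      rw [ZMod.natCast_eq_zero_iff] at h
      rw [Nat.eq_zero_of_dvd_of_lt h hm, pow_zero] at e
      exact hω.ne_one hq.out.one_lt (σ.injective (by rw [← e, map_one]))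
    have hσ : ∀ k, σ (ψ k) = ψ (m * k) := fun k => by
      rw [AddChar.zmodChar_apply, map_pow, ← e, ← pow_mul, ← AddChar.zmodChar_apply' (n := q)
        ((IsPrimitiveRoot.iff_def ω q).mp hω).left]
      simp [ψ]
    have hs : χ₀ m * χ₀ m = 1 := by rw [← pow_two]; exact quadraticChar_sq_one hm0
    refine ⟨χ₀ m, quadraticChar_dichotomy hm0, ?_, fun δ => ?_⟩
    · have h1 := gaussSum_mulShift χ ψ (Units.mk0 _ hm0)
      have h3 : σ (gaussSum χ ψ) = gaussSum χ (ψ.mulShift m) := by
        simp only [gaussSum, map_sum, map_mul, hσ, AddChar.mulShift_apply]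
        refine sum_congr rfl fun k _ => ?_
        simp [χ]
      rw [h3, ← h1, ← mul_assoc]
      simp only [χ, Units.val_mk0, MulChar.ringHomComp_apply, eq_intCast]
      rw [← Int.cast_mul, hs]
      simp
    · simp only [P, map_prod, map_sub, map_one, map_mul, hσ, z', AlgEquiv.commutes]
      refine prod_bijective (fun k => m * k) (Units.mk0 _ hm0).mulLeft_bijective
        (fun k => ?_) fun _ _ => rfl
      simp only [mem_filter, mem_univ, true_and, map_mul]
      constructor
      · rintro rfl; rfl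
      · intro h
        have := congrArg (χ₀ m * ·) h
        simpa [← mul_assoc, hs] using this
  obtain ⟨α, hα⟩ : P 1 + P (-1) ∈ (⊥ : IntermediateField F E) := by
    rw [IsGalois.mem_bot_iff_fixed]
    intro σ
    obtain ⟨ε, h1 | h1, -, h3⟩ := key σ <;> simp [h3, h1, add_comm]
  obtain ⟨β, hβ⟩ : (P 1 - P (-1)) * gaussSum χ ψ ∈ (⊥ : IntermediateField F E) := by
    rw [IsGalois.mem_bot_iff_fixed]
    intro σ
    obtain ⟨ε, h1 | h1, h2, h3⟩ := key σ <;> simp only [map_mul, map_sub, h2, h3, h1] <;>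
      push_cast <;> ring
  refine ⟨α, β, (algebraMap F E).injective ?_⟩
  have hw' : algebraMap F E w = P 1 * P (-1) := by
    have h1 : (1 : E) - z' ≠ 0 := sub_ne_zero.2 fun h => hz1 ((algebraMap F E).injective (by
      rw [map_one]; exact h.symm))
    refine mul_right_cancel₀ h1 ?_
    rw [hP]
    simpa using congrArg (algebraMap F E) hw
  simp only [Algebra.ofId_apply, AlgHom.toRingHom_eq_coe, RingHom.coe_coe] at hα hβ
  simp only [map_add, map_mul, map_sub, map_pow, map_natCast, map_ofNat, map_zero, hα, hβ, hw']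
  linear_combination (P 1 - P (-1)) ^ 2 * hg

theorem gauss_id {F : Type*} [Field F] [CharZero F] {q : ℕ} [hq : Fact q.Prime] (h4 : q % 4 = 3)
    (z w : F) (hw : w * (1 - z) = 1 - z ^ q) (hz1 : z ≠ 1) :
    ∃ α β : F, (q : F) * (α ^ 2 - 4 * w) + β ^ 2 = 0 := by
  haveI : NeZero q := ⟨hq.out.ne_zero⟩
  haveI := IsCyclotomicExtension.isGalois {q} F (CyclotomicField q F)
  haveI := IsCyclotomicExtension.finiteDimensional {q} F (CyclotomicField q F)
  exact gauss_aux h4 (IsCyclotomicExtension.zeta_spec q F (CyclotomicField q F)) z w hw hz1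

/-- Thue's lemma -/
theorem thue {q : ℕ} [hq : Fact q.Prime] (t : ZMod q) :
    ∃ u v : ℤ, (u : ZMod q) = t * v ∧ u ^ 2 < q ∧ v ^ 2 < q ∧ (u ≠ 0 ∨ v ≠ 0) := by
  haveI : NeZero q := ⟨hq.out.ne_zero⟩
  set m := Nat.sqrt q
  have h1 : m * m < q := lt_of_le_of_ne (Nat.sqrt_le q) fun h =>
    hq.out.not_isSquare ⟨m, h.symm⟩
  obtain ⟨x, y, hxy, h⟩ := Fintype.exists_ne_map_eq_of_card_lt
    (fun x : Fin (m + 1) × Fin (m + 1) => ((x.1 : ℕ) : ZMod q) - t * (x.2 : ℕ))
    (by simpa using Nat.lt_succ_sqrt q)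
  have b : ∀ a b : Fin (m + 1), (((a : ℕ) : ℤ) - (b : ℕ)) ^ 2 < q := fun a b => by
    have := a.2; have := b.2
    have h2 : ((m : ℤ)) ^ 2 < q := by rw [sq]; exact_mod_cast h1
    refine lt_of_le_of_lt (sq_le_sq' ?_ ?_) h2 <;> omega
  refine ⟨(x.1 : ℕ) - (y.1 : ℕ), (x.2 : ℕ) - (y.2 : ℕ), ?_, b _ _, b _ _, ?_⟩
  · push_cast; linear_combination h
  · by_contra hc
    push Not at hc
    exact hxy (Prod.ext (Fin.ext (by omega)) (Fin.ext (by omega)))

theorem rep {q : ℕ} [hq : Fact q.Prime] (h : q % 20 = 3) :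
    ∃ k u v : ℤ, 0 < k ∧ k < 6 ∧ k * q = u ^ 2 + 5 * v ^ 2 := by
  haveI : Fact (Nat.Prime 5) := ⟨by norm_num⟩
  have h5 : legendreSym q (-5) = 1 := by
    have e1 : legendreSym q (-1) = -1 := by
      rw [legendreSym.at_neg_one (by omega), ZMod.χ₄_nat_three_mod_four (by omega)]
    have e2 : legendreSym q 5 = -1 := by
      have := legendreSym.quadratic_reciprocity_one_mod_four (p := 5) (q := q) rfl (by omega)
      rw [show (5 : ℤ) = (5 : ℕ) from rfl, this, legendreSym.mod, show ((q : ℤ) % (5 : ℕ)) = 3 by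
        omega]
      norm_num
    rw [show (-5 : ℤ) = -1 * 5 from rfl, legendreSym.mul, e1, e2]; rfl
  have h0 : ((-5 : ℤ) : ZMod q) ≠ 0 := fun h0 => by
    rw [(legendreSym.eq_zero_iff q _).2 h0] at h5; exact zero_ne_one h5
  obtain ⟨t, ht⟩ := (legendreSym.eq_one_iff q h0).1 h5
  obtain ⟨u, v, h1, h2, h3, h4⟩ := thue t
  obtain ⟨k, hk⟩ : (q : ℤ) ∣ u ^ 2 + 5 * v ^ 2 := by
    rw [← ZMod.intCast_zmod_eq_zero_iff_dvd]
    push_cast at ht ⊢
    rw [h1]; linear_combination (-(v : ZMod q) ^ 2) * ht
  have hq0 : (0 : ℤ) < q := by exact_mod_cast hq.out.pos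
  refine ⟨k, u, v, ?_, ?_, by rw [hk, mul_comm]⟩
  · have : 0 < u ^ 2 + 5 * v ^ 2 := by rcases h4 with h4 | h4 <;> positivity
    exact pos_of_mul_pos_right (hk ▸ this) hq0.le
  · exact lt_of_mul_lt_mul_left (a := (q : ℤ)) (by linarith) hq0.le

/-- the level of `ℚ(√5, ζ)` is at most two -/
theorem iso {F : Type*} [Field F] [CharZero F] {s z : F} (hs : s ^ 2 = 5) {p : ℕ} (hp : p.Prime)
    (h7 : 7 ≤ p) (hz : z ^ p = 1) (hz1 : z ≠ 1)
    (an : ∀ a b c d : F, a ^ 2 + b ^ 2 + (c ^ 2 + d ^ 2) = 0 → a = 0 ∧ b = 0) : False := by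
  have hc : Nat.Coprime p 20 := (Nat.coprime_primes hp Nat.prime_two).2 (by omega) |>.pow_right 2
    |>.mul_right ((Nat.coprime_primes hp (by norm_num : Nat.Prime 5)).2 (by omega))
  obtain ⟨a, h1, h2⟩ := Nat.chineseRemainder hc (p - 1) 3
  obtain ⟨q, -, hq, h3⟩ := Nat.forall_exists_prime_gt_and_modEq 0 (q := p * 20) (a := a)
    (by positivity) (Nat.Coprime.mul_right
      (by rw [Nat.Coprime, h1.gcd_eq]; exact (Nat.coprime_self_sub_left hp.one_le).2 (by simp))
      (by rw [Nat.Coprime, h2.gcd_eq]; rfl))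
  haveI := Fact.mk hq
  have h4 : q % 20 = 3 := (h3.of_mul_left p).trans h2
  have h5 : z ^ q * z = 1 := by
    have := ((h3.of_mul_right 20).trans h1).add_right 1
    rw [Nat.sub_add_cancel hp.one_le] at this
    rw [← pow_succ, pow_eq_pow_mod _ hz, this, ← pow_eq_pow_mod _ hz, hz]
  obtain ⟨n, hn⟩ := hp.odd_of_ne_two (by omega)
  have h6 : (z ^ n) ^ 2 * z = 1 := by rw [← hz, hn]; ring
  obtain ⟨α, β, h7⟩ := gauss_id (q := q) (by omega) z (-(z ^ n) ^ 2)
    (by linear_combination (1 - z ^ q) * h6 + (z ^ n) ^ 2 * h5) hz1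
  obtain ⟨k, u, v, k0, k6, hk⟩ := rep h4
  have hk' : (k : F) * q = u ^ 2 + (s * v) ^ 2 := by
    rw [mul_pow, hs]; exact_mod_cast hk
  obtain ⟨c, d, x, y, h8, h9⟩ : ∃ c d x y : F, c ^ 2 + d ^ 2 ≠ 0 ∧
      (c ^ 2 + d ^ 2) * q = x ^ 2 + y ^ 2 := by
    interval_cases k
    · exact ⟨1, 0, u, s * v, by norm_num, by rw [← hk']; norm_num⟩
    · exact ⟨1, 1, u, s * v, by norm_num, by rw [← hk']; norm_num⟩
    · exact ⟨3, 3, u - s * (s * v), s * u + s * v, by norm_num,
        by push_cast at hk'; linear_combination 6 * hk' - (u ^ 2 + (s * v) ^ 2) * hs⟩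
    · exact ⟨2, 0, u, s * v, by norm_num, by rw [← hk']; norm_num⟩
    · exact ⟨2, 1, u, s * v, by norm_num, by rw [← hk']; norm_num⟩
  obtain ⟨e1, e2⟩ := an (x * α - y * (2 * z ^ n)) (x * (2 * z ^ n) + y * α) (c * β) (d * β)
    (by linear_combination (c ^ 2 + d ^ 2) * h7 - (α ^ 2 + 4 * (z ^ n) ^ 2) * h9)
  have e3 : (c ^ 2 + d ^ 2) * q * (α ^ 2 + (2 * z ^ n) ^ 2) = 0 := by
    rw [h9]
    linear_combination (x * α - y * (2 * z ^ n)) * e1 + (x * (2 * z ^ n) + y * α) * e2
  have e4 := (mul_eq_zero.1 e3).resolve_left (mul_ne_zero h8 (by exact_mod_cast hq.ne_zero))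
  have e5 := (an α (2 * z ^ n) 0 0 (by linear_combination e4)).2
  have : z ^ n = 0 := by simpa using e5
  simp [this] at h6

section ring
variable {D : Type*} [DivisionRing D]

theorem eq_or {x y : D} (h : x * y = y * x) (h2 : x * x = y * y) : x = y ∨ x = -y := by
  have : (x - y) * (x + y) = 0 := by
    rw [sub_mul, mul_add, mul_add, h, h2]; abel
  rcases mul_eq_zero.1 this with h | h
  exacts [Or.inl (sub_eq_zero.1 h), Or.inr (eq_neg_of_add_eq_zero_left h)]

/-- sums of four squares of elements commuting with a quaternion pair -/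
theorem anis {i j : D} (hi : i * i = -1) (hj : j * j = -1) (hij : j * i = -(i * j)) (h2 : (2 : D) ≠ 0)
    {F : Type*} [CommRing F] (f : F →+* D) (h1 : ∀ a, i * f a = f a * i)
    (h3 : ∀ a, j * f a = f a * j) (a b c d : F) (h : a ^ 2 + b ^ 2 + (c ^ 2 + d ^ 2) = 0) :
    f a = 0 ∧ f b = 0 := by
  have i0 : i ≠ 0 := fun h => by simp [h] at hi
  have j0 : j ≠ 0 := fun h => by simp [h] at hj
  have key : ∀ a b c d : F, f a + f b * i + (f c + f d * i) * j = 0 → f a = 0 ∧ f b = 0 := by
    intro a b c d h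
    have e1 : f a + f b * i = 0 := by
      have : i * (f a + f b * i + (f c + f d * i) * j) + (f a + f b * i + (f c + f d * i) * j) * i =
          2 * (i * (f a + f b * i)) := by
        simp only [mul_add, add_mul, mul_assoc, hij, two_mul, mul_neg]
        simp only [← mul_assoc, h1]
        abel
      rw [h] at this
      simpa [h2, i0] using this.symm
    have e2 : f a = 0 := by
      have : j * (f a + f b * i) + (f a + f b * i) * j = 2 * (j * f a) := by
        simp only [mul_add, add_mul, two_mul]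
        simp only [← mul_assoc, h3]
        simp only [mul_assoc, hij, mul_neg]
        abel
      rw [e1] at this
      simpa [h2, j0] using this.symm
    exact ⟨e2, by simpa [e2, i0] using e1⟩
  have m : ∀ a b, f a * f b = f (a * b) := fun a b => (map_mul f a b).symm
  have : (f a + f b * i + (f c + f d * i) * j) * (f a + f (-b) * i + (f (-c) + f (-d) * i) * j) =
      f (a ^ 2 + b ^ 2 + (c ^ 2 + d ^ 2)) := by
    have a1 : ∀ a x, i * (f a * x) = f a * (i * x) := fun a x => by rw [← mul_assoc, h1, mul_assoc]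
    have a2 : ∀ a x, j * (f a * x) = f a * (j * x) := fun a x => by rw [← mul_assoc, h3, mul_assoc]
    have a3 : ∀ x, j * (i * x) = -(i * (j * x)) := fun x => by
      rw [← mul_assoc, hij, neg_mul, mul_assoc]
    have a4 : ∀ x, i * (i * x) = -x := fun x => by rw [← mul_assoc, hi, neg_one_mul]
    have a5 : ∀ a b x, f a * (f b * x) = f (a * b) * x := fun a b x => by rw [← mul_assoc, m]
    simp only [mul_add, add_mul, mul_assoc, a1, a2, a3, a4, a5, h1, h3, m, hi, hj, hij, mul_neg,
      neg_mul, map_neg, map_add, sq, mul_one, neg_neg, mul_comm b a, mul_comm c a, mul_comm d a,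
      mul_comm c b, mul_comm d b, mul_comm d c]
    abel
  rw [h, map_zero] at this
  rcases mul_eq_zero.1 this with h | h
  · exact key _ _ _ _ h
  · simpa using key _ _ _ _ h

theorem charZero {i j : D} (hi : i * i = -1) (hj : j * j = -1) (hij : j * i = -(i * j))
    (h2 : (2 : D) ≠ 0) : CharZero D := by
  obtain ⟨p, hp⟩ := CharP.exists D
  rcases CharP.char_is_prime_or_zero D p with h | rfl
  · haveI := Fact.mk h
    obtain ⟨a, b, hab⟩ := ZMod.sq_add_sq p (-1)
    have c : ∀ (x : D) a, x * ZMod.castHom (dvd_refl p) D a = ZMod.castHom (dvd_refl p) D a * x :=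
      fun x a => by
        obtain ⟨n, rfl⟩ := ZMod.natCast_zmod_surjective a
        rw [map_natCast, Nat.cast_comm]
    simpa using (anis hi hj hij h2 _ (c i) (c j) 1 0 a b (by rw [hab]; ring)).1
  · exact CharP.charP_to_charZero D

/-- no root of unity of prime order at least `7` commutes with `SL(2,5)` -/
theorem no_root [CharZero D] {i j s z : D} (hi : i * i = -1) (hj : j * j = -1)
    (hij : j * i = -(i * j)) (hs : s * s = 5) (h1 : i * s = s * i) (h2 : j * s = s * j)
    (h3 : i * z = z * i) (h4 : j * z = z * j) (h5 : s * z = z * s) {p : ℕ} (hp : p.Prime)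
    (h7 : 7 ≤ p) (hz : z ^ p = 1) (hz1 : z ≠ 1) : False := by
  let T : Set D := {s, z}
  have hT : T ⊆ T.centralizer := by
    rintro x (rfl | rfl) y (rfl | rfl) <;> simp [h5]
  let U : Subfield D :=
    { Subring.centralizer T.centralizer with inv_mem' := fun x hx => Set.inv_mem_centralizer₀ hx }
  have hU : ∀ x : U, x.1 ∈ T.centralizer := fun x y hy => (x.2 y (hT hy))
  letI : Field U := { (inferInstance : DivisionRing U) with
    mul_comm := fun x y => Subtype.ext (y.2 _ (hU x)) }
  have an := anis hi hj hij two_ne_zero (F := U) U.subtype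
    (fun a => a.2 i (by rintro y (rfl | rfl); exacts [h1.symm, h3.symm]))
    (fun a => a.2 j (by rintro y (rfl | rfl); exacts [h2.symm, h4.symm]))
  exact iso (F := U) (s := ⟨s, Set.subset_centralizer_centralizer (by simp [T])⟩)
    (z := ⟨z, Set.subset_centralizer_centralizer (by simp [T])⟩)
    (Subtype.ext (by rw [sq]; exact hs.trans (map_ofNat U.subtype 5).symm)) hp h7 (Subtype.ext hz) (fun h => hz1 (congrArg (·.1) h))
    fun a b c d h => ⟨Subtype.ext (an a b c d h).1, Subtype.ext (an a b c d h).2⟩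

theorem geom {a : D} {n : ℕ} (h : a ^ n = 1) (h1 : a ≠ 1) : ∑ i ∈ range n, a ^ i = 0 :=
  (mul_eq_zero.1 ((geom_sum_mul a n).trans (by rw [h, sub_self]))).resolve_right (sub_ne_zero.2 h1)

theorem tau {a : D} (h : a ^ 5 = 1) (h1 : a ≠ 1) :
    (a + a ^ 4) * (a + a ^ 4) = 1 - (a + a ^ 4) ∧ a ^ 2 + a ^ 3 = -1 - (a + a ^ 4) := by
  have e := geom h h1
  simp only [sum_range_succ, sum_range_zero] at e
  have e2 : a ^ 2 + a ^ 3 = -1 - (a + a ^ 4) := by linear_combination (norm := noncomm_ring) e
  refine ⟨?_, e2⟩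
  linear_combination (norm := noncomm_ring) e2 + 2 * h + a ^ 3 * h

/-- the quaternion algebra spanned by `SL(2,5)` -/
theorem quat {x y : D} (hx : x * x = -1) (hy : y ^ 3 = 1) (hy1 : y ≠ 1) (h : (x * y) ^ 5 = 1)
    (h1 : x * y ≠ 1) : ∃ j s : D, j * j = -1 ∧ j * x = -(x * j) ∧ s * s = 5 ∧ x * s = s * x ∧
      j * s = s * j ∧ ∀ z, x * z = z * x → y * z = z * y → j * z = z * j ∧ s * z = z * s := by
  have e := geom hy hy1
  simp only [sum_range_succ, sum_range_zero] at e
  have e1 : y * y = -1 - y := by linear_combination (norm := noncomm_ring) e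
  have e2 : (x * y) ^ 4 = y * x + x := by
    have : (y * x + x) * (x * y) = 1 := by
      linear_combination (norm := noncomm_ring) (y + 1) * hx * y - e1
    linear_combination (norm := noncomm_ring) (y * x + x) * h - this * (x * y) ^ 4
  have e3 := (tau h h1).1
  rw [e2] at e3
  generalize ht : x * y + (y * x + x) = t at e3
  have c1 : x * t = t * x := by
    rw [← ht]; linear_combination (norm := noncomm_ring) hx * y - y * hx
  have c2 : y * t = t * y := by
    rw [← ht]; linear_combination (norm := noncomm_ring) e1 * x - x * e1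
  refine ⟨(2 * y + 1 + t * x) * t, 2 * t + 1, ?_, ?_, ?_, ?_, ?_, fun z h1 h2 => ?_⟩
  · have e4 : (2 * y + 1 + t * x) * (2 * y + 1 + t * x) = t * t - 3 := by
      linear_combination (norm := (noncomm_ring; simp)) 4 * e1 + 2 * c2 * x + t * c1 * x + t * t * hx +
        2 * t * ht
    have e5 : (2 * y + 1 + t * x) * t = t * (2 * y + 1 + t * x) := by
      linear_combination (norm := noncomm_ring) 2 * c2 + t * c1
    linear_combination (norm := noncomm_ring) -(2 * y + 1 + t * x) * e5 * t + e4 * t * t +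
      (t * t - t - 1) * e3
  · linear_combination (norm := noncomm_ring) 2 * ht * t + 2 * t * hx * t + c1 * x * t -
      (2 * y + 1 + t * x) * c1
  · linear_combination (norm := (noncomm_ring; simp)) 4 * e3
  · linear_combination (norm := noncomm_ring) 2 * c1
  · linear_combination (norm := noncomm_ring) 4 * c2 * t + 2 * t * c1 * t
  · have h3 : Commute t z := ht ▸ ((Commute.mul_left h1 h2).add_left
      ((Commute.mul_left h2 h1).add_left h1))
    have h4 : Commute 2 z := Commute.ofNat_left 2 z
    exact ⟨(((h4.mul_left h2).add_left (Commute.one_left z)).add_left (h3.mul_left h1)).mul_left h3,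
      (h4.mul_left h3).add_left (Commute.one_left z)⟩

/-- the double cover of `S₅` does not embed -/
theorem no_s5 [CharZero D] {a b : D} (h : a ^ 5 = 1) (h1 : a ≠ 1) (hb : b ^ 4 = -1)
    (hab : b * a = a ^ 2 * b) : False := by
  obtain ⟨e1, e2⟩ := tau h h1
  have e3 : b * a ^ 4 = a ^ 3 * b := by
    linear_combination (norm := noncomm_ring) hab * a ^ 3 + a ^ 2 * hab * a ^ 2 + a ^ 4 * hab * a +
      a ^ 6 * hab + a ^ 3 * h * b
  have c1 : b * (a + a ^ 4) = (-1 - (a + a ^ 4)) * b := by
    linear_combination (norm := noncomm_ring) hab + e3 + e2 * b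
  have c2 : b * (a - a ^ 4) = (a + a ^ 4) * (a - a ^ 4) * b := by
    linear_combination (norm := noncomm_ring) hab - e3 + a ^ 3 * h * b
  have c3 : (a - a ^ 4) * (a + a ^ 4) = (a + a ^ 4) * (a - a ^ 4) := by noncomm_ring
  have c4 : (a - a ^ 4) * (a - a ^ 4) = -3 - (a + a ^ 4) := by
    linear_combination (norm := (noncomm_ring; simp)) e1 - 4 * h
  generalize a + a ^ 4 = t at *
  generalize a - a ^ 4 = d at *
  have i1 : b * b * (b * b) = -1 := by linear_combination (norm := noncomm_ring) hb
  have i2 : b * b * t = t * (b * b) := by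
    linear_combination (norm := noncomm_ring) b * c1 - c1 * b
  have i3 : b * b * d = -(d * (b * b)) := by
    linear_combination (norm := noncomm_ring) b * c2 + c1 * d * b + (-1 - t) * c2 * b - e1 * d * b * b
  have i4 : b * b * b = b * (b * b) := by noncomm_ring
  generalize hi : b * b = i at *
  have j1 : (1 - t * i) * d * ((1 - t * i) * d) = -5 := by
    have : d * (1 - t * i) = (1 + t * i) * d := by
      linear_combination (norm := noncomm_ring) -c3 * i - t * i3
    have e : (1 - t * i) * (1 + t * i) = 2 - t := by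
      linear_combination (norm := (noncomm_ring; simp)) -t * i2 * i - t * t * i1 + e1
    linear_combination (norm := (noncomm_ring; norm_num)) (1 - t * i) * this * d + e * d * d +
      (2 - t) * c4 + e1
  have j2 : i * ((1 - t * i) * d) = -((1 - t * i) * d * i) := by
    linear_combination (norm := noncomm_ring) -i2 * i * d + (1 - t * i) * i3
  have j3 : (1 - t * i) * d * t = t * ((1 - t * i) * d) := by
    linear_combination (norm := noncomm_ring) (1 - t * i) * c3 - t * i2 * d
  have j4 : b * ((1 - t * i) * d) = i * ((1 - t * i) * d) * b := by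
    linear_combination (norm := noncomm_ring) c2 - c1 * i * d - (1 + t) * i4 * d +
      (1 + t) * i * c2 + (1 + t) * i2 * d * b + e1 * i * d * b + i2 * i * d * b + t * i1 * d * b
  generalize (1 - t * i) * d = j at *
  have s1 : (2 * t + 1) * (2 * t + 1) = 5 := by
    linear_combination (norm := (noncomm_ring; simp)) 4 * e1
  have s2 : b * (2 * t + 1) = -((2 * t + 1) * b) := by
    linear_combination (norm := noncomm_ring) 2 * c1
  have s3 : i * (2 * t + 1) = (2 * t + 1) * i := by
    linear_combination (norm := noncomm_ring) 2 * i2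
  have s4 : j * (2 * t + 1) = (2 * t + 1) * j := by
    linear_combination (norm := noncomm_ring) 2 * j3
  generalize 2 * t + 1 = s at *
  have r1 : (b - i * b) * (b - i * b) = 2 := by
    linear_combination (norm := noncomm_ring) (i - 1) * (-i4) * b + (1 - 2 * i + i * i) * hi +
      (i - 2) * i1
  have r2 : (b - i * b) * s = -(s * (b - i * b)) := by
    linear_combination (norm := noncomm_ring) (1 - i) * s2 + s3 * b
  have r3 : i * (b - i * b) = (b - i * b) * i := by
    linear_combination (norm := noncomm_ring) (1 - i) * i4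
  have r4 : j * (b - i * b) = (b - i * b) * j := by
    linear_combination (norm := noncomm_ring) (i - 1) * j4 - j2 * b + i1 * j * b
  generalize b - i * b = r at *
  have p1 : (s + r * s) * (s + r * s) = -5 := by
    linear_combination (norm := (noncomm_ring; simp)) (1 + r) * r2 * s + (1 - r * r) * s1 - r1 * 5
  have p2 : i * (s + r * s) = (s + r * s) * i := by
    linear_combination (norm := noncomm_ring) (1 + r) * s3 + r3 * s
  have p3 : j * (s + r * s) = (s + r * s) * j := by
    linear_combination (norm := noncomm_ring) (1 + r) * s4 + r4 * s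
  have p4 : i * j = j * i := by
    rcases eq_or p3 (j1.trans p1.symm) with h | h
    · rw [h, p2]
    · rw [h, mul_neg, neg_mul, p2]
  have p5 : 2 * (j * i) = 0 := by linear_combination (norm := noncomm_ring) j2 - p4
  simp only [mul_eq_zero, OfNat.ofNat_ne_zero, false_or] at p5
  rcases p5 with h | h
  · simp [h] at j1
  · simp [h] at i1

end ring

open Subgroup H24 H28

theorem main {D : Type*} [DivisionRing D] (H : Subgroup Dˣ) [Finite H] (hH : ¬ Group.IsSolvable H) :
    Nonempty (H ≃* SL25) := by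
  haveI : Nontrivial H := not_subsingleton_iff_nontrivial.1 fun _ => hH inferInstance
  have h := isFC_of_divisionRing H.subtype H.subtype_injective
  obtain ⟨S, _, ⟨e⟩⟩ := h.exists_SL25 hH
  obtain ⟨h1, h2, h3, -, ⟨f, hf, hk⟩, -⟩ := h.sl25 e
  let φ : H →* D := (Units.coeHom D).comp H.subtype
  have hφ : Function.Injective φ := Units.val_injective.comp H.subtype_injective
  have ne : ∀ {g : H}, g ≠ 1 → φ g ≠ 1 := fun hg h => hg (hφ (h.trans (map_one φ).symm))
  have neg : ∀ {g : H}, g * g = 1 → g ≠ 1 → φ g = -1 := fun {g} hg h1 =>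
    (mul_self_eq_one_iff.1 (by rw [← map_mul, hg, map_one])).resolve_left (ne h1)
  let ψ : SL25 →* H := S.subtype.comp e.symm.toMonoidHom
  have hψ : Function.Injective ψ := S.subtype_injective.comp e.symm.injective
  have ne' : ∀ {g : SL25}, g ≠ 1 → ψ g ≠ 1 := fun hg h => hg (hψ (h.trans (map_one ψ).symm))
  let x : SL25 := ⟨!![0, 4; 1, 0], by decide⟩
  let y : SL25 := ⟨!![0, 1; 4, 4], by decide⟩
  have hx : φ (ψ x) * φ (ψ x) = -1 := by
    rw [← map_mul, ← map_mul]
    exact neg (by rw [← map_mul, show x * x * (x * x) = 1 by decide +kernel, map_one])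
      (ne' (by decide +kernel))
  obtain ⟨j, s, q1, q2, q3, q4, q5, q6⟩ := quat (y := φ (ψ y)) hx
    (by rw [← map_pow, ← map_pow, show y ^ 3 = 1 by decide +kernel, map_one, map_one])
    (ne (ne' (fun h => absurd (congrArg (fun g : SL25 => g.1 0 0) h) (by decide +kernel))))
    (by rw [← map_mul, ← map_mul, ← map_pow, ← map_pow, show (x * y) ^ 5 = 1 by decide +kernel,
      map_one, map_one])
    (by rw [← map_mul, ← map_mul]; exact ne (ne' (by decide +kernel)))
  haveI := charZero hx q1 q2 fun h2 => ne (ne' (g := x * x) (by decide +kernel)) (by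
    rw [map_mul, map_mul, hx]; linear_combination (norm := (noncomm_ring; simp)) -h2)
  have hC : ∀ k ∈ centralizer (S : Set H), k * k = 1 := by
    intro k hk
    obtain ⟨a1, a2, a3⟩ := h1 k hk
    rw [← sq, ← orderOf_dvd_iff_pow_eq_one]
    have ho := (orderOf_pos k).ne'
    refine (Nat.factorization_prime_le_iff_dvd ho two_ne_zero).1 fun p hp => ?_
    by_cases hp2 : p = 2
    · subst hp2
      rw [Nat.Prime.factorization_self hp]
      exact Nat.le_of_lt_succ (lt_of_not_ge fun h => a1 ((hp.pow_dvd_iff_le_factorization ho).2 h))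
    refine (Nat.factorization_eq_zero_of_not_dvd fun hd => ?_).le.trans (Nat.zero_le _)
    have h7 : 7 ≤ p := by
      by_contra hc
      have := hp.two_le
      interval_cases p <;> first | contradiction | norm_num at hp
    have o := orderOf_pow_orderOf_div ho hd
    set z := k ^ (orderOf k / p)
    have c : ∀ g, φ (ψ g) * φ z = φ z * φ (ψ g) := fun g => by
      rw [← map_mul, ← map_mul]
      exact congrArg φ (mem_centralizer'.1 (pow_mem hk _) _ (e.symm g).2)
    obtain ⟨q7, q8⟩ := q6 _ (c x) (c y)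
    refine no_root hx q1 q2 q3 q4 q5 (c x) q7 q8 hp h7 (z := φ z) ?_ (ne fun h => ?_)
    · rw [← map_pow, ← o, pow_orderOf_eq_one, map_one]
    · rw [h, orderOf_one] at o; omega
  by_cases ht : f.range = ⊤
  · exfalso
    obtain ⟨a, ha⟩ := MonoidHom.range_eq_top.1 ht (finRotate 5)
    obtain ⟨b, hb⟩ := MonoidHom.range_eq_top.1 ht
      (Equiv.swap 1 2 * Equiv.swap 2 4 * Equiv.swap 4 3)
    have sq1 : ∀ g, f g = 1 → g * g = 1 := fun g hg => hC g (hk ▸ hg)
    have a1 : (a ^ 6) ^ 5 = 1 := by
      have := sq1 (a ^ 5) (by rw [map_pow, ha]; decide +kernel)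
      rw [← pow_mul, show 6 * 5 = (5 + 5) * 3 from rfl, pow_mul, pow_add, this, one_pow]
    have a2 : f (a ^ 6) = finRotate 5 := by rw [map_pow, ha]; decide +kernel
    generalize a ^ 6 = a at a1 a2
    have a3 : b * a = a ^ 2 * b := by
      have c1 : f (b * a * b⁻¹ * (a ^ 2)⁻¹) = 1 := by
        simp only [map_mul, map_inv, map_pow, a2, hb]; decide +kernel
      have c2 := sq1 _ c1
      have c3 := mem_center_iff.1 (h.central c2)
      generalize hc : b * a * b⁻¹ * (a ^ 2)⁻¹ = c at c2 c3
      have c4 : b * a * b⁻¹ = c * a ^ 2 := by rw [← hc]; group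
      have c5 : c ^ 5 = 1 := by
        have := congrArg (· ^ 5) c4
        simp only [conj_pow, a1, (Commute.mul_pow (c3 _).symm 5)] at this
        rw [← pow_mul, mul_comm 2 5, pow_mul, a1] at this
        simpa using this.symm
      have c6 : c = 1 := by
        rw [show c ^ 5 = (c * c) ^ 2 * c by simp [pow_succ, mul_assoc], c2] at c5
        simpa using c5
      rw [c6, one_mul] at c4
      rw [← c4]; group
    refine no_s5 (a := φ a) (b := φ b) (by rw [← map_pow, a1, map_one]) (ne fun h => ?_) ?_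
      (by rw [← map_pow, ← map_mul, ← map_mul, a3])
    · rw [h, map_one] at a2; revert a2; decide +kernel
    · rw [← map_pow]
      refine neg (sq1 _ (by rw [map_pow, hb]; decide +kernel)) fun h4 => ?_
      have c1 := mem_center_iff.1 (h.central (g := b ^ 2) (by rw [← pow_add]; exact h4)) a
      have := congrArg f c1
      simp only [map_mul, map_pow, a2, hb] at this
      revert this; decide +kernel
  · have e1 : f.range.index = 2 :=
      ((Nat.dvd_prime Nat.prime_two).1 (alternatingGroup.index_eq_two (α := Fin 5) ▸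
        index_dvd_of_le hf)).resolve_left (index_eq_one.not.2 ht)
    have e2 : (centralizer (S : Set H)).index = 60 := by
      have := f.range.card_mul_index
      rw [e1, Nat.card_perm, Nat.card_fin, show Nat.factorial 5 = 120 from rfl] at this
      rw [← hk, index_ker]; omega
    have e3 := relIndex_mul_index (H := centralizer (S : Set H)) (K := S) fun k hk => h2 k (hC k hk)
    rw [h3, e2] at e3
    have e4 : S = ⊤ := index_eq_one.1 (by omega)
    subst e4
    exact ⟨topEquiv.symm.trans e⟩

end H21.Amit
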