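import Cfsg.Agent.H21.Cs6

/-! Numerical checks: definitions and evaluations. -/

set_option autoImplicit false

namespace H21.Cs

/-- evaluate the argument first -/
def force (x : ℕ) (f : ℕ → Bool) : Bool :=
  match x with
  | 0 => f 0
  | k + 1 => f (k + 1)

lemma force_eq (x : ℕ) (f : ℕ → Bool) : force x f = f x := by cases x <;> rfl

/-- evaluate the argument first -/
def forceN (x : ℕ) (f : ℕ → ℕ) : ℕ :=
  match x with
  | 0 => f 0
  | k + 1 => f (k + 1)

lemma forceN_eq (x : ℕ) (f : ℕ → ℕ) : forceN x f = f x := by cases x <;> rfl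

/-- no small divisor -/
def noDiv (p : ℕ) : ℕ → Bool
  | 0 => true
  | k + 1 => (k + 1 < 2 || p % (k + 1) != 0) && noDiv p k

/-- primality test -/
def prB (p : ℕ) : Bool := 2 ≤ p && p < 66049 && noDiv p (min 256 (p - 1))

/-- inequality for 2-transitive groups -/
def ok2 (n m : ℕ) : Prop := (n - m) * ((m + 2) / 3) + 2 * (m - 1) ≤ (n - 1) + (m - 1) * (m - 1)
/-- inequality for 3-transitive groups -/
def ok3 (n m : ℕ) : Prop := (m + 2) / 3 * (n - 2) ≤ (n - 2) + (m - 1) * (m - 2)
/-- inequality for 4-transitive groups -/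
def ok4 (n m : ℕ) : Prop := m * ((n - 2) * (n - 3)) ≤ ((n - 2) + (m - 1) * (m - 2)) * (n - 3) +
  ((n - m) * (n - 3) + (m - 2) * ((n - m) * (m - 2))) +
  ((n - 2) * (n - 3) + (m - 2) * ((n - m - 1) * (m - 1)))

instance (n m : ℕ) : Decidable (ok2 n m) := Nat.decLe _ _
instance (n m : ℕ) : Decidable (ok3 n m) := Nat.decLe _ _
instance (n m : ℕ) : Decidable (ok4 n m) := Nat.decLe _ _

/-- admissible minimal degree -/
def condB (n tr m : ℕ) : Bool := 2 ≤ m && (tr < 4 || ok4 n m) && (tr < 3 || ok3 n m) &&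
  (tr < 2 || ok2 n m) && (n < m + 3 || !prB m)

/-- search -/
def mloA (n tr : ℕ) : ℕ → ℕ → ℕ
  | 0, m => m
  | f + 1, m => if condB n tr m then m else forceN (m + 1) (mloA n tr f)

/-- lower bound for the minimal degree -/
def mlo (n tr : ℕ) : ℕ := mloA n tr n 0

/-- check for `Sh ff` -/
def shFB (s r m R : ℕ) : Bool := 3 * (s / 2) < 2 * (R + 1) + 3 * r &&
  (List.range (s / 2 + 1)).all fun c => c < 2 || force (max c (m - c)) fun y =>
    s < y + c || (3 * c - 1) * (s - y) + 3 * y < (2 * (R + 1) + 3 * r) * c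

/-- table of the number of prime factors of factorials -/
def OT (x : ℕ) : ℕ :=
  15142123465227317366782519052288523265802759726771471152582266905036161622119607704152506107557580504767906321596416 / 256 ^ x % 256

/-- check for `Sh` with factorials -/
def shOB (s r m R : ℕ) : Bool := (List.range (s / 2 + 3)).any fun t0 =>
  force (OT t0) fun u => force (t0 - 1) fun v =>
    ((List.range (s / 2 + 1)).all fun t => t < 1 || v * OT t + u ≤ u * t) &&
    u * (s / 2) < v * (R + 1) + u * r &&
    (List.range (s / 2 + 1)).all fun c => c < 2 || force (max c (m - c)) fun y =>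
      s < y + c || (List.range (c + 1)).any fun B => force (v * OT B + u) fun A =>
        A * c * (s - y) + u * B * y < (v * (R + 1) + u * r) * B * c && u * B ≤ A * c &&
        (List.range (c + 1)).all fun x => x < 2 || B * (v * OT x + u) ≤ A * x

/-- overhead, logarithmic -/
def ovL (n k : ℕ) : ℕ := ((List.range k).map fun i => Nat.log2 (n - i)).sum
/-- overhead, prime factors -/
def ovO (n k : ℕ) : ℕ := ((List.range k).map fun i => OT (n - i) - OT (n - i - 1)).sum

/-- one case -/
def okG (sh : ℕ → ℕ → ℕ → ℕ → Bool) (o n k : ℕ) (intr : Bool) (m : ℕ) : Bool :=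
  o + 2 ≤ fc n && force (fc n - 2 - o) fun R => force (n - k) fun s =>
    if intr then sh s 2 m R && force (s - 1) fun s' => sh s' 1 m R else sh s 1 m R

/-- both methods -/
def okB (n k : ℕ) (intr : Bool) (tr : ℕ) : Bool := force (mlo n tr) fun m =>
  okG shFB (ovL n k) n k intr m || (n < 48 && okG shOB (ovO n k) n k intr m)

/-- bound on transitivity -/
def rb (n : ℕ) : ℕ := if n = 15 ∨ n = 30 then 4 else if n = 31 then 5 else 3

/-- check for one degree -/
def chkN (n : ℕ) : Bool := (List.range (rb n + 1)).all fun k =>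
  k < 1 || (okB n k true k && (rb n < k + 1 || okB n k false (k + 1)))

/-- logarithm -/
def lgc (p : ℕ) : ℕ → ℕ → ℕ
  | 0, _ => 0
  | f + 1, n => if n < p then 0 else forceN (n / p) (lgc p f) + 1

/-- valuation of a factorial -/
def vpc (p x : ℕ) : ℕ := if x < p * p then x / p else
  x / p + x / p ^ 2 + x / p ^ 3 + x / p ^ 4 + x / p ^ 5 + x / p ^ 6 + x / p ^ 7 + x / p ^ 8 +
    x / p ^ 9

/-- Sylow exponent bound -/
def cS (n m p : ℕ) : ℕ := if n < 2 * p ∧ p + 3 ≤ n then 0 else
  lgc p 10 n + forceN (n - 1 - (min ((m + p - 1) / p * p) n - 1)) (vpc p)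

/-- primes below 600 -/
def P600 : List ℕ := [2, 3, 5, 7, 11, 13, 17, 19, 23, 29, 31, 37, 41, 43, 47, 53, 59, 61, 67, 71,
  73, 79, 83, 89, 97, 101, 103, 107, 109, 113, 127, 131, 137, 139, 149, 151, 157, 163, 167, 173,
  179, 181, 191, 193, 197, 199, 211, 223, 227, 229, 233, 239, 241, 251, 257, 263, 269, 271, 277,
  281, 283, 293, 307, 311, 313, 317, 331, 337, 347, 349, 353, 359, 367, 373, 379, 383, 389, 397,
  401, 409, 419, 421, 431, 433, 439, 443, 449, 457, 461, 463, 467, 479, 487, 491, 499, 503, 509,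
  521, 523, 541, 547, 557, 563, 569, 571, 577, 587, 593, 599]

/-- Sylow check -/
def sylB (n m : ℕ) : Bool :=
  (P600.map fun p => if p ≤ n then cS n m p else 0).sum + 2 ≤ fc n

/-- Sylow check for one degree -/
def chkS (n : ℕ) : Bool := if n < 48 then
  (rb n != 3 || prB (n - 3) || force (mlo n 4) (sylB n)) else force ((n - 2) / 2) (sylB n)

/-- chain of primes -/
def chain : ℕ → List ℕ → Bool
  | _, [] => true
  | p, q :: l => prB p && q + 2 - p < p &&
      (q + 2 - p) * (2 * Nat.log2 (q + 2) - 3) + 2 * Nat.log2 (q + 2) + 5 ≤ (p + 1) / 2 &&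
      chain q l

/-- list of primes -/
def PL : List ℕ := [607, 619, 631, 647, 661, 677, 691, 709, 727, 743, 761, 773, 787, 809, 829, 853,
  877, 887, 911, 937, 953, 977, 997, 1021, 1039, 1063, 1087, 1109, 1129, 1153, 1181, 1201, 1231,
  1259, 1291, 1321, 1327, 1361, 1381, 1409, 1447, 1483, 1523, 1559, 1601, 1637, 1669, 1709, 1753,
  1801, 1847, 1889, 1933, 1979, 2029, 2069, 2113, 2161, 2213, 2267, 2311, 2357, 2411, 2467, 2521,
  2579, 2633, 2693, 2753, 2819, 2887, 2957, 3023, 3089, 3163, 3229, 3307, 3389, 3469, 3547, 3631,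
  3719, 3803, 3889, 3967, 4057, 4139, 4231, 4327, 4423, 4523, 4621, 4723, 4831, 4937, 5051, 5167,
  5281, 5399, 5521, 5647, 5749, 5881, 6011, 6143, 6277, 6421, 6569, 6719, 6871, 7027, 7187, 7351,
  7517, 7691, 7867, 8039, 8209, 8377, 8543, 8719, 8893, 9067, 9257, 9439, 9631, 9833, 10039, 10253,
  10463, 10687, 10909, 11131, 11369, 11597, 11839, 12073, 12329, 12589, 12853, 13127, 13399, 13681,
  13967, 14251, 14557, 14869, 15187, 15511, 15823, 16141, 16453, 16763, 17093, 17431, 17761, 18097,
  18451, 18803, 19163, 19541, 19927, 20297, 20693, 21101, 21517, 21943, 22369, 22811, 23251, 23689,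
  24151, 24623, 25111, 25609, 26113, 26627, 27143, 27673, 28219, 28771, 29339, 29921, 30509, 31091,
  31699, 32327, 32917, 33521, 34129, 34757, 35393, 36037, 36697, 37369, 38053, 38749, 39461, 40177,
  40903, 41651, 42409, 43189, 43973, 44777, 45599, 46439, 47293, 48163, 49043, 49943, 50857, 51787,
  52733, 53699, 54679, 55681, 56701, 57737, 58789, 59863, 60961, 62081, 63211, 64373, 65521, 66643]

theorem chain_ok : chain 593 PL = true := by decide +kernel

theorem chkN_ok1 : ((List.range' 8 40).all chkN) = true := by decide +kernel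

theorem chkN_ok2 : ((List.range' 48 208).all chkN) = true := by decide +kernel

theorem chkS_ok : ((List.range' 8 592).all chkS) = true := by decide +kernel

theorem P600_ok : ((List.range 600).all fun p => p < 2 || P600.contains p ||
    [2, 3, 5, 7, 11, 13, 17, 19, 23].any fun d => d < p && p % d == 0) = true := by decide +kernel

theorem P600_nodup : P600.Nodup := by decide +kernel

end H21.Cs
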