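import Cfsg.Agent.H21.DL9

/-! Faithful characters of degree less than `p - 1`: the case of a center of odd order. -/

open Cfsg MonoidAlgebra
open H5 H7 H8
namespace H21.DL
open Module Finset Subgroup Representation Polynomial
open scoped ComplexConjugate MatrixGroups

variable {G : Type*} [Group G] [Finite G] {p : ℕ} {x h : G} {a e d : ℕ} {M : Ideal AlgInt}
local notation "𝐍" x:max => normalizer (SetLike.coe (zpowers x))
local notation "𝐂" x:max => centralizer ({x} : Set _)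

open Classical in
theorem not_noSm (hM : IsPModular p M) (hx : orderOf x = p) (hi : ¬ p ∣ (zpowers x).index)
    (hn : ¬ (zpowers x).Normal) {χ : G → ℂ} (hχ : IsCharacter G χ) (hf : ∀ g, χ g = χ 1 → g = 1)
    {m : (zpowers x →* ℂˣ) → ℕ} (hm : FM (fun u : zpowers x => χ u) m)
    (hs : 2 * #{l | m l ≠ 0} < p) : ¬ NoSm (kk M) p x := fun hN => by
  obtain ⟨n, A, rfl⟩ : ∃ n, ∃ A : Lat G (Fin n) M, A.c.character = χ := ⟨_, exists_lat hχ rfl⟩
  obtain ⟨W⟩ := exists_wed G M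
  obtain ⟨j, h1, h2⟩ := exists_j hM hx hi hn A (A.faithful hf) W
  let y : zpowers x := ⟨x, mem_zpowers x⟩
  have h3 : ∀ l : zpowers x →* ℂˣ, (l y : ℂ) ^ p = 1 := fun l => by
    rw [← Units.val_pow_eq_pow_val, ← map_pow, show y ^ p = 1 from Subtype.ext (by
      simp [y, ← hx]), map_one, Units.val_one]
  have h4 : ∀ s : Finset (zpowers x →* ℂˣ), aeval (single x 1) (∏ l ∈ s, (X - C (l y : ℂ))) ∈ VG M G ∧
      redG M (aeval (single x 1) (∏ l ∈ s, (X - C (l y : ℂ)))) = (single x 1 - 1) ^ #s := fun s => by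
    induction s using Finset.induction_on with
    | empty => simp
    | insert l s hl ih =>
      have k1 := algebraMap_mem_VG (G := G) (M := M) (mem_V_of_pow_eq_one hM.1.ne_zero (h3 l))
      have k2 := sub_mem (single_one_mem_VG x) k1
      rw [prod_insert hl, map_mul, map_sub, aeval_X, aeval_C, card_insert_of_notMem hl,
        redG_mul k2 ih.1, ih.2, redG_sub (single_one_mem_VG x) k1, redG_algebraMap, redG_single,
        red_one, red_eq_one_of_pow_eq_one hM (k := 1) (by simpa using h3 l), map_one, pow_succ']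
      exact ⟨mul_mem k2 ih.1, rfl⟩
  obtain ⟨h5, h6⟩ := h4 {l | m l ≠ 0}
  have h7 := A.alg_eq_zero h5 (LinearMap.ext fun v => by
    have k1 := Complex.isPrimitiveRoot_exp p hM.1.ne_zero
    generalize Complex.exp _ = α at k1
    have k2 : (p : ℂ) ≠ 0 := Nat.cast_ne_zero.2 hM.1.ne_zero
    rw [← aeval_algHom_apply, asAlgebraHom_single_one, ← End.one_apply (R := ℂ) v,
      ← sum_pr (T := A.c x) (c := 1) k1 k2, LinearMap.sum_apply, map_sum, LinearMap.zero_apply]
    refine sum_eq_zero fun i _ => ?_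
    have k3 : (1 * α ^ (i + 1)) ^ p = 1 := by rw [one_mul, pow_right_comm, k1.pow_eq_one, one_pow]
    generalize 1 * α ^ (i + 1) = ω at k3
    have k4 : ω ≠ 0 := ne_zero_pow hM.1.ne_zero (k3 ▸ one_ne_zero)
    have k5 : A.c x ^ p = ω ^ p • 1 := by rw [← map_pow, k3, ← hx, pow_orderOf_eq_one]; simp
    have k6 := pr_mem k4 k5 v
    by_cases k7 : ∃ l, m l ≠ 0 ∧ ω = l y
    · obtain ⟨l, k8, rfl⟩ := k7
      rw [End.aeval_apply_of_mem_apply_eq_smul (End.mem_eigenspace_iff.1 k6), eval_prod,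
        prod_eq_zero (i := l) (by simpa using k8) (by simp), zero_smul]
    have k8 := eig_rank A.c k4 hM.1.ne_zero k5
    rw [sum_congr rfl fun i _ => by rw [show A.c.character (x ^ i) = _ from hm.apply (y ^ i), mul_sum],
      sum_comm, sum_eq_zero fun l _ => ?_, eq_comm, mul_eq_zero, or_iff_right k2, Nat.cast_eq_zero,
      Submodule.finrank_eq_zero] at k8
    · rw [k8, Submodule.mem_bot] at k6
      rw [k6, map_zero]
    rcases eq_or_ne (m l) 0 with k9 | k9
    · simp [k9]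
    have := geom_sum_eq (x := ω⁻¹ * l y) (fun H => k7 ⟨l, k9, (inv_mul_eq_one₀ k4).1 H⟩) p
    rw [mul_pow, h3, inv_pow, k3] at this
    simp only [mul_left_comm _ (m l : ℂ), ← mul_sum, map_pow, Units.val_pow_eq_pow_val, ← mul_pow,
      this]
    simp)
  have h8 := h1 _ h7
  rw [h6, map_pow, map_sub, map_one, asAlgebraHom_single_one] at h8
  exact h2 (hN _ (ws W j) _ h8 hs)

theorem exc_four [Fact p.Prime] {V H : Subgroup G} {D : UC p (zpowers x) V H} [Fintype V]
    [DecidableEq (IrrCharacter G)] {θ : IrrCharacter V} {B : Set (IrrCharacter G)} {δ : ℤ}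
    {ζ : (zpowers x →* ℂˣ) → IrrCharacter G} {a : IrrCharacter G → ℤ} {Y : Finset (IrrCharacter G)}
    (h : D1Data M D θ B δ ζ a Y) (hM : IsPModular p M) {μ ν : zpowers x →* ℂˣ} (hμ : μ ≠ 1)
    (hν : ¬ CRel (aE x) μ ν) : ∑ u : zpowers x, (ζ μ).1 u * conj (ν u : ℂ) =
      charDegree (ζ μ).1 - δ * (aq x * charDegree θ.1) := by
  classical
  have := Fintype.ofFinite (𝐍 x)
  have h1 : ∀ n : 𝐍 x, ∑ u ∈ univ.erase 1, orbSum (D.iq θ.1) μ ((zpowers x).normalizerMonoidHom n u) *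
      conj (ν u : ℂ) = - Nat.card (D.iq θ.1) := fun n => by
    have h2 := fm_orbSum (E := D.iq θ.1) μ (ν.comp ((zpowers x).normalizerMonoidHom n⁻¹).toMonoidHom)
    beta_reduce at h2
    rw [← Equiv.sum_comp ((zpowers x).normalizerMonoidHom n).toEquiv, ← add_sum_erase _ _ (mem_univ 1),
      if_neg fun ⟨φ, ⟨n', _, k1⟩, k2⟩ => hν ⟨_, ⟨n⁻¹ * n', rfl⟩, fun a => by
        rw [map_mul, k1]; exact k2 a⟩] at h2
    simp only [MulEquiv.toEquiv_eq_coe, EquivLike.coe_coe, map_one, (D.free_iq θ.1).orbSum_one hμ,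
      MonoidHom.comp_apply, MulEquiv.coe_toMonoidHom, map_inv, MulAut.inv_apply_self] at h2
    rw [Units.val_one, map_one, Nat.cast_zero, mul_zero] at h2
    linear_combination h2
  have h2 : ∀ u : zpowers x, u ≠ 1 → Nat.card (D.stab θ.1) * (ζ μ).1 u = δ * ∑ n,
      orbSum (D.iq θ.1) μ ((zpowers x).normalizerMonoidHom n u) * θ.1 1 := fun u hu => by
    simpa using h.exc_apply hM hμ hu 1
  have h3 := h.card_iq_mul_index
  rw [cent_zpowers] at h3
  rw [← add_sum_erase _ _ (mem_univ 1), aq, ← h3, sub_eq_add_neg]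
  refine congrArg₂ _ (by simp [irr_apply_one]) (mul_left_cancel₀ (card_ne_zero_complex (D.stab θ.1)) ?_)
  rw [mul_sum, sum_congr rfl fun u hu => by
    rw [← mul_assoc, h2 u (ne_of_mem_erase hu), mul_assoc, sum_mul], ← mul_sum, sum_comm]
  simp only [mul_right_comm _ (θ.1 1), ← sum_mul, h1]
  simp only [sum_const, card_univ, nsmul_eq_mul, ← Nat.card_eq_fintype_card,
    ← (D.stab θ.1).card_mul_index, irr_apply_one]
  push_cast
  ring

section
variable [hp : Fact p.Prime] (hx : orderOf x = p) (hi : ¬ p ∣ (zpowers x).index)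
  (hn : ¬ (zpowers x).Normal)
include hx hi

theorem aq_lt {χ : G → ℂ} (hχ : IsCharacter G χ) (hf : ∀ g, χ g = χ 1 → g = 1)
    (hd : charDegree χ + 2 ≤ p) : 2 * aq x + 1 ≤ p := by
  have h1 := (aq_le_degree hp.out hx hχ fun e => ne_one_of_orderOf_prime hp.out hx (hf x e)).1
  have h2 := classes_mul hx hi
  generalize Nat.card _ = t at h2
  rcases (by omega : t = 0 ∨ t = 1 ∨ 2 ≤ t) with rfl | rfl | e
  · omega
  · omega
  · have := Nat.mul_le_mul_right (aq x) e
    omega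

include hn

theorem cop_center : ¬ p ∣ Nat.card (center G) := fun h => hn ⟨fun u hu g => by
  rwa [mem_center_iff.1 (zpowers_le.2 (mem_of_dvd_of_index hp.out hx hi h) hu) g,
    mul_inv_cancel_right]⟩

theorem part0 {χ : IrrCharacter G} (hf : ∀ g, χ.1 g = χ.1 1 → g = 1) (h1 : p < 2 * charDegree χ.1)
    (h2 : charDegree χ.1 + 2 ≤ p) : charDegree χ.1 + aq x = p ∧
      (∃ H, UC p (zpowers x) (center G) H) ∧ ∃ ζ Y f, EF p x (-1) ζ Y f ∧ χ ∈ Y := by
  classical
  have hP : Nat.card (zpowers x) = p := by rw [Nat.card_zpowers, hx]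
  obtain ⟨V, H, D⟩ := exists_UC ((isPGroup_zpowers_of_orderOf hx).toSylow hi)
    (cent_of_card_prime hp.out hP)
  change UC p (zpowers x) V H at D
  have := Fintype.ofFinite V
  obtain ⟨M, hM⟩ := exists_isPModular hp.out
  have := charP_kk hM
  have hχ := χ.2.isCharacter
  have hq := aq_lt hx hi hχ hf h2
  obtain ⟨u, hu, u1, u2⟩ : ∃ u ∈ zpowers x, u ≠ 1 ∧ χ.1 (u * (1 : V)) ≠ 0 := by
    by_contra! e
    have := Nat.le_of_dvd (by omega) (hP ▸ D.dvd_degree_of_vanish (χ := χ) (by simpa using e))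
    omega
  obtain ⟨θ, hθ, -⟩ := D.exists_root_of_apply_ne_zero hM (isPBlock_blockOf χ)
    (mem_blockOf_self hM χ) hu u1 u2
  obtain ⟨δ, ζ, a, Y, h, -⟩ := hθ.exists_data hM hP χ
  obtain ⟨n, hr⟩ := exists_FM (hχ.restrict (zpowers x))
  have hY : χ ∈ Y := ((h.memB χ).1 (mem_blockOf_self hM χ)).resolve_right fun e =>
    ne_one_of_orderOf_prime hp.out hx (hf x (hr.eq_one_of_const
      (fun u hu => h.nonexc_apply_one hM e hu)
      (by rw [← H6.charDegree_eq hr.one]; change charDegree χ.1 + 1 < _; omega) ⟨x, mem_zpowers x⟩))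
  obtain ⟨μ, hμ, e⟩ := (h.mem χ).1 hY
  have h3 : ∀ ν, ¬ CRel (aE x) μ ν →
      (p * n ν : ℤ) = charDegree χ.1 - δ * (aq x * charDegree θ.1 : ℕ) := fun ν hν => by
    have := exc_four h hM hμ hν
    rw [e, hr ν, hP] at this
    exact_mod_cast this
  have h4 := h3 1 fun H => H.ne_one hμ rfl
  have hθ0 := charDegree_pos θ
  have h0 := aq_pos x
  obtain rfl : δ = -1 := h.sign.resolve_left fun e => by
    subst e
    have e1 : n 1 = 0 := by
      by_contra e
      have := Nat.mul_le_mul_left p (Nat.pos_of_ne_zero e)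
      omega
    have e2 : #{l | n l ≠ 0} ≤ aq x := by
      rw [← card_aE, ← (free_aE hp.out hx).card_crel hμ]
      refine card_le_card fun l hl => mem_filter.2 ⟨mem_univ _, by_contra fun H => ?_⟩
      have := (h3 l H).trans h4.symm
      simp [e1, hp.out.ne_zero, (mem_filter.1 hl).2] at this
    obtain ⟨-, e3, -⟩ := small D hx hn (fun R _ => ito_cent hχ hf hp.out (by omega) hx) (by omega)
      (not_noSm hM hx hi hn hχ hf hr (by omega))
    rcases (by omega : charDegree θ.1 = 1 ∨ 2 ≤ charDegree θ.1) with e | e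
    · rw [e, e1] at h4
      omega
    · have := Nat.mul_le_mul_left (aq x) e
      rw [e1] at h4
      omega
  have h5 : ∀ u : zpowers x, u ≠ 1 → col θ.1 χ.1 u = - orbSum (D.iq θ.1) μ u := fun u hu => by
    simpa [e] using h.exc μ hμ u hu
  choose m hm using D.col_int hχ θ.2.isCharacter
  replace hm : FM (fun a : zpowers x => col θ.1 χ.1 a) m := hm
  have h6 : ∀ ν, ν ≠ 1 → (m ν : ℤ) - m 1 = - if CRel (D.iq θ.1) μ ν then 1 else 0 := fun ν hν => by
    have := fco_lin 0 (-1) (orbSum (D.iq θ.1) μ) hν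
    rw [← fco_congr (f := fun a : zpowers x => col θ.1 χ.1 a) fun u hu => by simp [h5 u hu], hm.fco,
      fco_orbSum hμ] at this
    have : (m ν : ℂ) - m 1 = - if CRel (D.iq θ.1) μ ν then 1 else 0 := by
      rw [this]; split_ifs <;> simp
    exact_mod_cast this
  have h7 := h6 μ hμ
  rw [if_pos (CRel.refl _ _)] at h7
  have h8 : p ≤ ∑ l, m l + Nat.card (D.iq θ.1) := by
    refine hP.ge.trans ?_
    rw [← (D.free_iq θ.1).card_crel hμ, card_filter, ← sum_add_distrib, ← card_unitsHom_comm,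
      Nat.card_eq_fintype_card, ← card_univ, ← mul_one #_, ← smul_eq_mul]
    refine card_nsmul_le_sum _ _ 1 fun ν _ => ?_
    rcases eq_or_ne ν 1 with rfl | hν
    · omega
    · have := h6 ν hν
      split_ifs at this ⊢ <;> omega
  have h9 : classInner (fun y : V => χ.1 y) θ.1 = (∑ l, m l : ℕ) := by simpa [col] using hm.one
  have h10 : (∑ l, m l) * charDegree θ.1 ≤ charDegree χ.1 := by
    have := (hχ.restrict V).classInner_mul_apply_one_le θ.2
    rw [h9, irr_apply_one, OneMemClass.coe_one, irr_apply_one] at this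
    exact_mod_cast this
  have h11 : Nat.card (D.iq θ.1) ≤ aq x :=
    Nat.le_of_dvd h0 ⟨_, (h.card_iq_mul_index.trans (by rw [cent_zpowers])).symm⟩
  have h14 : charDegree θ.1 = 1 := by
    by_contra e
    have := Nat.mul_le_mul_left (∑ l, m l) (show 2 ≤ charDegree θ.1 by omega)
    omega
  rw [h14, mul_one] at h4 h10
  have h16 : charDegree χ.1 + aq x = p := by
    rcases (by omega : n 1 = 0 ∨ n 1 = 1 ∨ 2 ≤ n 1) with e | e | e
    · rw [e] at h4; omega
    · rw [e] at h4; omega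
    · have := Nat.mul_le_mul_left p e
      omega
  have h17 : ∑ l, m l = charDegree χ.1 := by omega
  have h18 := ((hχ.restrict V).sub_classInner_smul θ.2).eq_zero_of_apply_one (by
    simp [h9, irr_apply_one, h14, h17, -Nat.cast_sum])
  obtain ⟨f, hf'⟩ := θ.2.isCharacter.exists_unitsHom (by simp [irr_apply_one, h14])
  obtain rfl : V = center G := le_antisymm (fun y hy => hχ.charCenter_le_center
    (H6.charKer_eq_bot hχ hf) (hχ.mem_charCenter_iff.2 (by
      have := congrFun h18 ⟨y, hy⟩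
      rw [h9, h17, hf', Pi.sub_apply, Pi.zero_apply, sub_eq_zero] at this
      simp [this, norm_unitsHom, irr_apply_one]))) fun z hz => (D.memV z).2
        ⟨center_le_centralizer _ hz, fun H => cop_center hx hi hn (H.trans (orderOf_dvd_natCard _ hz))⟩
  exact ⟨h16, ⟨H, D⟩, ζ, Y, _, EF.of_data hM hx h, hY⟩

end

variable (p x h a e d M) in
/-- the main situation -/
structure Big : Prop extends St p x h a e where
  hM : IsPModular p M
  hn : ¬ (zpowers x).Normal
  hN : NoSm (kk M) p x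
  hq : aq x = e
  hd : d + e = p
  h3 : 3 * e < p
  cx : ∀ c ∈ 𝐂 x, ∃ u ∈ zpowers x, ∃ v ∈ center G, c = u * v
  hK : ∀ R : Subgroup G, R.Normal → ¬ p ∣ Nat.card R → R ≤ center G

theorem reduce [hp : Fact p.Prime] (hx : orderOf x = p) (hi : ¬ p ∣ (zpowers x).index)
    (hn : ¬ (zpowers x).Normal) (h10 : 10 < p) {χ : IrrCharacter G}
    (hf : ∀ g, χ.1 g = χ.1 1 → g = 1) (h2 : charDegree χ.1 + 2 ≤ p) :
    ((∃ (F : Type) (_ : Field F) (_ : Fintype F), Fintype.card F = p ∧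
      Nonempty (G ⧸ center G ≃* PSL(2, F))) ∧
      (2 * charDegree χ.1 = p + 1 ∨ 2 * charDegree χ.1 = p - 1) ∧ 2 * aq x + 1 = p) ∨
    ∃ h a M, Big p x h a (aq x) (charDegree χ.1) M ∧ ∃ ζ Y f, EF p x (-1) ζ Y f ∧ χ ∈ Y := by
  classical
  obtain ⟨M, hM⟩ := exists_isPModular hp.out
  have := charP_kk hM
  have hχ := χ.2.isCharacter
  have hq := aq_lt hx hi hχ hf h2
  have hK : ∀ R : Subgroup G, R.Normal → ¬ p ∣ Nat.card R → R ≤ 𝐂 x := fun R _ =>
    ito_cent hχ hf hp.out (by omega) hx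
  have hP : Nat.card (zpowers x) = p := by rw [Nat.card_zpowers, hx]
  rcases lt_trichotomy (2 * charDegree χ.1) p with h1 | h1 | h1
  · obtain ⟨V, H, D⟩ := exists_UC ((isPGroup_zpowers_of_orderOf hx).toSylow hi)
      (cent_of_card_prime hp.out hP)
    obtain ⟨n, hr⟩ := exists_FM (hχ.restrict (zpowers x))
    obtain ⟨-, e3, -⟩ := small D hx hn hK (by omega) (not_noSm hM hx hi hn hχ hf hr (by
      refine lt_of_le_of_lt (Nat.mul_le_mul_left _ ?_) h1
      rw [show charDegree χ.1 = _ from H6.charDegree_eq hr.one, card_filter]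
      exact sum_le_sum fun l _ => by split_ifs <;> omega))
    obtain ⟨e1, e2⟩ := brauer_small hp.out (hx ▸ orderOf_dvd_natCard x) (fun H => hi (by
      rwa [← (zpowers x).card_mul_index, hP, sq, Nat.mul_dvd_mul_iff_left hp.out.pos] at H))
      (fun R _ H => hn (eq_of_le_of_card_ge (zpowers_le.2 (mem_of_dvd_of_index hp.out hx hi
        H.symm.dvd)) (H.trans hP.symm).le ▸ ‹_›)) hχ hf h1
    exact .inl ⟨⟨_, _, _, ZMod.card p, e2⟩, .inr (by omega), e3⟩
  · have := hp.out.eq_one_or_self_of_dvd 2 ⟨_, h1.symm⟩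
    omega
  obtain ⟨e1, ⟨H, D⟩, F⟩ := part0 hx hi hn hf h1 h2
  by_cases hN : NoSm (kk M) p x
  · obtain ⟨h, a, S⟩ := exists_st D hx
    refine .inr ⟨h, a, M, ⟨S, hM, hn, hN, rfl, e1, ?_, fun c hc => D.decomp (cent_zpowers x ▸ hc),
      fun R k1 k2 r hr => (D.memV r).2 ⟨cent_zpowers x ▸ hK R k1 k2 hr, fun k =>
        k2 (k.trans (orderOf_dvd_natCard _ hr))⟩⟩, F⟩
    have k1 := fun k => S.two' hM hn χ.2 hf (by omega) k h10 hN
    have k2 := classes_mul hx hi
    generalize Nat.card _ = t at k2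
    rcases (by omega : t = 0 ∨ t = 1 ∨ t = 2 ∨ 3 ≤ t) with rfl | rfl | rfl | e
    · omega
    · omega
    · exact (k1 (by omega)).elim
    · have := Nat.mul_le_mul_right (aq x) e
      omega
  · obtain ⟨_, e3, e4⟩ := small D hx hn hK (by omega) hN
    exact .inl ⟨e4, .inl (by omega), e3⟩

theorem arith1 {t β ε n : ℕ} (ht : 3 ≤ t) (he : 3 ≤ e) (hd : e ≤ d)
    (h1 : (t * (n * d + min d ((d + d + 1 - e) / 2) + ε : ℕ) : ℤ) ≤
      β + t * (n + 1 : ℕ) * d + (-1 : ℤ) * e * (t - 1)) (h2 : β + 2 ≤ t + ε) : False := by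
  obtain ⟨k, hk, h3, h4⟩ : ∃ k, min d ((d + d + 1 - e) / 2) + k = d ∧ 2 * k ≤ e ∧ k + 2 ≤ e :=
    ⟨e / 2, by omega⟩
  generalize min d _ = m at h1 hk
  subst hk
  obtain ⟨s, rfl⟩ := Nat.exists_eq_add_of_le ht
  push_cast at h1
  nlinarith [Nat.mul_le_mul_left s h4, Nat.zero_le (s * ε)]

namespace Big
variable (B : Big p x h a e d M) {δ δ' : ℤ} {ζ ζ' : (zpowers x →* ℂˣ) → IrrCharacter G}
  {Y Y' : Finset (IrrCharacter G)} {f f' : center G → ℂ} {χ η : IrrCharacter G}
include B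

theorem lt' : aq x + 1 < p := by have := B.hq; have := B.h3; have := B.pos; omega

theorem three (F : EF p x δ ζ Y f) : 3 ≤ #Y := by
  have := B.hq ▸ F.card
  have := B.h3
  by_contra H
  have := Nat.mul_le_mul_right e (show #Y ≤ 2 by omega)
  have := B.pos
  omega

theorem xc (F : EF p x (-1) ζ Y f) (hχ : χ ∈ Y) (hf : ∀ g, χ.1 g = χ.1 1 → g = 1)
    (hd : charDegree χ.1 = d) (hη : η ∈ Y) : sP x η.1 = p ∧ (∃ c, XC x h e d M η.1 c) ∧
      ∃ c, XC x h e d M (fun g => conj (η.1 g)) c := by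
  have h1 := F.faithful B.lt' B.index B.hK hχ hη hf
  have h2 := (F.degree_eq hη hχ).trans hd
  have h3 : sP x η.1 = p := by simp [F.sP_exc hη, h2, B.hq, ← B.hd]
  have := B.h3
  refine ⟨h3, B.exists_xc B.hM B.hn B.hN η.2 h1 h2 B.hd (by omega) h3,
    B.exists_xc B.hM B.hn B.hN η.2.star (fun g hg => h1 g (star_injective hg))
      (by simpa [charDegree] using h2) B.hd (by omega) ?_⟩
  simpa [sP] using congrArg conj h3

theorem core (hZ : Odd (Nat.card (center G))) (F : EF p x (-1) ζ Y f) (hχ : χ ∈ Y)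
    (hf : ∀ g, χ.1 g = χ.1 1 → g = 1) (hd : charDegree χ.1 = d) : e ≤ 2 := by
  by_contra! he
  have := Fact.mk B.prime
  have := Fintype.ofFinite G
  have h0 := B.h3
  have h1 := B.hd
  obtain ⟨μ, hμ, rfl⟩ := (F.mem χ).1 hχ
  obtain ⟨ν, hν, h2⟩ := F.exists_not B.lt' hμ
  have hν' := inv_ne_one.2 hν
  obtain ⟨-, ⟨c₁, X₁⟩, -⟩ := B.xc F hχ hf hd hχ
  obtain ⟨-, ⟨c₂, X₂⟩, -⟩ := B.xc F hχ hf hd (F.mem_Y hν')
  have hs := B.hq ▸ F.sP_mul hμ hν' (by rwa [inv_inv]) X₁.one
  obtain ⟨k, k1, -, k2⟩ := exists_exp (G := G) odd_one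
  let ψ : IrrCharacter G := ⟨_, (ζ μ).2.comp_pow_coprime k1⟩
  have h3 : ∀ g, ψ.1 g = ψ.1 1 → g = 1 := fun g hg => (powCoprime k1.symm).injective
    ((hf _ (by simpa [ψ] using hg)).trans (one_pow k).symm)
  have h4 : charDegree ψ.1 = d := by simpa [charDegree, ψ] using hd
  obtain ⟨-, -, ζ', Y', f', F', hψ⟩ := part0 B.ord B.index B.hn h3 (by omega) (by omega)
  obtain ⟨h5, ⟨c, X⟩, -⟩ := B.xc F' hψ h3 h4 hψ
  have h6 : ∀ η ∈ Y', XC x h e d M η.1 c := fun η hη => by
    obtain ⟨-, ⟨c', X'⟩, -⟩ := B.xc F' hψ h3 h4 hη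
    have := (X'.hl 1 one_pos (by omega)).symm.trans
      ((F'.reg _ hη _ hψ _ (B.reg_h 1)).trans (X.hl 1 one_pos (by omega)))
    rwa [← show c' = c by simpa using this]
  have d0 : (d : ℂ) ≠ 0 := Nat.cast_ne_zero.2 (by omega)
  have hz : ∀ z : center G, (ζ μ).1 z * (ζ ν⁻¹).1 z = f' z * d ^ 2 := fun z => by
    have := F'.cen _ hψ z
    rw [X.one, show ψ.1 z = (ζ μ).1 (z * z) from congrArg _ (sq (z : G) ▸ pow_eq_pow_iff_modEq.2
      ((k2 _ (card_subgroup_dvd_card _) hZ).of_dvd (orderOf_dvd_natCard _ z.2))),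
      (ζ μ).2.apply_mul_of_mem_charCenter ((ζ μ).2.center_le_charCenter z.2), X₁.one] at this
    rw [F.cen _ (F.mem_Y hν'), X₂.one, ← X₁.one, ← F.cen _ hχ, X₁.one, sq, ← mul_assoc, ← this]
    field_simp
  choose b hb using fun ψ : IrrCharacter G => (X₁.char.mul X₂.char).exists_classInner_nat
    ψ.2.isCharacter
  have h7 := B.upper X₁ X₂ h1 hs F' B.hq hz hb (ω := c) (by
    have k3 := hz ⟨_, B.hz⟩
    have k4 := F'.cen _ hψ ⟨_, B.hz⟩
    rw [X₁.he, X₂.he, X₁.one, X₂.one] at k3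
    rw [X.he, X.one] at k4
    exact mul_right_cancel₀ (pow_ne_zero 2 d0) (by linear_combination d * k4 - k3)) hψ (B.nu_xc X h5)
  refine arith1 (n := 0) (B.three F') he (by omega) (B.lower X₁ X₂ h1 hs F' B.hq hz hb B.hM (by omega)
    (fun η hη => by rw [F'.degree_eq hη hψ, h4]; simp) (by omega) (by push_cast; omega) ?_)
    (by simpa only [mul_one] using h7)
  split_ifs with H
  · exact .inr ⟨rfl, by omega, H ▸ h6⟩
  · exact .inl rfl

end Big

theorem thmA [hp : Fact p.Prime] (hx : orderOf x = p) (hi : ¬ p ∣ (zpowers x).index)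
    (hn : ¬ (zpowers x).Normal) (h10 : 10 < p) (hZ : Odd (Nat.card (center G))) {χ : G → ℂ}
    (hχ : IsIrrCharacter G χ) (hf : ∀ g, χ g = χ 1 → g = 1) :
    ((∃ (F : Type) (_ : Field F) (_ : Fintype F), Fintype.card F = p ∧
      Nonempty (G ⧸ center G ≃* PSL(2, F))) ∧
      (2 * charDegree χ = p + 1 ∨ 2 * charDegree χ = p - 1)) ∨ p - 2 ≤ charDegree χ := by
  by_cases h2 : charDegree χ + 2 ≤ p
  · obtain ⟨h3, h4, -⟩ | ⟨h, a, M, B, ζ, Y, f, F, hY⟩ := reduce hx hi hn h10 (χ := ⟨χ, hχ⟩) hf h2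
    · exact .inl ⟨h3, h4⟩
    · have := B.core hZ F hY hf rfl
      have : charDegree χ + _ = _ := B.hd
      omega
  · omega

end H21.DL
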