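import Cfsg.Agent.H21.DL10

/-! The remaining configuration is impossible. -/

open Cfsg MonoidAlgebra
open H5 H7 H8
namespace H21.DL
open Module Finset Subgroup Representation
open scoped ComplexConjugate

variable {G : Type*} [Group G] [Finite G] {p : ℕ} {x h : G} {a e d : ℕ} {M : Ideal AlgInt}
  {ι : Type*} [Fintype ι] [DecidableEq ι]

theorem St.hom_data {k : Type*} [Field k] {L W Y : Type*} [AddCommGroup L] [Module k L]
    [AddCommGroup W] [Module k W] [AddCommGroup Y] [Module k Y] [hp : Fact p.Prime] [CharP k p]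
    (S : St p x h a e) [FiniteDimensional k L] [FiniteDimensional k W] [FiniteDimensional k Y]
    {σ : Representation k G L} {τ : Representation k G W} {υ : Representation k G Y}
    (ι : Y ≃ₗ[k] (L →ₗ[k] W)) (hι : ∀ g v, ι (υ g v) = linHom σ τ g (ι v))
    (U : Uni (σ x - 1) d) (U' : Uni (τ x - 1) d) (hd : d + e = p) (he : e ≤ d) (φ : L ≃ₗ[k] W)
    (h1 : ∀ v, τ x (φ v) = φ (σ x v)) (h2 : ∀ v, τ h (φ v) = (1 : k) • φ (σ h v)) :
    d ≤ finrank k (LinearMap.range (np x υ)) + e ∧ ∀ i < e, ∃ w, υ x w = w ∧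
      υ h w = (a : k) ^ i • w ∧ w ∉ LinearMap.range (np x υ) := by
  have k1 : ∀ w, ι (np x υ w) = np x (linHom σ τ) (ι w) := fun w => by
    simp only [np_apply, map_sum, hι]
  refine ⟨?_, fun i hi => ⟨ι.symm (φ ∘ₗ lg k p (σ x) ^ i), ?_, ?_, ?_⟩⟩
  · have k2 := U.le_rank U' hp.out hd
    have k3 := (TT (τ x - 1) (σ x - 1) ^ (p - 1)).finrank_range_add_finrank_ker
    have k4 := (np x (linHom σ τ)).finrank_range_add_finrank_ker
    rw [np_eq S.ord, ker_hom_pow, ← np_eq S.ord, ← finrank_map_equiv ι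
      (A := LinearMap.range (np x υ)) fun v => by
        simp only [LinearMap.mem_range, ι.surjective.exists, ← k1, EmbeddingLike.apply_eq_iff_eq]] at k4
    omega
  · rw [← ι.injective.eq_iff, hι, ι.apply_symm_apply, hom_eq]
    intro v
    have : Commute (σ x) (lg k p (σ x)) := lg_semiconj (Commute.refl _)
    simp [h1, ← End.mul_apply, (this.pow_right i).eq]
  · rw [← ι.injective.eq_iff, hι, map_smul, ι.apply_symm_apply, hom_eq_smul]
    intro v
    have : σ h * lg k p (σ x) ^ i = (a : k) ^ i • (lg k p (σ x) ^ i * σ h) := by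
      induction i with
      | zero => simp
      | succ i ih =>
        rw [pow_succ, ← mul_assoc, ih (by omega), smul_mul_assoc, mul_assoc, S.h_lg, mul_smul_comm,
          smul_smul, pow_succ, mul_assoc]
    simp [h2, ← End.mul_apply, this]
  · rintro ⟨w, hw⟩
    obtain ⟨v, -, -, k2, -⟩ := U.exists_gen
    have k3 : ((σ x - 1) ^ (d - e)) v ∈ LinearMap.ker ((σ x - 1) ^ e) := by
      rw [LinearMap.mem_ker, ← End.mul_apply, ← pow_add, Nat.add_sub_cancel' he, U.nil]; rfl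
    have k4 := LinearMap.congr_fun (congrArg ι hw) (((σ x - 1) ^ (d - e)) v)
    rw [k1, np_eq S.ord, hom_pow, TT_pow_apply, sum_eq_zero fun m hm => ?_, ι.apply_symm_apply,
      eq_comm, LinearMap.comp_apply, LinearEquiv.coe_coe, φ.map_eq_zero_iff, ← LinearMap.mem_ker,
      ker_lg_pow (S.pow_p σ), LinearMap.mem_ker, ← End.mul_apply, ← pow_add] at k4
    · refine k2 ?_
      rw [show d - 1 = (e - 1 - i) + (i + (d - e)) by omega, pow_add, End.mul_apply, k4, map_zero]
    by_cases H : d ≤ m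
    · simp [pow_eq_zero_of_le H U'.nil]
    · obtain ⟨r, hr⟩ := Nat.exists_eq_add_of_le' (show e ≤ p - 1 - m by omega)
      have := S.ker_stable σ (pow_mem (inv_mem (le_normalizer (mem_zpowers x))) (p - 1)) k3
      rw [hr, pow_add (σ x - 1), End.mul_apply]
      erw [LinearMap.mem_ker.1 this]
      simp

/-- reduction of the annihilator of `c A` -/
def rI (A : Lat G ι M) (c : ℂ[G]) : Ideal (kk M)[G] where
  carrier := {b | ∃ a ∈ VG M G, A.c.asAlgebraHom (a * c) = 0 ∧ redG M a = b}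
  add_mem' := by
    rintro _ _ ⟨a, h1, h2, rfl⟩ ⟨b, h3, h4, rfl⟩
    exact ⟨a + b, add_mem h1 h3, by rw [add_mul, map_add, h2, h4, add_zero], redG_add h1 h3⟩
  zero_mem' := ⟨0, zero_mem _, by simp, redG_zero⟩
  smul_mem' := by
    rintro b _ ⟨a, h1, h2, rfl⟩
    exact ⟨liftG M b * a, mul_mem (liftG_mem_VG b) h1, by rw [mul_assoc, map_mul, h2, mul_zero],
      by rw [redG_mul (liftG_mem_VG b) h1, redG_liftG, smul_eq_mul]⟩

theorem rI_two (A : Lat G ι M) {c : ℂ[G]} (hc : c ∈ Zc ℂ G) : (rI A c).IsTwoSided := ⟨by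
  rintro _ b ⟨a, h1, h2, rfl⟩
  exact ⟨a * liftG M b, mul_mem h1 (liftG_mem_VG b), by
    rw [mul_assoc, ← Zc_comm hc, ← mul_assoc, map_mul, h2, zero_mul],
    by rw [redG_mul h1 (liftG_mem_VG b), redG_liftG]⟩⟩

namespace St
variable (S : St p x h a e) (hM : IsPModular p M)
include S hM

theorem uniq (hN : NoSm (kk M) p x) (h3 : 3 * e < p) {θ : IrrCharacter G}
    (hθ : charDegree θ.1 = p + e) {W : Wed G M} {i j : Fin W.L} (hi : W.d θ i ≠ 0)
    (hj : W.d θ j ≠ 0) (hi' : ws W i x ≠ 1) (hj' : ws W j x ≠ 1) : i = j := by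
  have := Fact.mk hM.1
  have := charP_kk hM
  have h1 : ∀ j, ws W j x ≠ 1 → p ≤ W.n j + e := fun j hj => not_lt.1 fun H => hj (hN _ (ws W j) e
    (S.si (ws_scalar j) (by simpa using pow_finrank (S.nil (ws W j))) H) (by omega))
  by_contra H
  have h2 := sum_le_sum_of_subset (f := fun j => W.d θ j * W.n j) (subset_univ {i, j})
  rw [← W.degree_eq hM, sum_pair H] at h2
  have := Nat.le_mul_of_pos_left (W.n i) (Nat.pos_of_ne_zero hi)
  have := Nat.le_mul_of_pos_left (W.n j) (Nat.pos_of_ne_zero hj)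
  have := h1 i hi'
  have := h1 j hj'
  omega

variable (A : Lat G ι M) {f : ℂ[G]} (hf : f ∈ Zc ℂ G) (hz : ∀ z ∈ center G, A.c z = 1)
  (h1 : A.c.asAlgebraHom (npA ℂ x * prA h 1 e * (1 - f)) = 0) (W : Wed G M)
include hf hz h1

theorem exists_j1 (h2 : A.c.invariants = ⊥)
    (h3 : End.eigenspace (A.c x) 1 ⊓ End.eigenspace (A.c h) 1 ≠ ⊥) :
    ∃ j, Kil W (rI A f) j ∧ wa W j (npA _ x * prA h 1 e) ≠ 0 := by
  by_contra! H
  have := rI_two A hf
  obtain ⟨v, ⟨k1, k2⟩, k3⟩ := Submodule.exists_mem_ne_zero_of_ne_bot h3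
  replace k2 := End.mem_eigenspace_iff.1 k2
  obtain ⟨_, ⟨b, k4, rfl⟩, k5⟩ := S.ti1 hM A ((VG M G).toAddSubgroup.map
    (LinearMap.applyₗ v ∘ₗ A.c.asAlgebraHom.toLinearMap).toAddMonoidHom)
    (by rintro c hc _ ⟨b, k, rfl⟩; exact ⟨c • b, smul_mem_VG hc k, by simp⟩)
    ⟨by simpa using End.mem_eigenspace_iff.1 k1, fun z H => by simp [hz z H], k2⟩
    fun g => ⟨single g 1, single_one_mem_VG g, by simp⟩
  obtain ⟨k6, k7⟩ := prA_mem (M := M) (h := h) (map_one _) (S.val_e hM)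
  have k8 := mul_mem (mul_mem (npA_mem (x := x)) k6) k4
  have k9 : A.c.asAlgebraHom (npA ℂ x * prA h 1 e * b) v = v := by
    rw [map_mul, map_mul, alg_npA, alg_prA, (commute_pr (commute_np _ S.h_mem).symm).eq,
      End.mul_apply, End.mul_apply]
    rw [h2, Submodule.mem_bot, sub_eq_zero] at k5
    exact (congrArg _ k5.symm).trans (pr_apply one_ne_zero (Nat.cast_ne_zero.2 S.pos.ne') k2)
  obtain ⟨_, ⟨b', k10, k11, rfl⟩, k12⟩ := exists_mem_kil (W := W) (I := rI A f)
    (b := redG M (npA ℂ x * prA h 1 e * b)) fun j hj => by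
      rw [redG_mul (mul_mem npA_mem k6) k4, redG_mul npA_mem k6, k7, redG_npA, red_one, map_mul,
        H j hj, zero_mul]
  have k13 : A.c.asAlgebraHom f v = v := by
    rw [mul_one_sub, map_sub, sub_eq_zero] at h1
    rw [← k9, ← End.mul_apply, ← map_mul, ← mul_assoc, Zc_comm hf, map_mul, ← h1, ← map_mul]
  refine k3 (A.eq_zero_of_nil (sub_mem k8 k10) (by
    rw [redG_sub k8 k10]; exact (nil_of_wa k12).map _) ?_)
  rw [map_sub, LinearMap.sub_apply, k9, ← k13, ← End.mul_apply, ← map_mul, k11, k13]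
  simp

variable (h2 : A.c.asAlgebraHom (npA ℂ x * (1 - prA h 1 e) * f) = 0)
include h2

theorem free (h3 : ∀ j, Kil W (rI A f) j → wa W j (npA _ x * prA h 1 e) = 0 → ws W j h = 1)
    (h4 : finrank ℂ (LinearMap.ker (A.c.asAlgebraHom f)) + p * finrank ℂ
      (End.eigenspace (A.c x) 1 ⊓ End.eigenspace (A.c h) 1 :) ≤
        p * finrank (kk M) (LinearMap.range (np x A.k))) {v : ι → kk M}
    (h5 : v ∈ redSub M (LinearMap.ker (A.c.asAlgebraHom f))) (h6 : A.k x v = v) :
    v ∈ LinearMap.range (np x A.k) := by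
  have := Fact.mk hM.1
  have := charP_kk hM
  have := rI_two A hf
  have := rI_two A (sub_mem (one_mem _) hf)
  have : (rI A f ⊔ rI A (1 - f)).IsTwoSided := ⟨fun b ha => by
    obtain ⟨y, k1, z, k2, rfl⟩ := Submodule.mem_sup.1 ha
    rw [add_mul]
    exact Submodule.add_mem_sup (Ideal.mul_mem_right _ _ k1) (Ideal.mul_mem_right _ _ k2)⟩
  obtain ⟨k1, k2⟩ := prA_mem (M := M) (h := h) (map_one _) (S.val_e hM)
  rw [red_one] at k2
  have k3 : A.c h ^ e = (1 : ℂ) ^ e • 1 := by rw [← map_pow, hz _ S.hz]; simp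
  have k4 : A.k h ^ e = (1 : kk M) ^ e • 1 := by simpa using A.k_pow (map_one _) k3
  obtain ⟨_, k5, k6⟩ := exists_mem_kil (W := W) (I := rI A f ⊔ rI A (1 - f)) (b := 1 - prA h 1 e)
    fun j hj => LinearMap.ext fun w => by
      rw [map_sub, alg_prA, map_one, LinearMap.sub_apply, pr_apply one_ne_zero S.e_ne (by
        rw [h3 j (fun a ha => hj a (Submodule.mem_sup_left ha)) (hj _ (Submodule.mem_sup_right
          ⟨_, mul_mem npA_mem k1, h1, by rw [redG_mul npA_mem k1, k2, redG_npA]⟩))]; simp)]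
      simp
  obtain ⟨_, ⟨y, y1, y2, rfl⟩, _, ⟨z, z1, z2, rfl⟩, rfl⟩ := Submodule.mem_sup.1 k5
  obtain ⟨n, hn⟩ := (nil_of_wa k6).map A.k.asAlgebraHom
  set U := redSub M (LinearMap.ker (A.c.asAlgebraHom f))
  set Z := np x A.k * (1 - pr (A.k h) 1 e) with hZ
  have k7 : Z * A.k.asAlgebraHom (redG M z) = 0 := by
    have k := mul_mem (npA_mem (x := x)) (sub_mem (one_mem _) k1)
    have := A.alg_eq_zero (mul_mem k z1) (by
      generalize npA ℂ x * _ = y at h2 ⊢
      rw [show y * z = y * f * z + y * (z * (1 - f)) by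
        rw [mul_assoc, Zc_comm hf]; noncomm_ring, map_add, map_mul, h2, map_mul _ y, z2]
      simp)
    rwa [redG_mul k z1, redG_mul npA_mem (sub_mem (one_mem _) k1), redG_sub (one_mem _) k1, k2,
      redG_npA, redG_one, map_mul, map_mul, map_sub, map_one, alg_npA, alg_prA] at this
  have k8 : Z * pr (A.k h) 1 e = 0 := LinearMap.ext fun w => by
    simp [hZ, pr_apply one_ne_zero S.e_ne (End.mem_eigenspace_iff.1 (pr_mem one_ne_zero k4 w))]
  rw [map_sub, map_sub, map_add, map_one, alg_prA] at hn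
  generalize hr : 1 - pr (A.k h) 1 e - _ = r at hn
  have k8' : Z * r = Z - Z * A.k.asAlgebraHom (redG M y) := by
    rw [← hr, mul_sub, mul_sub, mul_add, k7, k8]; simp
  have k9 : ∀ m w, Z w - Z ((r ^ m) w) ∈ U.map Z := fun m w => by
    induction m with
    | zero => simp
    | succ m ih =>
      obtain ⟨u, u1, u2⟩ := exists_rv ((r ^ m) w)
      obtain ⟨u3, u4⟩ := A.alg y1 u1
      have := add_mem ih (Submodule.mem_map_of_mem (f := Z) (show _ ∈ U from ⟨_, by
        rw [LinearMap.mem_ker, ← End.mul_apply, ← map_mul, Zc_comm hf, y2]; rfl, u3, u4⟩))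
      rw [pow_succ', End.mul_apply r, ← End.mul_apply Z r, k8']
      convert this using 1
      simp [u2]
      abel
  have k10 : LinearMap.range (np x A.k) ≤ U.map Z ⊔
      redSub M (End.eigenspace (A.c x) 1 ⊓ End.eigenspace (A.c h) 1) := by
    rintro _ ⟨w, rfl⟩
    obtain ⟨w, w1, rfl⟩ := exists_rv w
    obtain ⟨w2, w3⟩ := A.alg (mul_mem (npA_mem (x := x)) k1) w1
    rw [redG_mul npA_mem k1, k2, redG_npA, map_mul, map_mul, alg_npA, alg_npA, alg_prA,
      alg_prA] at *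
    rw [show np x A.k (rv M w) = Z (rv M w) + (np x A.k * pr (A.k h) 1 e) (rv M w) by simp [hZ]]
    refine Submodule.add_mem_sup (by simpa [hn] using k9 n _) ⟨_, ?_, w2, w3⟩
    simpa [smul_smul, S.prime.ne_zero] using
      Submodule.smul_mem _ (p : ℂ) ((S.isProj A.c one_ne_zero k3).map_mem w)
  have k11 := (Submodule.finrank_mono k10).trans (Submodule.finrank_add_le_finrank_add_finrank _ _)
  have k12 : finrank (kk M) (U.map Z) ≤ finrank (kk M) (U.map (np x A.k)) := by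
    have := (commute_pr (c := 1) (e := e) (commute_np A.k S.h_mem).symm).eq
    rw [show Z = (1 - pr (A.k h) 1 e) ∘ₗ np x A.k by
      rw [hZ, ← End.mul_eq_comp, mul_sub, sub_mul, this]; simp, Submodule.map_comp]
    exact Submodule.finrank_map_le _ _
  rw [finrank_redSub] at k11
  have k13 : p - 1 + 1 = p := Nat.sub_add_cancel S.prime.pos
  obtain ⟨w, -, hw⟩ := exists_pow_eq_of_finrank_le' (X := A.k x - 1) (U := U) (n := p - 1) (by
    rintro _ ⟨w, w1, w2, rfl⟩
    refine sub_mem ⟨_, ?_, A.c_mem x w2, Lat.rv_c x w2⟩ ⟨w, w1, w2, rfl⟩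
    rw [LinearMap.mem_ker, ← asAlgebraHom_single_one, ← End.mul_apply, ← map_mul, Zc_comm hf,
      map_mul, End.mul_apply, LinearMap.mem_ker.1 w1, map_zero]) (by rw [k13, S.nil]) (by
    rw [k13, ← np_eq S.ord, finrank_redSub]
    have := Nat.mul_le_mul_left p (k11.trans (Nat.add_le_add_right k12 _))
    rw [mul_add] at this
    omega) (add_comm 1 _) h5 (by simp [h6])
  exact ⟨w, by rw [np_eq S.ord, hw]⟩

theorem left0 (hN : NoSm (kk M) p x) (h3 : 3 * e < p) (he : 3 ≤ e) {θ : IrrCharacter G}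
    (hθ : charDegree θ.1 = p + e)
    (h4 : ∀ b ∈ VG M G, IsIdempotentElem b → ev θ.1 b = 0 → A.c.asAlgebraHom (b * f) = 0)
    (hK : ∀ K : Subgroup G, K.Normal → x ∈ K → center G ≤ K → h ∈ K) (h5 : A.c.invariants = ⊥)
    (h6 : End.eigenspace (A.c x) 1 ⊓ End.eigenspace (A.c h) 1 ≠ ⊥)
    (h7 : finrank ℂ (LinearMap.ker (A.c.asAlgebraHom f)) + p * finrank ℂ
      (End.eigenspace (A.c x) 1 ⊓ End.eigenspace (A.c h) 1 :) ≤
        p * finrank (kk M) (LinearMap.range (np x A.k)))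
    (h8 : ∀ i < e, ∃ w, A.k x w = w ∧ A.k h w = (a : kk M) ^ i • w ∧
      w ∉ LinearMap.range (np x A.k)) : False := by
  have := Fact.mk hM.1
  have := charP_kk hM
  have := rI_two A hf
  obtain ⟨W⟩ := exists_wed G M
  obtain ⟨j, k1, k2⟩ := S.exists_j1 hM A hf hz h1 W h5 h6
  have k3 : ∀ i, Kil W (rI A f) i → ∀ z ∈ center G, ws W i z = 1 := fun i hi z H => by
    have := hi _ ⟨single z 1 - 1, sub_mem (single_one_mem_VG z) (one_mem _), by simp [hz z H], rfl⟩
    rwa [redG_sub (single_one_mem_VG z) (one_mem _), redG_single, red_one, redG_one, map_sub,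
      map_one, asAlgebraHom_single_one, sub_eq_zero] at this
  have k4 : ∀ i, Kil W (rI A f) i → ws W i h ≠ 1 → i = j := fun i hi H =>
    S.uniq hM hN h3 hθ (hi.d_ne fun b b1 b2 b3 => ⟨b, b1, h4 b b1 b2 b3, rfl⟩)
      (k1.d_ne fun b b1 b2 b3 => ⟨b, b1, h4 b b1 b2 b3, rfl⟩)
      (fun H' => H (hK (ws W i).ker inferInstance H' (k3 i hi))) fun H' => k2 (by
        rw [map_mul, alg_npA, show np x (ws W j) = 0 from LinearMap.ext fun v => by
          rw [np_fix (by simp [H']), S.ord]; simp, zero_mul])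
  have k5 : ∀ i, 0 < i → i < e → ∃ v, v ≠ 0 ∧ Sm (ws W j) x h v ((a : kk M) ^ i) := fun i i0 i1 => by
    obtain ⟨w, w1, w2, w3⟩ := h8 i i1
    let I : Ideal (kk M)[G] :=
      { carrier := {b | A.k.asAlgebraHom b w ∈ redSub M (LinearMap.ker (A.c.asAlgebraHom f))}
        add_mem' := fun k k' => by simpa using add_mem k k'
        zero_mem' := by simp
        smul_mem' := fun b c ⟨u, u1, u2, u3⟩ => by
          obtain ⟨u4, u5⟩ := A.alg (liftG_mem_VG b) u2
          refine ⟨_, ?_, u4, by rw [u5, u3, redG_liftG]; simp⟩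
          rw [LinearMap.mem_ker, ← End.mul_apply, ← map_mul, Zc_comm hf, map_mul, End.mul_apply,
            LinearMap.mem_ker.1 u1, map_zero] }
    obtain ⟨l, v, v1, v2⟩ := exists_common_ker (W := W) (I := I) fun H => w3
      (S.free hM A hf hz h1 W h2 (fun i hi H => by_contra fun H' => k2 (k4 i hi H' ▸ H)) h7
        (by simpa [I] using (Ideal.eq_top_iff_one I).1 H) w1)
    have v3 := kil_of (I := rI A f) v1 fun _ ⟨b, b1, b2, b3⟩ => v2 _ (by
      obtain ⟨u, u1, rfl⟩ := exists_rv w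
      obtain ⟨u4, u5⟩ := A.alg b1 u1
      exact ⟨_, by rw [LinearMap.mem_ker, ← End.mul_apply, ← map_mul, Zc_comm hf, b2]; rfl, u4,
        b3 ▸ u5⟩)
    have v4 : ∀ g (c : kk M), A.k g w = c • w → ws W l g v = c • v := fun g c H => by
      have := v2 (single g 1 - c • 1) (by simp [I, H])
      rwa [map_sub, map_smul, map_one, asAlgebraHom_single_one, LinearMap.sub_apply,
        sub_eq_zero] at this
    obtain rfl := k4 l v3 fun H => S.prim'.pow_ne_one_of_pos_of_lt i0.ne' i1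
      (smul_left_injective (kk M) v1 ((v4 h _ w2).symm.trans (by simp [H])))
    exact ⟨v, v1, by simpa using v4 x 1 (by simpa using w1), fun z H => by simp [k3 l v3 z H],
      v4 h _ w2⟩
  obtain ⟨s, s1, s2⟩ := k5 1 one_pos (by omega)
  obtain ⟨t, t1, t2⟩ := k5 2 two_pos (by omega)
  obtain ⟨k6, k7⟩ := prA_mem (M := M) (h := h) (map_one _) (S.val_e hM)
  have k8 := k1 _ ⟨_, mul_mem npA_mem (sub_mem (one_mem _) k6), h2, rfl⟩
  rw [redG_mul npA_mem (sub_mem (one_mem _) k6), redG_sub (one_mem _) k6, k7, redG_npA, redG_one,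
    red_one, map_mul, map_sub, map_one, alg_npA, alg_prA, mul_one_sub, sub_eq_zero,
    (commute_pr (commute_np _ S.h_mem).symm).eq] at k8
  obtain ⟨Φ, c, c1, c2, c3, c4⟩ := S.phi (fun w => by
    rw [k8, ← End.mul_apply, ← mul_assoc, mul_pr one_ne_zero (by
      rw [← map_pow, k3 j k1 _ S.hz]; simp), one_smul]) s2 t2
    (fun H => absurd (S.prim'.pow_inj (by omega) (by omega) H) (by omega))
    (S.prim'.pow_ne_one_of_pos_of_lt one_ne_zero (by omega))
    (S.prim'.pow_ne_one_of_pos_of_lt two_ne_zero (by omega)) t1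
  obtain ⟨γ, rfl⟩ := ws_scalar j Φ c2
  obtain rfl : γ = 0 := by simpa [s1] using c4
  exact smul_ne_zero c1 t1 (by simpa using c3.symm)

end St

end H21.DL
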