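import Cfsg.Agent.H21.DL11

/-! Faithful characters of degree less than `p - 1`: the general case. -/

open Cfsg MonoidAlgebra
open H5 H7 H8
namespace H21.DL
open Module Finset Subgroup Representation
open scoped ComplexConjugate MatrixGroups

variable {G : Type*} [Group G] [Finite G] {p : ℕ} {x h : G} {a e d : ℕ} {M : Ideal AlgInt}
local notation "𝐍" x:max => normalizer (SetLike.coe (zpowers x))

theorem ev_mul_fB [Fintype G] {Λ : G → ℂ} (hΛ : IsClassFunction G Λ) {b : IrrCharacter G → ℕ}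
    (hb : ∀ ψ, classInner Λ ψ.1 = b ψ) (Y : Finset (IrrCharacter G)) (c : ℂ[G]) :
    ev Λ (c * fB Y) = ∑ ψ ∈ Y, b ψ * ev ψ.1 c := by
  classical
  rw [hΛ.eq_sum_irr, ev_sum_left, ← sum_add_sum_compl Y, sum_eq_zero (s := Yᶜ) fun ψ hψ => by
    rw [ev_smul_left, ← Zc_comm (fB_mem_Zc _), ev_fB_mul_of_notMem (by simpa using hψ), mul_zero],
    add_zero]
  exact sum_congr rfl fun ψ hψ => by
    rw [ev_smul_left, ← Zc_comm (fB_mem_Zc _), ev_fB_mul_of_mem (by simpa using hψ), hb]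

namespace St
variable (S : St p x h a e)
include S

section
variable {L : Type*} [AddCommGroup L] [Module ℂ L] [FiniteDimensional ℂ L]
  (ρ : Representation ℂ G L) (H : ρ h ^ e = (1 : ℂ) ^ e • 1)
include H

theorem zero_of_ev {u f : ℂ[G]} (hu : u = prA h 1 e ∨ u = 1 - prA h 1 e) (hf : f ∈ Zc ℂ G)
    (hf' : IsIdempotentElem f) (h0 : ev ρ.character (npA ℂ x * u * f) = 0) :
    ρ.asAlgebraHom (npA ℂ x * u * f) = 0 := by
  have hp : (p : ℂ) ≠ 0 := Nat.cast_ne_zero.2 S.prime.ne_zero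
  have h1 : IsIdempotentElem ((p : ℂ)⁻¹ • np x ρ) := LinearMap.ext fun v => by
    simp [np_fix (x_np ρ v), S.ord, smul_smul, hp]
  have h2 : IsIdempotentElem (pr (ρ h) 1 e) := LinearMap.ext fun v => pr_apply one_ne_zero
    (Nat.cast_ne_zero.2 S.pos.ne') (End.mem_eigenspace_iff.1 (pr_mem one_ne_zero H v))
  have h3 := (commute_pr (c := 1) (e := e) (commute_np ρ S.h_mem).symm).smul_left (p : ℂ)⁻¹
  have h4 : IsIdempotentElem ((p : ℂ)⁻¹ • ρ.asAlgebraHom (npA ℂ x * u)) := by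
    rw [map_mul, alg_npA, ← smul_mul_assoc]
    rcases hu with rfl | rfl
    · rw [alg_prA]; exact h1.mul_of_commute h3 h2
    · rw [map_sub, map_one, alg_prA]
      exact h1.mul_of_commute ((Commute.one_right _).sub_right h3) h2.one_sub
  have h5 := h4.mul_of_commute (Commute.smul_left (Commute.map (Zc_comm hf _).symm _) _) (hf'.map _)
  rw [smul_mul_assoc, ← map_mul] at h5
  simpa [hp] using LinearMap.IsIdempotentElem.eq_zero_of_trace_eq_zero h5 (by
    rw [map_smul, ← ev_char, h0, smul_zero])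

end

theorem ev_np {χ : G → ℂ} {n : ℕ} (h1 : nu x h e 1 χ = p * e * n) :
    ev χ (npA ℂ x * prA h 1 e) = p * n := mul_left_cancel₀ (Nat.cast_ne_zero.2 S.pos.ne') (by
  rw [← nu_eq_ev _ _ S.pos.ne', h1]; ring)

theorem apply_h (he : 1 < e) {χ : G → ℂ} (hχ : IsCharacter G χ) (H : χ (h ^ e) = χ 1)
    (hs : sP x χ = p) (h1 : nu x h e 1 χ = p * e * (1 : ℕ)) : χ h = 1 := by
  obtain ⟨n, ρ, rfl⟩ := hχ
  have h2 : ρ h ^ e = (1 : ℂ) ^ e • 1 := by
    rw [← map_pow]; exact scal _ (by simp) (by simpa using H)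
  have h3 := S.zero_of_ev ρ h2 (.inr rfl) (one_mem _) .one (by
    rw [mul_one, mul_one_sub, map_sub, S.ev_np h1, ← hs]; simp [npA, sP])
  rw [mul_one, mul_one_sub, map_sub, map_mul, alg_npA, alg_prA, sub_eq_zero] at h3
  have h4 : np x ρ * ρ h = np x ρ := by
    rw [h3, mul_assoc, ← (commute_pr (Commute.refl _)).eq, mul_pr one_ne_zero h2, one_smul]
  have h5 : ∑ u : zpowers x, ρ.character (u * h ^ 1) = sP x ρ.character := by
    simpa [np, sum_mul, sP, character] using congrArg (LinearMap.trace ℂ _) h4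
  simp only [← (isCharacter_character ρ).isClassFunction.eq_of_isConj (S.isConj one_pos he _)] at h5
  simpa [← Nat.card_eq_fintype_card, S.ord, S.prime.ne_zero, hs] using h5

end St

namespace Big
variable (B : Big p x h a e d M) {δ : ℤ} {ζ : (zpowers x →* ℂˣ) → IrrCharacter G}
  {Y : Finset (IrrCharacter G)} {θ : IrrCharacter G}
include B

theorem mem_h (F : EF p x δ ζ Y fun _ => 1) (hθ : θ ∈ Y) (h0 : θ.1 h ≠ 0) (K : Subgroup G)
    (hK : K.Normal) (h1 : x ∈ K) (h2 : center G ≤ K) : h ∈ K := by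
  have := Fact.mk B.prime
  have : IsCyclic (G ⧸ K) := ⟨(h : G ⧸ K), fun g => by
    obtain ⟨g, rfl⟩ := QuotientGroup.mk_surjective g
    obtain ⟨u, k1, n, k2, rfl⟩ := frattini B.ord B.index h1 g
    obtain ⟨v, k3, z, k4, l, rfl⟩ := B.dec n k2
    exact ⟨l, by simp [(QuotientGroup.eq_one_iff _).2 k1, (QuotientGroup.eq_one_iff _).2 (h2 k4),
      (QuotientGroup.eq_one_iff _).2 (zpowers_le.2 h1 k3)]⟩⟩
  by_contra H
  obtain ⟨l, hl⟩ := exists_unitsHom_ne_one (mt (QuotientGroup.eq_one_iff _).1 H)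
  let ψ : IrrCharacter G := ⟨_, θ.2.mul_unitsHom (l.comp (QuotientGroup.mk' K))⟩
  have h3 : ∀ g ∈ K, ψ.1 g = θ.1 g := fun g hg => by simp [ψ, (QuotientGroup.eq_one_iff _).2 hg]
  have h4 : ψ ∈ Y := by_contra fun H => by
    obtain ⟨c, hc⟩ := F.van ψ H fun z => by rw [h3 _ (h2 z.2), h3 _ K.one_mem, F.cen θ hθ]
    exact F.not_const B.lt' hθ fun u hu => (h3 _ (zpowers_le.2 h1 u.2)).symm.trans (hc u hu)
  exact hl (by simpa [ψ, h0] using F.reg _ h4 _ hθ h (by simpa using B.reg_h 1))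

theorem left [Fintype G] (he : 3 ≤ e) {η₁ η₂ : G → ℂ} {c : ℂ} (X₁ : XC x h e d M η₁ c)
    (X₂ : XC x h e d M η₂ c) (h0 : classInner η₁ η₂ = 0)
    (hz : ∀ z : center G, η₁ z * conj (η₂ z) = 1 * d ^ 2) (F : EF p x 1 ζ Y fun _ => 1)
    (hθ : θ ∈ Y) (h1 : charDegree θ.1 = p + e) (h2 : nu x h e 1 θ.1 = p * e * (1 : ℕ))
    {b : IrrCharacter G → ℕ} (hb : ∀ ψ, classInner (η₁ * fun g => conj (η₂ g)) ψ.1 = b ψ)
    (h3 : ∑ ψ ∈ Y, b ψ = e) (h4 : nu x h e 1 (η₁ * fun g => conj (η₂ g)) = p * e * e) : False := by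
  have := Fact.mk B.prime
  have := charP_kk B.hM
  obtain ⟨A₁, a1, a2, s₁, a3, a4, a5⟩ := X₁.lat
  obtain ⟨A₂, b1, b2, s₂, b3, b4, b5⟩ := X₂.lat
  have hA : (A₂.hom A₁).c.character = η₁ * fun g => conj (η₂ g) := funext fun g => by
    rw [Lat.hom_char, a1, b1, mul_comm]; rfl
  have k1 : ∀ z ∈ center G, (A₂.hom A₁).c z = 1 := fun z H => by
    rw [scal _ norm_one (by simpa [hA, X₁.one, X₂.one, sq] using hz ⟨z, H⟩), one_smul]
  have k2 : (A₂.hom A₁).c h ^ e = (1 : ℂ) ^ e • 1 := by rw [← map_pow, k1 _ B.hz]; simp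
  have k3 := ev_mul_fB (hA ▸ (isCharacter_character _).isClassFunction) hb Y
  have k4 : ∀ ψ ∈ Y, sP x ψ.1 = p := fun ψ hψ => by
    simp [F.sP_exc hψ, F.degree_eq hψ hθ, h1, B.hq]
  have k5 : ∀ ψ ∈ Y, ev ψ.1 (npA ℂ x * prA h 1 e) = p * (1 : ℕ) := fun ψ hψ =>
    B.ev_np ((B.nu_Y F hψ hθ 1).trans h2)
  have k6 := B.nu_rank _ one_ne_zero k2
  rw [hA, h4, mul_right_inj' (mul_ne_zero (Nat.cast_ne_zero.2 B.prime.ne_zero)
    (Nat.cast_ne_zero.2 B.pos.ne')), Nat.cast_inj] at k6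
  have h5 := B.h3
  have h6 := B.hd
  obtain ⟨φ, k7, k8⟩ := B.exists_iso b2 a2 b3 b4 b5 a3 a4 (c := 1) (by rw [a5, one_mul]) one_ne_zero
    (red_ne_zero_iff.2 X₁.val) (LinearMap.ext fun φ => by
      obtain ⟨w, rfl⟩ := (vl _ _ _).surjective φ
      rw [← map_pow, ← A₂.vl_k A₁, map_pow, Lat.k_pow _ (map_one _) k2]; simp)
  obtain ⟨k9, k10⟩ := B.hom_data (vl _ _ _) (A₂.vl_k A₁) b2 a2 h6 (by omega) φ k7 k8
  refine B.left0 B.hM (A₂.hom A₁) (fB_mem_Zc Y) k1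
    (B.zero_of_ev _ k2 (.inl rfl) (sub_mem (one_mem _) (fB_mem_Zc _)) (fB_idem _).one_sub ?_)
    (B.zero_of_ev _ k2 (.inr rfl) (fB_mem_Zc _) (fB_idem _) ?_) B.hN h5 he h1
    (fun u u1 u2 u3 => LinearMap.IsIdempotentElem.eq_zero_of_trace_eq_zero
      ((u2.mul_of_commute (Zc_comm (fB_mem_Zc _) u).symm (fB_idem _)).map _) ?_)
    (B.mem_h F hθ (by
      rw [B.apply_h (by omega) θ.2.isCharacter (by simpa using F.cen θ hθ ⟨_, B.hz⟩) (k4 θ hθ) h2]
      exact one_ne_zero)) ?_ (fun H => by rw [H, finrank_bot] at k6; omega) ?_ k10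
  · rw [hA, mul_one_sub, map_sub, k3, B.ev_np h4, sum_congr rfl fun ψ hψ => by rw [k5 ψ hψ],
      ← sum_mul, ← Nat.cast_sum, h3]
    simp [mul_comm]
  · rw [hA, k3]
    exact sum_eq_zero fun ψ hψ => by
      rw [mul_one_sub, map_sub, k5 ψ hψ, ← k4 ψ hψ]; simp [npA, sP]
  · rw [← ev_char, hA, k3]
    refine sum_eq_zero fun ψ hψ => mul_eq_zero_of_right _ ?_
    rw [← sub_add_cancel ψ.1 θ.1, ev_add_left, u3, add_zero]
    exact ev_idem_eq_zero B.hM u1 u2 (ψ.2.isClassFunction.sub θ.2.isClassFunction) fun g hg =>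
      sub_eq_zero.2 (F.reg _ hψ _ hθ g hg)
  · rw [← Submodule.finrank_eq_zero, ← Nat.cast_eq_zero (R := ℂ), ← classInner_character_one, hA,
      ← h0, classInner_eq_mul_conj_one η₁]
    rfl
  · have k11 := (LinearMap.IsIdempotentElem.isProj_range _ ((fB_idem (Y : Set _)).map
      (A₂.hom A₁).c.asAlgebraHom)).trace
    rw [← ev_char, hA, ← one_mul (fB _), k3, sum_congr rfl fun ψ hψ => by
      rw [ev_one, F.one_eq hψ hθ, irr_apply_one, h1], ← sum_mul, ← Nat.cast_sum, h3, one_mul,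
      ← Nat.cast_mul, Nat.cast_inj] at k11
    have k12 := LinearMap.finrank_range_add_finrank_ker ((A₂.hom A₁).c.asAlgebraHom (fB (Y : Set _)))
    rw [← k11, finrank_fintype_fun_eq_card, Fintype.card_prod, Fintype.card_fin] at k12
    rw [← k6]
    have := Nat.mul_le_mul_left p k9
    nlinarith

theorem quot (h10 : 10 < p) (he : 2 ≤ e) (F : EF p x δ ζ Y fun _ => 1) (hθ : θ ∈ Y) :
    2 * charDegree θ.1 = p + 1 ∨ 2 * charDegree θ.1 = p - 1 ∨ p - 2 ≤ charDegree θ.1 := by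
  have := Fact.mk B.prime
  obtain ⟨χ, h1, h2⟩ := θ.2.exists_quotient (center G) fun z hz =>
    θ.2.mem_charKer_iff.2 (by simpa using F.cen θ hθ ⟨z, hz⟩)
  obtain ⟨S, h3, h4⟩ := quot_data B.prime B.ord B.index B.cop (center_le_centralizer _) B.cx
  have := thmA S.ord S.not_dvd_index (fun H => B.hn (by
    rwa [← normalizer_eq_top_iff, ← index_eq_one, ← h3, index_eq_one, normalizer_eq_top_iff])) h10
    (by rw [S.center_eq_bot (by rwa [h4, B.hq])]; simp) h1 fun g hg => by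
      obtain ⟨g, rfl⟩ := QuotientGroup.mk_surjective g
      exact (QuotientGroup.eq_one_iff _).2 (F.ker_le B.lt' B.index B.hK hθ
        (θ.2.mem_charKer_iff.2 (by rwa [← h2, ← h2])))
  rw [show charDegree χ = charDegree θ.1 by simp [charDegree, ← h2]] at this
  tauto

theorem exists_principal : ∃ δ ζ Y, EF p x δ ζ Y fun _ => 1 := by
  classical
  have := Fact.mk B.prime
  have hP : Nat.card (zpowers x) = p := by rw [Nat.card_zpowers, B.ord]
  obtain ⟨V, H, D⟩ := exists_UC ((isPGroup_zpowers_of_orderOf B.ord).toSylow B.index)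
    (cent_of_card_prime B.prime hP)
  change UC p (zpowers x) V H at D
  obtain rfl : V = center G := by
    have h1 : center G ≤ V := fun z hz => (D.memV z).2
      ⟨center_le_centralizer _ hz, fun H => B.cop (H.trans (orderOf_dvd_natCard _ hz))⟩
    refine le_antisymm (fun v hv => ?_) h1
    obtain ⟨u, k1, z, k2, k3⟩ := B.cx v (cent_zpowers x ▸ D.V_le hv)
    exact (D.eq_of_mul_eq (one_mem _) hv k1 (h1 k2) (by rw [one_mul, k3])).2 ▸ k2
  have := Fintype.ofFinite (center G)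
  obtain ⟨δ, ζ, a, Y, h, -⟩ := D.exists_data_principal B.hM hP
  exact ⟨δ, ζ, Y, EF.of_data B.hM B.ord h⟩

theorem core2 (h10 : 10 < p) (he : 2 ≤ e) {f : center G → ℂ} (F : EF p x (-1) ζ Y f)
    {χ : IrrCharacter G} (hχ : χ ∈ Y) (hf : ∀ g, χ.1 g = χ.1 1 → g = 1) (hd : charDegree χ.1 = d) :
    e + 3 ≤ #Y := by
  have := Fintype.ofFinite G
  have h0 := B.h3
  have h1 := B.hd
  have ht := B.hq ▸ F.card
  by_contra H
  have he3 : 3 ≤ e := by
    by_contra H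
    obtain rfl : e = 2 := by omega
    omega
  obtain ⟨μ, hμ, rfl⟩ := (F.mem χ).1 hχ
  obtain ⟨ν, hν, h2⟩ := F.exists_not B.lt' hμ
  obtain ⟨-, ⟨c, X₁⟩, -⟩ := B.xc F hχ hf hd hχ
  obtain ⟨-, ⟨c', X₂⟩, c₂, X₃⟩ := B.xc F hχ hf hd (F.mem_Y hν)
  have h3 := X₂.hl 1 one_pos (by omega)
  obtain rfl : c' = c := by
    simpa using h3.symm.trans ((F.reg _ (F.mem_Y hν) _ hχ _ (B.reg_h 1)).trans
      (X₁.hl 1 one_pos (by omega)))
  have h4 : c' * c₂ = 1 := by
    have := X₃.hl 1 one_pos (by omega)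
    rw [h3, pow_one, pow_one] at this
    rw [← this, Complex.mul_conj, Complex.normSq_eq_norm_sq, X₁.norm]
    simp
  have hs := B.hq ▸ F.sP_conj hμ hν h2 X₁.one
  obtain ⟨δ, ζ', Y', F'⟩ := B.exists_principal
  have h5 : #Y' = #Y := Nat.eq_of_mul_eq_mul_right B.pos (by have := B.hq ▸ F'.card; omega)
  have h6 := B.three F
  obtain ⟨θ, hθ⟩ := card_pos.1 (show 0 < #Y' by omega)
  have hz : ∀ z : center G, (ζ μ).1 z * conj ((ζ ν).1 z) = 1 * d ^ 2 := fun z => by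
    rw [F.cen _ hχ, F.cen _ (F.mem_Y hν), X₁.one, X₂.one, map_mul, map_natCast]
    linear_combination d ^ 2 * F.mul_conj hχ z
  choose b hb using fun ψ : IrrCharacter G => (X₁.char.mul X₃.char).exists_classInner_nat
    ψ.2.isCharacter
  obtain ⟨r, h7, h8⟩ := F'.exists_exc hθ
  rw [B.hq] at h7
  have h9 := B.quot h10 he F' hθ
  have h10 : (∑ ψ ∈ Y', b ψ) + 2 ≤ #Y ∨
      (∑ ψ ∈ Y', b ψ) * r + 1 ≤ #Y ∧ nu x h e 1 θ.1 = p * e * r := by
    obtain ⟨ω, k1, k2, v, k3, k4⟩ | k1 := B.nu_cases θ.2.isCharacter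
      (by simpa using F'.cen θ hθ ⟨_, B.hz⟩) h8
    · have := B.upper X₁ X₃ h1 hs F' B.hq hz hb (by rw [h4, k2, one_pow]) hθ k4
      rw [h4, if_neg k1] at this
      have := Nat.le_mul_of_pos_right (∑ ψ ∈ Y', b ψ) k3
      omega
    · have := B.upper X₁ X₃ h1 hs F' B.hq hz hb (by rw [h4]) hθ k1
      rw [h4, if_pos rfl] at this
      exact .inr ⟨by omega, k1⟩
  rcases F'.sign with rfl | rfl
  · have k1 : charDegree θ.1 = r * p + e := by zify; linear_combination h7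
    have k2 := B.lower X₁ X₃ h1 hs F' B.hq hz hb B.hM (by omega) (ε := 0) (r := r)
      (fun η hη => (F'.degree_eq hη hθ).trans k1) B.lt (by ring) (.inl rfl)
    rw [show min e ((e + d + 1 - e) / 2) = e by omega] at k2
    have k3 : e ≤ ∑ ψ ∈ Y', b ψ := by
      push_cast at k2
      have : (e : ℤ) ≤ ∑ ψ ∈ Y', b ψ := by push_cast; linarith
      exact_mod_cast this
    have k4 : e + 2 ≠ #Y := fun k => by
      rw [← k] at ht
      have := B.prime.eq_one_or_self_of_dvd (e + 1) ⟨e + 1, by rw [← ht]; ring⟩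
      omega
    obtain k5 | ⟨k5, k6⟩ := h10
    · omega
    rcases (by omega : r = 0 ∨ r = 1 ∨ 2 ≤ r) with rfl | rfl | k
    · omega
    · refine B.left he3 X₁ X₂ ((ζ μ).2.classInner_of_ne (ζ ν).2 fun k =>
        h2 ((F.inj μ ν hμ hν).1 (Subtype.ext k))) hz F' hθ (by omega) k6 hb (by omega) ?_
      rw [B.nu_prod X₁ X₃ h1 hs ht (by rw [h4]), if_pos h4.symm, show #Y = e + 1 by omega]
      push_cast
      ring
    · have := Nat.mul_le_mul_left (∑ ψ ∈ Y', b ψ) k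
      omega
  · rcases r with _ | _ | n
    · have := charDegree_pos θ
      omega
    · omega
    refine arith1 (n := n + 1) (ε := 0) (h5 ▸ h6) he3 (by omega)
      (B.lower X₁ X₃ h1 hs F' B.hq hz hb B.hM (by omega) (fun η hη => by
        rw [F'.degree_eq hη hθ]; zify at h1 h7 ⊢; linear_combination h7 - h1) (by omega)
        (by zify at h1 ⊢; linear_combination h1) (.inl rfl)) ?_
    obtain k5 | ⟨k5, -⟩ := h10
    · omega
    · have := Nat.mul_le_mul_left (∑ ψ ∈ Y', b ψ) (show 2 ≤ n + 1 + 1 by omega)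
      omega

end Big

theorem thmB [hp : Fact p.Prime] (hx : orderOf x = p) (hi : ¬ p ∣ (zpowers x).index)
    (hn : ¬ (zpowers x).Normal) (h10 : 10 < p) {χ : G → ℂ} (hχ : IsIrrCharacter G χ)
    (hf : ∀ g, χ g = χ 1 → g = 1) {t : ℕ} (ht : t * aq x = p - 1) :
    ((∃ (F : Type) (_ : Field F) (_ : Fintype F), Fintype.card F = p ∧
      Nonempty (G ⧸ center G ≃* PSL(2, F))) ∧
      (2 * charDegree χ = p + 1 ∨ 2 * charDegree χ = p - 1) ∧ t = 2) ∨ p - 1 ≤ charDegree χ ∨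
      charDegree χ + aq x = p ∧ aq x + 3 ≤ t := by
  by_cases h2 : charDegree χ + 2 ≤ p
  · obtain ⟨h3, h4, h5⟩ | ⟨h, a, M, B, ζ, Y, f, F, hY⟩ := reduce hx hi hn h10 (χ := ⟨χ, hχ⟩) hf h2
    · exact .inl ⟨h3, h4, Nat.eq_of_mul_eq_mul_right (aq_pos x) (by omega)⟩
    · have h3 : charDegree χ + _ = _ := B.hd
      have := F.card
      exact .inr (.inr ⟨h3, Nat.eq_of_mul_eq_mul_right (aq_pos x) (show #Y * _ = t * _ by omega) ▸
        B.core2 h10 (by omega) F hY hf rfl⟩)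
  · omega

theorem real_bound {p t e d : ℕ} (h1 : d + e = p) (h2 : e + 3 ≤ t) (h3 : t * e + 1 = p)
    (h4 : 0 < e) : (p : ℝ) + 3 / 2 - √((p : ℝ) + 5 / 4) ≤ d ∧ (p : ℤ) ≤ (t : ℤ) ^ 2 - 3 * t + 1 := by
  obtain ⟨s, rfl⟩ := Nat.exists_eq_add_of_le h2
  refine ⟨?_, by rw [← h3]; push_cast; nlinarith [Nat.zero_le (s * s), Nat.zero_le (s * e)]⟩
  have : (e : ℝ) + 3 / 2 ≤ √((p : ℝ) + 5 / 4) := Real.le_sqrt_of_sq_le (by
    rw [← h3]; push_cast; nlinarith [mul_nonneg (Nat.cast_nonneg (α := ℝ) s) (Nat.cast_nonneg e)])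
  have h5 : (d : ℝ) + e = p := by exact_mod_cast h1
  linarith

end H21.DL
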