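import Cfsg.Agent.H21.DL7

/-! Characters of degree `p - e` and the multiplicities of constituents of their products. -/

open Cfsg MonoidAlgebra
open H5 H7 H8
namespace H21.DL
open Module Finset Subgroup Representation
open scoped ComplexConjugate

variable {G : Type*} [Group G] [Finite G] {p : ℕ} {x h : G} {a e d : ℕ} {M : Ideal AlgInt}
  {ι κ : Type*} [Fintype ι] [DecidableEq ι] [Fintype κ] [DecidableEq κ]
local notation "𝐍" x:max => normalizer (SetLike.coe (zpowers x))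

theorem exists_j (hM : IsPModular p M) (hx : orderOf x = p) (hi : ¬ p ∣ (zpowers x).index)
    (hn : ¬ (zpowers x).Normal) (A : Lat G ι M) (hf : ∀ g, A.c g = 1 → g = 1) (W : Wed G M) :
    ∃ j, Kil W (RingHom.ker A.k.asAlgebraHom) j ∧ ws W j x ≠ 1 := by
  by_contra! H
  have := Fact.mk hM.1
  have := charP_kk hM
  let K : Subgroup G := ⨅ j : {j // Kil W (RingHom.ker A.k.asAlgebraHom) j}, MonoidHom.ker (ws W j.1)
  have hK : K.Normal := normal_iInf_normal fun _ => inferInstance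
  obtain ⟨r, hr, h1, h2⟩ : ∃ r, r.Prime ∧ r ∣ Nat.card K ∧ r ≠ p := by
    by_contra! H'
    have := ((isPGroup_zpowers_of_orderOf hx).toSylow hi).is_maximal'
      (IsPGroup.of_card (Nat.eq_prime_pow_of_unique_prime_dvd Nat.card_pos.ne' (H' _ · ·)))
      (zpowers_le.2 (mem_iInf.2 fun j => H j.1 j.2))
    exact hn ((show K = zpowers x from this) ▸ hK)
  have := Fact.mk hr
  obtain ⟨g, hg⟩ := exists_prime_orderOf_dvd_card' r h1
  rw [← Subgroup.orderOf_coe] at hg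
  have h3 : ¬ p ∣ r := fun H => h2 ((Nat.prime_dvd_prime_iff_eq hM.1 hr).1 H).symm
  obtain ⟨h4, h5⟩ := prA_mem (M := M) (h := g.1) (map_one _) ((val_natCast_eq_one_iff hM r).2 h3)
  obtain ⟨b, h6, h7⟩ := exists_mem_kil (W := W) (I := RingHom.ker A.k.asAlgebraHom)
    (b := redG M (1 - prA g.1 1 r)) fun j hj => LinearMap.ext fun v => by
      rw [redG_sub (one_mem _) h4, h5, map_sub, alg_prA, redG_one, map_one, LinearMap.sub_apply,
        red_one, pr_apply one_ne_zero (mt (CharP.cast_eq_zero_iff _ p r).1 h3)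
          (by rw [show ws W j g = 1 from mem_iInf.1 g.2 ⟨j, hj⟩]; simp)]
      simp
  have h8 := (nil_of_wa h7).map A.k.asAlgebraHom
  rw [map_sub, show A.k.asAlgebraHom b = 0 from h6, sub_zero] at h8
  refine ne_one_of_orderOf_prime hr hg (hf _ (LinearMap.ext fun w => (sub_eq_zero.1
    (A.eq_zero_of_nil (sub_mem (one_mem _) h4) h8 ?_)).symm))
  rw [map_sub A.c.asAlgebraHom, map_one, alg_prA, LinearMap.sub_apply, map_sub (pr _ _ _),
    ← End.mul_apply (pr _ _ _) (A.c g), ← (commute_pr (Commute.refl _)).eq, mul_pr one_ne_zero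
      (by rw [← map_pow, ← hg, pow_orderOf_eq_one]; simp)]
  simp

theorem Lat.faithful (A : Lat G ι M) (hf : ∀ g, A.c.character g = A.c.character 1 → g = 1) (g : G)
    (H : A.c g = 1) : g = 1 := hf g (by simp [character, H])

omit [Finite G] in
theorem Lat.k_pow (A : Lat G ι M) {c : ℂ} (k1 : val M c = 1) (k2 : A.c h ^ e = c ^ e • 1) :
    A.k h ^ e = red M c ^ e • 1 := by
  rw [← map_pow, A.k_eq_smul (pow_mem (mem_V_iff.2 k1.le) e) (by rw [map_pow, k2]),
    red_pow (mem_V_iff.2 k1.le)]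

variable (M x h e d) in
/-- data for a character of degree `d = p - e` with uniserial reduction -/
structure XC (η : G → ℂ) (c : ℂ) : Prop where
  norm : ‖c‖ = 1
  val : val M c = 1
  one : η 1 = d
  hl : ∀ l, 0 < l → l < e → η (h ^ l) = c ^ l
  he : η (h ^ e) = c ^ e * η 1
  lat : ∃ A : Lat G (Fin d) M, A.c.character = η ∧ Uni (A.k x - 1) d ∧
    ∃ s, s ≠ 0 ∧ A.k x s = s ∧ A.k h s = red M c • s

namespace St
variable (S : St p x h a e) (hM : IsPModular p M)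
include S hM

theorem uni (hn : ¬ (zpowers x).Normal) (hN : NoSm (kk M) p x) (A : Lat G (Fin d) M)
    (hf : ∀ g, A.c g = 1 → g = 1) (hd : d + e = p) (he : 2 * e < p) : Uni (A.k x - 1) d := by
  have := Fact.mk hM.1
  have := charP_kk hM
  obtain ⟨W⟩ := exists_wed G M
  obtain ⟨j, h1, h2⟩ := exists_j hM S.ord S.index hn A hf W
  refine ⟨by simp, by simpa using pow_finrank (S.nil A.k), fun H => h2 (hN _ (ws W j) e
    (S.si (ws_scalar j) (n := d - 1) ?_ (by omega)) he)⟩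
  have := h1 ((single x 1 - 1) ^ (d - 1)) (by simpa [RingHom.mem_ker] using H)
  rwa [map_pow, map_sub, map_one, asAlgebraHom_single_one] at this

theorem two' (hn : ¬ (zpowers x).Normal) {η : G → ℂ} (hη : IsIrrCharacter G η)
    (hf : ∀ g, η g = η 1 → g = 1) (hd : charDegree η = e + 1) (he : 2 * e + 1 = p) (hp : 10 < p) :
    ¬ NoSm (kk M) p x := fun hN => by
  have := Fact.mk hM.1
  have := charP_kk hM
  obtain ⟨W⟩ := exists_wed G M
  obtain ⟨A, rfl⟩ := exists_lat (M := M) hη.isCharacter hd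
  obtain ⟨j, h1, h2⟩ := exists_j hM S.ord S.index hn A (A.faithful hf) W
  have h3 := h1.d_ne (χ := ⟨_, hη⟩) fun a ha k1 k2 => A.alg_eq_zero ha
    (LinearMap.IsIdempotentElem.eq_zero_of_trace_eq_zero (k1.map _) ((ev_char A.c a).symm.trans k2))
  have h4 : W.n j ≤ e + 1 := by
    rw [← hd, W.degree_eq hM ⟨_, hη⟩]
    exact (Nat.le_mul_of_pos_left _ (Nat.pos_of_ne_zero h3)).trans
      (single_le_sum (f := fun j => W.d _ j * W.n j) (fun _ _ => Nat.zero_le _) (mem_univ _))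
  have h5 : (ws W j x - 1) ^ e ≠ 0 := fun H => h2 (hN _ (ws W j) e H (by omega))
  have h6 := pow_finrank (S.nil (ws W j))
  rw [finrank_fintype_fun_eq_card, Fintype.card_fin] at h6
  have h7 : W.n j = e + 1 := le_antisymm h4 (not_le.1 fun H => h5 (pow_eq_zero_of_le H h6))
  exact S.two he hp (ws_irr j) ⟨by simpa using h7, h7 ▸ h6, h5⟩ hN

theorem exists_xc (hn : ¬ (zpowers x).Normal) (hN : NoSm (kk M) p x) {η : G → ℂ}
    (hη : IsIrrCharacter G η) (hf : ∀ g, η g = η 1 → g = 1) (hd : charDegree η = d)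
    (hd' : d + e = p) (he : 2 * e < p) (hs : sP x η = p) : ∃ c, XC x h e d M η c := by
  obtain ⟨A, hA⟩ := exists_lat (M := M) hη.isCharacter hd
  have hp : (p : ℂ) ≠ 0 := Nat.cast_ne_zero.2 S.prime.ne_zero
  have h1 : LinearMap.IsProj (End.eigenspace (A.c x) 1) ((p : ℂ)⁻¹ • np x A.c) :=
    ⟨fun v => Submodule.smul_mem _ _ (End.mem_eigenspace_iff.2 (by rw [x_np, one_smul])),
      fun v hv => by
        rw [LinearMap.smul_apply, np_fix (by simpa using End.mem_eigenspace_iff.1 hv), S.ord,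
          inv_smul_smul₀ hp]⟩
  have h2 : ∀ g, LinearMap.trace ℂ _ ((p : ℂ)⁻¹ • np x A.c * A.c g) =
      (p : ℂ)⁻¹ * ∑ u : zpowers x, η (u * g) := fun g => by
    simp [np, sum_mul, ← hA, character]
  have h3 := h1.trace
  have h4 := h2 1
  rw [map_one, mul_one, h3, show ∑ u : zpowers x, η (u * 1) = p by simpa [sP] using hs,
    inv_mul_cancel₀ hp, Nat.cast_eq_one] at h4
  obtain ⟨v, hv, h0⟩ := Submodule.exists_mem_ne_zero_of_ne_bot (p := End.eigenspace (A.c x) 1)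
    (by rintro H; rw [H] at h4; simp at h4)
  obtain ⟨γ, -, k1, i, k2⟩ := exists_prim (M := M) h0
  have k3 := Submodule.smul_mem _ γ hv
  generalize γ • v = s at k1 k2 k3
  have k4 : s ≠ 0 := fun H => by simp [H] at k2
  have k5 : ∀ w ∈ End.eigenspace (A.c x) 1, ∃ c : ℂ, c • s = w := fun w hw => by
    simpa using (finrank_eq_one_iff_of_nonzero' (⟨s, k3⟩ : End.eigenspace (A.c x) 1)
      (by simpa using k4)).1 h4 ⟨w, hw⟩
  have k6 : Commute (A.c h) ((p : ℂ)⁻¹ • np x A.c) := (commute_np _ S.h_mem).smul_right _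
  obtain ⟨c, hc⟩ := k5 (A.c h s) (by
    rw [← h1.map_id s k3, ← End.mul_apply, k6.eq]; exact h1.map_mem _)
  have k7 : ∀ l : ℕ, A.c (h ^ l) s = c ^ l • s := fun l => by
    induction l with
    | zero => simp
    | succ l ih => rw [pow_succ, map_mul, End.mul_apply, ← hc, map_smul, ih, smul_smul, pow_succ']
  have k8 : c ^ orderOf h = 1 := smul_left_injective ℂ k4 (by simp [← k7])
  have k9 := (orderOf_pos h).ne'
  have k10 : val M c = 1 := (pow_eq_one_iff_of_nonneg zero_le' k9).1 (by rw [← map_pow, k8, map_one])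
  refine ⟨c, Complex.norm_eq_one_of_pow_eq_one k8 k9, k10, hd ▸ char_apply_one hη.isCharacter,
    fun l k11 k12 => ?_, ?_, A, hA, S.uni hM hn hN A (A.faithful (hA ▸ hf)) hd' he, rv M s,
    fun H => by simpa [rv, k2] using congrFun H i, ?_, ?_⟩
  · have := h2 (h ^ l)
    rw [show (p : ℂ)⁻¹ • np x A.c * A.c (h ^ l) = c ^ l • (p : ℂ)⁻¹ • np x A.c from
      LinearMap.ext fun w => by
        obtain ⟨γ, hγ⟩ := k5 _ (h1.map_mem w)
        rw [map_pow, ← (k6.pow_left l).eq, End.mul_apply, LinearMap.smul_apply (c ^ l), ← hγ,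
          map_smul, ← map_pow, k7, smul_comm], map_smul, h3, h4] at this
    simp only [← hη.isClassFunction.eq_of_isConj (S.isConj k11 k12 _)] at this
    simpa [← Nat.card_eq_fintype_card, S.ord, hp] using this.symm
  · obtain ⟨ω, hω⟩ := (norm_char_eq_finrank_iff A.c (h ^ e)).1 (by
      rw [hA, hη.isCharacter.mem_charCenter_iff.1 (hη.center_le_charCenter S.hz), ← hA]; simp)
    have := k7 e
    rw [hω] at this
    rw [← smul_left_injective ℂ k4 this, ← hA, character, hω]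
    simp
  · rw [← Lat.rv_c x k1, End.mem_eigenspace_iff.1 k3, one_smul]
  · rw [← Lat.rv_c h k1, ← hc, rv_smul (mem_V_iff.2 k10.le) k1]

theorem mi3 (A₁ A₂ : Lat G ι M) (B : Lat G κ M) {c₁ c₂ : ℂ} (v1 : val M c₁ = 1) (v2 : val M c₂ = 1)
    (a2 : Uni (A₁.k x - 1) d) (b2 : Uni (A₂.k x - 1) d) {s₁ s₂ : ι → kk M} (a3 : s₁ ≠ 0)
    (a4 : A₁.k x s₁ = s₁) (a5 : A₁.k h s₁ = red M c₁ • s₁) (b3 : s₂ ≠ 0)
    (b4 : A₂.k x s₂ = s₂) (b5 : A₂.k h s₂ = red M c₂ • s₂) (hd : d + e = p) (he : e ≤ d)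
    (e1 : (A₂.hom B).c h ^ e = c₁ ^ e • 1) (e2 : A₁.c h ^ e = c₁ ^ e • 1)
    (e3 : ∀ z ∈ center G, ((A₂.hom B).hom A₁).c z = 1) {n ρ : ℕ}
    (h1 : Fintype.card κ = n * p + ρ) (h2 : ρ < p) {ε : ℕ}
    (hε : ε = 0 ∨ ε = 1 ∧ 2 ≤ e ∧ Uni (B.k x - 1) d ∧
      ∃ s, s ≠ 0 ∧ B.k x s = s ∧ B.k h s = red M (c₁ * c₂) • s) :
    n * d + min ρ ((ρ + d + 1 - e) / 2) + ε + finrank ℂ (End.eigenspace
      (((A₂.hom B).hom A₁).c x) 1 ⊓ End.eigenspace (((A₂.hom B).hom A₁).c h) 1 :) ≤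
      finrank ℂ ((A₂.hom B).hom A₁).c.invariants + finrank ℂ (End.eigenspace ((A₂.hom B).c h) c₁) := by
  have := Fact.mk hM.1
  have := charP_kk hM
  have r1 := red_ne_zero_iff.2 v1
  have i1 := S.ki hM _ e3
  have i2 := S.mi1 (τ := (A₂.hom B).k) a2 hd a3 a4 a5 r1 (A₁.k_pow v1 e2) (Lat.k_pow _ v1 e1)
  have i3 := S.eig_le hM _ v1 e1
  have i4 := S.mi2 (ε := ε) (vl _ _ _) (A₂.vl_k B) b2 hd he r1 (Lat.k_pow _ v1 e1)
    (by simpa using h1) h2 (hε.imp_right fun ⟨k1, k2, k3, s, k4, k5, k6⟩ => ⟨k1, k2,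
      S.exists_iso b2 k3 b3 b4 b5 k4 k5 (by
        rw [k6, red_mul (mem_V_iff.2 v1.le) (mem_V_iff.2 v2.le)]) r1
        (red_ne_zero_iff.2 v2) (LinearMap.ext fun φ => by
          obtain ⟨w, rfl⟩ := (vl _ _ _).surjective φ
          rw [← map_pow, ← A₂.vl_k B, map_pow, Lat.k_pow _ v1 e1]; simp)⟩)
  rw [finrank_map_equiv (vl _ _ _) (B := LinearMap.range (np x (linHom (A₂.hom B).k A₁.k)) ⊓
    End.eigenspace (linHom (A₂.hom B).k A₁.k h) 1) fun v => by
      have k1 : ∀ w, vl _ _ _ (np x ((A₂.hom B).hom A₁).k w) =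
          np x (linHom (A₂.hom B).k A₁.k) (vl _ _ _ w) := fun w => by
        simp only [np_apply, map_sum, Lat.vl_k]
      simp only [Submodule.mem_inf, End.mem_eigenspace_iff, one_smul, ← Lat.vl_k,
        EmbeddingLike.apply_eq_iff_eq, LinearMap.mem_range, (vl _ _ _).surjective.exists, ← k1]] at i1
  omega

theorem mi [Fintype G] {η₁ η₂ : G → ℂ} {c₁ c₂ : ℂ} (X₁ : XC x h e d M η₁ c₁)
    (X₂ : XC x h e d M η₂ c₂) (B : Lat G κ M) {ψ : G → ℂ} (hB : B.c.character = ψ)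
    (hd : d + e = p) (he : e ≤ d)
    (hz : ∀ z ∈ center G, η₁ z * η₂ z * conj (ψ z) = η₁ 1 * η₂ 1 * conj (ψ 1)) {n ρ : ℕ}
    (h1 : Fintype.card κ = n * p + ρ) (h2 : ρ < p) {ε : ℕ}
    (hε : ε = 0 ∨ ε = 1 ∧ 2 ≤ e ∧ Uni (B.k x - 1) d ∧
      ∃ s, s ≠ 0 ∧ B.k x s = s ∧ B.k h s = red M (c₁ * c₂) • s) :
    ∃ (b : ℕ) (q : ℤ), classInner (η₁ * η₂) ψ = b ∧
      p * d * ψ 1 - sP x (fun g => η₁ g * η₂ g * conj (ψ g)) = p * e * q ∧
      (n * d + min ρ ((ρ + d + 1 - e) / 2) + ε : ℕ) ≤ b + q := by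
  have := Fact.mk hM.1
  have := charP_kk hM
  obtain ⟨A₁, a1, a2, s₁, a3, a4, a5⟩ := X₁.lat
  obtain ⟨A₂, b1, b2, s₂, b3, b4, b5⟩ := X₂.lat
  have hY : ∀ g, (A₂.hom B).c.character g = conj (η₂ g) * ψ g := fun g => by
    rw [Lat.hom_char, b1, hB]
  have hX : ((A₂.hom B).hom A₁).c.character = fun g => η₁ g * η₂ g * conj (ψ g) := funext fun g => by
    rw [Lat.hom_char, hY, a1, map_mul, Complex.conj_conj]; ring
  have d0 : (d : ℂ) ≠ 0 := Nat.cast_ne_zero.2 a2.pos.ne'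
  have n1 := Complex.mul_conj c₁
  have n2 := Complex.mul_conj c₂
  simp only [Complex.normSq_eq_norm_sq, X₁.norm, X₂.norm, one_pow, Complex.ofReal_one] at n1 n2
  have c1 := left_ne_zero_of_mul_eq_one n1
  have hψ : ψ (h ^ e) = (c₁ * c₂) ^ e * ψ 1 := by
    have := congrArg conj (hz _ S.hz)
    simp only [X₁.he, X₂.he, X₁.one, X₂.one, map_mul, map_pow, Complex.conj_conj, map_natCast] at this
    refine mul_left_cancel₀ (mul_ne_zero d0 d0) ?_
    have k1 : (c₁ * conj c₁) ^ e * (c₂ * conj c₂) ^ e = 1 := by rw [n1, n2]; simp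
    linear_combination (c₁ * c₂) ^ e * this - d * d * ψ (h ^ e) * k1
  have e1 : (A₂.hom B).c h ^ e = c₁ ^ e • 1 := by
    rw [← map_pow]
    refine scal _ (by simp [X₁.norm]) ?_
    have k1 : (c₂ * conj c₂) ^ e = 1 := by rw [n2, one_pow]
    simp only [hY, X₂.he, hψ, map_mul, map_pow]
    linear_combination c₁ ^ e * conj (η₂ 1) * ψ 1 * k1
  have e2 : A₁.c h ^ e = c₁ ^ e • 1 := by
    rw [← map_pow]; exact scal _ (by simp [X₁.norm]) (a1 ▸ X₁.he)
  have e3 : ∀ z ∈ center G, ((A₂.hom B).hom A₁).c z = 1 := fun z H => by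
    rw [scal _ norm_one (by rw [hX, one_mul]; exact hz z H), one_smul]
  have i1 := S.mi3 hM A₁ A₂ B X₁.val X₂.val a2 b2 a3 a4 a5 b3 b4 b5 hd he e1 e2 e3 h1 h2 hε
  refine ⟨finrank ℂ ((A₂.hom B).hom A₁).c.invariants,
    finrank ℂ (End.eigenspace ((A₂.hom B).c h) c₁) - finrank ℂ (End.eigenspace
      (((A₂.hom B).hom A₁).c x) 1 ⊓ End.eigenspace (((A₂.hom B).hom A₁).c h) 1 :), ?_, ?_, by omega⟩
  · rw [← classInner_character_one, hX, classInner_eq_mul_conj_one]; rfl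
  · have k1 := S.nu_rank ((A₂.hom B).hom A₁).c one_ne_zero (by rw [← map_pow, e3 _ S.hz]; simp)
    have k2 := congrArg conj (eig_rank _ c1 S.pos.ne' e1)
    rw [S.nu_eq (isCharacter_character _).isClassFunction, hX] at k1
    conv at k2 => lhs; rw [← Nat.sub_add_cancel S.pos, sum_range_succ', map_add, map_sum]
    rw [sum_congr rfl (g := fun l => 1⁻¹ ^ (l + 1) * (η₁ (h ^ (l + 1)) * η₂ (h ^ (l + 1)) *
      conj (ψ (h ^ (l + 1))))) fun l hl => by
        rw [hY, X₁.hl _ l.succ_pos (by simp at hl; omega), ← eq_inv_of_mul_eq_one_right n1]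
        simp [mul_assoc]] at k2
    have k3 : conj (ψ 1) = ψ 1 := by rw [← hB]; simp
    simp only [hY, pow_zero, one_mul, map_mul, Complex.conj_conj, X₂.one, k3, map_natCast] at k2
    push_cast
    linear_combination p * k2 - k1

end St

end H21.DL
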