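import Cfsg.Agent.H21.DL8

/-! Families of exceptional characters, and bounds for the constituents of products. -/

open Cfsg MonoidAlgebra
open H5 H7 H8
namespace H21.DL
open Module Finset Subgroup Representation
open scoped ComplexConjugate

section Orb
variable {A : Type*} [Group A] [Fintype A] {E : Subgroup (MulAut A)} {μ ν : A →* ℂˣ}

theorem sum_orb_conj (h : ¬ CRel E μ ν) : ∑ u, orbSum E μ u * conj (orbSum E ν u) = 0 := by
  classical
  simp only [orbSum_eq_sum, map_sum, sum_mul_sum]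
  rw [sum_comm]
  refine sum_eq_zero fun α hα => ?_
  rw [sum_comm]
  refine sum_eq_zero fun β hβ => (sum_unitsHom_mul_conj α β).trans (if_neg ?_)
  rintro rfl
  exact h ((mem_filter.1 hα).2.trans (mem_filter.1 hβ).2.symm)

theorem conj_orb [IsMulCommutative A] (hE : FreeAut E) (hμ : μ ≠ 1) (u : A) :
    conj (orbSum E μ u) = orbSum E μ⁻¹ u := by
  have := Fintype.ofFinite E
  rw [hE.orbSum_eq hμ, hE.orbSum_eq (inv_ne_one.2 hμ), map_sum]
  exact sum_congr rfl fun φ _ => by rw [conj_unitsHom, map_inv, MonoidHom.inv_apply]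

end Orb

variable {G : Type*} [Group G] [Finite G] {p : ℕ} {x h : G} {a e d : ℕ} {M : Ideal AlgInt}
local notation "𝐍" x:max => normalizer (SetLike.coe (zpowers x))
local notation "𝐂" x:max => centralizer ({x} : Set _)

/-- a family of exceptional characters, when `C(x) = ⟨x⟩ × Z(G)` -/
structure EF (p : ℕ) (x : G) (δ : ℤ) (ζ : (zpowers x →* ℂˣ) → IrrCharacter G)
    (Y : Finset (IrrCharacter G)) (f : center G → ℂ) : Prop where
  prime : p.Prime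
  ord : orderOf x = p
  sign : δ = 1 ∨ δ = -1
  mem : ∀ χ, χ ∈ Y ↔ ∃ μ, μ ≠ 1 ∧ ζ μ = χ
  card : #Y * aq x + 1 = p
  inj : ∀ μ ν, μ ≠ 1 → ν ≠ 1 → (ζ μ = ζ ν ↔ CRel (aE x) μ ν)
  exc : ∀ μ, μ ≠ 1 → ∀ u : zpowers x, u ≠ 1 → (ζ μ).1 u = δ * orbSum (aE x) μ u
  reg : ∀ η ∈ Y, ∀ η' ∈ Y, ∀ g, ¬ p ∣ orderOf g → η.1 g = η'.1 g
  cen : ∀ η ∈ Y, ∀ z : center G, η.1 z = f z * η.1 1
  van : ∀ χ ∉ Y, (∀ z : center G, χ.1 z = f z * χ.1 1) →
    ∃ c, ∀ u : zpowers x, u ≠ 1 → χ.1 u = c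

theorem EF.of_data [Fact p.Prime] (hM : IsPModular p M) (hx : orderOf x = p) {H : Subgroup G}
    {D : UC p (zpowers x) (center G) H} [Fintype (center G)] [DecidableEq (IrrCharacter G)]
    {θ : IrrCharacter (center G)} {B : Set (IrrCharacter G)} {δ : ℤ}
    {ζ : (zpowers x →* ℂˣ) → IrrCharacter G} {a : IrrCharacter G → ℤ}
    {Y : Finset (IrrCharacter G)} (h : D1Data M D θ B δ ζ a Y) : EF p x δ ζ Y θ.1 := by
  have hq : D.iq θ.1 = aE x := by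
    rw [UC.iq, show D.stab θ.1 = ⊤ from top_unique fun n _ y => congrArg θ.1 (Subtype.ext (by
      rw [D.coe_cv, mem_center_iff.1 y.2, mul_inv_cancel_right])), ← MonoidHom.range_eq_map]
  have h1 : ∀ (χ : IrrCharacter G) u,
      col θ.1 χ.1 u = χ.1 u / χ.1 1 * classInner (fun y : center G => χ.1 y) θ.1 := fun χ u => by
    rw [col_def, classInner_def, mul_left_comm, mul_sum _ _ (_ / _)]
    congr 1
    refine sum_congr rfl fun y _ => ?_
    rw [mem_center_iff.1 y.2, χ.2.apply_mul_of_mem_charCenter (χ.2.center_le_charCenter y.2)]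
    ring
  have h2 : ∀ χ : IrrCharacter G, (∀ z : center G, χ.1 z = θ.1 z * χ.1 1) →
      ∀ u, col θ.1 χ.1 u = χ.1 u := fun χ H u => by
    rw [h1, show (fun y : center G => χ.1 y) = χ.1 1 • θ.1 from funext fun y => by
      simp [H, mul_comm], classInner_smul_left, θ.2.classInner_self, mul_one,
      div_mul_cancel₀ _ χ.2.apply_one_ne_zero]
  have h3 : ∀ χ ∈ Y, ∀ z : center G, χ.1 z = θ.1 z * χ.1 1 := fun χ hχ z => by
    have : Nontrivial (zpowers x) :=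
      Finite.one_lt_card_iff_nontrivial.1 (h.cardP ▸ (Fact.out : p.Prime).one_lt)
    obtain ⟨u, -, hu⟩ := h.root.exists_col_ne_zero hM (h.mem_B_of_Y hχ)
    obtain ⟨f, hf⟩ := χ.2.exists_centerHom _ χ.2.center_le_charCenter
    rw [h1, show (fun y : center G => χ.1 y) = χ.1 1 • fun y => (f y : ℂ) from funext fun y => by
      simpa [mul_comm] using hf y 1, classInner_smul_left] at hu
    rw [← (isIrrCharacter_unitsHom f).eq_of_classInner_ne_zero θ.2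
      (right_ne_zero_of_mul (right_ne_zero_of_mul hu))]
    simpa using hf z 1
  refine ⟨Fact.out, hx, h.sign, h.mem, by rw [← card_aE, ← hq, h.card_Y], hq ▸ h.inj,
    fun μ hμ u hu => ?_, fun η k1 η' k2 g hg => h.exc_eq_reg k1 k2 hg, h3,
    fun χ k1 k2 => ⟨a χ, fun u hu => h2 χ k2 u ▸ h.nonexc χ k1 u hu⟩⟩
  simpa [hq, h2 _ (h3 _ (h.mem_Y hμ))] using h.exc μ hμ u hu

namespace EF
variable {δ : ℤ} {ζ : (zpowers x →* ℂˣ) → IrrCharacter G} {Y : Finset (IrrCharacter G)}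
  {f : center G → ℂ} (F : EF p x δ ζ Y f) {η η' : IrrCharacter G} {μ ν : zpowers x →* ℂˣ}
include F

theorem free : FreeAut (aE x) := free_aE F.prime F.ord

theorem orb_one (hμ : μ ≠ 1) : orbSum (aE x) μ 1 = aq x := by rw [F.free.orbSum_one hμ, card_aE]

theorem mem_Y (hμ : μ ≠ 1) : ζ μ ∈ Y := (F.mem _).2 ⟨μ, hμ, rfl⟩

theorem one_eq (h1 : η ∈ Y) (h2 : η' ∈ Y) : η.1 1 = η'.1 1 :=
  F.reg η h1 η' h2 1 (by simpa using F.prime.ne_one)

theorem degree_eq (h1 : η ∈ Y) (h2 : η' ∈ Y) : charDegree η.1 = charDegree η'.1 := by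
  have := F.one_eq h1 h2
  rw [irr_apply_one, irr_apply_one] at this
  exact_mod_cast this

theorem sP_exc (hη : η ∈ Y) : sP x η.1 = charDegree η.1 - δ * aq x := by
  obtain ⟨μ, hμ, rfl⟩ := (F.mem η).1 hη
  rw [sP_congr (F.exc μ hμ), ← mul_sum, F.free.sum_orbSum hμ, F.orb_one hμ, irr_apply_one]
  ring

theorem exists_exc (hη : η ∈ Y) : ∃ r : ℕ, (charDegree η.1 : ℤ) = p * r + δ * aq x ∧
    sP x η.1 = p * r := by
  obtain ⟨r, hr⟩ := exists_sP_nat η.2.isCharacter F.ord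
  have h2 : (charDegree η.1 : ℤ) - δ * aq x = p * r := by exact_mod_cast (F.sP_exc hη).symm.trans hr
  exact ⟨r, by linear_combination h2, hr⟩

theorem sum_Y {u : zpowers x} (hu : u ≠ 1) : ∑ η ∈ Y, η.1 u = - δ := by
  classical
  have := Fintype.ofFinite (COrb (aE x))
  have h1 := sum_orbSum_out (E := aE x) hu
  rw [← mul_neg_one, ← h1, mul_sum]
  symm
  refine sum_bij (fun l _ => ζ l.out.1) (fun l _ => F.mem_Y l.out.2)
    (fun l _ l' _ e => ?_) (fun η hη => ?_) fun l _ => (F.exc _ l.out.2 u hu).symm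
  · exact Quotient.out_equiv_out.1 ((F.inj _ _ l.out.2 l'.out.2).1 e)
  · obtain ⟨μ, hμ, rfl⟩ := (F.mem η).1 hη
    exact ⟨Quotient.mk (crelSetoid _) ⟨μ, hμ⟩, mem_univ _, (F.inj _ _
      (Quotient.mk (crelSetoid (aE x)) ⟨μ, hμ⟩).out.2 hμ).2
      (Quotient.exact (Quotient.out_eq (Quotient.mk (crelSetoid (aE x)) ⟨μ, hμ⟩)))⟩

theorem exists_not (he : aq x + 1 < p) (hμ : μ ≠ 1) : ∃ ν, ν ≠ 1 ∧ ¬ CRel (aE x) μ ν :=
  F.free.exists_not_crel (by rwa [card_aE, Nat.card_zpowers, F.ord]) hμ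

theorem not_const (he : aq x + 1 < p) (hη : η ∈ Y) {c : ℂ}
    (h : ∀ u : zpowers x, u ≠ 1 → η.1 u = c) : False := by
  obtain ⟨μ, hμ, rfl⟩ := (F.mem η).1 hη
  obtain ⟨ν, hν, h1⟩ := F.exists_not he hμ
  have h2 : ∀ α, α ≠ 1 → - c = - 0 + δ * fco (orbSum (aE x) μ) α := fun α hα => by
    rw [← fco_const c hα, ← fco_lin 0 δ _ hα]
    exact congrFun (fco_congr fun u hu => by rw [← h u hu, F.exc μ hμ u hu, zero_add]) α
  have h3 := (h2 μ hμ).symm.trans (h2 ν hν)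
  rw [fco_orbSum hμ, fco_orbSum hμ, if_pos (CRel.refl _ _), if_neg h1] at h3
  rcases F.sign with rfl | rfl <;> simp at h3

theorem ker_le (he : aq x + 1 < p) (hi : ¬ p ∣ (zpowers x).index)
    (hK : ∀ R : Subgroup G, R.Normal → ¬ p ∣ Nat.card R → R ≤ center G) (hη : η ∈ Y) :
    charKer η.1 ≤ center G :=
  have := η.2.charKer_normal
  hK _ this fun H => F.not_const he hη fun u _ => apply_eq_of_mem_charKer
    (zpowers_le.2 (mem_of_dvd_of_index F.prime F.ord hi H) u.2)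

theorem faithful (he : aq x + 1 < p) (hi : ¬ p ∣ (zpowers x).index)
    (hK : ∀ R : Subgroup G, R.Normal → ¬ p ∣ Nat.card R → R ≤ center G) (hη : η ∈ Y)
    (hη' : η' ∈ Y) (hf : ∀ g, η.1 g = η.1 1 → g = 1) (g : G) (hg : η'.1 g = η'.1 1) : g = 1 := by
  have h1 := F.ker_le he hi hK hη' (η'.2.mem_charKer_iff.2 hg)
  refine hf g ((F.cen η hη ⟨g, h1⟩).trans ?_)
  rw [F.one_eq hη hη', ← F.cen η' hη', hg]

theorem sP_conj (hμ : μ ≠ 1) (hν : ν ≠ 1) (h : ¬ CRel (aE x) μ ν) (hd : (ζ μ).1 1 = d) :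
    sP x ((ζ μ).1 * fun g => conj ((ζ ν).1 g)) = d ^ 2 - aq x ^ 2 := by
  rw [sP_congr (F := fun u => orbSum (aE x) μ u * conj (orbSum (aE x) ν u)) fun u hu => by
    rcases F.sign with rfl | rfl <;> simp [F.exc _ hμ u hu, F.exc _ hν u hu], sum_orb_conj h]
  simp [F.orb_one hμ, F.orb_one hν, ← F.one_eq (F.mem_Y hμ) (F.mem_Y hν), hd, sq, sub_eq_add_neg]

theorem sP_mul (hμ : μ ≠ 1) (hν : ν ≠ 1) (h : ¬ CRel (aE x) μ ν⁻¹) (hd : (ζ μ).1 1 = d) :
    sP x ((ζ μ).1 * (ζ ν).1) = d ^ 2 - aq x ^ 2 := by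
  rw [sP_congr (F := fun u => orbSum (aE x) μ u * conj (orbSum (aE x) ν⁻¹ u)) fun u hu => by
    rcases F.sign with rfl | rfl <;>
      simp [F.exc _ hμ u hu, F.exc _ hν u hu, conj_orb F.free (inv_ne_one.2 hν)], sum_orb_conj h]
  simp [F.orb_one hμ, F.orb_one (inv_ne_one.2 hν), ← F.one_eq (F.mem_Y hμ) (F.mem_Y hν), hd, sq,
    sub_eq_add_neg]

theorem mul_conj (hη : η ∈ Y) (z : center G) : f z * conj (f z) = 1 := by
  obtain ⟨f', hf⟩ := η.2.exists_centerHom _ η.2.center_le_charCenter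
  rw [show f z = f' z from mul_right_cancel₀ η.2.apply_one_ne_zero
    ((F.cen η hη z).symm.trans (by simpa using hf z 1))]
  rw [conj_unitsHom, map_inv, Units.mul_inv]

end EF

theorem XC.char {η : G → ℂ} {c : ℂ} (X : XC x h e d M η c) : IsCharacter G η := by
  obtain ⟨A, rfl, -⟩ := X.lat
  exact isCharacter_character _

theorem nu_sum {ι : Type*} (s : Finset ι) (b : ι → ℂ) (χ : ι → G → ℂ) (ω : ℂ) :
    nu x h e ω (∑ i ∈ s, b i • χ i) = ∑ i ∈ s, b i * nu x h e ω (χ i) := by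
  simp only [nu, Finset.sum_apply, Pi.smul_apply, smul_eq_mul, mul_sum]
  conv_rhs => rw [sum_comm]
  refine sum_congr rfl fun l _ => ?_
  rw [sum_comm]
  exact sum_congr rfl fun i _ => sum_congr rfl fun u _ => mul_left_comm _ _ _

namespace St
variable (S : St p x h a e)
include S

theorem reg_h (l : ℕ) : ¬ p ∣ orderOf (h ^ l) := fun H => by
  refine (S.prime.dvd_mul.1 (H.trans ((orderOf_pow_dvd l).trans
    (orderOf_dvd_of_pow_eq_one (n := e * Nat.card (center G)) ?_)))).elim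
      (fun H => absurd (Nat.le_of_dvd S.pos H) S.lt.not_ge) S.cop
  rw [pow_mul, ← orderOf_dvd_iff_pow_eq_one]
  exact orderOf_dvd_natCard _ S.hz

theorem nu_nat {χ : G → ℂ} (hχ : IsCharacter G χ) {ω c : ℂ} (hc : ‖c‖ = 1) (hω : ω ^ e = c ^ e)
    (H : χ (h ^ e) = c ^ e * χ 1) : ∃ v : ℕ, nu x h e ω χ = p * e * v := by
  obtain ⟨n, ρ, rfl⟩ := hχ
  refine ⟨_, S.nu_rank ρ (fun H => ?_) (by rw [← map_pow, hω]; exact scal _ (by simp [hc]) H)⟩
  rw [H, zero_pow S.pos.ne', eq_comm, pow_eq_zero_iff S.pos.ne'] at hω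
  simp [hω] at hc

theorem nu_cases {χ : G → ℂ} (hχ : IsCharacter G χ) (H : χ (h ^ e) = χ 1) {n : ℕ}
    (hs : sP x χ = p * n) : (∃ ω, ω ≠ 1 ∧ ω ^ e = 1 ∧ ∃ v : ℕ, 0 < v ∧ nu x h e ω χ = p * e * v) ∨
      nu x h e 1 χ = p * e * n := by
  refine or_iff_not_imp_left.2 fun k => ?_
  have h1 := Complex.isPrimitiveRoot_exp e S.pos.ne'
  generalize Complex.exp _ = α at h1
  have h2 : ∑ j ∈ range e, nu x h e (1 * α ^ (j + 1)) χ = e * sP x χ := by
    obtain ⟨n, ρ, rfl⟩ := hχ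
    simp only [nu_eq_ev _ _ S.pos.ne', ev_char, map_mul, alg_npA, alg_prA]
    rw [← mul_sum, ← map_sum, ← mul_sum, sum_pr h1 (Nat.cast_ne_zero.2 S.pos.ne')]
    simp [np, sP, character]
  conv_lhs at h2 => rw [← Nat.sub_add_cancel S.pos, sum_range_succ, Nat.sub_add_cancel S.pos]
  rw [h1.pow_eq_one, mul_one, sum_eq_zero fun j hj => ?_, zero_add, hs] at h2
  · rw [h2]; ring
  · have k1 : (1 * α ^ (j + 1)) ^ e = 1 := by rw [one_mul, pow_right_comm, h1.pow_eq_one, one_pow]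
    obtain ⟨v, hv⟩ := S.nu_nat hχ norm_one (k1.trans (one_pow e).symm) (by simpa using H)
    rcases v.eq_zero_or_pos with rfl | k2
    · simpa using hv
    · exact (k ⟨_, by
        simpa using h1.pow_ne_one_of_pos_of_lt j.succ_ne_zero (by simp at hj; omega), k1, v, k2, hv⟩).elim

theorem nu_xc {η : G → ℂ} {c : ℂ} (X : XC x h e d M η c) (hs : sP x η = p) :
    nu x h e c η = p * e * (1 : ℕ) := by
  have h0 : c ≠ 0 := fun H => by simpa [H] using X.norm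
  rw [S.nu_eq X.char.isClassFunction, hs, sum_congr rfl (g := fun _ => 1) fun l hl => by
    rw [X.hl _ l.succ_pos (by simp at hl; omega), ← mul_pow, inv_mul_cancel₀ h0, one_pow]]
  simp [S.pos.ne', Nat.one_le_iff_ne_zero]
  ring

variable {δ : ℤ} {ζ : (zpowers x →* ℂˣ) → IrrCharacter G} {Y : Finset (IrrCharacter G)}
  {f : center G → ℂ}

theorem nu_Y (F : EF p x δ ζ Y f) {η η' : IrrCharacter G} (h1 : η ∈ Y) (h2 : η' ∈ Y) (ω : ℂ) :
    nu x h e ω η.1 = nu x h e ω η'.1 := by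
  simp only [S.nu_eq η.2.isClassFunction, S.nu_eq η'.2.isClassFunction, F.sP_exc h1, F.sP_exc h2,
    F.degree_eq h1 h2, F.reg η h1 η' h2 _ (S.reg_h _)]

variable {η₁ η₂ : G → ℂ} {c₁ c₂ : ℂ} (X₁ : XC x h e d M η₁ c₁) (X₂ : XC x h e d M η₂ c₂)
  (hd : d + e = p) (hs : sP x (η₁ * η₂) = d ^ 2 - e ^ 2)
include X₁ X₂ hd hs

open Classical in
theorem nu_prod {t : ℕ} (ht : t * e + 1 = p) {ω : ℂ} (hω : ω ^ e = (c₁ * c₂) ^ e) :
    nu x h e ω (η₁ * η₂) = p * e * (t - 2 + if ω = c₁ * c₂ then 1 else 0) := by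
  have h0 : ω ≠ 0 := fun H => by
    simpa [H, X₁.norm, X₂.norm, S.pos.ne'] using congrArg Norm.norm hω
  have h1 : ∑ l ∈ range e, (ω⁻¹ * (c₁ * c₂)) ^ l = e * if ω = c₁ * c₂ then 1 else 0 := by
    split_ifs with H
    · simp [← H, h0]
    · rw [geom_sum_eq (fun H' => H (by rwa [inv_mul_eq_one₀ h0] at H')), mul_pow, ← hω, ← mul_pow,
        inv_mul_cancel₀ h0]
      simp
  conv_lhs at h1 => rw [← Nat.sub_add_cancel S.pos, sum_range_succ']
  rw [S.nu_eq (X₁.char.mul X₂.char).isClassFunction, hs, sum_congr rfl fun l hl => by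
    rw [Pi.mul_apply, X₁.hl _ l.succ_pos (by simp at hl; omega),
      X₂.hl _ l.succ_pos (by simp at hl; omega), ← mul_pow, ← mul_pow]]
  have h2 : (d : ℂ) + e = p := by exact_mod_cast hd
  have h3 : (t : ℂ) * e + 1 = p := by exact_mod_cast ht
  linear_combination p * h1 + (d - e + p) * h2 - p * h3

variable [Fintype G] (F : EF p x δ ζ Y f) (hq : aq x = e)
  (hz : ∀ z : center G, η₁ z * η₂ z = f z * d ^ 2) {b : IrrCharacter G → ℕ}
  (hb : ∀ ψ, classInner (η₁ * η₂) ψ.1 = b ψ)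
include F hq hz hb

theorem lower (hM : IsPModular p M) (he : e ≤ d) {n ρ r ε : ℕ}
    (h1 : ∀ ψ ∈ Y, charDegree ψ.1 = n * p + ρ) (h2 : ρ < p) (hr : (n * p + ρ : ℤ) = p * r + δ * e)
    (hε : ε = 0 ∨ ε = 1 ∧ 2 ≤ e ∧ ∀ ψ ∈ Y, XC x h e d M ψ.1 (c₁ * c₂)) :
    (#Y * (n * d + min ρ ((ρ + d + 1 - e) / 2) + ε : ℕ) : ℤ) ≤
      (∑ ψ ∈ Y, b ψ : ℕ) + #Y * r * d + δ * e * (#Y - 1) := by
  have h3 : ∀ ψ ∈ Y, ψ.1 1 = p * r + δ * e := fun ψ hψ => by
    rw [irr_apply_one, h1 ψ hψ]; exact_mod_cast hr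
  have key : ∀ ψ ∈ Y, ∃ q : ℤ, p * d * ψ.1 1 - sP x (fun g => η₁ g * η₂ g * conj (ψ.1 g)) =
      p * e * q ∧ (n * d + min ρ ((ρ + d + 1 - e) / 2) + ε : ℕ) ≤ b ψ + q := fun ψ hψ => by
    obtain ⟨B, k1, k2⟩ : ∃ B : Lat G (Fin (n * p + ρ)) M, B.c.character = ψ.1 ∧ (ε = 0 ∨ ε = 1 ∧
        2 ≤ e ∧ Uni (B.k x - 1) d ∧ ∃ s, s ≠ 0 ∧ B.k x s = s ∧ B.k h s = red M (c₁ * c₂) • s) := by
      rcases hε with k | ⟨k1, k2, k3⟩
      · exact (exists_lat ψ.2.isCharacter (h1 ψ hψ)).imp fun B hB => ⟨hB, .inl k⟩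
      · rw [← h1 ψ hψ, show charDegree ψ.1 = d by
          exact_mod_cast (irr_apply_one ψ).symm.trans (k3 ψ hψ).one]
        exact (k3 ψ hψ).lat.imp fun B hB => ⟨hB.1, .inr ⟨k1, k2, hB.2⟩⟩
    obtain ⟨b', q, k3, k4, k5⟩ := S.mi hM X₁ X₂ B k1 hd he (fun z k => by
      have := F.mul_conj hψ ⟨z, k⟩
      rw [hz ⟨z, k⟩, F.cen ψ hψ ⟨z, k⟩, map_mul, X₁.one, X₂.one]
      linear_combination d ^ 2 * conj (ψ.1 1) * this) (Fintype.card_fin _) h2 k2
    exact ⟨q, k4, by rwa [Nat.cast_injective ((hb ψ).symm.trans k3)]⟩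
  choose! q k1 k2 using key
  have k3 := sum_congr rfl k1
  have k4 : ∑ ψ ∈ Y, sP x (fun g => η₁ g * η₂ g * conj (ψ.1 g)) =
      d ^ 2 * (#Y * (p * r + δ * e)) + δ * e ^ 2 := by
    rw [← one_mul (∑ ψ ∈ Y, _), mul_sum, ← sP_sum, sP_congr (F := fun u => - δ * (η₁ * η₂) u)
      fun u hu => by
        simp only [one_mul, ← mul_sum, ← map_sum, F.sum_Y hu]
        simp [mul_comm], ← mul_sum univ, show ∑ u : zpowers x, (η₁ * η₂) u = _ from hs,
      sum_congr rfl fun ψ hψ => by rw [h3 ψ hψ]]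
    simp [X₁.one, X₂.one]
    ring
  have h4 : (d : ℂ) + e = p := by exact_mod_cast hd
  have h5 : (#Y : ℂ) * e + 1 = p := by exact_mod_cast hq ▸ F.card
  rw [sum_sub_distrib, k4, sum_congr rfl fun ψ hψ => by rw [h3 ψ hψ], sum_const, ← mul_sum] at k3
  have k5 : ∑ ψ ∈ Y, q ψ = #Y * r * d + δ * e * (#Y - 1) := by
    refine Int.cast_injective (α := ℂ) (mul_left_cancel₀ (mul_ne_zero
      (Nat.cast_ne_zero.2 S.prime.ne_zero) (Nat.cast_ne_zero.2 S.pos.ne')) ?_)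
    push_cast
    rw [← k3, nsmul_eq_mul]
    linear_combination (- #Y * d * (p * r + δ * e) + δ * e ^ 2 * #Y) * h4 - δ * e ^ 2 * h5
  have := card_nsmul_le_sum Y _ _ k2
  rw [sum_add_distrib, k5, nsmul_eq_mul] at this
  push_cast at this ⊢
  linarith

open Classical in
theorem upper {ω : ℂ} (hω : ω ^ e = (c₁ * c₂) ^ e) {ψ : IrrCharacter G} (hψ : ψ ∈ Y) {v : ℕ}
    (hv : nu x h e ω ψ.1 = p * e * v) :
    (∑ ψ ∈ Y, b ψ) * v + 2 ≤ #Y + if ω = c₁ * c₂ then 1 else 0 := by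
  have h1 := (X₁.char.mul X₂.char).isClassFunction.eq_sum_irr
  simp only [hb] at h1
  have h2 : ∀ g, η₁ g * η₂ g = ∑ ψ ∈ Y, b ψ * ψ.1 g + (∑ ψ ∈ Yᶜ, (b ψ : ℂ) • ψ.1) g := fun g => by
    simpa [sum_add_sum_compl] using congrFun h1 g
  have h3 : f ⟨_, S.hz⟩ = (c₁ * c₂) ^ e := by
    have := hz ⟨_, S.hz⟩
    rw [X₁.he, X₂.he, X₁.one, X₂.one] at this
    refine mul_right_cancel₀ (pow_ne_zero 2 (Nat.cast_ne_zero.2 (show d ≠ 0 by
      have := S.lt; omega))) (by linear_combination - this)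
  obtain ⟨w, hw⟩ := S.nu_nat (isCharacter_sum Yᶜ (fun ψ => (b ψ : ℂ) • ψ.1) fun ψ _ =>
    ψ.2.isCharacter.natCast_smul _) (c := c₁ * c₂) (by simp [X₁.norm, X₂.norm]) hω (by
      have k1 := h2 (h ^ e)
      rw [sum_congr rfl fun ψ hψ => by rw [F.cen ψ hψ ⟨_, S.hz⟩, h3, mul_left_comm], ← mul_sum,
        X₁.he, X₂.he] at k1
      linear_combination (c₁ * c₂) ^ e * h2 1 - k1)
  have h4 := S.nu_prod X₁ X₂ hd hs (hq ▸ F.card) hω
  rw [h1, ← sum_add_sum_compl Y, show ∀ α β, nu x h e ω (α + β) = nu x h e ω α + nu x h e ω β from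
    fun α β => by simp [nu, mul_add, sum_add_distrib], hw, nu_sum,
    sum_congr rfl fun χ hχ => by rw [S.nu_Y F hχ hψ, hv], ← sum_mul] at h4
  have h5 : ((∑ ψ ∈ Y, b ψ) * v + w + 2 : ℕ) = #Y + if ω = c₁ * c₂ then 1 else 0 := by
    refine Nat.cast_injective (R := ℂ) (mul_left_cancel₀ (mul_ne_zero
      (Nat.cast_ne_zero.2 S.prime.ne_zero) (Nat.cast_ne_zero.2 S.pos.ne')) ?_)
    push_cast
    linear_combination h4
  omega

end St

end H21.DL
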