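/-
Faithful symplectic representations of degree four in characteristic two: 2-subgroups and involutions.
-/
import Cfsg.Agent.H21.Ev1

set_option autoImplicit false
set_option linter.unusedSectionVars false

namespace H21.Ev
open Matrix hiding J
open Cfsg.Lie H23.Sz Subgroup
open scoped commutatorElement

variable {F : Type*} [Field F] [CharP F 2] {A B C X Y : M4 F} {u v w : V4 F} {a b c d x y : F}
  {G : Type*} [Group G] {g h s t z : G} {S Z : Subgroup G}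

local notation "fm" => altForm4

theorem fix2 [Finite F] {n : ℕ} (hG : IsPGroup 2 G) (φ : G →* Matrix (Fin (n + 1)) (Fin (n + 1)) F) :
    ∃ v ≠ 0, ∀ s, φ s *ᵥ v = v := by
  letI := MulAction.compHom (Fin (n + 1) → F) φ
  haveI := Fact.mk Nat.prime_two
  obtain ⟨v, hv, e⟩ := hG.exists_fixed_point_of_prime_dvd_card_of_fixed_point (Fin (n + 1) → F) (a := 0) (by
    obtain ⟨_⟩ := nonempty_fintype F
    obtain ⟨k, -, hk⟩ := FiniteField.card F 2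
    rw [Nat.card_fun, Nat.card_eq_fintype_card, hk]
    exact dvd_pow (dvd_pow_self 2 k.ne_zero) (by simp)) (fun s => mulVec_zero (φ s))
  exact ⟨v, e.symm, hv⟩

/-- first basis vector -/
def e0 : V4 F := ![1, 0, 0, 0]

theorem col0 (A : M4 F) (i : Fin 4) : (A *ᵥ e0) i = A i 0 := by simp [e0, mulVec, dotProduct, Fin.sum_univ_four]

theorem trans0 (hv : v ≠ 0) : ∃ B, Sp B ∧ B *ᵥ e0 = v := by
  have k : ∀ v : V4 F, v 3 ≠ 0 → ∃ B, Sp B ∧ B *ᵥ e0 = v := fun v h =>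
    ⟨!![v 0, v 1 / v 3, v 2 / v 3, (v 3)⁻¹; v 1, 0, 1, 0; v 2, 1, 0, 0; v 3, 0, 0, 0],
      by apply Sp.of_c <;> simp <;> grind, by ext i; rw [col0]; fin_cases i <;> simp⟩
  have m : ∀ {P : M4 F}, Sp P → (P *ᵥ v) 3 ≠ 0 → ∃ B, Sp B ∧ B *ᵥ e0 = v := fun hP h => by
    obtain ⟨B, hB, e⟩ := k _ h
    exact ⟨_, hP.ad.mul hB, by rw [← mulVec_mulVec, e, hP.ad_mv]⟩
  obtain ⟨i, hi⟩ := Function.ne_iff.1 hv
  fin_cases i
  · exact m (P := !![0, 0, 0, 1; 0, 0, 1, 0; 0, 1, 0, 0; 1, 0, 0, 0]) (by apply Sp.of_c <;> simp)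
      (by simpa [mulVec, dotProduct, Fin.sum_univ_four] using hi)
  · exact m (P := !![0, 0, 1, 0; 0, 0, 0, 1; 1, 0, 0, 0; 0, 1, 0, 0]) (by apply Sp.of_c <;> simp)
      (by simpa [mulVec, dotProduct, Fin.sum_univ_four] using hi)
  · exact m (P := !![0, 1, 0, 0; 1, 0, 0, 0; 0, 0, 0, 1; 0, 0, 1, 0]) (by apply Sp.of_c <;> simp)
      (by simpa [mulVec, dotProduct, Fin.sum_univ_four] using hi)
  · exact k v hi

theorem trans1 {w : Fin 2 → F} (hw : w ≠ 0) : ∃ B, Sp B ∧ B *ᵥ e0 = e0 ∧ B *ᵥ ![0, 1, 0, 0] = ![0, w 0, w 1, 0] := by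
  by_cases h : w 0 = 0
  · have : w 1 ≠ 0 := fun e => hw (by ext i; fin_cases i <;> assumption)
    exact ⟨!![1, 0, 0, 0; 0, w 0, (w 1)⁻¹, 0; 0, w 1, 0, 0; 0, 0, 0, 1], by apply Sp.of_c <;> simp [this],
      by ext i; rw [col0]; fin_cases i <;> simp [e0],
      by ext i; fin_cases i <;> simp [mulVec, dotProduct, Fin.sum_univ_four]⟩
  · exact ⟨!![1, 0, 0, 0; 0, w 0, 0, 0; 0, w 1, (w 0)⁻¹, 0; 0, 0, 0, 1], by apply Sp.of_c <;> simp [h],
      by ext i; rw [col0]; fin_cases i <;> simp [e0],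
      by ext i; fin_cases i <;> simp [mulVec, dotProduct, Fin.sum_univ_four]⟩

theorem Sp.fix0 (h : Sp A) (e : A *ᵥ e0 = e0) : (A 0 0 = 1 ∧ A 1 0 = 0 ∧ A 2 0 = 0 ∧ A 3 0 = 0) ∧
    A 3 1 = 0 ∧ A 3 2 = 0 ∧ A 3 3 = 1 := by
  have k : ∀ i, A i 0 = e0 i := fun i => by rw [← col0 A, e]
  have k0 : A 0 0 = 1 := k 0
  have k1 : A 1 0 = 0 := k 1
  have k2 : A 2 0 = 0 := k 2
  have k3 : A 3 0 = 0 := k 3
  obtain ⟨c1, c2, c3, -⟩ := h.cs
  simp only [k0, k1, k2, k3, one_mul, zero_mul, add_zero] at c1 c2 c3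
  exact ⟨⟨k0, k1, k2, k3⟩, c1, c2, c3⟩

theorem Sp.eq_um (h : Sp A) (e : A *ᵥ e0 = e0) (e' : A *ᵥ ![0, 1, 0, 0] = ![0, 1, 0, 0] + c • e0) :
    ∃ a b x y, A = um a b x y := by
  obtain ⟨⟨k0, k1, k2, k3⟩, k4, k5, k6⟩ := h.fix0 e
  have l1 := congrFun e' 1
  have l2 := congrFun e' 2
  simp [mulVec, dotProduct, Fin.sum_univ_four, e0] at l1 l2
  obtain ⟨-, -, -, c4, c5, c6⟩ := h.cs
  refine ⟨A 0 1, A 1 2, A 0 2, A 0 3, ?_⟩
  ext i j; fin_cases i <;> fin_cases j <;> simp [um] <;> grind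

/-- faithful symplectic representations -/
structure Rp (G : Type*) [Group G] (F : Type*) [Field F] where
  /-- the representation -/
  ρ : G →* M4 F
  sp : ∀ g, Sp (ρ g)
  inj : ∀ g, ρ g = 1 → g = 1

namespace Rp
variable (R : Rp G F)

/-- twisting by the graph endomorphism -/
def γ : Rp G F where
  ρ := ⟨⟨fun g => star4 (R.ρ g), by rw [map_one, star_one]⟩, fun g h => by
    simp only [map_mul, (R.sp g).star_mul (R.sp h)]⟩
  sp g := (R.sp g).star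
  inj g h := R.inj g (star_inj (R.sp g) h)

/-- change of basis -/
def cj (hB : Sp B) : Rp G F where
  ρ := ⟨⟨fun g => ad B * R.ρ g * B, by rw [map_one, mul_one, hB.ad_mul]⟩, fun g h => by
    simp only [map_mul, mul_assoc, hB.mul_ad']⟩
  sp g := (hB.ad.mul (R.sp g)).mul hB
  inj g h := R.inj g (by
    have : B * (ad B * R.ρ g * B) * ad B = B * 1 * ad B := congrArg (B * · * ad B) h
    simpa only [mul_assoc, hB.mul_ad', hB.mul_ad, mul_one, one_mul] using this)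

theorem γ_ρ (g : G) : R.γ.ρ g = star4 (R.ρ g) := rfl
theorem cj_ρ (hB : Sp B) (g : G) : (R.cj hB).ρ g = ad B * R.ρ g * B := rfl
theorem γγ (g : G) : R.γ.γ.ρ g = (R.ρ g).map (frobenius F 2) := (R.sp g).star_star
theorem cj_γ (hB : Sp B) (g : G) : (R.cj hB).γ.ρ g = (R.γ.cj hB.star).ρ g := by
  rw [γ_ρ, cj_ρ, cj_ρ, (hB.ad.mul (R.sp g)).star_mul hB, hB.ad.star_mul (R.sp g), star_ad, γ_ρ]
theorem cj_eq (hB : Sp B) (g : G) : R.ρ g = B * (R.cj hB).ρ g * ad B := by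
  simp only [cj_ρ, mul_assoc, hB.mul_ad', hB.mul_ad, mul_one]
theorem cj_b1 (hB : Sp B) (h : B1 ((R.cj hB).ρ g)) : B1 (R.ρ g) := R.cj_eq hB g ▸ h.conj hB
theorem inv (g : G) : R.ρ g⁻¹ = ad (R.ρ g) := by
  rw [← one_mul (R.ρ g⁻¹), ← (R.sp g).ad_mul, mul_assoc, ← map_mul, mul_inv_cancel, map_one, mul_one]
theorem ext' (e : R.ρ g = R.ρ h) : g = h :=
  mul_inv_eq_one.1 (R.inj _ (by rw [map_mul, e, ← map_mul, mul_inv_cancel, map_one]))
theorem b1_conj (h : B1 (R.ρ t)) (g : G) : B1 (R.ρ (g * t * g⁻¹)) := by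
  rw [map_mul, map_mul, inv]; exact h.conj (R.sp g)
theorem tr_inv (g : G) : (R.ρ g⁻¹).trace = (R.ρ g).trace := by rw [inv, tr_ad]
theorem tr_conj (h g : G) : (R.ρ (h * g * h⁻¹)).trace = (R.ρ g).trace := by
  rw [map_mul, trace_mul_comm, ← map_mul, inv_mul_cancel_left]
theorem tr_pw (g : G) (n : ℕ) : (R.ρ (g ^ 2 ^ n)).trace = (R.ρ g).trace ^ 2 ^ n := by rw [map_pow, tr_pow]
theorem tr_two {n : ℕ} (h : g ^ 2 ^ n = 1) : (R.ρ g).trace = 0 :=
  pow_eq_zero_iff (n := 2 ^ n) (by positivity) |>.1 (by rw [← tr_pw, h, map_one, tr_one])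

variable [Finite F]

theorem up (hS : IsPGroup 2 S) : ∃ (B : M4 F) (hB : Sp B), ∀ s ∈ S, ∃ a b x y, (R.cj hB).ρ s = um a b x y := by
  obtain ⟨v, hv, e⟩ := fix2 hS (R.ρ.comp S.subtype)
  obtain ⟨B, hB, rfl⟩ := trans0 hv
  have k : ∀ s : S, (R.cj hB).ρ s *ᵥ e0 = e0 := fun s => by
    rw [cj_ρ, ← mulVec_mulVec, ← mulVec_mulVec, show R.ρ s *ᵥ B *ᵥ e0 = B *ᵥ e0 from e s, hB.ad_mv]
  have k' := fun s : S => ((R.cj hB).sp s).fix0 (k s)
  let φ : S →* Matrix (Fin 2) (Fin 2) F := ⟨⟨fun s => !![(R.cj hB).ρ s 1 1, (R.cj hB).ρ s 1 2; (R.cj hB).ρ s 2 1,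
    (R.cj hB).ρ s 2 2], by ext i j; fin_cases i <;> fin_cases j <;> simp⟩, fun s t => by
      ext i j; fin_cases i <;> fin_cases j <;> simp [mul_apply, Fin.sum_univ_four, k' s, k' t]⟩
  obtain ⟨w, hw, e'⟩ := fix2 hS φ
  obtain ⟨C, hC, c0, c1⟩ := trans1 hw
  refine ⟨_, hB.mul hC, fun s hs => ?_⟩
  have q : (R.cj (hB.mul hC)).ρ s = ad C * (R.cj hB).ρ s * C := by simp only [cj_ρ, ad_mul, mul_assoc]
  have c0' : ad C *ᵥ e0 = e0 := by conv_lhs => rw [← c0, hC.ad_mv]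
  refine ((R.cj (hB.mul hC)).sp s).eq_um (c := (R.cj hB).ρ s 0 1 * w 0 + (R.cj hB).ρ s 0 2 * w 1) ?_ ?_
  · rw [q, ← mulVec_mulVec, ← mulVec_mulVec, c0, k ⟨s, hs⟩, c0']
  · rw [q, ← mulVec_mulVec, ← mulVec_mulVec, c1, ← c0', ← mulVec_smul, ← hC.ad_mv ![0, 1, 0, 0], c1, ← mulVec_add]
    congr 1
    have l0 := congrFun (e' ⟨s, hs⟩) 0
    have l1 := congrFun (e' ⟨s, hs⟩) 1
    have := k' ⟨s, hs⟩
    simp [φ, mulVec, dotProduct] at l0 l1
    ext i; fin_cases i <;> simp [mulVec, dotProduct, Fin.sum_univ_four, e0, this, l0, l1]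

include R in
theorem class2 (hS : IsPGroup 2 S) (h1 : s ∈ S) (h2 : t ∈ S) (h3 : z ∈ S) : z * ⁅s, t⁆ = ⁅s, t⁆ * z := by
  obtain ⟨B, hB, k⟩ := R.up hS
  obtain ⟨a, b, x, y, e⟩ := k s h1
  obtain ⟨a', b', x', y', e'⟩ := k t h2
  obtain ⟨a'', b'', x'', y'', e''⟩ := k z h3
  have : (R.cj hB).ρ ⁅s, t⁆ = um 0 0 (a * b' + a' * b) (a ^ 2 * b' + a' ^ 2 * b) := by
    rw [commutatorElement_def, mul_assoc (s * t), ← _root_.mul_inv_rev, map_mul, inv, ← mul_one (um 0 0 _ _),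
      ← ((R.cj hB).sp (t * s)).mul_ad, ← mul_assoc]
    congr 1
    simp only [map_mul, e, e', um_mul, um_inj]
    grind
  apply (R.cj hB).ext'
  simp only [map_mul _ z, map_mul _ _ z, this, e'', um_mul, um_inj]
  grind

theorem cent (e : R.ρ t = um 0 b x y) (h1 : x ^ 2 ≠ b * y) (h2 : ¬ (b = 0 ∧ y = 0)) (c : z * t = t * z) : z ^ 4 = 1 :=
  R.inj _ (by rw [map_pow]; exact um_cent h1 h2 (R.sp z) (by rw [← e, ← map_mul, c, map_mul]))

theorem pg {n : ℕ} (h : t ^ 2 ^ n = 1) : IsPGroup 2 (zpowers t) := by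
  rintro ⟨_, k, rfl⟩
  refine ⟨n, Subtype.ext (show (t ^ k) ^ 2 ^ n = 1 from ?_)⟩
  rw [← zpow_natCast, ← _root_.zpow_mul, mul_comm, _root_.zpow_mul, zpow_natCast, h, _root_.one_zpow]

theorem dich (ht : t * t = 1) : B1 (R.ρ t) ∨ B1 (R.γ.ρ t) ∨ ∀ z, z * t = t * z → z ^ 4 = 1 := by
  obtain ⟨B, hB, k⟩ := R.up (pg (n := 1) (by simpa [sq] using ht))
  obtain ⟨a, b, x, y, e⟩ := k t (mem_zpowers t)
  have e' := (R.cj_γ hB t).symm.trans ((congrArg star4 e).trans (star_um ..))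
  have q : a * b = 0 := by
    have := congrArg (R.cj hB).ρ ht
    rw [map_mul, map_one, e, um_sq, um_eq_one] at this
    exact this.2.2.1
  rcases mul_eq_zero.1 q with rfl | rfl
  · by_cases h1 : x ^ 2 = b * y
    · exact .inl (R.cj_b1 hB (e ▸ um_b1 h1))
    by_cases h2 : b = 0 ∧ y = 0
    · obtain ⟨rfl, rfl⟩ := h2
      exact .inr (.inl (R.γ.cj_b1 hB.star (e' ▸ um_b1 (by ring))))
    exact .inr (.inr fun z => (R.cj hB).cent e h1 h2)
  · by_cases h1 : (y + a * x + a ^ 2 * 0) ^ 2 = a ^ 2 * (x ^ 2 + a * 0 * x + 0 * y)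
    · exact .inr (.inl (R.γ.cj_b1 hB.star (e' ▸ um_b1 h1)))
    by_cases h2 : a = 0 ∧ x = 0
    · obtain ⟨rfl, rfl⟩ := h2
      exact .inl (R.cj_b1 hB (e ▸ um_b1 (by ring)))
    exact .inr (.inr fun z => (R.γ.cj hB.star).cent e' h1 (by simpa using h2))

include R in
theorem sq4 (h : s ^ 4 = 1) (h1 : s * s ≠ 1) (c : z * (s * s) = s * s * z) : z ^ 4 = 1 := by
  obtain ⟨B, hB, k⟩ := R.up (pg (n := 2) h)
  obtain ⟨a, b, x, y, e⟩ := k s (mem_zpowers s)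
  have e' : (R.cj hB).ρ (s * s) = um 0 0 (a * b) (a ^ 2 * b) := by rw [map_mul, e, um_sq]
  have q : a * b ≠ 0 := fun q => h1 ((R.cj hB).inj _ (by rw [e', um_eq_one]; grind))
  exact (R.cj hB).cent e' (by grind) (by grind) c

/-- quadratic action -/
def Quad (S : Subgroup G) : Prop := ∀ s ∈ S, ∀ t ∈ S, (R.ρ s + 1) * (R.ρ t + 1) = 0

theorem Quad.cj {R : Rp G F} {hB : Sp B} (h : (R.cj hB).Quad S) : R.Quad S := fun s hs t ht => by
  have k : ∀ s, R.ρ s + 1 = B * ((R.cj hB).ρ s + 1) * ad B := fun s => by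
    rw [mul_add, add_mul, ← cj_eq, mul_one, hB.mul_ad]
  rw [k, k, mul_assoc, mul_assoc B _ (ad B), hB.ad_mul', mul_assoc, ← mul_assoc (_ + 1), h s hs t ht]
  simp

theorem quad (hS : ∀ s ∈ S, s * s = 1) : R.Quad S ∨ R.γ.Quad S := by
  obtain ⟨B, hB, k⟩ := R.up (S := S) fun s => ⟨1, Subtype.ext (by simpa [sq] using hS s s.2)⟩
  choose! a b x y e using k
  have q : ∀ s ∈ S, a s * b s = 0 := fun s hs => by
    have := congrArg (R.cj hB).ρ (hS s hs)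
    rw [map_mul, map_one, e s hs, um_sq, um_eq_one] at this
    exact this.2.2.1
  by_cases h : ∀ s ∈ S, a s = 0
  · exact .inl (Quad.cj (hB := hB) fun s hs t ht => by rw [e s hs, e t ht, h s hs, h t ht, um_quad])
  push Not at h
  obtain ⟨r, hr, h⟩ := h
  have k : ∀ s ∈ S, b s = 0 := fun s hs => by
    have := e _ (mul_mem hs hr)
    rw [map_mul, e s hs, e r hr, um_mul, um_inj] at this
    have := q s hs; have := q r hr; have := q _ (mul_mem hs hr)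
    grind
  refine .inr (Quad.cj (hB := hB.star) fun s hs t ht => ?_)
  rw [← cj_γ R hB, ← cj_γ R hB, γ_ρ, γ_ρ, e s hs, e t ht, k s hs, k t ht, star_um, star_um, um_quad]

include R in
theorem sq_card (hS : IsPGroup 2 S) (h : ∀ z ∈ Z, ∃ s ∈ S, z = s * s) : Nat.card Z ≤ Nat.card F := by
  obtain ⟨B, hB, k⟩ := R.up hS
  have q : ∀ z ∈ Z, ∃ a b, (R.cj hB).ρ z = um 0 0 (a * b) (a ^ 2 * b) := fun z hz => by
    obtain ⟨s, hs, rfl⟩ := h z hz
    obtain ⟨a, b, x, y, e⟩ := k s hs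
    exact ⟨a, b, by rw [map_mul, e, um_sq]⟩
  refine Nat.card_le_card_of_injective (fun z : Z => (R.cj hB).ρ z 0 2) fun z t e => Subtype.ext ((R.cj hB).ext' ?_)
  obtain ⟨a, b, e1⟩ := q z z.2
  obtain ⟨a', b', e2⟩ := q t t.2
  obtain ⟨a'', b'', e3⟩ := q _ (mul_mem z.2 t.2)
  rw [map_mul, e1, e2, um_mul, um_inj] at e3
  simp only [e1, e2, um] at e
  simp at e
  rw [e1, e2, um_inj]
  grind

/-- involutions commuting with a common involution commute, if the Sylow 2-subgroups are abelian and there is one class -/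
theorem tri_b1 (h : ∀ s, s * s = 1 → B1 (R.ρ s)) {r : G} (ht : t * t = 1) (h1 : t ≠ 1) (hs : s * s = 1) (hr : r * r = 1)
    (c : t * s = s * t) (c' : t * r = r * t) : s * r = r * s := by
  obtain ⟨v, e⟩ := h t ht
  have v0 : v ≠ 0 := fun k => h1 (R.inj _ (by rw [e, k, tv_zero]))
  have k : ∀ s, s * s = 1 → t * s = s * t → ∃ c : F, R.ρ s = tv (c • v) := fun s hs c => by
    have h2 : t * s * (t * s) = 1 := by rw [mul_assoc, ← mul_assoc s, ← c, mul_assoc, hs, mul_one, ht]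
    obtain ⟨u, e1⟩ := h s hs
    obtain ⟨w, e2⟩ := h _ h2
    have := R.tr_two (n := 1) (by simpa [sq] using h2)
    rw [map_mul, e, e1] at e2 this
    rw [tr_tv] at this
    obtain ⟨c, rfl⟩ := tv_par (pow_eq_zero_iff two_ne_zero |>.1 this) e2 v0
    exact ⟨c, e1⟩
  obtain ⟨a, e1⟩ := k s hs c
  obtain ⟨b, e2⟩ := k r hr c'
  exact R.ext' (by rw [map_mul, map_mul, e1, e2, tv_comm (by simp [fm_smul_left, fm_smul_right])])

end Rp

end H21.Ev
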