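/-
The graph endomorphism of `Sp₄(2ⁿ)` preserves the class of absolutely irreducible perfect subgroups fixing no quadratic form.
-/
import Cfsg.Agent.H21.Ev2

set_option autoImplicit false
set_option linter.unusedSectionVars false

namespace H21.Ev
open Matrix hiding J
open Cfsg.Lie H23.Sz Subgroup Module

variable {F : Type*} [Field F] [CharP F 2] {A B C X Y : M4 F} {u v w : V4 F} {a b c d x y : F}
  {G : Type*} [Group G] {g h s t z : G} {S Z : Subgroup G}

local notation "fm" => altForm4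

/-- the hyperbolic quadratic form -/
def Q0 (u : V4 F) : F := u 0 * u 3 + u 1 * u 2

/-- the quadratic forms polarizing to the symplectic form -/
def Qc (c u : V4 F) : F := Q0 u + (c 0 * u 0 ^ 2 + c 1 * u 1 ^ 2 + c 2 * u 2 ^ 2 + c 3 * u 3 ^ 2)

/-- alternating matrices -/
def al (u : V4 F) (a b : F) : M4 F := !![0, u 0, u 1, a; u 0, 0, b, u 2; u 1, b, 0, u 3; a, u 2, u 3, 0]

theorem al_inj {a' b' : F} : al u a b = al v a' b' ↔ u = v ∧ a = a' ∧ b = b' :=
  ⟨fun h => ⟨funext fun i => by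
    fin_cases i
    exacts [congrFun (congrFun h 0) 1, congrFun (congrFun h 0) 2, congrFun (congrFun h 1) 3, congrFun (congrFun h 2) 3],
    congrFun (congrFun h 0) 3, congrFun (congrFun h 1) 2⟩, by rintro ⟨rfl, rfl, rfl⟩; rfl⟩

theorem al_add (u v : V4 F) (a b a' b' : F) : al u a b + al v a' b' = al (u + v) (a + a') (b + b') := by
  ext i j; fin_cases i <;> fin_cases j <;> simp [al]

theorem al_J (c : F) : c • J F = al 0 c c := by
  ext i j; fin_cases i <;> fin_cases j <;> simp [al, J_eq]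

theorem al_sq (u : V4 F) (a b : F) : al u a b * J F * (al u a b * J F) =
    (a + b) • (al u a b * J F) + (Q0 u + a * b) • (1 : M4 F) := by
  ext i j; fin_cases i <;> fin_cases j <;> simp [al, J_eq, Q0, mul_apply, Fin.sum_univ_four, one_apply] <;> grind

theorem ex_al (h : Xᵀ = X) (h' : ∀ i, X i i = 0) : ∃ u a b, X = al u a b := by
  have k : ∀ i j, X j i = X i j := fun i j => congrFun (congrFun h i) j
  refine ⟨![X 0 1, X 0 2, X 1 3, X 2 3], X 0 3, X 1 2, ?_⟩
  ext i j; fin_cases i <;> fin_cases j <;> simp [al, h', k 0 1, k 0 2, k 0 3, k 1 2, k 1 3, k 2 3]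

theorem smul_one_inj (h : a • (1 : M4 F) = b • 1) : a = b := by simpa using congrFun (congrFun h 0) 0

theorem conjJ (A X : M4 F) : A * X * Aᵀ * J F = A * (X * J F) * Ev.ad A := by
  simp only [Ev.ad, mul_assoc]; rw [← mul_assoc (J F) (J F), J_mul_J, one_mul]

theorem Sp.act (h : Sp A) (u : V4 F) (a b : F) : ∃ u' a' b', A * al u a b * Aᵀ = al u' a' b' ∧ a' + b' = a + b ∧
    Q0 u' + a' * b' = Q0 u + a * b ∧ (a = b → u' = star4 A *ᵥ u) := by
  obtain ⟨u', a', b', e⟩ := ex_al (X := A * al u a b * Aᵀ)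
    (by rw [transpose_mul, transpose_mul, transpose_transpose, mul_assoc]; congr 2
        ext i j; fin_cases i <;> fin_cases j <;> simp [al])
    (fun i => by simp [al, mul_apply, Fin.sum_univ_four]; grind)
  have k : ∀ i j, (A * al u a b * Aᵀ) i j = al u' a' b' i j := fun i j => by rw [e]
  obtain ⟨c1, c2, c3, c4, c5, c6⟩ := h.cs
  have s : a' + b' = a + b := by
    have k1 := k 0 3; have k2 := k 1 2
    simp [al, mul_apply, Fin.sum_univ_four] at k1 k2
    grind
  refine ⟨u', a', b', e, s, ?_, ?_⟩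
  · have := al_sq u' a' b'
    have q := al_sq u a b
    rw [← e, conjJ] at this
    generalize al u a b * J F = Z at this q
    rw [show A * Z * Ev.ad A * (A * Z * Ev.ad A) = A * (Z * Z) * Ev.ad A by simp only [mul_assoc, h.ad_mul'], q, mul_add,
      add_mul, mul_smul_comm, smul_mul_assoc, mul_smul_comm, smul_mul_assoc, mul_one, h.mul_ad, s] at this
    exact (smul_one_inj (add_left_cancel this)).symm
  · rintro rfl
    obtain ⟨r1, r2, r3, r4, r5, r6⟩ := h.rs
    have k1 := k 0 1; have k2 := k 0 2; have k3 := k 1 3; have k4 := k 2 3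
    simp [al, mul_apply, Fin.sum_univ_four] at k1 k2 k3 k4
    ext i; fin_cases i <;> simp [star4, pairOf, mulVec, dotProduct, Fin.sum_univ_four] <;> grind

theorem Sp.act' (h : Sp A) (u : V4 F) (a : F) : ∃ e, A * al u a a * Aᵀ = al (star4 A *ᵥ u) e e ∧
    Q0 (star4 A *ᵥ u) + e ^ 2 = Q0 u + a ^ 2 := by
  obtain ⟨u', a', b', e, k1, k2, k3⟩ := h.act u a a
  obtain rfl : a' = b' := by grind
  exact ⟨a', k3 rfl ▸ e, k3 rfl ▸ by rw [sq, sq, k2]⟩

theorem Sp.beta (h : Sp A) {u' v' : V4 F} {a' b' c' d' : F} (e : A * al u a b * Aᵀ = al u' a' b')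
    (e' : A * al v c d * Aᵀ = al v' c' d') : fm u' v' + a' * d' + b' * c' = fm u v + a * d + b * c := by
  obtain ⟨_, _, _, k, -, k1, -⟩ := h.act u a b
  obtain ⟨_, _, _, l, -, l1, -⟩ := h.act v c d
  obtain ⟨_, _, _, m, -, m1, -⟩ := h.act (u + v) (a + c) (b + d)
  rw [← al_add, mul_add, add_mul, e, e', al_add] at m
  obtain ⟨rfl, rfl, rfl⟩ := al_inj.1 (e.symm.trans k)
  obtain ⟨rfl, rfl, rfl⟩ := al_inj.1 (e'.symm.trans l)
  obtain ⟨rfl, rfl, rfl⟩ := al_inj.1 m
  simp only [Q0, altForm4, Pi.add_apply] at *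
  grind

theorem perf_add (hp : commutator G = ⊤) {c : G → F} (h : ∀ g h, c (g * h) = c g + c h) (g : G) : c g = 0 :=
  Abelianization.commutator_subset_ker (MonoidHom.mk' (fun g => Multiplicative.ofAdd (c g)) h) (hp ▸ mem_top g)

theorem perf_mul (hp : commutator G = ⊤) {c : G → F} (h1 : c 1 = 1) (h : ∀ g h, c (g * h) = c g * c h) (g : G) :
    c g = 1 :=
  congrArg Units.val (Abelianization.commutator_subset_ker (MonoidHom.toHomUnits ⟨⟨c, h1⟩, h⟩) (hp ▸ mem_top g))

/-- squaring the coordinates -/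
def fv (v : V4 F) : V4 F := fun i => v i ^ 2

theorem fv_mv (A : M4 F) (v : V4 F) : A.map (frobenius F 2) *ᵥ fv v = fv (A *ᵥ v) := by
  ext i; simp only [fv, mulVec, dotProduct, Fin.sum_univ_four, map_apply, frobenius_def]; grind

theorem fv_inj (h : fv u = fv v) : u = v := funext fun i => sq_inj' (congrFun h i)

theorem fv_surj [Finite F] (u : V4 F) : ∃ v, u = fv v := by
  choose s hs using ex_sq (F := F)
  exact ⟨fun i => s (u i), funext fun i => (hs _).symm⟩

/-- the symplectic form as a bilinear form -/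
def bf (F : Type*) [Field F] : LinearMap.BilinForm F (V4 F) :=
  LinearMap.mk₂ F fm fm_add_left fm_smul_left (fun a b c => fm_add_right b c a) fun c a b => fm_smul_right c b a

theorem bf_nd : (bf F).Nondegenerate :=
  ⟨fun x h => fm_ext fun u => by rw [fm_comm, fm_zero_right]; exact h u,
    fun x h => fm_ext fun u => by rw [fm_zero_right]; exact h u⟩

/-- the wedge product -/
def wg (u w : V4 F) : M4 F := vecMulVec u w + vecMulVec w u

theorem wg_conj (A : M4 F) (u w : V4 F) : A * wg u w * Aᵀ = wg (A *ᵥ u) (A *ᵥ w) := by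
  simp only [wg, mul_add, add_mul, mul_vecMulVec, vecMulVec_mul, vecMul_transpose]

theorem wg_lin (u w : V4 F) (a b c d : F) : wg (a • u + b • w) (c • u + d • w) = (a * d + b * c) • wg u w := by
  ext i j; simp [wg, vecMulVec_apply]; grind

theorem wg_J (h : wg u w = c • J F) (hu : u ≠ 0) : ∃ a : F, a • u = w := by
  have k : ∀ i j, u i * w j + w i * u j = c * J F i j := fun i j => by
    simpa [wg, vecMulVec_apply] using congrFun (congrFun h i) j
  have k1 := k 0 1; have k2 := k 2 3; have k3 := k 0 2; have k4 := k 1 3; have k5 := k 0 3; have k6 := k 1 2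
  simp [J_eq] at k1 k2 k3 k4 k5 k6
  obtain rfl : c = 0 := pow_eq_zero_iff two_ne_zero |>.1 (by grind)
  obtain ⟨i, hi⟩ := Function.ne_iff.1 hu
  refine ⟨w i / u i, funext fun j => ?_⟩
  have := k i j
  simp only [Pi.smul_apply, smul_eq_mul, Pi.zero_apply] at hi ⊢
  grind

namespace Rp

/-- absolutely irreducible, fixing no quadratic form -/
structure Good (R : Rp G F) : Prop where
  perf : commutator G = ⊤
  irr : ∀ W : Submodule F (V4 F), (∀ g, ∀ w ∈ W, R.ρ g *ᵥ w ∈ W) → W = ⊥ ∨ W = ⊤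
  cen : ∀ A, (∀ g, R.ρ g * A = A * R.ρ g) → ∃ c : F, A = c • 1
  nq : ∀ c, ¬ ∀ g u, Qc c (R.ρ g *ᵥ u) = Qc c u

namespace Good
variable {R : Rp G F} (H : R.Good)
include H

theorem fix (h : ∀ g, R.ρ g *ᵥ v = v) : v = 0 := by
  rcases H.irr (LinearMap.ker (bf F v)) (fun g w hw => by
    rw [LinearMap.mem_ker] at *
    exact (congrArg (fm · _) (h g).symm).trans (((R.sp g).fmv v w).trans hw)) with e | e
  · exact (Submodule.mem_bot F).1 (e ▸ fm_self v)
  · exact bf_nd.1 v fun u => LinearMap.mem_ker.1 (e ▸ Submodule.mem_top)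

theorem k1 (h : ∀ g, ∃ c : F, R.ρ g * X * (R.ρ g)ᵀ = X + c • J F) : ∃ c : F, X = c • J F := by
  choose c h using h
  have h' : ∀ g, R.ρ g * (X * J F) * ad (R.ρ g) = X * J F + c g • 1 := fun g => by
    rw [← conjJ, h, add_mul, smul_mul_assoc, J_mul_J]
  have k := perf_add H.perf (c := c) fun g h => by
    have := h' (g * h)
    rw [map_mul, ad_mul, mul_assoc (R.ρ g), ← mul_assoc, mul_assoc (R.ρ g), h', mul_add, add_mul, h', mul_smul_comm,
      smul_mul_assoc, mul_one, (R.sp g).mul_ad, add_assoc, ← add_smul] at this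
    exact (smul_one_inj (add_left_cancel this)).symm
  obtain ⟨c, e⟩ := H.cen (X * J F) fun g => by
    rw [← mul_one (_ * (X * J F)), ← (R.sp g).ad_mul, ← mul_assoc, h', k, zero_smul, add_zero]
  exact ⟨c, by rw [← mul_one X, ← J_mul_J, ← mul_assoc, e, smul_mul_assoc, one_mul]⟩

theorem g1 (h : ∀ g, ∃ c : F, R.γ.ρ g *ᵥ u = c • u) : u = 0 := by_contra fun hu => by
  choose c h using h
  have k := perf_mul H.perf (c := c) (smul_left_injective F hu (by simpa using (h 1).symm)) fun g g' =>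
    smul_left_injective F hu (by simp only [← h, map_mul, ← mulVec_mulVec]; rw [h g', mulVec_smul, h, smul_smul, mul_comm])
  obtain ⟨c, e⟩ := H.k1 (X := al u 0 0) fun g => by
    obtain ⟨e, k1, -⟩ := (R.sp g).act' u 0
    exact ⟨e, by rw [k1, ← γ_ρ, h, k, one_smul, al_J, al_add]; simp⟩
  rw [al_J, al_inj] at e
  exact hu e.1

variable [Finite F]

theorem g2 (c : V4 F) : ¬ ∀ g u, Qc c (R.γ.ρ g *ᵥ u) = Qc c u := fun h => by
  obtain ⟨d, rfl⟩ := fv_surj c
  obtain ⟨y, hy⟩ : ∃ y, ∀ u, Qc (fv d) u = Q0 u + fm y u ^ 2 :=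
    ⟨![d 3, d 2, d 1, d 0], fun u => by simp [Qc, fv, altForm4]; grind⟩
  obtain ⟨c, e⟩ := H.k1 (X := al y 1 0) fun g => by
    obtain ⟨y', a', b', e, s, -⟩ := (R.sp g).act y 1 0
    obtain rfl : y' = y := fm_ext fun u => by
      obtain ⟨u, rfl⟩ : ∃ v, u = R.γ.ρ g *ᵥ v := ⟨_, ((R.γ.sp g).mv_ad u).symm⟩
      obtain ⟨f, k1, k2⟩ := (R.sp g).act' u (fm y u)
      have k3 := (R.sp g).beta e k1
      have k4 := h g u
      rw [hy, hy] at k4
      rw [← γ_ρ] at k2 k3
      have : f = fm y (R.γ.ρ g *ᵥ u) := sq_inj' (by grind)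
      rw [fm_comm _ y', fm_comm _ y]
      grind
    exact ⟨b', by rw [e, al_J, al_add, al_inj]; grind⟩
  rw [al_J, al_inj] at e
  grind

theorem g3 (h1 : Xᵀ = X) (h2 : ∀ i, X i i = 0) (h : ∀ g, R.γ.ρ g * X * (R.γ.ρ g)ᵀ = X) : ∃ c : F, X = c • J F := by
  obtain ⟨y, a, b, rfl⟩ := ex_al h1 h2
  by_cases e : a = b
  · subst e
    obtain ⟨v, rfl⟩ := fv_surj y
    obtain rfl : v = 0 := H.fix fun g => fv_inj (by
      obtain ⟨e, k, -⟩ := (R.γ.sp g).act' (fv v) a
      rw [h, al_inj, ← γ_ρ, γγ, fv_mv] at k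
      exact k.1.symm)
    exact ⟨a, by rw [al_J, al_inj]; exact ⟨funext fun i => by simp [fv], rfl, rfl⟩⟩
  have s : a + b ≠ 0 := by grind
  refine (H.nq (fun i => y i.rev / (a + b)) fun g u => sq_inj' ?_).elim
  obtain ⟨f, k1, k2⟩ := (R.γ.sp g).act' (fv u) (fm y (fv u) / (a + b))
  have k3 := (R.γ.sp g).beta (h g) k1
  rw [← γ_ρ, γγ, fv_mv] at k2 k3
  have : f = fm y (fv (R.ρ g *ᵥ u)) / (a + b) := by grind
  subst this
  generalize R.ρ g *ᵥ u = w at *
  simp [Qc, Q0, fv, altForm4, Fin.rev] at k2 ⊢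
  grind

theorem g4 (W : Submodule F (V4 F)) (h : ∀ g, ∀ w ∈ W, R.γ.ρ g *ᵥ w ∈ W) : W = ⊥ ∨ W = ⊤ := by
  have k : ∀ W : Submodule F (V4 F), (∀ g, ∀ w ∈ W, R.γ.ρ g *ᵥ w ∈ W) → finrank F W ≠ 1 := fun W h e => by
    obtain ⟨v, hv, k⟩ := finrank_eq_one_iff'.1 e
    exact hv (Subtype.ext (H.g1 fun g => by
      obtain ⟨c, e⟩ := k ⟨_, h g v v.2⟩
      exact ⟨c, congrArg Subtype.val e.symm⟩))
  have k1 := k W h
  have k3 := k ((bf F).orthogonal W) fun g w hw n hn =>
    (fm_comm ..).trans ((fm_ad ..).trans ((fm_comm ..).trans (hw _ (R.γ.inv g ▸ h _ n hn))))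
  rw [LinearMap.BilinForm.finrank_orthogonal bf_nd] at k3
  have k2 : finrank F W ≠ 2 := fun e => by
    let b := finBasisOfFinrankEq F W e
    have r : ∀ x ∈ W, ∃ a c : F, x = a • (b 0).1 + c • (b 1).1 := fun x hx =>
      ⟨_, _, by have := congrArg Subtype.val (b.sum_repr ⟨x, hx⟩).symm; rwa [Fin.sum_univ_two] at this⟩
    have u0 : (b 0).1 ≠ 0 := fun e => b.ne_zero 0 (Subtype.ext e)
    have n : ∀ c : F, wg (b 0).1 (b 1).1 ≠ c • J F := fun c e => by
      obtain ⟨a, e⟩ := wg_J e u0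
      have := b.linearIndependent
      rw [show (b : Fin 2 → W) = ![b 0, b 1] by ext1 i; fin_cases i <;> rfl, LinearIndependent.pair_iff' (b.ne_zero 0)] at this
      exact this a (Subtype.ext e)
    have : ∀ g, ∃ c : F, R.γ.ρ g * wg (b 0).1 (b 1).1 * (R.γ.ρ g)ᵀ = c • wg (b 0).1 (b 1).1 := fun g => by
      obtain ⟨a, c, e1⟩ := r _ (h g _ (b 0).2)
      obtain ⟨a', c', e2⟩ := r _ (h g _ (b 1).2)
      exact ⟨_, by rw [wg_conj, e1, e2, wg_lin]⟩
    choose c hc using this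
    have w0 : wg (b 0).1 (b 1).1 ≠ 0 := by simpa using n 0
    have k := perf_mul H.perf (c := c) (smul_left_injective F w0 (by simpa using (hc 1).symm)) fun g g' =>
      smul_left_injective F w0 (by
        simp only [← hc, map_mul, transpose_mul]
        rw [mul_assoc (R.γ.ρ g), ← mul_assoc, mul_assoc (R.γ.ρ g), hc, mul_smul_comm, smul_mul_assoc, hc, smul_smul, mul_comm])
    obtain ⟨c, e⟩ := H.g3 (X := wg (b 0).1 (b 1).1) (by simp [wg, add_comm])
      (fun i => by simp [wg, vecMulVec_apply]; grind) fun g => by rw [hc, k, one_smul]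
    exact n c e
  have k4 := W.finrank_le
  simp only [finrank_fintype_fun_eq_card, Fintype.card_fin] at k3 k4
  by_cases e : finrank F W = 0
  · exact .inl (Submodule.finrank_eq_zero.1 e)
  · exact .inr (Submodule.eq_top_of_finrank_eq (by simp; omega))

theorem g5' (h1 : ad A = A) (h : ∀ g, R.γ.ρ g * A = A * R.γ.ρ g) : ∃ c : F, A = c • 1 := by
  have k : ∀ g, R.γ.ρ g * (A * J F) * (R.γ.ρ g)ᵀ = A * J F := fun g => by
    rw [← mul_assoc, h, mul_assoc, mul_assoc, ← mul_assoc (R.γ.ρ g), (R.γ.sp g).J']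
  have s : (A * J F)ᵀ = A * J F := by
    conv_rhs => rw [← h1, Ev.ad, mul_assoc, J_mul_J, mul_one]
    rw [transpose_mul, H23.Sz.J_transpose]
  obtain ⟨d, hd⟩ := fv_surj fun i => (A * J F) i i
  obtain rfl : d = 0 := H.g1 fun g => ⟨1, fv_inj (by
    rw [one_smul, ← fv_mv, ← hd]
    ext i
    conv_rhs => rw [← k g]
    have k : ∀ i j, (A * J F) j i = (A * J F) i j := fun i j => congrFun (congrFun s i) j
    generalize A * J F = X at k
    simp only [mul_apply, mulVec, dotProduct, Fin.sum_univ_four, map_apply, frobenius_def, transpose_apply,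
      k 0 1, k 0 2, k 0 3, k 1 2, k 1 3, k 2 3]
    grind)⟩
  obtain ⟨c, e⟩ := H.g3 s (fun i => by simpa [fv] using congrFun hd i) k
  exact ⟨c, by rw [← mul_one A, ← J_mul_J, ← mul_assoc, e, smul_mul_assoc]⟩

theorem g5 (A : M4 F) (h : ∀ g, R.γ.ρ g * A = A * R.γ.ρ g) : ∃ c : F, A = c • 1 := by
  have h' : ∀ g, R.γ.ρ g * ad A = ad A * R.γ.ρ g := fun g => by
    have := congrArg ad (h g⁻¹)
    rwa [ad_mul, ad_mul, inv, ad_ad, eq_comm] at this
  obtain ⟨a, e⟩ := H.g5' (A := A + ad A) (by rw [ad_add, ad_ad, add_comm]) fun g => by rw [mul_add, add_mul, h, h']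
  by_cases a0 : a = 0
  · exact H.g5' (by rw [a0, zero_smul, madd_eq] at e; exact e.symm) h
  have q : ∀ u, Qc (fun i => A i.rev i / a) u = fm (A *ᵥ u) u / a := fun u => by
    have k : ∀ i j, A i j + A j.rev i.rev = (a • (1 : M4 F)) i j := fun i j => by rw [← e, Matrix.add_apply, ad_apply]
    have k1 := k 0 0; have k2 := k 1 1; have k3 := k 0 1; have k4 := k 0 2; have k5 := k 1 0; have k6 := k 2 0
    simp [Fin.rev] at k1 k2 k3 k4 k5 k6
    simp [Qc, Q0, altForm4, mulVec, dotProduct, Fin.sum_univ_four, Fin.rev]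
    grind
  refine (H.g2 (fun i => A i.rev i / a) fun g u => ?_).elim
  rw [q, q, mulVec_mulVec, ← h, ← mulVec_mulVec, (R.γ.sp g).fmv]

theorem γ : R.γ.Good := ⟨H.perf, H.g4, H.g5, H.g2⟩

end Good
end Rp

end H21.Ev
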