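/-
Subgroups of `Sp₄(2ⁿ)`: eliminating `SL₂(2ᵃ)`, elements of order seven and five, and transvection classes.
-/
import Cfsg.Agent.H21.Ev3

set_option autoImplicit false
set_option linter.unusedSectionVars false

namespace H21.Ev
open Matrix hiding J
open Cfsg.Lie H23.Sz Subgroup Module
open scoped MatrixGroups

universe u

variable {F E : Type*} [Field F] [CharP F 2] [Field E] [CharP E 2] {A B C X Y : M4 F} {u v w : V4 F} {a b c d x y : F}
  {G : Type*} [Group G] {g h s t z : G} {S Z : Subgroup G}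

local notation "fm" => altForm4

/-- upper unitriangular -/
def uu (a : E) : SL(2, E) := ⟨!![1, a; 0, 1], by simp [det_fin_two]⟩
/-- lower unitriangular -/
def ll (a : E) : SL(2, E) := ⟨!![1, 0; a, 1], by simp [det_fin_two]⟩
/-- underlying matrix -/
def mv (x : SL(2, E)) : Matrix (Fin 2) (Fin 2) E := x.1

@[simp] theorem mv_mul (x y : SL(2, E)) : mv (x * y) = mv x * mv y := rfl
@[simp] theorem mv_one : mv (1 : SL(2, E)) = 1 := rfl
@[simp] theorem mv_uu (a : E) : mv (uu a) = !![1, a; 0, 1] := rfl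
@[simp] theorem mv_ll (a : E) : mv (ll a) = !![1, 0; a, 1] := rfl
theorem det2 (x : SL(2, E)) : mv x 0 0 * mv x 1 1 - mv x 0 1 * mv x 1 0 = 1 := (det_fin_two _).symm.trans x.2

theorem sl_ext {x y : SL(2, E)} (h : ∀ i j, mv x i j = mv y i j) : x = y := Subtype.ext (Matrix.ext h)

theorem uu_add (a b : E) : uu a * uu b = uu (a + b) := sl_ext fun i j => by
  fin_cases i <;> fin_cases j <;> simp [add_comm]

theorem uu_zero : uu (0 : E) = 1 := sl_ext fun i j => by fin_cases i <;> fin_cases j <;> simp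

theorem braid {a : E} (h : a ≠ 0) : uu a * ll a⁻¹ * uu a = ll a⁻¹ * uu a * ll a⁻¹ := sl_ext fun i j => by
  fin_cases i <;> fin_cases j <;> simp <;> grind

theorem n_uu {a : E} (h : a ≠ 0) (c : E) : uu a * ll a⁻¹ * uu a * uu (a ^ 2 * c) = ll c * (uu a * ll a⁻¹ * uu a) :=
  sl_ext fun i j => by fin_cases i <;> fin_cases j <;> simp <;> grind

theorem n_comm {a b : E} (h : a ≠ 0) (h' : b ≠ 0) :
    uu a * ll a⁻¹ * uu a * (uu 1 * ll 1⁻¹ * uu 1) * (uu b * ll b⁻¹ * uu b * (uu 1 * ll 1⁻¹ * uu 1)) =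
    uu b * ll b⁻¹ * uu b * (uu 1 * ll 1⁻¹ * uu 1) * (uu a * ll a⁻¹ * uu a * (uu 1 * ll 1⁻¹ * uu 1)) := by
  have k : ∀ {a : E}, a ≠ 0 → mv (uu a * ll a⁻¹ * uu a * (uu 1 * ll 1⁻¹ * uu 1)) = !![a, 0; 0, a⁻¹] := fun h => by
    ext i j; fin_cases i <;> fin_cases j <;> simp <;> grind
  refine sl_ext fun i j => ?_
  rw [mv_mul, k h, k h', mv_mul, k h, k h']
  fin_cases i <;> fin_cases j <;> simp [mul_comm]

theorem gen0 {K : Subgroup SL(2, E)} (h1 : ∀ a, uu a ∈ K) (h2 : ∀ a, ll a ∈ K) (m : SL(2, E)) : m ∈ K := by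
  have k : ∀ m : SL(2, E), mv m 1 0 ≠ 0 → m ∈ K := fun m h => by
    have := det2 m
    have e : m = uu ((mv m 0 0 + 1) / mv m 1 0) * ll (mv m 1 0) * uu ((mv m 1 1 + 1) / mv m 1 0) := sl_ext fun i j => by
      fin_cases i <;> fin_cases j <;> simp <;> grind
    rw [e]; exact mul_mem (mul_mem (h1 _) (h2 _)) (h1 _)
  by_cases h : mv m 1 0 = 0
  · refine (K.mul_mem_cancel_left (h2 1)).1 (k _ ?_)
    have := det2 m
    simp [mul_apply, h]; grind
  · exact k m h

theorem gen1 {K : Subgroup SL(2, E)} (h1 : ∀ a, uu a ∈ K) {b : E} (hb : b ≠ 0) (h2 : ll b⁻¹ ∈ K) (m : SL(2, E)) : m ∈ K :=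
  gen0 h1 (fun c => (K.mul_mem_cancel_right (mul_mem (mul_mem (h1 b) h2) (h1 b))).1
    (n_uu hb c ▸ mul_mem (mul_mem (mul_mem (h1 b) h2) (h1 b)) (h1 _))) m

theorem gen2 {K : Subgroup SL(2, E)} (h1 : ∀ a, ll a ∈ K) {b : E} (hb : b ≠ 0) (h2 : uu b ∈ K) (m : SL(2, E)) : m ∈ K :=
  gen0 (fun c => by
    have k := mul_mem (mul_mem h2 (h1 b⁻¹)) h2
    have := mul_mem (h1 (c / b ^ 2)) k
    rw [← n_uu hb, mul_div_cancel₀ _ (pow_ne_zero 2 hb)] at this
    exact (K.mul_mem_cancel_left k).1 this) h1 m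

theorem zz_sq (A : M4 F) : ∃ p : F, (A + ad A) * (A + ad A) = A.trace • (A + ad A) + p • 1 :=
  ⟨(A 0 2 + A 1 3) * (A 2 0 + A 3 1) + (A 0 1 + A 2 3) * (A 1 0 + A 3 2) + (A 0 0 + A 3 3) * (A 1 1 + A 2 2), by
    ext i j; fin_cases i <;> fin_cases j <;>
      simp [mul_apply, trace, Fin.sum_univ_four, ad_apply, Fin.rev, one_apply] <;> grind⟩

theorem zz_scalar (h : A + ad A = c • 1) : A.trace = 0 := by
  have k0 := congrFun (congrFun h 0) 0
  have k1 := congrFun (congrFun h 1) 1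
  simp [ad_apply, Fin.rev] at k0 k1
  simp [trace, Fin.sum_univ_four]; grind

theorem fm_zz (A : M4 F) (c : F) (u : V4 F) : fm ((A + ad A + c • 1) *ᵥ u) u = 0 := by
  rw [add_mulVec, add_mulVec, fm_add_left, fm_add_left, fm_ad, fm_comm u, smul_mulVec, one_mulVec, fm_smul_left]
  simp [CharTwo.add_self_eq_zero]

theorem lift {F : Type u} [Field F] [CharP F 2] (A : M4 F) : ∃ (K : Type u) (_ : CommRing K) (_ : CharP K 2)
    (_ : Algebra F K) (ι : K →ₐ[F] M4 F) (a : K), Function.Injective ι ∧ ι a = A := by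
  letI := Algebra.adjoinCommRingOfComm F (s := {A}) (by rintro _ rfl _ rfl; rfl)
  exact ⟨Algebra.adjoin F {A}, inferInstance, (Algebra.adjoin F {A}).val.toRingHom.charP Subtype.val_injective 2,
    inferInstance, (Algebra.adjoin F {A}).val, ⟨A, Algebra.self_mem_adjoin_singleton F A⟩, Subtype.val_injective, rfl⟩

theorem c7 {K : Type*} [CommRing K] [CharP K 2] (a z t p : K) (h7 : a ^ 7 = 1) (hz : z = a + a ^ 6) (h1 : z * z = t * z + p)
    (h2 : z * z * (z * z) = t * (z * z) + p) (ht : t ^ 2 = t) : a = 1 := by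
  have : z ^ 4 = z ^ 3 + z := by grind
  have : z = 0 := by clear hz h7; grind
  grind

theorem c5 {K : Type*} [CommRing K] [CharP K 2] (a t p : K) (h : a ^ 5 = 1)
    (h1 : (a + a ^ 4) * (a + a ^ 4) = t * (a + a ^ 4) + p) : (t ^ 2 + p + t + 1) * (a + a ^ 4) = t * p + p := by
  grind

theorem two_le_ker (h : X * X = 0) : 2 ≤ finrank F (LinearMap.ker (toLin' X)) := by
  have := LinearMap.finrank_range_add_finrank_ker (toLin' X)
  have k : LinearMap.range (toLin' X) ≤ LinearMap.ker (toLin' X) := by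
    rintro _ ⟨u, rfl⟩; simp [h]
  have := Submodule.finrank_mono k
  simp only [finrank_fintype_fun_eq_card, Fintype.card_fin] at *
  omega

theorem sl_pow {m : Matrix (Fin 2) (Fin 2) E} {τ : E} {n : ℕ} (h0 : τ ≠ 0) (h1 : τ ^ 2 ^ n = τ) (h : m * m = τ • m + 1)
    (hm : m 0 1 = 1) (ht : m.trace = τ) : m ^ 2 ^ n = m ∨ m ^ 2 ^ n * m = 1 := by
  have k : ∀ j, ∃ β : E, m ^ 2 ^ j = (τ ^ 2 ^ j / τ) • m + β • 1 := fun j => by
    induction j with
    | zero => exact ⟨0, by simp [h0]⟩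
    | succ j ih =>
      obtain ⟨β, e⟩ := ih
      refine ⟨(τ ^ 2 ^ j / τ) ^ 2 + β ^ 2, ?_⟩
      rw [pow_succ 2, pow_mul, e, add_pow_char_of_commute _ ((Commute.one_right _).smul_left _ |>.smul_right _), smul_pow, smul_pow,
        sq m, h, smul_add, smul_smul, one_pow, add_smul, add_assoc, pow_mul]
      congr 2; field_simp
  obtain ⟨β, e⟩ := k n
  rw [h1, div_self h0, one_smul] at e
  have i : m * (m + τ • 1) = 1 := by
    rw [mul_add, h, mul_smul_comm, mul_one, add_right_comm, CharTwo.add_self_eq_zero, zero_add]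
  have j := congrArg (· ^ 2 ^ n) i
  simp only [((Commute.refl m).add_right ((Commute.one_right _).smul_right _)).mul_pow, one_pow] at j
  rw [add_pow_char_pow_of_commute _ _ ((Commute.one_right _).smul_right _), e, smul_pow, h1, one_pow] at j
  have l : β * (β + τ) = 0 := by
    have := congrFun (congrFun j 0) 0
    have := congrFun (congrFun h 0) 0
    simp [mul_apply, Fin.sum_univ_two, trace] at *
    grind
  rcases mul_eq_zero.1 l with l | l
  · exact .inl (by rw [e, l, zero_smul, add_zero])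
  · obtain rfl : β = τ := by grind
    exact .inr (by rw [e, mul_eq_one_comm, i])

/-- `SL₂` acting on a hyperbolic plane -/
def em : Matrix (Fin 2) (Fin 2) E →* M4 E where
  toFun m := !![m 0 0, 0, 0, m 0 1; 0, 1, 0, 0; 0, 0, 1, 0; m 1 0, 0, 0, m 1 1]
  map_one' := by ext i j; fin_cases i <;> fin_cases j <;> simp
  map_mul' a b := by ext i j; fin_cases i <;> fin_cases j <;> simp [mul_apply, Fin.sum_univ_four]

theorem tv_pow {n : ℕ} (h : ∀ x : E, x ^ 2 ^ n = x) (b : V4 E) : tv e0 * tv b * (tv e0 * tv b) = 1 ∨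
    (tv e0 * tv b) ^ 2 ^ n = tv e0 * tv b ∨ (tv e0 * tv b) ^ 2 ^ n * (tv e0 * tv b) = 1 := by
  have sq : ∀ v : V4 E, tv v * tv v = 1 := fun v => mv_ext fun x => by
    simp [← mulVec_mulVec, tv_mv, fm_add_left, fm_smul_left, add_assoc, vadd]
  by_cases c : b 3 = 0
  · left
    rw [mul_assoc, ← mul_assoc (tv b), ← tv_comm (by simpa [altForm4, e0] using c), mul_assoc, sq, mul_one, sq]
  right
  have hu := um_sp (b 2 / b 3) 0 (b 1 / b 3) (b 0 / b 3)
  have e : tv e0 * tv b = um (b 2 / b 3) 0 (b 1 / b 3) (b 0 / b 3) * em !![1 + b 3 ^ 2, 1; b 3 ^ 2, 1] *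
      ad (um (b 2 / b 3) 0 (b 1 / b 3) (b 0 / b 3)) := by
    have e1 : em !![1 + b 3 ^ 2, 1; b 3 ^ 2, 1] = tv e0 * tv ![0, 0, 0, b 3] := by
      ext i j; fin_cases i <;> fin_cases j <;>
        simp [em, tv, e0, J_eq, mulVec, dotProduct, Fin.sum_univ_four, vecMulVec, mul_apply, one_apply, pow_two]
    have e2 : um (b 2 / b 3) 0 (b 1 / b 3) (b 0 / b 3) *ᵥ e0 = e0 := by
      ext i; rw [col0]; fin_cases i <;> simp [um, e0]
    have e3 : um (b 2 / b 3) 0 (b 1 / b 3) (b 0 / b 3) *ᵥ ![0, 0, 0, b 3] = b := by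
      ext i; fin_cases i <;> simp [um, mulVec, dotProduct, Fin.sum_univ_four, c]
    have e4 := tv_conj hu e0
    have e5 := tv_conj hu ![0, 0, 0, b 3]
    rw [e2] at e4; rw [e3] at e5
    rw [← e4, ← e5, e1]
    simp only [mul_assoc, hu.ad_mul']
  generalize um (b 2 / b 3) 0 (b 1 / b 3) (b 0 / b 3) = U at hu e
  have p : ∀ (X : M4 E) (k : ℕ), (U * X * ad U) ^ k = U * X ^ k * ad U := fun X k => by
    induction k with
    | zero => simp [hu.mul_ad]
    | succ k ih => rw [pow_succ, ih]; simp only [pow_succ, mul_assoc, hu.ad_mul']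
  rw [e, p, ← map_pow]
  refine (sl_pow (τ := b 3 ^ 2) (m := !![1 + b 3 ^ 2, 1; b 3 ^ 2, 1]) (pow_ne_zero 2 c) (h _) (by
    ext i j; fin_cases i <;> fin_cases j <;> simp <;> grind) rfl (by simp; grind)).imp (fun k => by rw [k]) fun k => ?_
  rw [mul_assoc, mul_assoc U _ (ad U), hu.ad_mul', mul_assoc, ← mul_assoc (em _), ← map_mul, k, map_one, one_mul, hu.mul_ad]

namespace Rp
variable (R : Rp G F)

/-- stabilizer of a vector -/
def stab (v : V4 F) : Subgroup G where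
  carrier := {g | R.ρ g *ᵥ v = v}
  one_mem' := by simp
  mul_mem' {a b} ha hb := by simp only [Set.mem_setOf_eq, map_mul, ← mulVec_mulVec] at *; rw [hb, ha]
  inv_mem' {a} ha := by
    simp only [Set.mem_setOf_eq, inv] at *
    conv_lhs => rw [← ha, (R.sp a).ad_mv]

/-- centralizer of a matrix -/
def cenm (A : M4 F) : Subgroup G where
  carrier := {g | R.ρ g * A = A * R.ρ g}
  one_mem' := by simp
  mul_mem' {a b} ha hb := by simp only [Set.mem_setOf_eq, map_mul] at *; rw [mul_assoc, hb, ← mul_assoc, ha, mul_assoc]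
  inv_mem' {a} ha := by
    simp only [Set.mem_setOf_eq, inv] at *
    rw [← one_mul (A * _), ← (R.sp a).ad_mul, mul_assoc, ← mul_assoc (R.ρ a), ha, mul_assoc, (R.sp a).mul_ad, mul_one]

/-- stabilizer of a subspace -/
def stabW [Finite G] (W : Submodule F (V4 F)) : Subgroup G :=
  subgroupOfIdempotent {g | ∀ w ∈ W, R.ρ g *ᵥ w ∈ W} ⟨1, by simp⟩ (Set.Subset.antisymm (by
    rintro _ ⟨a, ha, b, hb, rfl⟩ w hw
    rw [map_mul, ← mulVec_mulVec]; exact ha _ (hb w hw)) fun g hg => ⟨g, hg, 1, by simp, mul_one g⟩)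

theorem ad_pow {n : ℕ} (h : g ^ (n + 1) = 1) : ad (R.ρ g) = R.ρ g ^ n := by
  rw [← inv, ← map_pow, inv_eq_of_mul_eq_one_right (by rw [← pow_succ', h])]

include R in
theorem no7 (h7 : g ^ 7 = 1) (e : h * g * h⁻¹ = g ^ 2) : g = 1 := by
  have t : (R.ρ g).trace ^ 2 = (R.ρ g).trace := (R.tr_pw g 1).symm.trans (by rw [pow_one, ← e, tr_conj])
  obtain ⟨p, hp⟩ := zz_sq (R.ρ g)
  have c : R.ρ h * (R.ρ g + ad (R.ρ g)) * ad (R.ρ h) = (R.ρ g + ad (R.ρ g)) * (R.ρ g + ad (R.ρ g)) := by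
    have : R.ρ h * R.ρ g * ad (R.ρ h) = R.ρ g * R.ρ g := by rw [← inv, ← map_mul, ← map_mul, e, sq, map_mul]
    have k := congrArg ad this
    rw [ad_mul, ad_mul, ad_mul, ad_ad, ← mul_assoc] at k
    rw [mul_add, add_mul, this, k, mul_add, add_mul, add_mul, (R.sp g).mul_ad, (R.sp g).ad_mul, add_assoc,
      ← add_assoc 1, madd, zero_add]
  have k := congrArg (R.ρ h * · * ad (R.ρ h)) hp
  generalize hz : R.ρ g + ad (R.ρ g) = Z at c k hp
  rw [show R.ρ h * (Z * Z) * ad (R.ρ h) = R.ρ h * Z * ad (R.ρ h) * (R.ρ h * Z * ad (R.ρ h)) by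
    simp only [mul_assoc, (R.sp h).ad_mul'], mul_add, add_mul, mul_smul_comm, smul_mul_assoc, mul_smul_comm,
    smul_mul_assoc, mul_one, (R.sp h).mul_ad, c] at k
  rw [R.ad_pow h7] at hz
  subst hz
  have a7 : R.ρ g ^ 7 = 1 := by rw [← map_pow, h7, map_one]
  obtain ⟨K, _, _, _, ι, a, i, ha⟩ := lift (R.ρ g)
  refine R.inj _ (ha.symm.trans ((congrArg ι (c7 a _ (algebraMap F K (R.ρ g).trace) (algebraMap F K p) ?_ rfl ?_ ?_
    (by rw [← map_pow, t]))).trans (map_one ι)))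
  all_goals apply i; simpa [ha, Algebra.algebraMap_eq_smul_one, -smul_add]

namespace Good
variable {R : Rp G F} (H : R.Good)
include H

theorem no5 [Finite F] (h5 : g ^ 5 = 1) (h2 : s * s = 1) (h4 : (s * g) ^ 4 = 1) (hg : closure {s, g} = ⊤) :
    (R.ρ g).trace ^ 2 = (R.ρ g).trace := by_contra fun n => by
  obtain ⟨p, hp⟩ := zz_sq (R.ρ g)
  have a5 : R.ρ g ^ 5 = 1 := by rw [← map_pow, h5, map_one]
  have k : ((R.ρ g).trace ^ 2 + p + (R.ρ g).trace + 1) • (R.ρ g + ad (R.ρ g)) = ((R.ρ g).trace * p + p) • 1 := by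
    rw [R.ad_pow h5] at hp ⊢
    obtain ⟨K, _, _, _, ι, a, i, ha⟩ := lift (R.ρ g)
    have := congrArg ι (c5 a (algebraMap F K (R.ρ g).trace) (algebraMap F K p) (i (by simpa [ha]))
      (i (by simpa [ha, Algebra.algebraMap_eq_smul_one, -smul_add])))
    simp only [← map_pow, ← map_mul, ← map_add, ← map_one (algebraMap F K), ← Algebra.smul_def] at this
    simpa [ha, Algebra.algebraMap_eq_smul_one] using this
  have ns : ∀ c : F, R.ρ g + ad (R.ρ g) ≠ c • 1 := fun c e => n (by rw [zz_scalar e]; simp)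
  have k0 : (R.ρ g).trace ^ 2 + p + (R.ρ g).trace + 1 = 0 := by_contra fun e =>
    ns _ (by rw [← one_smul F (_ + _), ← inv_mul_cancel₀ e, mul_smul, k, smul_smul])
  rw [k0, zero_smul, ← zero_smul F (1 : M4 F)] at k
  obtain rfl : p = 0 := by have := smul_one_inj k; grind
  have z : (R.ρ g + ad (R.ρ g)) * (R.ρ g + ad (R.ρ g) + (R.ρ g).trace • 1) = 0 := by
    rw [mul_add, hp, zero_smul, add_zero, mul_smul_comm, mul_one, madd]
  obtain ⟨a, b, ab⟩ : ∃ a b, fm ((R.ρ g + ad (R.ρ g) + (R.ρ g).trace • 1) *ᵥ a) b ≠ 0 := by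
    by_contra! e
    exact ns _ (madd_eq.1 (mv_ext fun a => bf_nd.1 _ (e a) |>.trans (zero_mulVec a).symm))
  have d1 : 2 ≤ finrank F (LinearMap.ker (toLin' (R.ρ g + ad (R.ρ g)))) := by
    have m : ∀ a, (R.ρ g + ad (R.ρ g) + (R.ρ g).trace • 1) *ᵥ a ∈ LinearMap.ker (toLin' (R.ρ g + ad (R.ρ g))) :=
      fun a => by rw [LinearMap.mem_ker, toLin'_apply, mulVec_mulVec, z, zero_mulVec]
    refine (LinearIndependent.fintype_card_le_finrank (b := ![⟨_, m a⟩, ⟨_, m b⟩])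
      (LinearIndependent.pair_iff.2 fun x y e => ?_))
    have e := congrArg Subtype.val e
    have e1 := congrArg (fm · a) e
    have e2 := congrArg (fm · b) e
    have e3 : fm ((R.ρ g + ad (R.ρ g) + (R.ρ g).trace • 1) *ᵥ b) a = fm ((R.ρ g + ad (R.ρ g) + (R.ρ g).trace • 1) *ᵥ a) b := by
      rw [fm_ad, ad_add, ad_add, ad_ad, ad_smul, ad_one, add_comm (ad _), fm_comm]
    simp [fm_add_left, fm_smul_left, fm_zz, e3, ab] at e1 e2
    exact ⟨e2, e1⟩
  have d2 := two_le_ker (X := R.ρ s + 1) (by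
    rw [mul_add, add_mul, ← map_mul, h2, map_one, one_mul, mul_one, add_comm 1, madd])
  have m1 : ∀ {u}, u ∈ LinearMap.ker (toLin' (R.ρ g + ad (R.ρ g))) → g ∈ R.stab u := fun {u} h => by
    rw [LinearMap.mem_ker, toLin'_apply, add_mulVec, vadd_eq] at h
    have : g * g ∈ R.stab u := show _ = _ by rw [map_mul, ← mulVec_mulVec, h, (R.sp g).mv_ad]
    have := pow_mem this 3
    rwa [← sq, ← pow_mul, pow_succ' g 5, h5, mul_one] at this
  have m2 : ∀ {u}, u ∈ LinearMap.ker (toLin' (R.ρ s + 1)) → s ∈ R.stab u := fun {u} h => by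
    rwa [LinearMap.mem_ker, toLin'_apply, add_mulVec, vadd_eq, one_mulVec] at h
  have f : ∀ {u}, s ∈ R.stab u → g ∈ R.stab u → u = 0 := fun h h' => H.fix fun x =>
    ((closure_le _).2 (Set.pair_subset h h')) (hg ▸ mem_top x)
  have d3 := Submodule.finrank_sup_add_finrank_inf_eq (LinearMap.ker (toLin' (R.ρ g + ad (R.ρ g))))
    (LinearMap.ker (toLin' (R.ρ s + 1)))
  rw [(Submodule.eq_bot_iff (_ ⊓ _)).2 fun u h => f (m2 h.2) (m1 h.1), finrank_bot] at d3
  have d4 : LinearMap.ker (toLin' (R.ρ g + ad (R.ρ g))) ⊔ LinearMap.ker (toLin' (R.ρ s + 1)) = ⊤ :=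
    Submodule.eq_top_of_finrank_eq (le_antisymm (Submodule.finrank_le _) (by
      rw [finrank_fintype_fun_eq_card, Fintype.card_fin]; omega))
  obtain ⟨v, v0, hv⟩ := fix2 (pg (n := 2) h4) (R.ρ.comp (zpowers (s * g)).subtype)
  have hv : s * g ∈ R.stab v := hv ⟨_, mem_zpowers _⟩
  have e : R.ρ g *ᵥ v = R.ρ s *ᵥ v := by
    conv_rhs => rw [← show _ = _ from hv, mulVec_mulVec, ← map_mul, ← mul_assoc, h2, one_mul]
  have l : ∀ {x : G} {u}, x ∈ R.stab u → fm u (R.ρ x *ᵥ v) = fm u v := fun {x u} h => by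
    conv_lhs => rw [← show _ = _ from h, (R.sp x).fmv]
  have : R.ρ g *ᵥ v = v := fm_ext fun u => by
    obtain ⟨a, ha, b, hb, rfl⟩ := Submodule.mem_sup.1 (d4 ▸ Submodule.mem_top (x := u))
    rw [fm_add_left, fm_add_left, l (m1 ha), e, l (m2 hb)]
  exact v0 (f (e.symm.trans this) this)

theorem sub_tv {n : ℕ} (ht : B1 (R.ρ t)) (h1 : t ≠ 1)
    (h : ∀ k, (R.ρ (t * (k * t * k⁻¹))).trace ^ 2 ^ n = (R.ρ (t * (k * t * k⁻¹))).trace) (g : G) :
    (R.ρ g).trace ^ 2 ^ n = (R.ρ g).trace ∧ (R.γ.ρ g).trace ^ 2 ^ n = (R.γ.ρ g).trace := by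
  obtain ⟨v, e⟩ := ht
  have v0 : v ≠ 0 := fun k => h1 (R.inj _ (by rw [e, k, tv_zero]))
  have f : ∀ k l, fm (R.ρ k *ᵥ v) (R.ρ l *ᵥ v) ^ 2 ^ n = fm (R.ρ k *ᵥ v) (R.ρ l *ᵥ v) := fun k l => by
    have := h (k⁻¹ * l)
    rw [map_mul, map_mul, map_mul, inv, e, tv_conj (R.sp _), tr_tv, map_mul, inv, ← mulVec_mulVec, ← fm_ad,
      ← pow_mul, mul_comm, pow_mul] at this
    exact sq_inj' this
  have sp : Submodule.span F (Set.range fun k => R.ρ k *ᵥ v) = ⊤ := (H.irr _ fun g w hw =>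
    Submodule.span_induction (p := fun w _ => R.ρ g *ᵥ w ∈ Submodule.span F (Set.range fun k => R.ρ k *ᵥ v))
      (by rintro _ ⟨k, rfl⟩; exact Submodule.subset_span ⟨g * k, by simp⟩) (by simp)
      (fun x y _ _ hx hy => by rw [mulVec_add]; exact add_mem hx hy)
      (fun c x _ hx => by rw [mulVec_smul]; exact Submodule.smul_mem _ _ hx) hw).resolve_left fun k =>
      v0 ((Submodule.mem_bot F).1 (k ▸ Submodule.subset_span ⟨1, by simp⟩))
  have := Submodule.exists_fun_fin_finrank_span_eq F (Set.range fun k => R.ρ k *ᵥ v)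
  rw [sp, finrank_top, finrank_fintype_fun_eq_card, Fintype.card_fin] at this
  obtain ⟨b, hb, -, li⟩ := this
  choose k hk using hb
  replace hk : ∀ i, R.ρ (k i) *ᵥ v = b i := hk
  obtain ⟨B, hB⟩ := (linearIndependent_cols_iff_isUnit (A := (of b)ᵀ)).1 li
  let σ := iterateFrobenius F 2 n
  have m : ∀ g, (B.valᵀ * J F * (R.ρ g * B.val)).map σ = B.valᵀ * J F * (R.ρ g * B.val) := fun g => by
    ext i j
    have : (B.valᵀ * J F * (R.ρ g * B.val)) i j = fm (R.ρ (k i) *ᵥ v) (R.ρ (g * k j) *ᵥ v) := by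
      rw [map_mul, ← mulVec_mulVec, hk, hk, hB]
      simp [J_eq, mul_apply, Fin.sum_univ_four, altForm4, mulVec, dotProduct, vecMul]; ring
    rw [map_apply, this]; exact f _ _
  have q : (B⁻¹.val * (R.ρ g * B.val)).map σ = B⁻¹.val * (R.ρ g * B.val) := by
    have u : IsUnit (B.valᵀ * J F * B.val) :=
      ((isUnit_transpose _).2 B.isUnit |>.mul (IsUnit.of_mul_eq_one _ J_mul_J)).mul B.isUnit
    have m1 := m 1
    have m2 := m g
    rw [map_one, one_mul] at m1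
    rw [← B.mul_inv_cancel_left (R.ρ g * B.val), ← mul_assoc, Matrix.map_mul, m1] at m2
    exact u.mul_left_cancel m2
  rw [γ_ρ, (R.sp g).tr_star, ← B.mul_inv_cancel_right (R.ρ g), trace_mul_comm, e2_comm]
  generalize B⁻¹.val * (R.ρ g * B.val) = X at q
  have q : ∀ i j, σ (X i j) = X i j := fun i j => congrFun (congrFun q i) j
  exact ⟨show σ _ = _ by simp [trace, Fin.sum_univ_four, q], show σ _ = _ by simp [e2, q]⟩

theorem no_sl2 [Finite G] (φ : SL(2, E) →* G) (hφ : Function.Surjective φ)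
    (q : ∀ a b, (R.ρ (φ (uu a)) + 1) * (R.ρ (φ (uu b)) + 1) = 0) : False := by
  obtain ⟨X, hX⟩ : ∃ X : E → M4 F, ∀ a, R.ρ (φ (uu a)) = 1 + X a :=
    ⟨fun a => 1 + R.ρ (φ (uu a)), fun a => by rw [← add_assoc, madd, zero_add]⟩
  obtain ⟨Y, hY⟩ : ∃ Y : E → M4 F, ∀ a, R.ρ (φ (ll a)) = 1 + Y a :=
    ⟨fun a => 1 + R.ρ (φ (ll a)), fun a => by rw [← add_assoc, madd, zero_add]⟩
  simp only [hX, add_right_comm (1 : M4 F) _ 1, madd, zero_add] at q
  have q' : ∀ a b, Y a * Y b = 0 := fun a b => by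
    have k : ∀ c, Y c = R.ρ (φ (uu 1 * ll 1⁻¹ * uu 1)) * X c * ad (R.ρ (φ (uu 1 * ll 1⁻¹ * uu 1))) := fun c => by
      have := congrArg (fun x => R.ρ (φ x)) (n_uu one_ne_zero c)
      generalize uu (1 : E) * ll 1⁻¹ * uu 1 = n at this ⊢
      simp only [map_mul, one_pow, one_mul, hX c, hY c, mul_add, add_mul, mul_one, add_right_inj] at this
      rw [this, mul_assoc, (R.sp _).mul_ad, mul_one]
    rw [k, k, mul_assoc, mul_assoc _ (X b), (R.sp _).ad_mul', mul_assoc, ← mul_assoc (X a), q]; simp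
  have qv : ∀ a b u, X a *ᵥ X b *ᵥ u = 0 := fun a b u => by rw [mulVec_mulVec, q, zero_mulVec]
  have qv' : ∀ a b u, Y a *ᵥ Y b *ᵥ u = 0 := fun a b u => by rw [mulVec_mulVec, q', zero_mulVec]
  have f1 : ∀ {b m}, b ≠ 0 → (∀ a, X a *ᵥ m = 0) → Y b⁻¹ *ᵥ m = 0 → m = 0 := fun {b m} hb h h' => H.fix fun g => by
    obtain ⟨x, rfl⟩ := hφ g
    exact gen1 (K := (R.stab m).comap φ) (fun a => show _ = _ by simp [hX, add_mulVec, h]) hb
      (show _ = _ by simp [hY, add_mulVec, h']) x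
  have f2 : ∀ {b m}, b ≠ 0 → (∀ a, Y a *ᵥ m = 0) → X b *ᵥ m = 0 → m = 0 := fun {b m} hb h h' => H.fix fun g => by
    obtain ⟨x, rfl⟩ := hφ g
    exact gen2 (K := (R.stab m).comap φ) (fun a => show _ = _ by simp [hY, add_mulVec, h]) hb
      (show _ = _ by simp [hX, add_mulVec, h']) x
  obtain ⟨m0, hm0, m00⟩ : ∃ m, (∀ a, X a *ᵥ m = 0) ∧ m ≠ 0 := by
    by_cases h : ∀ a, X a *ᵥ e0 = 0
    · exact ⟨e0, h, fun e => by simpa [e0] using congrFun e 0⟩
    · push Not at h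
      exact ⟨_, fun a => qv a _ _, h.choose_spec⟩
  have dec : ∀ u, ∃ m m', (∀ a, X a *ᵥ m = 0) ∧ (∀ a, Y a *ᵥ m' = 0) ∧ u = m + m' := fun u => by
    have mem : ∀ {Z : E → M4 F} {m}, m ∈ ⨅ a, LinearMap.ker (toLin' (Z a)) ↔ ∀ a, Z a *ᵥ m = 0 := by
      simp [Submodule.mem_iInf]
    have := (H.irr ((⨅ a, LinearMap.ker (toLin' (X a))) ⊔ ⨅ a, LinearMap.ker (toLin' (Y a))) fun g => by
      obtain ⟨x, rfl⟩ := hφ g
      refine gen0 (K := (R.stabW _).comap φ) (fun a w hw => ?_) (fun a w hw => ?_) x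
      all_goals
        obtain ⟨m, hm, m', hm', rfl⟩ := Submodule.mem_sup.1 hw
        simp only [hX, hY, add_mulVec, one_mulVec, mulVec_add, mem.1 hm, mem.1 hm', add_zero]
      · exact add_mem (Submodule.mem_sup_left hm) (add_mem (Submodule.mem_sup_right hm')
          (Submodule.mem_sup_left (mem.2 fun b => qv ..)))
      · exact add_mem (add_mem (Submodule.mem_sup_left hm) (Submodule.mem_sup_right (mem.2 fun b => qv' ..)))
          (Submodule.mem_sup_right hm')).resolve_left fun e =>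
        m00 ((Submodule.mem_bot F).1 (e ▸ Submodule.mem_sup_left (mem.2 hm0)))
    obtain ⟨m, hm, m', hm', e⟩ := Submodule.mem_sup.1 (this ▸ Submodule.mem_top (x := u))
    exact ⟨m, m', mem.1 hm, mem.1 hm', e.symm⟩
  have br : ∀ {a}, a ≠ 0 → ∀ u, (1 + X a) *ᵥ (1 + Y a⁻¹) *ᵥ (1 + X a) *ᵥ u =
      (1 + Y a⁻¹) *ᵥ (1 + X a) *ᵥ (1 + Y a⁻¹) *ᵥ u := fun h u => by
    have := congrArg (fun x => R.ρ (φ x) *ᵥ u) (braid h)
    simpa only [map_mul, hX, hY, ← mulVec_mulVec] using this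
  have b1 : ∀ {a m}, a ≠ 0 → (∀ a, X a *ᵥ m = 0) → X a *ᵥ Y a⁻¹ *ᵥ m = m := fun {a m} h hm => by
    have := br h m
    simp only [add_mulVec, one_mulVec, mulVec_add, hm, qv', add_zero, add_assoc, add_right_inj] at this
    refine (vadd_eq.1 (f1 h (fun b => by rw [mulVec_add, hm, qv, add_zero]) ?_)).symm
    rw [mulVec_add, ← add_right_inj (X a *ᵥ Y a⁻¹ *ᵥ m), add_zero, add_left_comm, ← this]
  have b2 : ∀ {a m}, a ≠ 0 → (∀ a, Y a *ᵥ m = 0) → Y a⁻¹ *ᵥ X a *ᵥ m = m := fun {a m} h hm => by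
    have := br h m
    simp only [add_mulVec, one_mulVec, mulVec_add, hm, qv, add_zero, add_assoc, add_right_inj] at this
    refine (vadd_eq.1 (f2 h (fun b => by rw [mulVec_add, hm, qv', add_zero]) ?_)).symm
    rw [mulVec_add, ← add_right_inj (Y a⁻¹ *ᵥ X a *ᵥ m), add_zero, add_left_comm, this]
  have n1 : ∀ {a m}, a ≠ 0 → (∀ a, X a *ᵥ m = 0) → R.ρ (φ (uu a * ll a⁻¹ * uu a)) *ᵥ m = Y a⁻¹ *ᵥ m := fun {a m} h hm => by
    simp only [map_mul, hX, hY, ← mulVec_mulVec, add_mulVec, one_mulVec, mulVec_add, hm, b1 h hm, add_zero]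
    rw [add_left_comm, vadd, add_zero]
  have n2 : ∀ {a m}, a ≠ 0 → (∀ a, Y a *ᵥ m = 0) → R.ρ (φ (uu a * ll a⁻¹ * uu a)) *ᵥ m = X a *ᵥ m := fun {a m} h hm => by
    rw [braid h]
    simp only [map_mul, hX, hY, ← mulVec_mulVec, add_mulVec, one_mulVec, mulVec_add, hm, b2 h hm, add_zero]
    rw [add_left_comm, vadd, add_zero]
  have X0 : X 0 = 0 := by simpa [uu_zero] using hX 0
  have cm : ∀ a b, X a * Y 1⁻¹ * X b = X b * Y 1⁻¹ * X a := fun a b => by
    by_cases ha : a = 0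
    · simp [ha, X0]
    by_cases hb : b = 0
    · simp [hb, X0]
    refine mv_ext fun u => ?_
    obtain ⟨m, m', hm, hm', rfl⟩ := dec u
    have := congrArg (fun x => R.ρ (φ x) *ᵥ X 1 *ᵥ m') (n_comm ha hb)
    have n1' := fun m => n1 (m := m) one_ne_zero
    have n2a := fun m => n2 (m := m) ha
    have n2b := fun m => n2 (m := m) hb
    generalize uu (1 : E) * ll 1⁻¹ * uu 1 = n at this n1'
    generalize uu a * ll a⁻¹ * uu a = na at this n2a
    generalize uu b * ll b⁻¹ * uu b = nb at this n2b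
    simp only [map_mul, ← mulVec_mulVec] at this
    rw [n1' _ fun a => qv a _ _, b2 one_ne_zero hm', n2a _ hm', n2b _ hm', n1' _ fun a => qv a _ _,
      n1' _ fun a => qv a _ _, n2a _ fun a => qv' a _ _, n2b _ fun a => qv' a _ _] at this
    simpa only [← mulVec_mulVec, mulVec_add, hm, mulVec_zero, zero_add] using this
  have z : ∀ a, ∃ c : F, X a * Y 1⁻¹ + Y 1⁻¹ * X a = c • 1 := fun a => H.cen _ fun g => by
    obtain ⟨x, rfl⟩ := hφ g
    refine gen1 (K := (R.cenm _).comap φ) (fun b => show _ = _ from ?_) one_ne_zero (show _ = _ from ?_) x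
    · rw [hX, add_mul, mul_add _ 1, one_mul, mul_one, mul_add, add_mul, ← mul_assoc, q, zero_mul, mul_assoc (Y _), q, cm,
        mul_zero, ← mul_assoc, zero_add, add_zero]
    · rw [hY, add_mul, mul_add _ 1, one_mul, mul_one, mul_add, add_mul, ← mul_assoc (Y _) (Y _), q', zero_mul,
        mul_assoc (X _), q', mul_zero, ← mul_assoc, zero_add, add_zero]
  rcases H.irr (Submodule.span F (Set.range ![m0, Y 1⁻¹ *ᵥ m0])) (fun g => by
    obtain ⟨x, rfl⟩ := hφ g
    have k0 : m0 ∈ Submodule.span F (Set.range ![m0, Y 1⁻¹ *ᵥ m0]) := Submodule.subset_span ⟨0, rfl⟩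
    have k1 : Y 1⁻¹ *ᵥ m0 ∈ Submodule.span F (Set.range ![m0, Y 1⁻¹ *ᵥ m0]) := Submodule.subset_span ⟨1, rfl⟩
    refine gen1 (K := (R.stabW _).comap φ) (fun a w hw => ?_) one_ne_zero (fun w hw => ?_) x
    all_goals
      obtain ⟨c, rfl⟩ := (Submodule.mem_span_range_iff_exists_fun F).1 hw
      simp only [hX, hY, add_mulVec, one_mulVec, mulVec_add, Fin.sum_univ_two, cons_val_zero, cons_val_one, mulVec_smul, hm0,
        qv', add_zero]
      refine add_mem (Submodule.smul_mem _ _ ?_) (Submodule.smul_mem _ _ ?_)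
    · exact k0
    · obtain ⟨c, e⟩ := z a
      have := congrArg (· *ᵥ m0) e
      simp only [add_mulVec, ← mulVec_mulVec, hm0, mulVec_zero, add_zero, smul_mulVec, one_mulVec] at this
      exact add_mem k1 (this ▸ Submodule.smul_mem _ _ k0)
    · exact add_mem k0 k1
    · exact k1) with e | e
  · exact m00 ((Submodule.mem_bot F).1 (e ▸ Submodule.subset_span ⟨0, rfl⟩))
  · have := finrank_range_le_card (R := F) ![m0, Y 1⁻¹ *ᵥ m0]
    rw [Set.finrank, e] at this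
    simp at this

end Good
end Rp

end H21.Ev
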