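import Cfsg.Agent.H21.FusAlt

/-! Normalizers of Sylow subgroups of alternating groups and simplicity of the fusion system. -/

open Cfsg

namespace H21
open Subgroup Equiv Equiv.Perm SemidirectProduct H8 Function MulAction H25 Multiplicative
open scoped Pointwise Nat commutatorElement

variable {α β γ A : Type*} {p : ℕ}

theorem mem_pgen' {G : Type*} [Group G] [hp : Fact p.Prime] {H : Subgroup G} {a : G} (ha : a ∈ H)
    (h : a ^ p = 1) : a ∈ pgen p H := by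
  obtain ⟨k, -, hk⟩ := (Nat.dvd_prime_pow hp.out (m := 1)).1
    (by simpa using orderOf_dvd_of_pow_eq_one h)
  exact mem_pgen ha hk

/-- Independent permutations of the blocks. -/
noncomputable def loc (f : A × β ↪ α) : (β → Perm A) →* Perm α :=
  (viaEmbeddingHom f).comp ((wrPerm (MonoidHom.id _)).comp inl)

theorem loc_apply (f : A × β ↪ α) (s : β → Perm A) (x : A) (b : β) :
    loc f s (f (x, b)) = f (s b x, b) := viaEmbedding_apply _ _ _

theorem loc_out (f : A × β ↪ α) (s : β → Perm A) {y : α} (h : y ∉ Set.range f) : loc f s y = y :=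
  viaEmbedding_apply_of_notMem _ _ _ h

/-- Power maps of `C_p`. -/
def mu (p : ℕ) : (ZMod p)ˣ →* Perm (Cp p) := toPermHom (ZMod p)ˣ (ZMod p)

theorem mu_apply (u : (ZMod p)ˣ) (x : Cp p) : mu p u x = ofAdd (u * x.toAdd) := rfl

theorem mu_mul (u : (ZMod p)ˣ) (x y : Cp p) : mu p u (x * y) = mu p u x * mu p u y := by
  simp [mu_apply, mul_add]

/-- The torus. -/
noncomputable def aff (e : Cp p × β ↪ α) : (β → (ZMod p)ˣ) →* Perm α :=
  (loc e).comp ((mu p).compLeft β)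

/-- Permutations acting on a block as translations. -/
def Tr [Group A] (f : A → α) : Subgroup (Perm α) where
  carrier := {g | ∃ u, ∀ x, g (f x) = f (u * x)}
  one_mem' := ⟨1, by simp⟩
  mul_mem' := fun ⟨u, hu⟩ ⟨v, hv⟩ => ⟨u * v, fun x => by rw [Perm.mul_apply, hv, hu, mul_assoc]⟩
  inv_mem' := fun ⟨u, hu⟩ => ⟨u⁻¹, fun x => by rw [Perm.inv_eq_iff_eq, hu, mul_inv_cancel_left]⟩

theorem Tr.conj [Group A] {f : A → α} {g n : Perm α} (hg : g ∈ Tr f) (m : MulAut A)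
    (hn : ∀ x, n (f x) = f (m x)) : n * g * n⁻¹ ∈ Tr f := by
  obtain ⟨u, hu⟩ := hg
  refine ⟨m u, fun x => ?_⟩
  rw [Perm.mul_apply, Perm.mul_apply, show n⁻¹ (f x) = f (m⁻¹ x) by
    rw [Perm.inv_eq_iff_eq, hn, MulAut.apply_inv_self], hu, hn, map_mul, MulAut.apply_inv_self]

theorem Tr.of_comm [CommGroup A] [Nontrivial A] {f : A → α} (hf : Injective f) (t : A → Perm α)
    (h1 : ∀ a x, t a (f x) = f (a * x)) (h2 : ∀ a, ∀ y ∉ Set.range f, t a y = y) {g : Perm α}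
    (hg : ∀ a, t a * g = g * t a) : g ∈ Tr f := by
  obtain ⟨a, ha⟩ := exists_ne (1 : A)
  have k := fun x => congrArg (· (f 1)) (hg x)
  simp only [Perm.mul_apply, h1, mul_one] at k
  obtain ⟨u, k1⟩ : g (f 1) ∈ Set.range f := by_contra fun k1 =>
    ha (hf (g.injective ((k a).symm.trans (h2 a _ k1))))
  exact ⟨u, fun x => by rw [← k, ← k1, h1, mul_comm]⟩

section
variable (e : Cp p × β ↪ α)

theorem aff_apply (τ : β → (ZMod p)ˣ) (x : Cp p) (b : β) :
    aff e τ (e (x, b)) = e (mu p (τ b) x, b) := loc_apply _ _ _ _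

theorem aff_out (τ : β → (ZMod p)ˣ) {y : α} (h : y ∉ Set.range e) : aff e τ y = y := loc_out _ _ h

theorem aff_bs (τ : β → (ZMod p)ˣ) (c : β → Cp p) :
    aff e τ * bs e c * (aff e τ)⁻¹ = bs e fun b => mu p (τ b) (c b) := by
  rw [mul_inv_eq_iff_eq_mul]
  exact ext_emb e (fun x b => by simp [aff_apply, bs_apply, mu_mul]) fun y h => by
    simp [aff_out _ _ h, bs_out _ _ h]

theorem tp_aff (π : Perm β) (τ : β → (ZMod p)ˣ) :
    tp e π * aff e τ * (tp e π)⁻¹ = aff e fun b => τ (π⁻¹ b) := by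
  rw [mul_inv_eq_iff_eq_mul]
  exact ext_emb e (fun x b => by simp [aff_apply, tp_apply]) fun y h => by
    simp [aff_out _ _ h, tp_out _ _ h]

variable [Finite α]

theorem aff_mem_nz {Q : Subgroup (Perm β)} {τ : β → (ZMod p)ˣ} (h : ∀ π ∈ Q, ∀ b, τ (π b) = τ b) :
    aff e τ ∈ nz ((Q.comap rightHom).map (wrEmb e)) := by
  refine mem_nz_of_conj_mem ?_
  rintro _ ⟨w, hw, rfl⟩
  have := tp_aff e w.right τ
  rw [show (fun b => τ (w.right⁻¹ b)) = τ from funext (h _ (inv_mem hw)), mul_inv_eq_iff_eq_mul] at this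
  rw [wrEmb_eq, ← conj_mul, aff_bs, ← this, mul_inv_cancel_right]
  exact mul_mem (bs_mem e _ _) (tp_mem e hw)

theorem tp_mem_nz {Q : Subgroup (Perm β)} {g : Perm β} (h : g ∈ nz Q) :
    tp e g ∈ nz ((Q.comap rightHom).map (wrEmb e)) := by
  refine mem_nz_of_conj_mem ?_
  rintro _ ⟨w, hw, rfl⟩
  rw [wrEmb_eq, ← conj_mul, tp_conj, ← map_inv, ← map_mul, ← map_mul]
  exact mul_mem (bs_mem e _ _) (tp_mem e ((mem_normalizer_iff.1 h _).1 hw))

end

/-- `g` permutes the blocks by affine maps, with product of the multipliers `u`. -/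
def Dec [Fintype β] (e : Cp p × β ↪ α) (g : Perm α) (u : (ZMod p)ˣ) : Prop :=
  ∃ (τ : β → (ZMod p)ˣ) (π : Perm β), ∏ b, τ b = u ∧
    ∀ b, ∃ c, ∀ x, g (e (x, b)) = e (mu p (τ b) x * c, π b)

variable [Fintype β] {e : Cp p × β ↪ α}

theorem Dec.mul {g h : Perm α} {u v : (ZMod p)ˣ} (hg : Dec e g u) (hh : Dec e h v) :
    Dec e (g * h) (u * v) := by
  obtain ⟨τ, π, rfl, hg⟩ := hg
  obtain ⟨s, ρ, rfl, hh⟩ := hh
  refine ⟨fun b => τ (ρ b) * s b, π * ρ, by rw [Finset.prod_mul_distrib, Equiv.prod_comp], fun b => ?_⟩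
  obtain ⟨c, hc⟩ := hh b
  obtain ⟨d, hd⟩ := hg (ρ b)
  exact ⟨mu p (τ (ρ b)) c * d, fun x => by simp [hc, hd, mu_mul, mul_assoc]⟩

theorem dec_of_nz [hp : Fact p.Prime] {Q : Subgroup (Perm β)} {g : Perm α}
    (hg : g ∈ nz ((Q.comap rightHom).map (wrEmb e))) : ∃ u, Dec e g u := by
  classical
  have h : ∀ b, ∃ u b' c, ∀ x, g (e (x, b)) = e (mu p u x * c, b') := fun b => by
    let t : Cp p := ofAdd 1
    have ht : t ≠ 1 := fun k => one_ne_zero (ofAdd_eq_one.1 k)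
    have hs : g * bs e (Pi.mulSingle b t) * g⁻¹ ∈ (wrEmb e).range :=
      map_le_range _ _ ((mem_normalizer_iff.1 hg _).1 (bs_mem e Q _))
    have h1 : ∀ x, (g * bs e (Pi.mulSingle b t) * g⁻¹) (g (e (x, b))) = g (e (t * x, b)) := by
      simp [bs_apply]
    obtain ⟨w, hw⟩ := id hs
    obtain ⟨⟨c, b'⟩, hc⟩ : g (e (1, b)) ∈ Set.range e := by_contra fun k => by
      have := h1 1
      rw [← hw, wrEmb.apply_of_notMem _ _ k] at this
      simp [ht.symm] at this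
    obtain ⟨d, b'', hd⟩ : ∃ d b'', g (e (t, b)) = e (d * c, b'') :=
      ⟨_, _, by rw [← mul_one t, ← h1, ← hc, ← hw, wrEmb.apply]⟩
    have h2 : ∀ y, (g * bs e (Pi.mulSingle b t) * g⁻¹) (e (y, b')) = e (d * y, b'') := fun y => by
      have := wrEmb.shift e hs (c' := d * c) (b' := b'') (by rw [hc, h1, mul_one, hd]) (y / c)
      rwa [div_mul_cancel, mul_left_comm, div_mul_cancel] at this
    have h3 : e (d, b'') ≠ e (1, b') := fun k => by
      obtain ⟨rfl, rfl⟩ := Prod.mk.inj (e.injective k)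
      rw [one_mul, hc] at hd
      simp [ht] at hd
    have h4 : ∀ y, ∃ z, g (e (z, b)) = e (y, b') := fun y => by
      have k1 := h2 y
      have k2 : bs e (Pi.mulSingle b t) (g⁻¹ (e (y, b'))) ≠ g⁻¹ (e (y, b')) := fun k => by
        rw [Perm.mul_apply, Perm.mul_apply, k, ← Perm.mul_apply, mul_inv_cancel] at k1
        obtain ⟨k3, rfl⟩ := Prod.mk.inj (e.injective k1)
        exact h3 (by rw [right_eq_mul.1 k3])
      obtain ⟨⟨z, a⟩, k3⟩ : g⁻¹ (e (y, b')) ∈ Set.range e := by_contra fun k => k2 (bs_out _ _ k)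
      obtain rfl : a = b := by_contra fun k => k2 (by rw [← k3, bs_apply]; simp [k])
      exact ⟨z, by simp [k3]⟩
    choose ψ hψ using h4
    obtain ⟨y, hy⟩ := Finite.surjective_of_injective (f := ψ) (fun x y k => by
      simpa [hψ] using congrArg (fun z => g (e (z, b))) k) t
    obtain rfl : b'' = b' := (Prod.mk.inj (e.injective (hd.symm.trans (hy ▸ hψ y)))).2
    have h5 : ∀ n : ℕ, g (e (t ^ n, b)) = e (d ^ n * c, b'') := fun n => by
      induction n with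
      | zero => simp [hc]
      | succ n ih => rw [pow_succ', ← h1, ih, h2, pow_succ', mul_assoc]
    refine ⟨Units.mk0 d.toAdd fun k => h3 (by rw [show d = 1 from k]), b'', c, fun x => ?_⟩
    convert h5 x.toAdd.val using 4
    · simp [t, ← ofAdd_nsmul]
    · apply toAdd.injective; simp [mu_apply, mul_comm]
  choose τ f c h using h
  have hf : Injective f := fun a b hab => by
    have : g (e ((mu p (τ a))⁻¹ (c a)⁻¹, a)) = g (e ((mu p (τ b))⁻¹ (c b)⁻¹, b)) := by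
      rw [h, h, hab]; simp
    exact (Prod.mk.inj (e.injective (g.injective this))).2
  exact ⟨_, τ, .ofBijective f (Finite.injective_iff_bijective.1 hf), rfl, fun b => ⟨c b, h b⟩⟩

theorem alt_le_of_pow [DecidableEq β] [hp : Fact p.Prime] (h2 : p ≠ 2) (h : p ≤ Fintype.card β)
    {D : Subgroup (Perm β)} (hD : ∀ x, x ^ p = 1 → x ∈ D) : alternatingGroup β ≤ D := by
  rcases eq_or_ne p 3 with rfl | h3
  · rw [← closure_three_cycles_eq_alternating, Subgroup.closure_le]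
    exact fun x hx => hD x (hx.orderOf ▸ pow_orderOf_eq_one x)
  have h5 : 5 ≤ p := hp.out.five_le_of_ne_two_of_ne_three h2 h3
  obtain ⟨x, hx, -⟩ := exists_prime_cycle hp.out h
  refine (alternatingGroup_le_of_normal (N := normalClosure {x}) (by simp; omega) ?_).trans
    ((Subgroup.closure_le _).2 fun y hy => hD y ?_)
  · exact (nontrivial_iff_exists_ne_one _).2 ⟨x, subset_normalClosure rfl, fun k =>
      hp.out.ne_one (by rw [← hx, k, orderOf_one])⟩
  · obtain ⟨_, rfl, k⟩ := Group.mem_conjugatesOfSet_iff.1 hy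
    obtain ⟨c, rfl⟩ := isConj_iff.1 k
    rw [conj_pow, ← hx, pow_orderOf_eq_one, mul_one, mul_inv_cancel]

variable [Fintype α] [DecidableEq α]

omit [DecidableEq α] [Fintype β] in
theorem tp_nz_bs (π : Perm β) : tp e π ∈ nz (bs e).range := mem_nz_of_conj_mem <| by
  rintro _ ⟨c, rfl⟩; exact ⟨_, (tp_conj e π c).symm⟩

omit [DecidableEq α] [Fintype β] in
theorem aff_nz_bs (τ : β → (ZMod p)ˣ) : aff e τ ∈ nz (bs e).range := mem_nz_of_conj_mem <| by
  rintro _ ⟨c, rfl⟩; exact ⟨_, (aff_bs e τ c).symm⟩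

omit [DecidableEq α] [Fintype α] in
theorem aff_mem_of_prod [DecidableEq β] (h : 3 ≤ Fintype.card β) {J : Subgroup (Perm α)}
    (j1 : ∀ π ∈ alternatingGroup β, tp e π ∈ J) (n2 : ∀ τ, aff e τ ∈ nz J) {τ : β → (ZMod p)ˣ}
    (hτ : ∏ b, τ b = 1) : aff e τ ∈ J :=
  mem_of_prod_eq_one (D := comap (aff e) J) (fun a b u hab => by
    obtain ⟨d, hd⟩ := H12.exists_not_mem_list [a, b] (by simp; omega)
    simp only [List.mem_cons, List.not_mem_nil, or_false, not_or] at hd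
    have k1 : swap a b * swap a d ∈ alternatingGroup β := by
      simp [mem_alternatingGroup, hab, Ne.symm hd.1]
    have k2 := mul_mem (j1 _ k1) ((mem_normalizer_iff.1 (n2 (Pi.mulSingle b u)) _).1 (inv_mem (j1 _ k1)))
    rw [← mul_assoc, ← mul_assoc, tp_aff, ← map_inv, ← map_mul] at k2
    rw [mem_comap]
    convert k2 using 3
    ext1 x
    have : (swap a b * swap a d)⁻¹ x = b ↔ x = a := by
      rw [Perm.inv_eq_iff_eq, Perm.mul_apply, swap_apply_of_ne_of_ne hab.symm (Ne.symm hd.2),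
        swap_apply_right]
    simp only [Pi.mulSingle_apply, this]) hτ

theorem Dec.mem_pgen [hp : Fact p.Prime] (h2 : p ≠ 2) (h : p ≤ Fintype.card β)
    (hc : (Set.range e)ᶜ.Subsingleton) {g : Perm α} (hg : Dec e g 1) (ha : g ∈ alternatingGroup α) :
    g ∈ pgen p (nz (bs e).range) := by
  classical
  have h3 : 3 ≤ p := hp.out.two_le.lt_of_ne' h2
  have j1 : alternatingGroup β ≤ (pgen p (nz (bs e).range)).comap (tp e) :=
    alt_le_of_pow h2 h fun x hx => mem_pgen' (tp_nz_bs x) (by rw [← map_pow, hx, map_one])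
  have j2 : pgen p (nz (bs e).range) ≤ alternatingGroup α := pgen_le_iff.2 fun a _ ⟨k, hk⟩ =>
    mem_alt_of_odd (hk ▸ (hp.out.odd_of_ne_two h2).pow)
  obtain ⟨τ, π, hτ, hg⟩ := hg
  choose c hg using hg
  have j3 : aff e τ ∈ pgen p (nz (bs e).range) := aff_mem_of_prod (h3.trans h) j1
    (fun τ => nz_le_nz_pgen _ (le_nz_self _ (aff_nz_bs τ))) hτ
  have j4 : g = bs e (fun b => c (π⁻¹ b)) * (tp e π * aff e τ) :=
    ext_emb e (fun x b => by simp [hg, aff_apply, tp_apply, bs_apply, mul_comm]) fun y hy => by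
      simp [aff_out _ _ hy, tp_out _ _ hy, bs_out _ _ hy, fix_out e hc (fun u => ⟨_, (hg u.2 u.1).symm⟩) y hy]
  have j5 : bs e (fun b => c (π⁻¹ b)) ∈ pgen p (nz (bs e).range) :=
    mem_pgen' (le_nz_self _ ⟨_, rfl⟩) (bs_pow _ _)
  rw [j4, mul_mem_cancel_left (j2 j5), mul_mem_cancel_right (j2 j3), mem_alternatingGroup, sign_tp,
    Int.units_pow_eq_pow_mod_two, Nat.odd_iff.1 (hp.out.odd_of_ne_two h2), pow_one] at ha
  exact j4 ▸ mul_mem j5 (mul_mem (j1 ha) j3)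

/-- Transvections of `C_p × C_p`. -/
def sh (p : ℕ) : Cp p →* MulAut (Cp p × Cp p) where
  toFun a :=
    { toFun := fun z => (z.1 * ofAdd (a.toAdd * z.2.toAdd), z.2)
      invFun := fun z => (z.1 / ofAdd (a.toAdd * z.2.toAdd), z.2)
      left_inv := fun z => by simp
      right_inv := fun z => by simp
      map_mul' := fun z w => by simp [mul_add, mul_mul_mul_comm] }
  map_one' := by ext z <;> simp
  map_mul' a b := by ext z <;> simp; ring

theorem exists_diag [Fact p.Prime] {D : Subgroup (MulAut (Cp p × Cp p))} (hD : ∀ x, x ^ p = 1 → x ∈ D)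
    (u : (ZMod p)ˣ) : ∃ m ∈ D, ∀ x y, m (x, y) = (mu p u x, mu p u⁻¹ y) := by
  have h0 : ∀ a, sh p a ^ p = 1 := fun a => by
    rw [← map_pow, show a ^ p = 1 from congrFun (zmod_pow_eq_one fun _ : Unit => a) (), map_one]
  let s : MulAut (Cp p × Cp p) := MulEquiv.prodComm
  have h1 : ∀ a : ZMod p, sh p (ofAdd a) ∈ D := fun a => hD _ (h0 _)
  have h2 : ∀ a : ZMod p, s * sh p (ofAdd a) * s⁻¹ ∈ D := fun a => hD _ (by rw [conj_pow, h0]; simp)
  refine ⟨_, mul_mem (mul_mem (h1 u) (mul_mem (h2 (-u⁻¹ : (ZMod p)ˣ)) (h1 u)))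
    (mul_mem (h1 (-1)) (mul_mem (h2 1) (h1 (-1)))), fun x y => ?_⟩
  have h3 : ∀ a x y, sh p (ofAdd a) (x, y) = (x * ofAdd (a * y.toAdd), y) := fun _ _ _ => rfl
  have h4 : ∀ a x y, (s * sh p (ofAdd a) * s⁻¹) (x, y) = (x, y * ofAdd (a * x.toAdd)) := fun _ _ _ => rfl
  simp only [MulAut.mul_apply _ (sh p _), MulAut.mul_apply _ (_ * sh p _ * _), h3, h4,
    MulAut.mul_apply _ (sh p _ * _), mu_apply, Prod.mk.injEq]
  have := u.ne_zero
  constructor <;> apply toAdd.injective <;>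
    simp only [toAdd_mul, toAdd_ofAdd, Units.val_neg, Units.val_inv_eq_inv_val] <;> field_simp <;> ring

theorem exists_dec [hp : Fact p.Prime] (hc : (Set.range e)ᶜ.Subsingleton) [Fintype γ] [Nonempty γ]
    (e' : Cp p × γ ↪ β) {R : Subgroup (Perm γ)} (hR : IsPGroup p R) {P : Subgroup (Perm α)}
    (hP : P = (((R.comap rightHom).map (wrEmb e')).comap rightHom).map (wrEmb e)) (u : (ZMod p)ˣ) :
    ∃ V ≤ P, cz V ≤ V ∧ ∃ a ∈ nz P ⊓ pgen p (nz V), Dec e a u := by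
  classical
  let f : (Cp p × Cp p) × γ ↪ α := ⟨fun z => e (z.1.1, e' (z.1.2, z.2)), fun z w h => by
    simpa [Prod.ext_iff, and_assoc] using h⟩
  have hf : ∀ x y k, f ((x, y), k) = e (x, e' (y, k)) := fun _ _ _ => rfl
  have f1 : ∀ x, ∀ b ∉ Set.range e', e (x, b) ∉ Set.range f := by
    rintro x b hb ⟨z, hz⟩
    exact hb ⟨_, (Prod.mk.inj (e.injective hz)).2⟩
  have f2 : ∀ y ∉ Set.range e, y ∉ Set.range f := fun y hy ⟨z, hz⟩ => hy ⟨_, hz⟩
  let V := (⨅ k, Tr fun z => f (z, k)) ⊓ (⨅ b ∉ Set.range e', Tr fun x => e (x, b)) ⊓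
    ⨅ y ∉ Set.range e, stabilizer (Perm α) y
  have hV : ∀ g, g ∈ V ↔ (∀ k, g ∈ Tr fun z => f (z, k)) ∧
      (∀ b ∉ Set.range e', g ∈ Tr fun x => e (x, b)) ∧ ∀ y ∉ Set.range e, g y = y := fun g => by
    simp only [V, mem_inf, mem_iInf, and_assoc, mem_stabilizer_iff, Perm.smul_def]
  obtain ⟨k₀⟩ := ‹Nonempty γ›
  let O := orbit R k₀
  let m : MulAut (Cp p × Cp p) →* γ → MulAut (Cp p × Cp p) :=
    MonoidHom.pi fun k => if k ∈ O then MonoidHom.id _ else 1
  let Φ := (loc f).comp (((MulAut.toPerm _).compLeft γ).comp m)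
  have hΦ : ∀ M z k, Φ M (f (z, k)) = f (m M k z, k) := fun M z k => loc_apply _ _ _ _
  have hΦ' : ∀ M, ∀ y ∉ Set.range f, Φ M y = y := fun M y hy => loc_out _ _ hy
  have hN : ∀ M, Φ M ∈ nz V := fun M => mem_nz_of_conj_mem fun g hg => by
    obtain ⟨h1, h2, h3⟩ := (hV g).1 hg
    refine (hV _).2 ⟨fun k => Tr.conj (h1 k) _ (hΦ M · k),
      fun b hb => Tr.conj (h2 b hb) 1 fun x => hΦ' _ _ (f1 x b hb), fun y hy => ?_⟩
    rw [← map_inv, Perm.mul_apply, Perm.mul_apply, hΦ' _ _ (f2 y hy), h3 y hy, hΦ' _ _ (f2 y hy)]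
  obtain ⟨M, hM, hM'⟩ := exists_diag (D := (pgen p (nz V)).comap Φ)
    (fun x hx => mem_pgen' (hN x) (by rw [← map_pow, hx, map_one])) u
  let B := (Finset.univ ×ˢ O.toFinset).map e'
  have hB : ∀ y k, e' (y, k) ∈ B ↔ k ∈ O := by simp [B]
  have hB' : ∀ b ∉ Set.range e', b ∉ B := fun b hb h => by
    obtain ⟨z, -, hz⟩ := Finset.mem_map.1 h; exact hb ⟨z, hz⟩
  have hO : ∀ π ∈ R, ∀ k, π k ∈ O ↔ k ∈ O := fun π h k =>
    orbit_eq_iff.symm.trans ((orbit_smul (⟨π, h⟩ : R) k).congr_left.trans orbit_eq_iff)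
  have ha : Φ M = aff e (fun b => if b ∈ B then u else 1) *
      tp e (aff e' fun k => if k ∈ O then u⁻¹ else 1) := by
    refine ext_emb e (fun x b => ?_) fun y hy => by
      rw [hΦ' _ _ (f2 y hy), Perm.mul_apply, tp_out _ _ hy, aff_out _ _ hy]
    rw [Perm.mul_apply, tp_apply, aff_apply]
    by_cases hb : b ∈ Set.range e'
    · obtain ⟨⟨y, k⟩, rfl⟩ := hb
      rw [← hf, hΦ, aff_apply]
      by_cases hk : k ∈ O <;> simp [m, hk, hB, hM', hf]
    · simp [hΦ' _ _ (f1 x b hb), aff_out _ _ hb, hB' b hb]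
  refine ⟨V, fun g hg => ?_, fun g hg => ?_, Φ M, ⟨?_, hM⟩, ?_⟩
  · obtain ⟨h1, h2, h3⟩ := (hV g).1 hg
    choose v hv using h1
    obtain ⟨w, rfl⟩ := wrEmb.mem_range e h3 fun b => by
      by_cases hb : b ∈ Set.range e'
      · obtain ⟨⟨y, k⟩, rfl⟩ := hb
        exact ⟨e' ((v k).2 * y, k), (v k).1, fun c => hv k (c, y)⟩
      · obtain ⟨c, hc⟩ := h2 b hb
        exact ⟨b, c, hc⟩
    refine hP ▸ ⟨w, ?_, rfl⟩
    rw [SetLike.mem_coe, mem_comap, show rightHom w = bs e' fun k => (v k).2 from ?_]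
    · exact bs_mem _ _ _
    refine ext_emb e' (fun y k => ?_) fun b hb => ?_
    · exact (Prod.mk.inj (e.injective ((wrEmb.apply e w 1 _).symm.trans (hv k (1, y))))).2.trans
        (bs_apply e' (fun k => (v k).2) y k).symm
    · obtain ⟨c, hc⟩ := h2 b hb
      exact (Prod.mk.inj (e.injective ((wrEmb.apply e w 1 _).symm.trans (hc 1)))).2.trans
        (bs_out _ _ hb).symm
  · have h1 : ∀ k, g ∈ Tr fun z => f (z, k) := fun k => by
      have k1 : ∀ a z j, loc f (Pi.mulSingle k (toPerm a)) (f (z, j)) =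
          f ((if j = k then a else 1) * z, j) := fun a z j => by
        by_cases h : j = k <;> simp [loc_apply, h]
      refine Tr.of_comm (fun z w h => by simpa using h) (fun a => loc f (Pi.mulSingle k (toPerm a)))
        (fun a z => by simp [k1]) (fun a y hy => ?_) fun a => hg _ ((hV _).2 ⟨fun j => ⟨_, (k1 a · j)⟩,
          fun b hb => ⟨1, fun x => by simp [loc_out _ _ (f1 x b hb)]⟩, fun y hy => loc_out _ _ (f2 y hy)⟩)
      by_cases h : y ∈ Set.range f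
      · obtain ⟨⟨z, j⟩, rfl⟩ := h
        rw [k1, if_neg fun k2 => hy ⟨z, by rw [k2]⟩, one_mul]
      · exact loc_out _ _ h
    have h2 : ∀ b ∉ Set.range e', g ∈ Tr fun x => e (x, b) := fun b hb => by
      refine Tr.of_comm (fun z w h => by simpa using h) (fun a => bs e (Pi.mulSingle b a))
        (fun a z => by simp [bs_apply]) (fun a y hy => ?_) fun a => hg _ ((hV _).2
          ⟨fun j => ⟨1, fun z => ?_⟩, fun b hb => ⟨_, (bs_apply _ _ · b)⟩, fun y hy => bs_out _ _ hy⟩)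
      · by_cases h : y ∈ Set.range e
        · obtain ⟨⟨z, j⟩, rfl⟩ := h
          rw [bs_apply, Pi.mulSingle_eq_of_ne fun k2 => hy ⟨z, by rw [k2]⟩, one_mul]
        · exact bs_out _ _ h
      · rw [one_mul]
        exact (bs_apply _ _ _ _).trans (by rw [Pi.mulSingle_eq_of_ne fun k2 => hb ⟨_, k2⟩, one_mul]; rfl)
    refine (hV g).2 ⟨h1, h2, fix_out e hc fun ⟨x, b⟩ => ?_⟩
    by_cases hb : b ∈ Set.range e'
    · obtain ⟨⟨y, k⟩, rfl⟩ := hb
      obtain ⟨v, hv⟩ := h1 k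
      exact ⟨_, (hv (x, y)).symm⟩
    · obtain ⟨c, hc⟩ := h2 b hb
      exact ⟨_, (hc x).symm⟩
  · rw [ha, hP]
    refine mul_mem (aff_mem_nz e ?_) (tp_mem_nz e (aff_mem_nz e' fun π h k => by simp only [hO π h]))
    rintro _ ⟨w, hw, rfl⟩ b
    by_cases hb : b ∈ Set.range e'
    · obtain ⟨⟨y, k⟩, rfl⟩ := hb
      simp only [wrEmb.apply, hB, hO w.right hw]
    · rw [wrEmb.apply_of_notMem _ _ hb]
  · obtain ⟨j, hj⟩ := hR.card_orbit k₀
    rw [ha, ← mul_one u]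
    refine Dec.mul ⟨fun b => if b ∈ B then u * 1 else 1, 1, ?_, fun b => ⟨1, fun x => by
      simp [aff_apply]⟩⟩ ⟨1, aff e' fun k => if k ∈ O then (u * 1)⁻¹ else 1, by simp,
        fun b => ⟨1, fun x => by rw [tp_apply]; simp⟩⟩
    rw [Finset.prod_ite_mem, Finset.univ_inter, Finset.prod_const, mul_one]
    ext
    simp [B, ← Nat.card_eq_fintype_card, O, hj, pow_mul, show Nat.card (Cp p) = p from Nat.card_zmod p]

theorem nz_alt [hp : Fact p.Prime] (h2 : p ≠ 2) (hn : p ^ 2 ≤ Fintype.card α)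
    (hb : Fintype.card α % p ≤ 1) (P : Sylow p (Perm α)) {K : Subgroup (Perm α)}
    (hK : ∀ V ≤ P.1, cz V ≤ V → nz P.1 ⊓ pgen p (nz V) ≤ K) : nz P.1 ⊓ alternatingGroup α ≤ K := by
  obtain ⟨e, Q, hP⟩ := exists_wr P
  obtain ⟨e', R, hQ⟩ := exists_wr Q
  have hm : p ≤ Fintype.card (Fin (Fintype.card α / p)) := by
    rw [Fintype.card_fin]; exact (Nat.le_div_iff_mul_le hp.out.pos).2 (sq p ▸ hn)
  have hc : (Set.range e)ᶜ.Subsingleton := by
    rw [← Set.ncard_le_one_iff_subsingleton, card_compl_range e (Fintype.card_fin _)]; exact hb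
  have : Nonempty (Fin (Fintype.card (Fin (Fintype.card α / p)) / p)) :=
    ⟨⟨0, Nat.div_pos hm hp.out.pos⟩⟩
  intro g hg
  obtain ⟨u, hu⟩ := dec_of_nz (hP ▸ hg.1)
  obtain ⟨V, h1, h3, a, ha, hd⟩ := exists_dec hc e' R.isPGroup' (hQ ▸ hP) u⁻¹
  have h4 : a ∈ alternatingGroup α := (pgen_le_iff.2 fun a _ ⟨k, hk⟩ =>
    mem_alt_of_odd (hk ▸ (hp.out.odd_of_ne_two h2).pow)) ha.2
  refine (mul_mem_cancel_right (hK V h1 h3 ha)).1 (hK (bs e).range ?_ (fun x hx =>
    mem_bs_of_comm e hc fun c => hx _ ⟨c, rfl⟩) ⟨mul_mem hg.1 ha.1,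
      (mul_inv_cancel u ▸ hu.mul hd).mem_pgen h2 hm hc (mul_mem hg.2 h4)⟩)
  rintro _ ⟨c, rfl⟩
  exact hP ▸ bs_mem e _ c

theorem isSimple_alt [hp : Fact p.Prime] (h6 : 6 ≤ Fintype.card α) (hn : p ^ 2 ≤ Fintype.card α)
    (hb : Fintype.card α % p ≤ 1) (S : Sylow p (alternatingGroup α)) :
    (groupFusionSystem S.1).IsSimple p := by
  obtain ⟨P, hP⟩ := exists_sylow_alt S
  have hm : ∀ x : alternatingGroup α, x ∈ S.1 ↔ x.1 ∈ P.1 := fun x =>
    (mem_map_iff_mem (subtype_injective _)).symm.trans (hP ▸ and_iff_left x.2)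
  refine isSimple_group2 S (fun h => ?_) (fun T hT h0 x hx => ?_) fun K h1 hK => ?_
  · exact ((sylow_alt_comm_iff h6 S).1 (h ▸ inferInstance)).not_ge hn
  · obtain ⟨z, hz, k1, k2⟩ := hT.exists_central S.isPGroup' h0
    refine (mem_map_iff_mem (subtype_injective _)).1 (sc_alt h6 hn hb P (hP ▸ map_mono hT.1) ?_
      (mem_map_of_mem _ hz) (by simpa using k1) (fun s hs => congrArg Subtype.val
        (k2 ⟨s, hs.2⟩ ((hm _).2 hs.1))) ⟨(hm x).1 hx, x.2⟩)
    rintro _ ⟨x, hx, rfl⟩ y hy k3 k4 k5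
    exact ⟨⟨y, hy.2⟩, hT.mem_of_isConj hx ((hm _).2 hy.1) (isConj_alt_of_card hp.out hn k3 k4 k5), rfl⟩
  rcases eq_or_ne p 2 with rfl | h2
  · exact (normalizer_sylow_two_alt h6 S).le.trans h1
  have hA := le_alt_of_odd h2 P.isPGroup'
  rw [inf_eq_left.2 hA] at hP
  refine fun g hg => (mem_map_iff_mem (subtype_injective _)).1 (nz_alt h2 hn hb P
    (fun V k1 k2 a ha => ?_) ⟨hP ▸ le_normalizer_map _ ⟨g, hg, rfl⟩, g.2⟩)
  obtain ⟨a, k3, rfl⟩ : a ∈ (pgen p (nz (V.subgroupOf (alternatingGroup α)))).map (Subgroup.subtype _) := by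
    refine (pgen_le_iff.2 fun a h ⟨k, hk⟩ => ?_) ha.2
    have k3 := mem_alt_of_odd (hk ▸ (hp.out.odd_of_ne_two h2).pow)
    exact ⟨⟨a, k3⟩, mem_pgen (mem_nz_of_conj_mem fun x hx => (mem_normalizer_iff.1 h _).1 hx)
      (by simpa using hk), rfl⟩
  refine mem_map_of_mem _ (hK _ (fun x hx => (hm x).2 (k1 hx)) (fun x hx => k2 fun y hy =>
    congrArg Subtype.val (hx ⟨y, hA (k1 hy)⟩ hy)) ⟨mem_nz_of_conj_mem fun x hx => ?_, k3⟩)
  exact (hm _).2 ((mem_normalizer_iff.1 ha.1 _).1 ((hm x).1 hx))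

end H21
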