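import Cfsg.Agent.H21.FusLin2

/-! Fusion systems of symplectic and unitary groups in the defining characteristic, I. -/

open Cfsg

namespace H21
open Subgroup H25 Module Function H12 H12.CForm

variable {F V : Type*} [Field F] [AddCommGroup V] [Module F V] {T : FormType F} {C : CForm T V}
  {p : ℕ} {b : ℕ → V} {m k : ℕ} {g s : V ≃ₗ[F] V} {v y e f : V} {a : F} {W X : Submodule F V}

variable (C) in
/-- The group of isometries of determinant one. -/
noncomputable abbrev SI : Subgroup (V ≃ₗ[F] V) := C.isom ⊓ SLV F V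

variable (C) in
/-- `g` is the map `x ↦ x + B(v,x) y - (σ B(x,y) + a B(v,x)) v`. -/
def Rh (g : V ≃ₗ[F] V) (v y : V) (a : F) : Prop :=
  ∀ x, g x = x + C.B v x • y - (T.σ (C.B x y) + a * C.B v x) • v

variable (C) in
/-- Common properties of symplectic and unitary spaces. -/
structure TvT : Prop where
  spec : Spec C (SI C)
  dim : 4 ≤ finrank F V
  ee : T.ε * T.ε = 1
  se : T.σ T.ε = T.ε
  nb : ∀ x y, C.B x x = C.B y y → C.N x = C.N y
  tr : ∀ x, ∃ a, a * T.ε + T.σ a = C.B x x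
  c0 : ∃ a ≠ 0, a * T.ε + T.σ a = 0
  nrm : ∀ d r, C.B d d ≠ 0 → T.ε * T.σ r = r → ∃ l, l * T.σ l * C.B d d = r
  add : ∀ A : AddSubgroup F, (∀ l, ∀ a ∈ A, a * (l * T.σ l) ∈ A) → ∀ a ∈ A, a ≠ 0 →
    a * T.ε + T.σ a = 0 → ∀ c, c * T.ε + T.σ c = 0 → c ∈ A
  alt : (∀ r, T.ε * T.σ r = r) → C.isom ≤ SLV F V ∧ (∀ x, C.B x x = 0) ∧
    (3 ≤ Nat.card F ∨ 6 ≤ finrank F V)

variable (C) in
/-- The unipotent radical of the stabilizer of `W`. -/
noncomputable def Qf (W : Submodule F V) : Subgroup (V ≃ₗ[F] V) := SI C ⊓ (Qs (C.perp W) W ⊓ Qs W ⊥)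

variable (C) in
/-- The unipotent radical of the stabilizer of a flag. -/
noncomputable def Ufm (b : ℕ → V) (m : ℕ) : Subgroup (V ≃ₗ[F] V) :=
  SI C ⊓ (Uf F b m ⊓ Qs (C.perp (Wf F b m)) (Wf F b m))

theorem Rh.conj (h : Rh C s v y a) (hg : g ∈ C.isom) : Rh C (g * s * g⁻¹) (g v) (g y) a := fun x => by
  obtain ⟨x, rfl⟩ := g.surjective x
  rw [LinearEquiv.mul_apply, LinearEquiv.mul_apply, inv_apply_apply, h, isom_B hg, isom_B hg, map_sub,
    map_add, map_smul, map_smul]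

theorem Rh.eq (h : Rh C s v y a) (h' : Rh C g v y a) : s = g :=
  LinearEquiv.ext fun x => (h x).trans (h' x).symm

theorem Rh.fix (h : Rh C s v y a) (hv : v ∈ C.perp W) (hy : y ∈ C.perp W) : ∀ x ∈ W, s x = x :=
  fun x hx => by simp [h x, C.mem_perp'.1 hv x hx, C.mem_perp.1 hy x hx]

theorem dual_Qs (hg : g ∈ C.isom) (h : g ∈ Qs X W) : ∀ y ∈ C.perp W, g y - y ∈ C.perp X :=
  fun y hy => C.mem_perp.2 fun x hx => by
    rw [map_sub, isom_B_right hg, ← C.B_sub_left]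
    exact C.mem_perp.1 hy _ ((inv_mem h).2 x hx)

theorem stab_perp [FiniteDimensional F V] (hg : g ∈ C.isom) (h : g ∈ glStab W) :
    g ∈ glStab (C.perp W) := mem_glStab_of_mapsTo fun y hy => C.mem_perp.2 fun x hx => by
  rw [isom_B_right hg]; exact C.mem_perp.1 hy _ ((inv_mem h x).1 hx)

theorem stab_of_fix [FiniteDimensional F V] (h : ∀ x ∈ W, g x = x) : g ∈ glStab W :=
  mem_glStab_of_mapsTo fun x hx => (h x hx).symm ▸ hx

theorem mem_pgen'' {G : Type*} [Group G] [hp : Fact p.Prime] {H : Subgroup G} {a : G} (ha : a ∈ H)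
    {k : ℕ} (h : a ^ p ^ k = 1) : a ∈ pgen p H := by
  obtain ⟨k, -, hk⟩ := (Nat.dvd_prime_pow hp.out).1 (orderOf_dvd_of_pow_eq_one h)
  exact mem_pgen ha hk

variable [Finite V]

theorem Rh.mem_Qf (h : Rh C s v y a) (hs : s ∈ SI C) (hW : W ≤ C.perp W) (hv : v ∈ W)
    (hy : y ∈ C.perp W) : s ∈ Qf C W :=
  ⟨hs, mem_Qs hW fun x hx => by
    simpa [h x, C.mem_perp.1 hx v hv] using W.smul_mem _ hv, mem_Qs_bot.2 (h.fix (hW hv) hy)⟩

theorem nz_Qf (hg : g ∈ SI C) (h : g ∈ glStab W) : g ∈ nz (Qf C W) :=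
  mem_nz_inf (le_nz_self _ hg) (mem_nz_inf (mem_nz_Qs (stab_perp hg.1 h) h)
    (mem_nz_Qs h (by simp [mem_glStab])))

theorem nz_Ufm (hg : g ∈ SI C) (h : ∀ i ≤ m, g ∈ glStab (Wf F b i)) : g ∈ nz (Ufm C b m) :=
  mem_nz_inf (le_nz_self _ hg) (mem_nz_inf (mem_nz_Uf h)
    (mem_nz_Qs (stab_perp hg.1 (h m le_rfl)) (h m le_rfl)))

omit [Finite V] in
theorem ts_le (ts : Wf F b m ≤ C.perp (Wf F b m)) {i j : ℕ} (hi : i ≤ m) (hj : j ≤ m) :
    Wf F b i ≤ C.perp (Wf F b j) := (Wf_mono hi).trans (ts.trans (C.perp_anti (Wf_mono hj)))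

omit [Finite V] in
theorem Qf_le (ts : Wf F b m ≤ C.perp (Wf F b m)) (hk : k ≤ m) : Qf C (Wf F b k) ≤ Ufm C b m :=
  fun _ hg => ⟨hg.1, mem_Uf_of k (mem_Qs_bot.1 hg.2.2) fun x hx => hg.2.1.2 x (ts_le ts le_rfl hk hx),
    mem_Qs ts fun x hx => Wf_mono hk (hg.2.1.2 x (C.perp_anti (Wf_mono hk) hx))⟩

section char
variable [Fact p.Prime] [CharP F p]

omit [Finite V] in
theorem Rh.pow (h : Rh C s v y a) (hv : C.B v v = 0) (hy : C.B v y = 0) : s ^ p ^ 3 = 1 := by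
  refine pow_eq_one_of_chain (fun i => if i = 0 then ⊥ else if i = 1 then Submodule.span F {v} else
    if i = 2 then C.perp (Submodule.span F {v}) else ⊤) 3 rfl rfl fun i hi x hx => ?_
  interval_cases i
  · obtain ⟨c, rfl⟩ := Submodule.mem_span_singleton.1 hx
    simp [h v, hv, hy]
  · simpa [h x, C.mem_perp_singleton.1 hx] using
      Submodule.smul_mem _ _ (Submodule.mem_span_singleton_self v)
  · exact C.mem_perp_singleton.2 (by simp [h x, hv, hy])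

omit [Finite V] in
theorem unip (hg : g ∈ C.isom) (h : g ∈ Uf F b m ⊓ Qs (C.perp (Wf F b m)) (Wf F b m)) :
    g ^ p ^ (2 * m + 1) = 1 := by
  refine pow_eq_one_of_chain (fun i => if i ≤ m then Wf F b i else C.perp (Wf F b (2 * m + 1 - i))) _
    (by simp [Wf_zero]) (by simp [Wf_zero, show ¬ 2 * m + 1 ≤ m by omega]) fun i hi x hx => ?_
  rcases lt_trichotomy i m with k | rfl | k
  · rw [if_pos k.le]; exact mem_Uf.1 h.1 i k x (by rwa [if_pos (Nat.succ_le_of_lt k)] at hx)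
  · rw [if_pos le_rfl]
    exact h.2.2 x (by rwa [if_neg (by omega), show 2 * i + 1 - (i + 1) = i by omega] at hx)
  · rw [if_neg (by omega), show 2 * m + 1 - (i + 1) = 2 * m - i by omega] at hx
    rw [if_neg (by omega), show 2 * m + 1 - i = 2 * m - i + 1 by omega]
    exact dual_Qs hg (mem_Qs (Wf_mono (Nat.le_succ _)) (mem_Uf.1 h.1 _ (by omega))) x hx

end char

namespace TvT
variable (h : TvT C)
include h

omit [Finite V] in
theorem N0 (hv : C.B v v = 0) : C.N v = 0 := (h.nb v 0 (by simp [hv])).trans C.N_zero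

omit [Finite V] in
theorem σB (x y : V) : T.σ (C.B x y) = T.ε * C.B y x := by rw [C.σ_B, h.se]

theorem rq (hv : C.B v v = 0) (hy : C.B v y = 0) (ha : a * T.ε + T.σ a = C.B y y) :
    ∃ s ∈ SI C, Rh C s v y a := by
  let s := LinearEquiv.transvection (f := (T.ε * C.B y y - a) • C.B v - T.ε • C.B y) (v := v) (by
    simp [hv, C.B_swap_zero hy]) * LinearEquiv.transvection (f := C.B v) (v := y) hy
  have h1 : Rh C s v y a := fun x => by
    simp only [s, LinearEquiv.mul_apply, LinearEquiv.transvection.apply, LinearMap.sub_apply,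
      LinearMap.smul_apply, map_add, map_smul, hy, smul_eq_mul, h.σB]
    module
  have h2 : ∀ x z, C.B (s x) (s z) = C.B x z := fun x z => by
    simp only [h1 x, h1 z, map_add, map_sub, LinearMap.add_apply, LinearMap.sub_apply, C.B_smul_left,
      C.B_smul_right, hv, hy, C.B_swap_zero hy, map_mul, h.σB, ← ha, h.se]
    linear_combination (a * C.B x v * C.B v z - C.B x y * C.B v z) * h.ee
  refine ⟨s, ⟨⟨h2, fun x => h.nb _ _ (h2 x x)⟩, ?_⟩, h1⟩
  exact mul_mem ((tr_iff _).1 (tr_SLV (by simp [hv, C.B_swap_zero hy]))) ((tr_iff _).1 (tr_SLV hy))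

theorem map (he : C.B e e = 0) (hf : C.B f f = 0) (hv : C.B v v = 0) (h1 : C.B e f = 1)
    (h2 : C.B e v = 1) : ∃ s ∈ SI C, ∃ c, Rh C s e (v - f - c • e) (-c) ∧ s f = v := by
  have h3 : C.B f e = T.ε := by rw [C.symm, h1, map_one, mul_one]
  have h4 : C.B v e = T.ε := by rw [C.symm, h2, map_one, mul_one]
  obtain ⟨s, hs, es⟩ := h.rq (y := v - f - (T.ε * C.B f v) • e) (a := -(T.ε * C.B f v)) he
    (by simp [he, h1, h2]) (by
      simp only [map_sub, LinearMap.sub_apply, C.B_smul_left, C.B_smul_right, he, hf, hv, h1, h2, h3, h4,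
        map_neg, map_mul, h.se, h.σB]
      linear_combination (-C.B v f - C.B f v) * h.ee)
  refine ⟨s, hs, _, es, ?_⟩
  rw [es, h1, show C.B f (v - f - (T.ε * C.B f v) • e) = 0 by
    simp only [map_sub, C.B_smul_right, hf, h3]; linear_combination (-C.B f v) * h.ee, map_zero]
  module

theorem partner {Z : Submodule F V} (h1 : e ∉ Z) (he : C.B e e = 0) (h2 : e ∈ C.perp Z) :
    ∃ f ∈ C.perp Z, C.B f f = 0 ∧ C.B e f = 1 :=
  (h.spec.nondeg.exists_partner h1 (h.N0 he) h2).imp fun _ k => ⟨k.1, C.B_self_of_zero k.2.1, k.2.2⟩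

theorem trans (hv : v ≠ 0) (hy : y ≠ 0) (h1 : C.B v v = 0) (h2 : C.B y y = 0) : ∃ g ∈ SI C, g v = y :=
  h.spec.witt_one h.dim hv hy (h.nb _ _ (h2.trans h1.symm))

variable [Fact p.Prime] [CharP F p]

theorem fix_of_comm (hp : g ^ p ^ k = 1) (hv : C.B v v = 0)
    (hc : ∀ s ∈ SI C, ∀ a, Rh C s v 0 a → s * g = g * s) : g v = v := by
  obtain ⟨a, a0, ha⟩ := h.c0
  obtain ⟨s, hs, e⟩ := h.rq (y := 0) hv (by simp) (by simpa using ha)
  by_cases h0 : v = 0
  · simp [h0]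
  obtain ⟨x, hx⟩ := h.spec.nondeg.exists_eq h0 1
  have := congrArg (· x) (hc s hs a e)
  simp only [LinearEquiv.mul_apply, e x, e (g x), map_zero, smul_zero, add_zero, hx, map_sub, map_smul,
    zero_add, mul_one, sub_right_inj, mul_smul] at this
  replace this := (smul_right_injective V a0 this).symm
  rw [this, eigen_eq_one hp h0 this, one_smul]

theorem cent (hW : W ≤ C.perp W) (h0 : W ≠ ⊥) (hg : g ∈ SI C) (hp : g ^ p ^ k = 1)
    (hc : g ∈ cz (Qf C W)) : g ∈ Qf C W := by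
  have h1 : ∀ w ∈ W, g w = w := fun w hw => h.fix_of_comm hp (C.mem_perp.1 (hW hw) w hw)
    fun s hs a e => hc s (e.mem_Qf hs hW hw (zero_mem _))
  refine ⟨hg, mem_Qs hW fun x hx => ?_, mem_Qs_bot.2 h1⟩
  obtain ⟨w, hw, w0⟩ := (Submodule.ne_bot_iff _).1 h0
  obtain ⟨a, ha⟩ := h.tr x
  obtain ⟨s, hs, e⟩ := h.rq (C.mem_perp.1 (hW hw) w hw) (C.mem_perp.1 hx w hw) ha
  obtain ⟨z, hz⟩ := h.spec.nondeg.exists_eq w0 1
  have e' := e.conj hg.1 z
  rw [← hc s (e.mem_Qf hs hW hw hx), mul_inv_cancel_right, e z, h1 w hw, hz] at e'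
  rw [show g x - x = (T.σ (C.B z (g x)) - T.σ (C.B z x)) • w by linear_combination (norm := module) -e']
  exact W.smul_mem _ hw

omit [Fact p.Prime] [CharP F p]
variable (hb : ∀ i < m, b i ∉ Wf F b i) (ts : Wf F b m ≤ C.perp (Wf F b m))
include hb ts

theorem mem_succ (hk : k < m) (hv : ∀ s ∈ Ufm C b m, s v - v ∈ Wf F b k) : v ∈ Wf F b (k + 1) := by
  have h0 := b_mem (F := F) (b := b) k.lt_succ_self
  have h1 : ∀ x ∈ C.perp (Wf F b (k + 1)), ∀ a, a * T.ε + T.σ a = C.B x x →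
      C.B (b k) v • x - (T.σ (C.B v x) + a * C.B (b k) v) • b k ∈ Wf F b k := fun x hx a ha => by
    obtain ⟨s, hs, e⟩ := h.rq (C.mem_perp.1 (ts_le ts hk hk h0) _ h0) (C.mem_perp.1 hx _ h0) ha
    simpa [e v, add_sub_assoc] using hv s (Qf_le ts hk (e.mem_Qf hs (ts_le ts hk hk) h0 hx))
  obtain ⟨a, a0, ha⟩ := h.c0
  have h2 : C.B (b k) v = 0 := by_contra fun k' => hb k hk (by
    simpa [Submodule.smul_mem_iff _ (mul_ne_zero a0 k')] using h1 0 (zero_mem _) a (by simpa using ha))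
  rw [← h.spec.nondeg.perp_perp (Wf F b (k + 1))]
  refine C.mem_perp'.2 fun x hx => by_contra fun k' => hb k hk ?_
  obtain ⟨a, ha⟩ := h.tr x
  simpa [h2, Submodule.smul_mem_iff _ (T.σ_ne_zero k')] using h1 x hx a ha

theorem fix_step (hk : k < m) {w : V} (hw : w ∈ Wf F b k) : ∃ s ∈ SI C, ∃ x ∈ C.perp (Wf F b k),
    Rh C s w x 0 ∧ s (b k) = w + b k := by
  have h0 := b_mem (F := F) (b := b) k.lt_succ_self
  obtain ⟨f, h1, h2, h3⟩ := h.partner (hb k hk) (C.mem_perp.1 (ts_le ts hk hk h0) _ h0)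
    (ts_le ts hk hk.le h0)
  obtain ⟨s, hs, e⟩ := h.rq (a := 0) (y := -f) (C.mem_perp.1 (ts_le ts hk.le hk.le hw) _ hw)
    (C.mem_perp.1 (neg_mem h1) _ hw) (by simp [h2])
  exact ⟨s, hs, _, neg_mem h1, e, by
    simp [e (b k), h3, C.mem_perp.1 (ts_le ts hk hk.le h0) _ hw, add_comm]⟩

theorem Qf_step (hk : k < m) (hg : g ∈ Qf C (Wf F b (k + 1))) : ∃ s ∈ SI C,
    ∃ y ∈ C.perp (Wf F b (k + 1)), ∃ a, Rh C s (b k) y a ∧ s⁻¹ * g ∈ Qf C (Wf F b k) := by
  have h0 := b_mem (F := F) (b := b) k.lt_succ_self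
  have he := C.mem_perp.1 (ts_le ts hk hk h0) _ h0
  obtain ⟨f, h1, h2, h3⟩ := h.partner (hb k hk) he (ts_le ts hk hk.le h0)
  obtain ⟨s, hs, c, e, e'⟩ := h.map (v := g f) he h2 (by rw [isom_B hg.1.1, h2]) h3
    (by rw [← mem_Qs_bot.1 hg.2.2 _ h0, isom_B hg.1.1, h3])
  have hy := sub_mem (dual_Qs hg.1.1 hg.2.2 f (by simp)) (Submodule.smul_mem _ c (ts_le ts hk hk h0))
  have h4 := mul_mem (inv_mem (e.mem_Qf hs (ts_le ts hk hk) h0 hy)) hg
  have h5 : (s⁻¹ * g) f = f := by rw [LinearEquiv.mul_apply, ← e', inv_apply_apply]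
  refine ⟨s, hs, _, hy, _, e, h4.1, mem_Qs (ts_le ts hk.le hk.le) fun x hx => ?_,
    mem_Qs_bot.2 fun x hx => mem_Qs_bot.1 h4.2.2 x (Wf_mono k.le_succ hx)⟩
  obtain ⟨w, hw, d, k1⟩ := mem_Wf_succ.1 (h4.2.1.2 (x - C.B (b k) x • f) (by
    rw [Wf_succ, C.perp_sup]
    exact ⟨sub_mem hx (Submodule.smul_mem _ _ h1), C.mem_perp_singleton.2 (by simp [h3])⟩))
  have k2 := congrArg (C.B f) k1
  rw [map_sub, ← h5, isom_B h4.1.1, h5, sub_self, map_add, C.mem_perp'.1 h1 w hw, C.B_smul_right,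
    C.symm, h3, zero_add, map_one, mul_one, eq_comm, mul_eq_zero] at k2
  rw [k2.resolve_right T.ε_ne, map_sub, map_smul, h5] at k1
  rwa [show (s⁻¹ * g) x - x = w by linear_combination (norm := module) k1]

end TvT

end H21
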