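import Cfsg.Agent.H21.FusForm
import Cfsg.Agent.H11.SUSimple

/-! Fusion systems of symplectic and unitary groups in the defining characteristic, II. -/

open Cfsg

namespace H21
open Subgroup H25 Module Function H12 H12.CForm

variable {F V : Type*} [Field F] [AddCommGroup V] [Module F V] {T : FormType F} {C : CForm T V}
  {p : ℕ} {b : ℕ → V} {m k : ℕ} {g s : V ≃ₗ[F] V} {v y e f d : V} {a : F}
  {U Y : Subgroup (V ≃ₗ[F] V)}

theorem SC.rq (hY : SC (SI C) U Y) (ht : Rq C Y v y a) (hg : g ∈ SI C) {v' y' : V} (e1 : g v = v')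
    (e2 : g y = y') (hU : ∀ s ∈ SI C, Rh C s v' y' a → s ∈ U) (hl : U ≤ SI C) : Rq C Y v' y' a := by
  obtain ⟨t, ht, e⟩ := ht
  have := e1 ▸ e2 ▸ Rh.conj e hg.1
  exact ⟨_, hY.2 g hg t ht (hU _ (mul_mem (mul_mem hg (hl (hY.1 ht))) (inv_mem hg)) this), this⟩

variable [Finite V] (p) [Fact p.Prime] [CharP F p]

namespace TvT
variable (h : TvT C) (hb : ∀ i < m, b i ∉ Wf F b i) (ts : Wf F b m ≤ C.perp (Wf F b m))
include p h hb ts

theorem sc (hm : finrank F V ≤ 2 * m + 1) (hY : SC (SI C) (Ufm C b m) Y) {z : V ≃ₗ[F] V} (hz : z ∈ Y)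
    (z1 : z ≠ 1) (hc : ∀ s ∈ Ufm C b m, s * z = z * s) : Ufm C b m ≤ Y := by
  have m2 : 2 ≤ m := by have := h.dim; omega
  have hl : Ufm C b m ≤ SI C := inf_le_left
  have b0 : b 0 ≠ 0 := by simpa [Wf_zero] using hb 0 (by omega)
  have W1 : Wf F b 1 = Submodule.span F {b 0} := by rw [Wf_succ, Wf_zero, bot_sup_eq]
  have B0 : ∀ x ∈ Wf F b m, ∀ y ∈ Wf F b m, C.B x y = 0 := fun x hx y hy => C.mem_perp.1 (ts hy) x hx
  have e0 := b_mem (F := F) (b := b) (show 0 < m by omega)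
  have e1 := b_mem (F := F) (b := b) (show 1 < m by omega)
  have he := B0 _ e0 _ e0
  have hU : ∀ x, C.B (b 0) x = 0 → ∀ a, ∀ s ∈ SI C, Rh C s (b 0) x a → s ∈ Ufm C b m :=
    fun x hx a s hs e => Qf_le ts (k := 1) (by omega) (e.mem_Qf hs (ts_le ts (by omega) (by omega))
      (b_mem one_pos) (W1 ▸ C.mem_perp_singleton.2 hx))
  have hU' : ∀ w ∈ Wf F b m, ∀ a, ∀ s ∈ SI C, Rh C s w 0 a → s ∈ Ufm C b m :=
    fun w hw a s hs e => Qf_le ts le_rfl (e.mem_Qf hs ts hw (zero_mem _))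
  obtain ⟨f, -, -, hf⟩ := h.partner (Z := ⊥) b0 he (by simp)
  have ok : ∀ a, Rq C (SI C) (b 0) 0 a → a * T.ε + T.σ a = 0 := fun a k =>
    (k.tvOk inf_le_left (h.N0 he) hf).1
  obtain ⟨y, hy, a, hz'⟩ : ∃ y, C.B (b 0) y = 0 ∧ ∃ a, Rh C z (b 0) y a := by
    obtain ⟨s, -, y, hy, a, e, k⟩ := h.Qf_step hb ts (k := 0) (by omega) (h.cent (p := p) (ts_le ts (by omega)
      (by omega)) (by simp [W1, b0]) (hl (hY.1 hz)) (unip (hl (hY.1 hz)).1 (hY.1 hz).2)
      fun s hs => hc s (Qf_le ts (by omega) hs))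
    obtain rfl : s = z := inv_mul_eq_one.1 (LinearEquiv.ext fun x => sub_eq_zero.1 (by
      simpa [Wf_zero] using k.2.1.2 x (by simp [Wf_zero])))
    exact ⟨y, C.mem_perp.1 hy _ (b_mem one_pos), a, e⟩
  have A : ∃ a ≠ 0, Rq C Y (b 0) 0 a := by
    by_cases k : y ∈ Wf F b 1
    · obtain ⟨c, rfl⟩ := Submodule.mem_span_singleton.1 (W1 ▸ k)
      have : Rh C z (b 0) 0 (a + T.σ c * T.ε - c) := fun x => by
        rw [hz' x]; simp only [C.B_smul_right, map_mul, h.σB, map_zero]; module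
      exact ⟨_, fun k => z1 (LinearEquiv.ext fun x => by simp [this x, k]), z, hz, this⟩
    obtain ⟨k1, k2, k3⟩ := h.alt fun r => by
      obtain ⟨x, hx, rfl⟩ := h.spec.nondeg.exists_perp_eq k r
      replace hx := C.mem_perp.1 hx _ (b_mem one_pos)
      obtain ⟨c, hc'⟩ := h.tr x
      obtain ⟨s, hs, e⟩ := h.rq he hx hc'
      have := congrArg (· f) (hc s (hU x hx c s hs e))
      simp only [LinearEquiv.mul_apply, e _, hz' _, map_add, map_sub, map_smul, hf, hx, hy, he,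
        smul_eq_mul, LinearMap.add_apply, LinearMap.sub_apply, C.B_smul_left] at this
      have k1 : (T.σ (C.B y x) - T.σ (C.B x y)) • b 0 = 0 := by
        simp only [mul_zero, map_zero, map_one, one_mul, sub_zero] at this
        linear_combination (norm := module) -this
      rw [← C.symm, T.σ_bijective.1 (sub_eq_zero.1 ((smul_eq_zero.1 k1).resolve_right b0))]
    have k4 : ∀ x, C.B (b 0) x = 0 → x ∉ Wf F b 1 → Rq C Y (b 0) x a := fun x hx hx' => by
      obtain ⟨g, hg, g1, g2⟩ := h.spec.nondeg.witt_step _ k hx' (fun w hw => by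
        obtain ⟨c, rfl⟩ := Submodule.mem_span_singleton.1 (W1 ▸ hw)
        simp [hx, hy]) (h.nb _ _ (by rw [k2, k2]))
      exact hY.rq ⟨z, hz, hz'⟩ ⟨hg, k1 hg⟩ (g1 _ (b_mem one_pos)) g2 (hU x hx a) hl
    obtain ⟨x, h1, h2, h3, h4⟩ : ∃ x, C.B (b 0) x = 0 ∧ x ∉ Wf F b 1 ∧ b 1 + x ∉ Wf F b 1 ∧
        a + T.σ (C.B x (b 1)) ≠ 0 := by
      by_cases k5 : ∃ r, r ≠ 0 ∧ a + T.σ r ≠ 0
      · obtain ⟨r, r0, hr⟩ := k5
        obtain ⟨x, hx, k5⟩ := h.spec.nondeg.exists_perp_eq (hb 1 m2) (T.ε * T.σ r)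
        have k6 : C.B x (b 1) = r := by
          rw [C.symm, k5, map_mul, h.se, T.σσ, ← mul_assoc, h.ee, one_mul]
        exact ⟨x, C.mem_perp.1 hx _ (b_mem one_pos), fun k => r0 (k6 ▸ B0 _ (Wf_mono (by omega) k) _ e1),
          fun k => r0 (by simpa [k2, k6] using B0 _ (Wf_mono (by omega) k) _ e1), k6 ▸ hr⟩
      push Not at k5
      have m3 : 2 < m := by
        rcases k3 with k3 | k3
        · have : Finite F := Nat.finite_of_card_ne_zero (by omega)
          obtain ⟨r, hr⟩ := exists_not_mem_list [(0 : F), 1] (by simp; omega)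
          simp only [List.mem_cons, List.not_mem_nil, or_false, not_or] at hr
          exact (hr.2 (T.σ_bijective.1 (add_left_cancel ((k5 r hr.1).trans (k5 1 one_ne_zero).symm)))).elim
        · omega
      have e2 := b_mem (F := F) (b := b) m3
      refine ⟨b 2, B0 _ e0 _ e2, fun k => hb 2 m3 (Wf_mono one_le_two k), fun k => hb 2 m3 (by
        simpa using sub_mem (Wf_mono one_le_two k) (b_mem one_lt_two)), fun k => ?_⟩
      have := k5 1 one_ne_zero
      rw [B0 _ e2 _ e1, map_zero, add_zero] at k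
      simp [k] at this
    have h0 := B0 _ e0 _ e1
    have := ((k4 _ h0 (hb 1 m2)).mul (k4 x h1 h2) he h0 h1).div (k4 (b 1 + x) (by simp [h0, h1]) h3) he
      (by simp [h0, h1]) (by simp [h0, h1])
    exact ⟨_, h4, by simpa [add_assoc] using this⟩
  have B : ∀ c, c * T.ε + T.σ c = 0 → Rq C Y (b 0) 0 c := by
    obtain ⟨a, a0, ha⟩ := A
    refine h.add
      { carrier := {c | Rq C Y (b 0) 0 c}
        zero_mem' := rho_zero
        add_mem' := fun h1 h2 => by simpa using h1.mul h2 he (by simp) (by simp)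
        neg_mem' := fun h1 => by simpa using rho_zero.div h1 he (by simp) (by simp) }
      (fun l c hc => ?_) a ha a0 (ok a (ha.mono (hY.1.trans hl)))
    by_cases l0 : l = 0
    · exact ⟨1, one_mem _, by simp [l0]⟩
    obtain ⟨g, hg, e⟩ := h.trans b0 (smul_ne_zero l0 b0) he (by simp [he])
    exact (hY.rq hc hg e (map_zero _) (hU' _ (Submodule.smul_mem _ _ e0) c) hl).smul_zero
  have B' : ∀ w ∈ Wf F b m, ∀ c, c * T.ε + T.σ c = 0 → Rq C Y w 0 c := fun w hw c hc => by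
    by_cases w0 : w = 0
    · exact ⟨1, one_mem _, by simp [w0]⟩
    obtain ⟨g, hg, e⟩ := h.trans b0 w0 he (B0 _ hw _ hw)
    exact hY.rq (B c hc) hg e (map_zero _) (hU' _ hw c) hl
  obtain ⟨c, c0, hc0⟩ := h.c0
  let X : AddSubgroup V :=
    { carrier := {x | C.B (b 0) x = 0 ∧ ∃ a, Rq C Y (b 0) x a}
      zero_mem' := ⟨by simp, 0, rho_zero⟩
      add_mem' := fun ⟨h1, _, h2⟩ ⟨h3, _, h4⟩ => ⟨by simp [h1, h3], _, h2.mul h4 he h1 h3⟩
      neg_mem' := fun ⟨h1, _, h2⟩ => ⟨by simp [h1], _, zero_sub (_ : V) ▸ rho_zero.div h2 he (by simp) h1⟩ }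
  have X1 : ∀ w ∈ Wf F b m, w ∈ X := fun w hw => by
    have hw' := Submodule.smul_mem _ (-c)⁻¹ hw
    rw [← smul_inv_smul₀ (neg_ne_zero.2 c0) w]
    generalize (-c)⁻¹ • w = w at hw'
    obtain ⟨s, hs, e⟩ := B' _ (add_mem e0 hw') c hc0
    obtain ⟨t, ht, e'⟩ := B' _ hw' c hc0
    refine ⟨by simp [B0 _ e0 _ hw'], c, s * t⁻¹, mul_mem hs (inv_mem ht), fun x => ?_⟩
    obtain ⟨x, rfl⟩ := t.surjective x
    rw [LinearEquiv.mul_apply, inv_apply_apply, e, e']
    have k : T.σ c = -(c * T.ε) := eq_neg_of_add_eq_zero_right hc0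
    simp only [map_zero, map_sub, map_add, B0 _ e0 _ hw', B0 _ hw' _ hw', h.σB, smul_zero,
      LinearMap.add_apply, LinearMap.sub_apply, C.B_smul_left, C.B_smul_right, map_neg, map_mul, k,
      add_zero, mul_zero, sub_zero]
    linear_combination (norm := module) (c * C.B w x) • h.ee • b 0
  have X2 : ∀ u, C.B u u = 0 → C.B (b 0) u = 0 → C.B u (b 1) ≠ 0 → ∀ l : F, l • u ∈ X := by
    intro u h1 h2 h3 l
    obtain ⟨s, hs, e⟩ := h.rq (y := 0) h1 (by simp) (by simpa using hc0)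
    obtain ⟨k1, a, k2⟩ := X1 _ (Submodule.smul_mem _ (l / (c * C.B u (b 1))) e1)
    have k3 : s (b 0) = b 0 := by simp [e _, C.B_swap_zero h2]
    have k4 : C.B (b 0) (s ((l / (c * C.B u (b 1))) • b 1)) = 0 := by rw [← k3, isom_B hs.1, k1]
    convert sub_mem (show _ ∈ X from ⟨k1, a, k2⟩) (show _ ∈ X from
      ⟨k4, a, hY.rq k2 hs k3 rfl (hU _ k4 a) hl⟩) using 1
    simp only [e _, map_zero, map_smul, smul_eq_mul]
    match_scalars <;> field_simp <;> ring
  have X3 : ∀ x, C.B (b 0) x = 0 → ∀ s ∈ SI C, ∀ a, Rh C s (b 0) x a → s ∈ Y := fun x hx s hs a e => by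
    obtain ⟨f, h1, h2, h3⟩ := h.partner (hb 1 m2) (B0 _ e1 _ e1) (ts_le ts m2 (by omega) (b_mem one_lt_two))
    replace h1 := C.mem_perp.1 h1 _ (b_mem one_pos)
    obtain ⟨l, hl'⟩ := H11.exists_add_smul_singular (C := C) (h.N0 (B0 _ e1 _ e1))
      (y := x + (1 - C.B (b 1) x) • f) (by simp [h3])
    obtain ⟨-, a', k⟩ : x ∈ X := by
      simpa using sub_mem (sub_mem (X2 _ (C.B_self_of_zero hl') (by simp [hx, h1, B0 _ e0 _ e1])
        (C.B_swap_ne (by simp [h3, B0 _ e1 _ e1])) 1) (X1 _ (Submodule.smul_mem _ l e1)))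
        (X2 f h2 h1 (C.B_swap_ne (by simp [h3])) (1 - C.B (b 1) x))
    have k1 := Rq.div ⟨s, hs, e⟩ (k.mono (hY.1.trans hl)) he hx hx
    obtain ⟨t, ht, e'⟩ := (B _ (ok _ (sub_self x ▸ k1))).mul k he (by simp) hx
    exact e.eq (g := t) (fun x => by simpa using e' x) ▸ ht
  have D : ∀ s ∈ Ufm C b m, ∀ v x a, C.B v v = 0 → C.B v x = 0 → Rh C s v x a → s ∈ Y := by
    intro s hs v x a h1 h2 e
    by_cases v0 : v = 0
    · exact (LinearEquiv.ext fun x => by simp [e x, v0] : s = 1) ▸ one_mem _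
    obtain ⟨g, hg, k⟩ := h.trans v0 b0 h1 he
    simpa [mul_assoc] using hY.2 _ (inv_mem hg) _ (X3 _ (by rw [← k, isom_B hg.1, h2]) _
      (mul_mem (mul_mem hg (hl hs)) (inv_mem hg)) a (k ▸ e.conj hg.1)) (by simpa [mul_assoc] using hs)
  have E : ∀ k ≤ m, Qf C (Wf F b k) ≤ Y := fun k => by
    induction k with
    | zero => exact fun _ g hg => (LinearEquiv.ext fun x => sub_eq_zero.1 (by
        simpa [Wf_zero] using hg.2.1.2 x (by simp [Wf_zero])) : g = 1) ▸ one_mem _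
    | succ k ih =>
      intro hk g hg
      obtain ⟨s, hs, y, hy, a, e, k1⟩ := h.Qf_step hb ts hk hg
      have h0 := b_mem (F := F) (b := b) k.lt_succ_self
      exact (mul_mem_cancel_left (inv_mem (D s (Qf_le ts hk (e.mem_Qf hs (ts_le ts hk hk) h0 hy)) _ _ _
        (B0 _ (b_mem hk) _ (b_mem hk)) (C.mem_perp.1 hy _ h0) e))).1 (ih (by omega) k1)
  have key : ∀ d k, k + d = m → ∀ g ∈ Ufm C b m, (∀ x ∈ Wf F b k, g x = x) → g ∈ Y := fun d => by
    induction d with
    | zero => exact fun k e g hg k1 => E m le_rfl ⟨hg.1, hg.2.2, mem_Qs_bot.2 (e ▸ k1)⟩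
    | succ d ih =>
      intro k e g hg k1
      have hk : k < m := by omega
      have hw := mem_Uf'.1 hg.2.1 k hk
      obtain ⟨s, hs, x, hx, e1, e2⟩ := h.fix_step hb ts hk hw
      have k2 := e1.mem_Qf hs (ts_le ts hk.le hk.le) hw hx
      have k3 := Qf_le ts hk.le k2
      exact (mul_mem_cancel_left (inv_mem (D s k3 _ _ _ (B0 _ (Wf_mono hk.le hw) _ (Wf_mono hk.le hw))
        (C.mem_perp.1 hx _ hw) e1))).1 (ih (k + 1) (by omega) _ (mul_mem (inv_mem k3) hg)
          (fix_succ (fun x hx => (k1 x hx).trans (mem_Qs_bot.1 k2.2.2 x hx).symm) (by simp [e2])))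
  exact fun g hg => key m 0 (by simp) g hg (by simp [Wf_zero])

omit h hb in
theorem last (hd : C.perp (Wf F b m) = Wf F b m ⊔ Submodule.span F {d}) (hd' : d = 0 ∨ C.B d d ≠ 0)
    (hg : g ∈ SI C) (h1 : ∀ x ∈ Wf F b m, g x = x) : g ∈ Ufm C b m := by
  have hW : ∀ x ∈ C.perp (Wf F b m), ∃ w ∈ Wf F b m, ∃ c : F, x = w + c • d := fun x hx => by
    obtain ⟨c, hc⟩ := mem_sup_span_singleton.1 (hd ▸ hx)
    exact ⟨_, hc, c, by simp⟩
  have hd0 : d ∈ C.perp (Wf F b m) := hd ▸ Submodule.mem_sup_right (Submodule.mem_span_singleton_self d)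
  have : g d - d ∈ Wf F b m := by
    rcases hd' with rfl | hd'
    · simp
    obtain ⟨w, hw, t, e⟩ := hW _ ((stab_perp hg.1 (stab_of_fix h1) d).1 hd0)
    have ht : t ≠ 0 := fun k => hd' (C.mem_perp.1 hd0 _ ((stab_of_fix h1 d).2 (by simpa [e, k] using hw)))
    obtain ⟨r, er, hr⟩ := exists_dil_det (φ := (C.B d d)⁻¹ • C.B d) (v := d) (by simp [hd']) (.mk0 t ht)
    have r1 : ∀ x ∈ Wf F b m, r x = x := fun x hx => by simp [er, C.mem_perp'.1 hd0 x hx]
    have r2 : r d = t • d := by simp [er, hd', sub_smul]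
    have := mem_SLV_of_pow (pow_eq_one_of_chain (p := p) (g := r⁻¹ * g) (fun i => if i = 0 then ⊥ else
      if i = 1 then Wf F b m else if i = 2 then C.perp (Wf F b m) else ⊤) 3 rfl rfl fun i hi x hx => by
        interval_cases i
        · exact (mul_mem (inv_mem (mem_Qs_bot.2 r1)) (mem_Qs_bot.2 h1)).2 x hx
        · obtain ⟨w', hw', c, rfl⟩ := hW x hx
          rw [LinearEquiv.mul_apply, map_add, map_smul, h1 _ hw', e, ← r2, ← r1 w hw, ← map_add r,
            ← map_smul, ← r1 w' hw', ← map_add, inv_apply_apply, r1 w' hw']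
          simpa using Submodule.smul_mem _ c hw
        · exact (mul_mem (inv_mem (mem_Qs (X := ⊤) le_top fun x _ => by
            simpa [er] using Submodule.smul_mem _ _ hd0)) (mem_Qs le_top fun x _ =>
              dual_Qs hg.1 (mem_Qs_bot.2 h1) x (by simp))).2 x trivial)
    replace this : r ∈ SLV F V := inv_mem_iff.1 ((mul_mem_cancel_right (show g ∈ SLV F V from hg.2)).1 this)
    obtain rfl : t = 1 := congrArg Units.val (hr.symm.trans this)
    simpa [e] using hw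
  refine ⟨hg, mem_Uf_of m h1 fun x hx => by simp [h1 x hx], mem_Qs ts fun x hx => ?_⟩
  obtain ⟨w, hw, c, rfl⟩ := hW x hx
  simpa [h1 w hw, smul_sub] using Submodule.smul_mem _ c this

theorem nm (m2 : 2 ≤ m) (hd : C.perp (Wf F b m) = Wf F b m ⊔ Submodule.span F {d})
    (hd' : d = 0 ∨ C.B d d ≠ 0) (K : Subgroup (V ≃ₗ[F] V)) (hK : Ufm C b m ≤ K)
    (H : ∀ P ≤ Ufm C b m, Ufm C b m ≤ nz P → Ufm C b m ⊓ cz P ≤ P →
      SI C ⊓ nz (Ufm C b m) ⊓ pgen p (SI C ⊓ nz P) ≤ K) : SI C ⊓ nz (Ufm C b m) ≤ K := by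
  have B0 : ∀ i < m, ∀ j < m, C.B (b i) (b j) = 0 := fun i hi j hj =>
    C.mem_perp.1 (ts (b_mem hj)) _ (b_mem hi)
  have H' : ∀ j, 0 < j → j ≤ m → ∀ a ∈ pgen p (SI C ⊓ nz (Qf C (Wf F b j))),
      (∀ i ≤ m, a ∈ glStab (Wf F b i)) → a ∈ K := fun j j0 jm a ha h1 =>
    H _ (Qf_le ts jm) (fun g hg => nz_Qf hg.1 (Uf_stab hg.2.1 jm)) (fun g hg => h.cent (ts_le ts jm jm)
      (fun k => hb 0 (by omega) (by simpa [k, Wf_zero] using b_mem (F := F) (b := b) j0)) hg.1.1 (unip hg.1.1.1 hg.1.2) hg.2)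
      ⟨⟨(pgen_le _ _ ha).1, nz_Ufm (pgen_le _ _ ha).1 h1⟩, ha⟩
  have J : ∀ {j s v y a}, s ∈ SI C → Rh C s v y a → C.B v v = 0 → C.B v y = 0 → s ∈ glStab (Wf F b j) →
      s ∈ pgen p (SI C ⊓ nz (Qf C (Wf F b j))) := fun hs e h1 h2 h3 =>
    mem_pgen'' ⟨hs, nz_Qf hs h3⟩ (e.pow h1 h2)
  have key : ∀ n k, k + n + 1 = m → ∀ g ∈ SI C, (∀ i ≤ m, g ∈ glStab (Wf F b i)) →
      (∀ x ∈ Wf F b k, g x = x) → g ∈ K := fun n => by
    have step : ∀ k < m, ∀ g ∈ SI C, (∀ i ≤ m, g ∈ glStab (Wf F b i)) → (∀ x ∈ Wf F b k, g x = x) →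
        ∃ t : F, t ≠ 0 ∧ ∃ s ∈ Ufm C b m, ∀ a : V ≃ₗ[F] V, (∀ x ∈ Wf F b k, a x = x) → a (b k) = t • b k →
          ∀ x ∈ Wf F b (k + 1), ((a * s)⁻¹ * g) x = x := fun k hk g hg hs h1 => by
      obtain ⟨w, hw, t, e'⟩ := mem_Wf_succ.1 ((hs (k + 1) hk _).1 (b_mem k.lt_succ_self))
      obtain ⟨s, s1, x, hx, e1, e2⟩ := h.fix_step hb ts hk hw
      have k2 := e1.mem_Qf s1 (ts_le ts hk.le hk.le) hw hx
      exact ⟨t, fun k' => hb k hk ((hs k hk.le _).2 (by simpa [e', k'] using hw)), s, Qf_le ts hk.le k2,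
        fun a a1 a2 => fix_succ (fun x hx => by simp [h1 x hx, mem_Qs_bot.1 k2.2.2 x hx, a1 x hx])
          (by simp [e', e2, a1 w hw, a2])⟩
    induction n with
    | zero =>
      rintro k rfl g hg hs h1
      obtain ⟨t, ht, s, s1, h2⟩ := step k (by omega) g hg hs h1
      have he := B0 k (by omega) k (by omega)
      have hd0 : d ∈ C.perp (Wf F b (k + 1)) :=
        hd ▸ Submodule.mem_sup_right (Submodule.mem_span_singleton_self d)
      have d1 : C.B (b k) d = 0 := C.mem_perp.1 hd0 _ (b_mem k.lt_succ_self)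
      have hp := ts_le ts (i := k + 1) (j := k) le_rfl (by omega) (b_mem k.lt_succ_self)
      obtain ⟨f, f1, f2, f3⟩ := h.partner (Z := Wf F b k ⊔ Submodule.span F {d}) (e := b k) (fun k' => by
        obtain ⟨c, hc⟩ := mem_sup_span_singleton.1 k'
        rcases hd' with rfl | hd'
        · exact hb k (by omega) (by simpa using hc)
        have := C.mem_perp'.1 hd0 _ (Wf_mono k.le_succ hc)
        simp only [map_sub, C.B_swap_zero d1, map_smul, smul_eq_mul, zero_sub, neg_eq_zero, mul_eq_zero,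
          hd', or_false] at this
        exact hb k (by omega) (by simpa [this] using hc)) he (by
          rw [C.perp_sup]; exact ⟨hp, C.mem_perp_singleton.2 (C.B_swap_zero d1)⟩)
      rw [C.perp_sup] at f1
      have f4 : C.B f (b k) = T.ε := by rw [C.symm, f3, map_one, mul_one]
      have N : ∀ (c l : F), c ≠ 0 → l * T.σ l * C.B d d = c * T.ε + T.σ c →
          ∃ n ∈ pgen p (SI C ⊓ nz (Qf C (Wf F b k))), (∀ x ∈ Wf F b k, n x = x) ∧
            n (b k) = -(c * T.ε) • f := fun c l c0 hl => by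
        have f5 : C.B f (l • d) = 0 := by simp [C.B_swap_zero (C.mem_perp_singleton.1 f1.2)]
        obtain ⟨r, r1, er⟩ := h.rq (y := l • d) (a := c) f2 f5 (by rw [← hl]; simp; ring)
        have r2 := er.fix f1.1 (Submodule.smul_mem _ _ (C.perp_anti (Wf_mono k.le_succ) hd0))
        have β0 : -(c * T.ε) ≠ 0 := by simp [c0, T.ε_ne]
        obtain ⟨s, s1, x, es, es'⟩ := h.map (v := (-(c * T.ε))⁻¹ • r (b k)) he f2
          (by simp [isom_B r1.1, he]) f3 (by
            rw [map_smul, smul_eq_mul, inv_mul_eq_one₀ β0]; simp [er _, he, d1, f3, f4])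
        have s2 := es.fix hp (sub_mem (sub_mem (Submodule.smul_mem _ _
          ((stab_perp r1.1 (stab_of_fix r2) _).1 hp)) f1.1) (Submodule.smul_mem _ _ hp))
        refine ⟨s⁻¹ * r, mul_mem (inv_mem (J s1 es he ?_ (stab_of_fix s2))) (J r1 er f2 f5 (stab_of_fix r2)),
          mem_Qs_bot.1 (mul_mem (inv_mem (mem_Qs_bot.2 s2)) (mem_Qs_bot.2 r2)), ?_⟩
        · have := isom_B s1.1 (b k) f
          rw [es', es (b k)] at this
          simp only [map_sub, map_smul, he, f3, smul_eq_mul, mul_zero, sub_zero, sub_eq_zero]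
          rw [inv_mul_eq_one₀ β0]; simp [er _, he, d1, f3, f4]
        · rw [LinearEquiv.mul_apply, ← smul_inv_smul₀ β0 (r (b k)), ← es', map_smul, inv_apply_apply]
      obtain ⟨c, c0, hc⟩ := h.c0
      obtain ⟨l, hl⟩ : ∃ l, l * T.σ l * C.B d d = t * c * T.ε + T.σ (t * c) := by
        rcases hd' with rfl | hd'
        swap
        · exact h.nrm d _ hd' (by
            rw [map_add, map_mul, T.σσ, h.se]; linear_combination T.σ (t * c) * h.ee)
        obtain ⟨a, a1, -, a2, a3⟩ := H11.IsHypPair.exists_torus h.spec.nondeg ⟨h.N0 he, h.N0 f2, f3⟩ ht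
        have a4 := h2 a.1 (fun x hx => a2 x (C.mem_perp'.1 hp x hx) (C.mem_perp'.1 f1.1 x hx)) a1
        have a5 := mem_SLV_of_pow (unip (mul_mem (inv_mem (mul_mem a.2 s1.1.1)) hg.1)
          ⟨mem_Uf_of _ a4 fun x hx => by rw [a4 x hx, sub_self]; exact zero_mem _,
            mem_Qs ts fun x hx => by rw [a4 x (by simpa [hd] using hx), sub_self]; exact zero_mem _⟩)
        replace a5 : LinearEquiv.det a.1 = 1 := (mul_mem_cancel_right (show s ∈ SLV F V from s1.1.2)).1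
          (inv_mem_iff.1 ((mul_mem_cancel_right (show g ∈ SLV F V from hg.2)).1 a5))
        rw [a5, Units.val_one, eq_comm, mul_inv_eq_one₀ (T.σ_ne_zero ht)] at a3
        exact ⟨0, by rw [map_mul T.σ, ← a3]; linear_combination (-t) * hc⟩
      obtain ⟨n1, n11, n12, n13⟩ := N (t * c) l (mul_ne_zero ht c0) hl
      obtain ⟨n2, n21, n22, n23⟩ := N c 0 c0 (by simp [hc])
      have a0 := mul_mem (inv_mem n21) n11
      have a1 := mem_Qs_bot.1 (mul_mem (inv_mem (mem_Qs_bot.2 n22)) (mem_Qs_bot.2 n12))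
      have a2 : (n2⁻¹ * n1) (b k) = t • b k := by
        rw [LinearEquiv.mul_apply, n13, mul_assoc, ← mul_neg, mul_smul, ← n23, map_smul, inv_apply_apply]
      have a3 := H' k (by omega) (by omega) _ a0 fun i hi => mem_glStab_of_mapsTo fun x hx => by
        rcases (show i ≤ k ∨ i = k + 1 by omega) with h | rfl
        · rwa [a1 x (Wf_mono h hx)]
        · obtain ⟨w, hw, c, rfl⟩ := mem_Wf_succ.1 hx
          exact mem_Wf_succ.2 ⟨w, hw, c * t, by rw [map_add, map_smul, a1 w hw, a2, smul_smul]⟩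
      exact (mul_mem_cancel_left (inv_mem (mul_mem a3 (hK s1)))).1 (hK (last p ts hd hd' (mul_mem
        (inv_mem (mul_mem (pgen_le _ _ a0).1 s1.1)) hg) (h2 _ a1 a2)))
    | succ n ih =>
      intro k e g hg hs h1
      obtain ⟨t, ht, s, s1, h2⟩ := step k (by omega) g hg hs h1
      have k1 : k + 1 < m := by omega
      have k0 : k < m := by omega
      have b1 := b_mem (F := F) (b := b) k.lt_succ_self
      have b2 := b_mem (F := F) (b := b) (k + 1).lt_succ_self
      obtain ⟨f', f1, f2, f3⟩ := h.partner (hb _ k1) (B0 _ k1 _ k1) (ts_le ts k1 k1.le b2)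
      have f4 := C.mem_perp.1 f1 _ b1
      obtain ⟨f, f5, f6, f7⟩ := h.partner (Z := Wf F b k ⊔ Submodule.span F {b (k + 1)} ⊔
        Submodule.span F {f'}) (e := b k) (fun k' => by
          obtain ⟨c, hc⟩ := mem_sup_span_singleton.1 k'
          have := C.mem_perp'.1 (ts_le ts k1 k1 b2) _ (sup_le (Wf_mono (by omega))
            ((Submodule.span_singleton_le_iff_mem _ _).2 b2) hc)
          simp only [map_sub, B0 _ k1 _ k0, map_smul, f3, smul_eq_mul, mul_one, zero_sub, neg_eq_zero] at this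
          exact exists_dual_pair (hb k k0) (hb _ k1) (by simpa [this] using hc)) (B0 _ k0 _ k0) (by
          rw [C.perp_sup, C.perp_sup]
          exact ⟨⟨ts_le ts k0 k0.le b1, C.mem_perp_singleton.2 (B0 _ k1 _ k0)⟩,
            C.mem_perp_singleton.2 (C.B_swap_zero f4)⟩)
      rw [C.perp_sup, C.perp_sup] at f5
      have f8 := C.mem_perp_singleton.1 f5.1.2
      have J' : ∀ u ∈ Wf F b (k + 2), ∀ z, C.B u z = 0 → C.B z z = 0 → ∀ s : F, ∃ r ∈ pgen p
          (SI C ⊓ nz (Qf C (Wf F b (k + 2)))), ∀ v ∈ Wf F b m, r v = v + (s * (T.ε • C.B z) v) • u :=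
        fun u hu z h1 h2 s => by
          have h0 := ts_le ts k1 le_rfl hu
          have h3 : C.B u (-T.σ s • z) = 0 := by simp [h1]
          obtain ⟨r, r1, er⟩ := h.rq (a := 0) (C.mem_perp.1 h0 _ (Wf_mono k1 hu)) h3 (by simp [h2])
          have : ∀ v ∈ Wf F b m, r v = v + (s * (T.ε • C.B z) v) • u := fun v hv => by
            simp [er v, C.mem_perp'.1 h0 v hv, T.σσ, h.σB]
          exact ⟨r, J r1 er (C.mem_perp.1 h0 _ (Wf_mono k1 hu)) h3 (mem_glStab_of_mapsTo fun v hv =>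
            this v (Wf_mono k1 hv) ▸ add_mem hv (Submodule.smul_mem _ _ hu)), this⟩
      have σ1 : ∀ {x y}, C.B x y = 1 → (T.ε • C.B y) x = 1 := fun k => (h.σB _ _).symm.trans (by simp [k])
      have σ0 : ∀ {x y}, C.B x y = 0 → (T.ε • C.B y) x = 0 := fun k => (h.σB _ _).symm.trans (by simp [k])
      obtain ⟨a, ha, ea⟩ := sl2_mem (b_mem k0) (b_mem k1) (σ1 f7) (σ0 f8) (σ0 f4) (σ1 f3)
        (J' _ (Wf_mono (by omega) b1) _ f4 f2) (J' _ b2 _ f8 f6) ht
      have a1 : ∀ x ∈ Wf F b k, a x = x := fun x hx => by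
        rw [ea x (Wf_mono k0.le hx), σ0 (C.mem_perp.1 f5.1.1 x hx),
          σ0 (C.mem_perp.1 f1 x (Wf_mono k.le_succ hx))]; simp
      have a2 : ∀ i ≤ m, a ∈ glStab (Wf F b i) := fun i hi => mem_glStab_of_mapsTo fun x hx => by
        rcases le_or_gt i k with h | h
        · rwa [a1 x (Wf_mono h hx)]
        rw [ea x (Wf_mono hi hx)]
        refine add_mem (add_mem hx (Submodule.smul_mem _ _ (b_mem h))) ?_
        rcases (show i = k + 1 ∨ k + 1 < i by omega) with rfl | h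
        · rw [σ0 (C.mem_perp.1 f1 x hx)]; simp
        · exact Submodule.smul_mem _ _ (b_mem h)
      refine (mul_mem_cancel_left (inv_mem (mul_mem (H' _ (by omega) k1 a ha a2) (hK s1)))).1
        (ih (k + 1) (by omega) _ (mul_mem (inv_mem (mul_mem (pgen_le _ _ ha).1 s1.1)) hg) (fun i hi =>
          mul_mem (inv_mem (mul_mem (a2 i hi) (Uf_stab s1.2.1 hi))) (hs i hi)) (h2 a a1 ?_))
      rw [ea _ (b_mem k0), σ1 f7, σ0 f4]
      module
  intro g hg
  refine key (m - 1) 0 (by omega) g hg.1 (fun i => ?_) (by simp [Wf_zero])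
  induction i with
  | zero => simp [Wf_zero, mem_glStab]
  | succ i ih =>
    exact fun hi => mem_glStab_of_nz hg.2 (ih (by omega)) (fun s hs => mem_Qs (Wf_mono i.le_succ)
      (mem_Uf.1 hs.2.1 i hi)) fun v => h.mem_succ hb ts hi

omit hb ts

theorem exists_fusOK (R : Subgroup (V ≃ₗ[F] V)) (hle : R ≤ SI C) (hR : IsPGroup p R) :
    ∃ U, R ≤ U ∧ FusOK p (SI C) U := by
  obtain ⟨b, m, h1, h2⟩ := exists_flag (fun (W : Submodule F V) v => v ∉ W ∧ v ∈ C.perp W ∧
    C.B v v = 0 ∧ ∀ s ∈ R, s v - v ∈ W) fun _ _ h => h.1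
  have hb : ∀ i < m, b i ∉ Wf F b i := fun i hi => (h1 i hi).1
  have ts : Wf F b m ≤ C.perp (Wf F b m) := by
    have : ∀ i ≤ m, Wf F b i ≤ C.perp (Wf F b i) := fun i => by
      induction i with
      | zero => simp [Wf_zero]
      | succ i ih =>
        intro hi
        have k := (Submodule.span_singleton_le_iff_mem _ _).2 (h1 i hi).2.1
        rw [Wf_succ, C.perp_sup]
        exact le_inf (sup_le (ih (by omega)) k) (sup_le (C.le_perp_comm.1 k)
          ((Submodule.span_singleton_le_iff_mem _ _).2 (C.mem_perp_singleton.2 (h1 i hi).2.2.1)))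
    exact this m le_rfl
  have h4 : R ≤ Uf F b m := fun s hs => mem_Uf'.2 fun i hi => (h1 i hi).2.2.2 s hs
  have h5 : R ≤ glStab (Wf F b m) := fun s hs => Uf_stab (h4 hs) le_rfl
  obtain ⟨d, hd, hd', h6⟩ : ∃ d, C.perp (Wf F b m) = Wf F b m ⊔ Submodule.span F {d} ∧
      (d = 0 ∨ C.B d d ≠ 0) ∧ ∀ s ∈ R, s d - d ∈ Wf F b m := by
    by_cases k : C.perp (Wf F b m) ≤ Wf F b m
    · exact ⟨0, by simpa using le_antisymm k ts, .inl rfl, by simp⟩
    obtain ⟨d, k1, k2, k3⟩ := exists_fixed_mod hR h5 (fun s hs => stab_perp (hle hs).1 (h5 hs)) k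
    have k4 : C.B d d ≠ 0 := fun k => h2 ⟨d, k2, k1, k, k3⟩
    have k5 := sup_le ts ((Submodule.span_singleton_le_iff_mem _ _).2 k1)
    refine ⟨d, le_antisymm ?_ k5, .inr k4, k3⟩
    rw [← h.spec.nondeg.perp_perp (_ ⊔ _)]
    refine C.perp_anti (by_contra fun k => ?_)
    obtain ⟨v, k6, k7, k8⟩ := exists_fixed_mod hR h5 (fun s hs => stab_perp (hle hs).1
      (Qs_le le_sup_left (mem_Qs le_sup_left fun x hx => by
        obtain ⟨c, hc⟩ := mem_sup_span_singleton.1 hx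
        convert add_mem (sub_mem ((h5 hs _).1 hc) hc) (Submodule.smul_mem _ c (k3 s hs)) using 1
        simp only [map_sub, map_smul]; module))) k
    rw [C.perp_sup] at k6
    have k9 := C.mem_perp_singleton.1 k6.2
    obtain ⟨l, hl⟩ := h.nrm d (-C.B v v) k4 (by rw [map_neg, mul_neg, ← C.symm])
    refine h2 ⟨v + l • d, fun k => k7 ?_, add_mem k6.1 (Submodule.smul_mem _ _ k1), ?_, fun s hs => ?_⟩
    · simpa [show l = 0 by simpa [k9, k4] using C.mem_perp'.1 k1 _ k] using k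
    · simp only [map_add, LinearMap.add_apply, C.B_smul_left, C.B_smul_right, k9, C.B_swap_zero k9]
      linear_combination hl
    · convert add_mem (k8 s hs) (Submodule.smul_mem _ l (k3 s hs)) using 1
      simp only [map_add, map_smul]; module
  have hm : finrank F V ≤ 2 * m + 1 := by
    have := h.spec.nondeg.finrank_add_finrank_perp (Wf F b m)
    have := hd ▸ finrank_sup_span_le (Wf F b m) d
    have := finrank_Wf (F := F) (b := b) m
    omega
  have m2 : 2 ≤ m := by have := h.dim; omega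
  refine ⟨Ufm C b m, fun s hs => ⟨hle hs, h4 hs, mem_Qs ts fun x hx => ?_⟩, inf_le_left,
    fun g => ⟨_, Subtype.ext (unip g.2.1.1 g.2.2)⟩, fun k => ?_,
    fun T hT z => h.sc p hb ts hm hT, h.nm p hb ts m2 hd hd'⟩
  · obtain ⟨c, hc⟩ := mem_sup_span_singleton.1 (hd ▸ hx)
    convert add_mem (sub_mem ((h5 hs _).1 hc) hc) (Submodule.smul_mem _ c (h6 s hs)) using 1
    simp only [map_sub, map_smul]; module
  · have e0 := b_mem (F := F) (b := b) (show 0 < m by omega)
    have b0 : b 0 ≠ 0 := by simpa [Wf_zero] using hb 0 (by omega)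
    obtain ⟨c, c0, hc⟩ := h.c0
    obtain ⟨s, hs, e⟩ := h.rq (y := 0) (C.mem_perp.1 (ts e0) _ e0) (by simp) (by simpa using hc)
    obtain ⟨x, hx⟩ := h.spec.nondeg.exists_eq b0 1
    have := e x
    rw [k.le (Qf_le ts le_rfl (e.mem_Qf hs ts e0 (zero_mem _)))] at this
    simp [hx, c0, b0, eq_comm (a := x)] at this

theorem isSimple {G : Type*} [Group G] (e : G ≃* SI C) (S : Sylow p (G ⧸ center G)) :
    (groupFusionSystem S.1).IsSimple p :=
  isSimple_center e (fun k _ hk _ hj => LinearEquiv.ext fun v => h.spec.iso3.mem_of_iso h.spec.nondeg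
    (by have := h.dim; omega) (AddMonoidHom.eqLocus (k : V →+ V) (.id V)) (fun x hx =>
      h.fix_of_comm hj (C.B_self_of_zero hx) fun s hs _ _ => hk s hs) v) (h.exists_fusOK p) S

end TvT

omit [Finite V] in
theorem tvT_alt [Finite F] [FiniteDimensional F V] {C : CForm (altType F) V} (hC : C.Nondeg)
    (h4 : 4 ≤ finrank F V) (h : 3 ≤ Nat.card F ∨ 6 ≤ finrank F V) : TvT C where
  spec := by
    rw [SI, inf_eq_left.2 fun g hg => H11.det_alt hC ⟨g, hg⟩]; exact spec_alt hC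
  dim := h4
  ee := by simp [altType]
  se := rfl
  nb x y _ := (alt_N x).trans (alt_N y).symm
  tr x := ⟨0, by simp [alt_B_self]⟩
  c0 := ⟨1, one_ne_zero, by simp [altType]⟩
  nrm d _ k := absurd (alt_B_self d) k
  add A h1 a ha a0 _ c _ := by
    by_cases h2 : (2 : F) = 0
    · obtain ⟨l, hl⟩ := isSquare_of_two_eq_zero h2 (c / a)
      simpa [altType, ← hl, mul_div_cancel₀ _ a0] using h1 l a ha
    · obtain ⟨x, y, rfl⟩ := exists_sq_add_sq h2 a0 a0 c
      simpa [altType, mul_comm] using add_mem (h1 x a ha) (h1 y a ha)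
  alt _ := ⟨fun g hg => H11.det_alt hC ⟨g, hg⟩, alt_B_self, h⟩

omit [Finite V] in
theorem tvT_herm [Finite F] [FiniteDimensional F V] {σ : F →+* F} {hσ2 : ∀ a, σ (σ a) = a}
    {C : CForm (hermType σ hσ2) V} (hσ : σ ≠ RingHom.id F) (hC : C.Nondeg) (h4 : 4 ≤ finrank F V) :
    TvT C where
  spec := spec_herm hσ (exists_norm_of_finite hσ2 hσ) hC
  dim := h4
  ee := mul_one _
  se := map_one _
  nb x y k := by rwa [herm_B_self, herm_B_self] at k
  tr x := (exists_trace_eq hσ hσ2 (herm_σN (C := C) x)).imp fun a k => by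
    rw [herm_B_self, ← k]; exact congrArg (· + _) (mul_one a)
  c0 := (exists_trace_zero' (hσ2 := hσ2) hσ).imp fun a k => ⟨k.1, (congrArg (· + _) (mul_one a)).trans k.2⟩
  nrm d r k1 k2 := (exists_norm_of_finite hσ2 hσ (r / C.B d d) (by
    rw [map_div₀, ← herm_symm, show σ r = r from (one_mul _).symm.trans k2])).imp fun l k =>
      (congrArg (· * _) k).trans (div_mul_cancel₀ _ k1)
  add A h1 a ha a0 k1 c k2 := by
    simp only [hermType, mul_one] at h1 k1 k2
    obtain ⟨l, hl⟩ := exists_norm_of_finite hσ2 hσ (c / a) (by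
      rw [map_div₀, eq_neg_of_add_eq_zero_right k1, eq_neg_of_add_eq_zero_right k2, neg_div_neg_eq])
    simpa [hl, mul_div_cancel₀ _ a0] using h1 l a ha
  alt k := absurd (RingHom.ext fun r => (one_mul _).symm.trans (k r)) hσ

end H21
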