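import Cfsg.Agent.H21.FusAlt2
import Cfsg.Agent.H12.Rho
import Cfsg.Agent.H12.Unip

/-! Fusion systems of classical groups in the defining characteristic: flags and linear groups. -/

open Cfsg

namespace H21
open Subgroup H25 Module Function H12

section general
variable {A G : Type*} [Group A] [Group G] {p : ℕ}

/-- `T` is strongly closed in `U` with respect to `Γ`. -/
def SC (Γ U T : Subgroup A) : Prop :=
  T ≤ U ∧ ∀ g ∈ Γ, ∀ x ∈ T, g * x * g⁻¹ ∈ U → g * x * g⁻¹ ∈ T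

/-- A criterion for the simplicity of the fusion system of `Γ` on `U`. -/
structure FusOK (p : ℕ) (Γ U : Subgroup A) : Prop where
  le : U ≤ Γ
  pg : IsPGroup p U
  ne : U ≠ ⊥
  sc : ∀ T, SC Γ U T → ∀ z ∈ T, z ≠ 1 → (∀ s ∈ U, s * z = z * s) → U ≤ T
  nm : ∀ K, U ≤ K → (∀ P ≤ U, U ≤ nz P → U ⊓ cz P ≤ P → Γ ⊓ nz U ⊓ pgen p (Γ ⊓ nz P) ≤ K) →
    Γ ⊓ nz U ≤ K

theorem isSimple_amb [Finite A] [Finite G] [hp : Fact p.Prime] {Γ : Subgroup A} (π : Γ →* G)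
    (hπ : Surjective π) (hk : ∀ k, π k = 1 → k ∈ center Γ ∧ ∀ j, k ^ p ^ j = 1 → k = 1)
    (H : ∀ R ≤ Γ, IsPGroup p R → ∃ U, R ≤ U ∧ FusOK p Γ U) (S : Sylow p G) :
    (groupFusionSystem S.1).IsSimple p := by
  obtain ⟨S₀⟩ : Nonempty (Sylow p Γ) := inferInstance
  obtain ⟨U, hU, H⟩ := H _ (map_subtype_le _) (S₀.isPGroup'.map Γ.subtype)
  have hm : ∀ x : Γ, x ∈ S₀.1 ↔ x.1 ∈ U := fun x => by
    rw [← S₀.is_maximal' (H.pg.comap_subtype (K := Γ)) (map_le_iff_le_comap.1 hU)]; rfl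
  have hi : ∀ x y : Γ, (∃ j, x ^ p ^ j = 1) → y ∈ S₀.1 → π x = π y → x = y := by
    rintro x y ⟨a, ha⟩ hy h
    obtain ⟨b, hb⟩ := S₀.isPGroup' ⟨y, hy⟩
    replace hb : y ^ p ^ b = 1 := congrArg Subtype.val hb
    obtain ⟨h1, h2⟩ := hk (y⁻¹ * x) (by simp [h])
    have h3 := (show Commute y (y⁻¹ * x) from mem_center_iff.1 h1 y).mul_pow (p ^ (a + b))
    rw [mul_inv_cancel_left, pow_add, pow_mul, ha, one_pow, mul_comm (p ^ a), pow_mul y, hb, one_pow,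
      one_mul, ← pow_add] at h3
    exact (inv_mul_eq_one.1 (h2 _ h3.symm)).symm
  have hi' : ∀ x ∈ S₀.1, ∀ y ∈ S₀.1, π x = π y → x = y := fun x hx y =>
    hi x y ((S₀.isPGroup' ⟨x, hx⟩).imp fun _ h => congrArg Subtype.val h)
  have hn : ∀ {g : Γ} {P : Subgroup A}, g.1 ∈ nz P → π g ∈ nz ((P.subgroupOf Γ).map π) :=
    fun {g P} h => mem_nz_of_conj_mem <| by
      rintro _ ⟨x, hx, rfl⟩
      exact ⟨g * x * g⁻¹, conj_mem_of_mem_nz (x := x.1) h hx, by simp⟩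
  have hS : S₀.1 = U.subgroupOf Γ := Subgroup.ext hm
  refine isSimple_group (S₀.mapSurjective hπ) S (fun h => H.ne ?_) (fun T hT h0 => ?_)
    fun K h1 _ h3 g hg => ?_
  · refine eq_bot_iff.2 fun x hx => congrArg Subtype.val (hi' ⟨x, H.le hx⟩ ((hm _).2 hx) 1 (one_mem _) ?_)
    exact (h.le ⟨_, (hm _).2 hx, rfl⟩).trans (map_one _).symm
  · obtain ⟨_, hz, k1, k2⟩ := hT.exists_central (S₀.mapSurjective hπ).isPGroup' h0
    obtain ⟨z, hz', rfl⟩ := hT.1 hz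
    rintro _ ⟨x, hx, rfl⟩
    refine (mem_map_iff_mem (K := S₀.1 ⊓ T.comap π) Γ.subtype_injective).1 (H.sc
      ((S₀.1 ⊓ T.comap π).map Γ.subtype) ⟨?_, ?_⟩ z ⟨z, ⟨hz', hz⟩, rfl⟩
      (fun h => hp.out.ne_one (by rw [← k1, show z = 1 from Subtype.ext h, map_one, orderOf_one]))
      (fun s hs => congrArg Subtype.val (hi' _ (mul_mem ((hm ⟨s, H.le hs⟩).2 hs) hz') _
        (mul_mem hz' ((hm ⟨s, H.le hs⟩).2 hs)) (by
          rw [map_mul, map_mul]; exact k2 _ ⟨_, (hm _).2 hs, rfl⟩))) ((hm x).1 hx)) |>.2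
    · rintro _ ⟨x, hx, rfl⟩; exact (hm x).1 hx.1
    · rintro g hg _ ⟨x, hx, rfl⟩ h
      have k := (hm (⟨g, hg⟩ * x * ⟨g, hg⟩⁻¹)).2 h
      exact ⟨_, ⟨k, hT.mem_of_isConj hx.2 ⟨_, k, rfl⟩ (isConj_iff.2 ⟨π ⟨g, hg⟩, by simp⟩)⟩, rfl⟩
  obtain ⟨g, rfl⟩ := hπ g
  refine (mem_map_iff_mem (K := K.comap π) Γ.subtype_injective).1 (H.nm ((K.comap π).map Γ.subtype)
    (fun x hx => ⟨⟨x, H.le hx⟩, h1 ⟨_, (hm _).2 hx, rfl⟩, rfl⟩) (fun P k1 k2 k3 a ha => ?_)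
    ⟨g.2, mem_nz_of_conj_mem fun x hx => ?_⟩)
  · refine ⟨⟨a, ha.1.1⟩, h3 ((P.subgroupOf Γ).map π) (map_mono fun x hx => (hm x).2 (k1 hx)) ?_ ?_
      ⟨by simpa [hS] using hn (g := ⟨a, ha.1.1⟩) ha.1.2, ?_⟩, rfl⟩
    · rintro _ ⟨x, hx, rfl⟩; exact hn (k2 ((hm x).1 hx))
    · rintro _ ⟨⟨x, hx, rfl⟩, h⟩
      refine ⟨x, k3 ⟨(hm x).1 hx, fun y hy => ?_⟩, rfl⟩
      have k := (hm ⟨y, H.le (k1 hy)⟩).2 (k1 hy)
      exact congrArg Subtype.val (hi' _ (mul_mem k hx) _ (mul_mem hx k) (by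
        rw [map_mul, map_mul]; exact h _ ⟨_, hy, rfl⟩))
    · obtain ⟨b, hb, e⟩ := (pgen_le_iff (K := ((pgen p (nz ((P.subgroupOf Γ).map π))).comap π).map
        Γ.subtype)).2 (fun b hb ⟨j, hj⟩ => by
          obtain ⟨i, -, hi⟩ := (Nat.dvd_prime_pow hp.out).1 (hj ▸ (orderOf_map_dvd π ⟨b, hb.1⟩).trans
            (Subgroup.orderOf_mk _ _).dvd)
          exact ⟨⟨b, hb.1⟩, mem_pgen (hn hb.2) hi, rfl⟩) ha.2
      exact (Subtype.ext e : b = ⟨a, ha.1.1⟩) ▸ hb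
  · obtain ⟨y, hy, e⟩ := conj_mem_of_mem_nz hg ⟨_, (hm ⟨x, H.le hx⟩).2 hx, rfl⟩
    obtain ⟨j, hj⟩ := H.pg ⟨x, hx⟩
    have hj' : x ^ p ^ j = 1 := congrArg Subtype.val hj
    exact (hm (g * ⟨x, H.le hx⟩ * g⁻¹)).1 (hi (g * ⟨x, H.le hx⟩ * g⁻¹) y ⟨j, by
      rw [conj_pow, show (⟨x, H.le hx⟩ : Γ) ^ p ^ j = 1 from Subtype.ext hj']
      simp⟩ hy (by simp [e]) ▸ hy)

end general

variable {F V : Type*} [Field F] [AddCommGroup V] [Module F V] {p : ℕ}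

instance finite_linEquiv [Finite V] : Finite (V ≃ₗ[F] V) := DFunLike.finite _

/-- The span of the first `i` vectors. -/
def Wf (F : Type*) [Field F] [Module F V] (b : ℕ → V) (i : ℕ) : Submodule F V :=
  Submodule.span F (b '' Set.Iio i)

section flag
variable {b : ℕ → V} {i j : ℕ} {X W : Submodule F V} {g : V ≃ₗ[F] V}

instance : FiniteDimensional F (Wf F b i) :=
  FiniteDimensional.span_of_finite _ ((Set.finite_Iio i).image _)

theorem Wf_zero : Wf F b 0 = ⊥ := by simp [Wf]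

theorem Wf_succ : Wf F b (i + 1) = Wf F b i ⊔ Submodule.span F {b i} := by
  rw [Wf, Wf, ← Submodule.span_union, ← Set.image_singleton, ← Set.image_union, Set.Iio_union_right]
  exact congrArg _ (congrArg _ (Set.ext fun _ => Nat.lt_succ_iff))

theorem Wf_mono (h : i ≤ j) : Wf F b i ≤ Wf F b j :=
  Submodule.span_mono (Set.image_mono (Set.Iio_subset_Iio h))

theorem b_mem (h : i < j) : b i ∈ Wf F b j := Submodule.subset_span ⟨i, h, rfl⟩

theorem mem_Wf_succ {x : V} : x ∈ Wf F b (i + 1) ↔ ∃ w ∈ Wf F b i, ∃ c : F, x = w + c • b i := by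
  rw [Wf_succ, mem_sup_span_singleton]
  exact ⟨fun ⟨c, h⟩ => ⟨_, h, c, by simp⟩, fun ⟨w, h, c, e⟩ => ⟨c, by simpa [e] using h⟩⟩

theorem finrank_Wf : ∀ i, finrank F (Wf F b i) ≤ i
  | 0 => by simp [Wf_zero]
  | i + 1 => by rw [Wf_succ]; exact (finrank_sup_span_le _ _).trans (by simpa using finrank_Wf i)

theorem exists_flag [FiniteDimensional F V] (Good : Submodule F V → V → Prop)
    (h : ∀ W v, Good W v → v ∉ W) :
    ∃ (b : ℕ → V) (m : ℕ), (∀ i < m, Good (Wf F b i) (b i)) ∧ ¬ ∃ v, Good (Wf F b m) v := by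
  classical
  have : ∀ W, ∃ v, (∃ v, Good W v) → Good W v := fun W => by
    by_cases k : ∃ v, Good W v
    · exact k.imp fun _ h _ => h
    · exact ⟨0, fun h => absurd h k⟩
  choose nx hn using this
  let W : ℕ → Submodule F V := fun i => Nat.rec ⊥ (fun _ W => W ⊔ Submodule.span F {nx W}) i
  have hW : ∀ i, Wf F (fun i => nx (W i)) i = W i := fun i => by
    induction i with
    | zero => exact Wf_zero
    | succ i ih => rw [Wf_succ, ih]
  have : ∃ m, ¬ ∃ v, Good (W m) v := by_contra fun k => by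
    push Not at k
    exact not_strictMono_of_wellFoundedGT W (strictMono_nat_of_lt_succ fun i => left_lt_sup.2
      fun k' => h _ _ (hn _ (k i)) (k' (Submodule.mem_span_singleton_self _)))
  exact ⟨fun i => nx (W i), Nat.find this, fun i hi => (hW i).symm ▸ hn _ (not_not.1 (Nat.find_min this hi)),
    (hW _).symm ▸ Nat.find_spec this⟩

/-- The maps stabilizing `W` and acting trivially on `X / W`. -/
def Qs (X W : Submodule F V) : Subgroup (V ≃ₗ[F] V) where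
  carrier := {g | g ∈ glStab W ∧ ∀ x ∈ X, g x - x ∈ W}
  one_mem' := ⟨one_mem _, by simp⟩
  mul_mem' := fun {g h} hg hh => ⟨mul_mem hg.1 hh.1, fun x hx => by
    simpa using add_mem ((hg.1 _).1 (hh.2 x hx)) (hg.2 x hx)⟩
  inv_mem' := fun {g} hg => ⟨inv_mem hg.1, fun x hx => (hg.1 _).2 (by
    simpa [apply_inv_apply] using neg_mem (hg.2 x hx))⟩

theorem mem_Qs [FiniteDimensional F W] (hW : W ≤ X) (h : ∀ x ∈ X, g x - x ∈ W) : g ∈ Qs X W :=
  ⟨mem_glStab_of_mapsTo fun v hv => by simpa using add_mem (h v (hW hv)) hv, h⟩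

theorem mem_Qs_bot : g ∈ Qs X ⊥ ↔ ∀ x ∈ X, g x = x :=
  ⟨fun h x hx => sub_eq_zero.1 (h.2 x hx), fun h => mem_Qs bot_le fun x hx => sub_eq_zero.2 (h x hx)⟩

theorem Qs_le [FiniteDimensional F X] (hW : W ≤ X) : Qs X W ≤ glStab X := fun g h =>
  mem_glStab_of_mapsTo fun v hv => by simpa using add_mem (hW (h.2 v hv)) hv

theorem mem_nz_Qs [Finite V] (h1 : g ∈ glStab X) (h2 : g ∈ glStab W) : g ∈ nz (Qs X W) :=
  mem_nz_of_conj_mem fun s hs => ⟨mul_mem (mul_mem h2 hs.1) (inv_mem h2), fun x hx => by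
    simpa [apply_inv_apply] using (h2 _).1 (hs.2 _ ((inv_mem h1 x).1 hx))⟩

theorem mem_glStab_of_nz [FiniteDimensional F X] {U : Subgroup (V ≃ₗ[F] V)} (hg : g ∈ nz U)
    (h1 : g ∈ glStab W) (h2 : U ≤ Qs X W) (h3 : ∀ v, (∀ s ∈ U, s v - v ∈ W) → v ∈ X) :
    g ∈ glStab X := mem_glStab_of_mapsTo fun v hv => h3 _ fun s hs => by
  simpa [apply_inv_apply] using (h1 _).1 ((h2 (conj_mem_of_mem_nz' hg hs)).2 v hv)

/-- The unitriangular group of a flag. -/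
def Uf (F : Type*) [Field F] [Module F V] (b : ℕ → V) (m : ℕ) : Subgroup (V ≃ₗ[F] V) :=
  ⨅ i < m, Qs (Wf F b (i + 1)) (Wf F b i)

variable {m : ℕ}

theorem mem_Uf : g ∈ Uf F b m ↔ ∀ i < m, ∀ x ∈ Wf F b (i + 1), g x - x ∈ Wf F b i := by
  simp only [Uf, mem_iInf]
  exact forall₂_congr fun i _ => ⟨fun h => h.2, mem_Qs (Wf_mono i.le_succ)⟩

theorem mem_Uf' : g ∈ Uf F b m ↔ ∀ i < m, g (b i) - b i ∈ Wf F b i := by
  refine mem_Uf.trans ⟨fun h i hi => h i hi _ (b_mem i.lt_succ_self), fun h i hi => ?_⟩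
  induction i with
  | zero =>
    intro x hx
    obtain ⟨w, hw, c, rfl⟩ := mem_Wf_succ.1 hx
    rw [Wf_zero] at hw
    simpa [(Submodule.mem_bot F).1 hw, smul_sub] using Submodule.smul_mem _ c (h 0 hi)
  | succ i ih =>
    intro x hx
    obtain ⟨w, hw, c, rfl⟩ := mem_Wf_succ.1 hx
    convert add_mem (Wf_mono i.le_succ (ih (by omega) w hw)) (Submodule.smul_mem _ c (h _ hi)) using 1
    simp only [map_add, map_smul]; module

theorem Uf_stab (hg : g ∈ Uf F b m) (hi : i ≤ m) : g ∈ glStab (Wf F b i) := by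
  rcases i with _ | i
  · simp [Wf_zero, mem_glStab]
  · exact Qs_le (Wf_mono i.le_succ) (mem_Qs (Wf_mono i.le_succ) (mem_Uf.1 hg i hi))

theorem mem_Uf_of (j : ℕ) (h1 : ∀ x ∈ Wf F b j, g x = x) (h2 : ∀ x ∈ Wf F b m, g x - x ∈ Wf F b j) :
    g ∈ Uf F b m := mem_Uf.2 fun i hi x hx => by
  rcases lt_or_ge i j with h | h
  · simp [h1 x (Wf_mono h hx)]
  · exact Wf_mono h (h2 x (Wf_mono hi hx))

theorem mem_nz_Uf [Finite V] (h : ∀ i ≤ m, g ∈ glStab (Wf F b i)) : g ∈ nz (Uf F b m) :=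
  mem_nz_of_conj_mem fun _ hs => mem_Uf.2 fun i hi => (conj_mem_of_mem_nz
    (mem_nz_Qs (h _ hi) (h _ hi.le)) (mem_Qs (Wf_mono i.le_succ) (mem_Uf.1 hs i hi))).2

theorem sl2_mem {J : Subgroup (V ≃ₗ[F] V)} {e f : V} (he : e ∈ X) (hf : f ∈ X) {φ ψ : Dual F V}
    (h1 : φ e = 1) (h2 : φ f = 0) (h3 : ψ e = 0) (h4 : ψ f = 1)
    (hx : ∀ s : F, ∃ g ∈ J, ∀ v ∈ X, g v = v + (s * ψ v) • e)
    (hy : ∀ s : F, ∃ g ∈ J, ∀ v ∈ X, g v = v + (s * φ v) • f) {u : F} (hu : u ≠ 0) :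
    ∃ a ∈ J, ∀ v ∈ X, a v = v + ((u - 1) * φ v) • e + ((u⁻¹ - 1) * ψ v) • f := by
  choose x hx hx' using hx
  choose y hy hy' using hy
  refine ⟨_, mul_mem (mul_mem (hx u) (mul_mem (hy (-u⁻¹)) (hx u)))
    (mul_mem (hx (-1)) (mul_mem (hy 1) (hx (-1)))), fun v hv => ?_⟩
  simp (disch := repeat first | assumption | apply add_mem | apply Submodule.smul_mem) only
    [LinearEquiv.mul_apply, hx', hy', map_add, map_smul, h1, h2, h3, h4, smul_eq_mul]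
  match_scalars <;> field_simp <;> ring

variable [Fact p.Prime] [CharP F p]

theorem exists_fixed_mod [Finite V] {R : Subgroup (V ≃ₗ[F] V)} (hR : IsPGroup p R) (hW : R ≤ glStab W)
    (hX : R ≤ glStab X) (h : ¬ X ≤ W) : ∃ v ∈ X, v ∉ W ∧ ∀ s ∈ R, s v - v ∈ W := by
  let ρ : Representation F R V := LinearEquiv.automorphismGroup.toLinearMapMonoidHom.comp R.subtype
  let ρ₁ := ρ.quotient W fun g x hx => (hW g.2 x).1 hx
  let ρ₂ := ρ₁.subrepresentation (X.map W.mkQ) fun g => by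
    rintro _ ⟨x, hx, rfl⟩; exact ⟨_, (hX g.2 x).1 hx, rfl⟩
  have : Nontrivial (X.map W.mkQ) := Submodule.nontrivial_iff_ne_bot.2 fun k => h (by
    rwa [← LinearMap.le_ker_iff_map, Submodule.ker_mkQ] at k)
  have : Finite (V ⧸ W) := .of_surjective _ W.mkQ_surjective
  obtain ⟨⟨_, v, hv, rfl⟩, h0, h1⟩ := exists_fixed_of_isPGroup p hR ρ₂
  exact ⟨v, hv, fun k => h0 (Subtype.ext ((Submodule.Quotient.mk_eq_zero _).2 k)), fun s hs =>
    (Submodule.Quotient.eq _).1 (congrArg Subtype.val (h1 ⟨s, hs⟩))⟩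

theorem pow_eq_one_of_chain (A : ℕ → Submodule F V) (N : ℕ) (h0 : A 0 = ⊥) (hN : A N = ⊤)
    (h : ∀ i < N, ∀ x ∈ A (i + 1), g x - x ∈ A i) : g ^ p ^ N = 1 := by
  have h1 : ∀ i ≤ N, ∀ x ∈ A i, (((g : End F V) - 1) ^ i) x = 0 := fun i => by
    induction i with
    | zero => exact fun _ x hx => by simpa [h0] using hx
    | succ i ih => exact fun hi x hx => by rw [pow_succ]; exact ih (by omega) _ (h i hi x hx)
  have h2 := pow_eq_zero_of_le (Nat.lt_pow_self (Fact.out : p.Prime).one_lt).le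
    (LinearMap.ext fun x => h1 N le_rfl x (hN ▸ trivial) : ((g : End F V) - 1) ^ N = 0)
  rw [sub_one_pow_char_pow (F := F), sub_eq_zero] at h2
  exact LinearEquiv.toLinearMap_injective
    ((map_pow LinearEquiv.automorphismGroup.toLinearMapMonoidHom _ _).trans h2)

theorem eq_one_of_pow {c : F} {k : ℕ} (h : c ^ p ^ k = 1) : c = 1 :=
  sub_eq_zero.1 (pow_eq_zero_iff (pow_pos (Fact.out : p.Prime).pos k).ne' |>.1 (by
    rw [sub_pow_char_pow, h, one_pow, sub_self]))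

theorem eigen_eq_one {k : ℕ} (h : g ^ p ^ k = 1) {v : V} (hv : v ≠ 0) {c : F} (e : g v = c • v) :
    c = 1 := by
  have : ∀ n, (g ^ n) v = c ^ n • v := fun n => by
    induction n with
    | zero => simp
    | succ n ih => rw [pow_succ, LinearEquiv.mul_apply, e, map_smul, ih, smul_smul, pow_succ']
  refine eq_one_of_pow (p := p) (k := k) (smul_left_injective F hv ?_)
  simpa [h] using (this (p ^ k)).symm

theorem mem_SLV_of_pow {k : ℕ} (h : g ^ p ^ k = 1) : g ∈ SLV F V :=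
  Units.ext (eq_one_of_pow (p := p) (k := k) (by
    rw [← Units.val_pow_eq_pow_val, ← map_pow, h, map_one, Units.val_one]))

end flag

end H21
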