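import Cfsg.Agent.H21.FusLin
import Cfsg.Agent.H12.GeoBridge

/-! The fusion system of the special linear group in the defining characteristic. -/

open Cfsg

namespace H21
open Subgroup H25 Module Function H12

variable {F V : Type*} [Field F] [AddCommGroup V] [Module F V] {p : ℕ} {b : ℕ → V} {n k : ℕ}
  {g s : V ≃ₗ[F] V} {Γ U T : Subgroup (V ≃ₗ[F] V)}

theorem fix_succ (h1 : ∀ x ∈ Wf F b k, g x = s x) (h2 : g (b k) = s (b k)) :
    ∀ x ∈ Wf F b (k + 1), (s⁻¹ * g) x = x := fun x hx => by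
  obtain ⟨w, hw, c, rfl⟩ := mem_Wf_succ.1 hx
  rw [LinearEquiv.mul_apply, map_add, map_smul, h1 w hw, h2, ← map_smul, ← map_add, inv_apply_apply]

theorem SC.tr (h : SC Γ U T) {v w : V} {φ ψ : Dual F V} (ht : H12.Tr T v φ) (hg : g ∈ Γ)
    (e1 : g v = w) (e2 : ∀ x, ψ (g x) = φ x) (hU : ∀ s : V ≃ₗ[F] V, (∀ x, s x = x + ψ x • w) → s ∈ U) :
    H12.Tr T w ψ := by
  obtain ⟨t, ht, e⟩ := ht
  have : ∀ x, (g * t * g⁻¹) x = x + ψ x • w := fun x => by
    obtain ⟨x, rfl⟩ := g.surjective x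
    simp [inv_apply_apply, e, e1, e2]
  exact ⟨_, h.2 g hg t ht (hU _ this), this⟩

theorem tr_mem_Uf (j : ℕ) {w : V} {ψ : Dual F V} (hw : w ∈ Wf F b j) (hψ : ∀ x ∈ Wf F b j, ψ x = 0)
    (s : V ≃ₗ[F] V) (h : ∀ x, s x = x + ψ x • w) : s ∈ Uf F b n :=
  mem_Uf_of j (fun x hx => by simp [h, hψ x hx]) fun x _ => by simpa [h] using Submodule.smul_mem _ _ hw

theorem exists_dual_pair (h1 : b k ∉ Wf F b k) (h2 : b (k + 1) ∉ Wf F b (k + 1)) :
    b k ∉ Wf F b k ⊔ Submodule.span F {b (k + 1)} := fun h => by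
  obtain ⟨c, hc⟩ := mem_sup_span_singleton.1 h
  by_cases h0 : c = 0
  · exact h1 (by simpa [h0] using hc)
  · refine h2 ((Submodule.smul_mem_iff _ h0).1 ?_)
    simpa using sub_mem (b_mem k.lt_succ_self) (Wf_mono k.le_succ hc)

variable [Finite V]

theorem slv_trans (h2 : 2 ≤ finrank F V) {u v : V} (hu : u ≠ 0) (hv : v ≠ 0) :
    ∃ g ∈ SLV F V, g u = v := by
  have key : ∀ {u v : V}, u ≠ 0 → v ∉ Submodule.span F {u} → ∃ g ∈ SLV F V, g u = v := fun {u v} hu h => by
    obtain ⟨φ, -, h1, h2⟩ := exists_dual_one_one (F := F) (H := ⊥) (u := v) (v := u) (by simpa using h) hu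
    obtain ⟨g, hg, e⟩ := tr_SLV (φ := φ) (v := v - u) (by simp [h1, h2])
    exact ⟨g, hg, by simp [e, h2]⟩
  by_cases h : v ∈ Submodule.span F {u}
  · obtain ⟨w, hw⟩ := exists_not_mem_of_ne_top (ne_top_of_finrank_lt
      ((finrank_span_singleton_le (F := F) u).trans_lt h2))
    obtain ⟨g, hg, e⟩ := key hu hw
    obtain ⟨g', hg', e'⟩ := key hv fun k => hw ((Submodule.span_singleton_le_iff_mem _ _).2 h k)
    exact ⟨g'⁻¹ * g, mul_mem (inv_mem hg') hg, by rw [LinearEquiv.mul_apply, e, ← e', inv_apply_apply]⟩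
  · exact key hu h

variable [Fact p.Prime] [CharP F p]

theorem fusOK_SL (h3 : 3 ≤ finrank F V) (hb : ∀ i < n, b i ∉ Wf F b i) (hn : Wf F b n = ⊤) :
    FusOK p (SLV F V) (Uf F b n) := by
  have n3 : 3 ≤ n := h3.trans (finrank_top F V ▸ hn ▸ finrank_Wf n)
  have hp : ∀ g ∈ Uf F b n, g ^ p ^ n = 1 := fun g hg =>
    pow_eq_one_of_chain _ n Wf_zero hn (mem_Uf.1 hg)
  have b0 : b 0 ≠ 0 := by simpa [Wf_zero] using hb 0 (by omega)
  have W1 : ∀ x, x ∈ Wf F b 1 ↔ ∃ c : F, c • b 0 = x := fun x => by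
    rw [Wf_succ, Wf_zero, bot_sup_eq, Submodule.mem_span_singleton]
  have QU : ∀ j, Qs ⊤ (Wf F b j) ⊓ Qs (Wf F b j) ⊥ ≤ Uf F b n := fun j g hg =>
    mem_Uf_of j (mem_Qs_bot.1 hg.2) fun x _ => hg.1.2 x trivial
  have QN : ∀ W : Submodule F V, glStab W ≤ nz (Qs ⊤ W ⊓ Qs W ⊥) := fun W g hg =>
    mem_nz_inf (mem_nz_Qs (by simp [mem_glStab]) hg) (mem_nz_Qs hg (by simp [mem_glStab]))
  have QC : ∀ j, 0 < j → j < n → Uf F b n ⊓ cz (Qs ⊤ (Wf F b j) ⊓ Qs (Wf F b j) ⊥) ≤
      Qs ⊤ (Wf F b j) ⊓ Qs (Wf F b j) ⊥ := fun j h0 hj g hg => by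
    have h1 : ∀ w ∈ Wf F b j, ∀ φ : Dual F V, (∀ x ∈ Wf F b j, φ x = 0) → ∀ x,
        φ (g x) • w = φ x • g w := fun w hw φ hφ x => by
      simpa [LinearMap.transvection.apply] using congrArg (· x) (hg.2 (.transvection (hφ w hw))
        ⟨mem_Qs le_top fun x _ => by simpa [LinearMap.transvection.apply] using Submodule.smul_mem _ _ hw,
          mem_Qs_bot.2 fun x hx => by simp [LinearMap.transvection.apply, hφ x hx]⟩)
    have h2 : ∀ w ∈ Wf F b j, g w = w := fun w hw => by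
      obtain ⟨φ, k1, k2⟩ := exists_dual_eq_one (hb j hj)
      have := k1 _ (mem_Uf'.1 hg.1 j hj)
      rw [map_sub, sub_eq_zero] at this
      simpa [this, k2] using (h1 w hw φ k1 (b j)).symm
    refine ⟨mem_Qs le_top fun x _ => by_contra fun k => ?_, mem_Qs_bot.2 h2⟩
    obtain ⟨φ, k1, k2⟩ := exists_dual_eq_one k
    have := h1 _ (b_mem h0) φ k1 x
    rw [h2 _ (b_mem h0)] at this
    simp [smul_left_injective F b0 this] at k2
  refine ⟨fun g hg => mem_SLV_of_pow (hp g hg), fun g => ⟨n, Subtype.ext (hp _ g.2)⟩, fun h => ?_,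
    fun T hT z hz z1 hc => ?_, fun K hK H g hg => ?_⟩
  · obtain ⟨φ, k1, k2⟩ := exists_dual_eq_one (hb 1 (by omega))
    have := congrArg (· (b 1)) (h.le (tr_mem_Uf 1 (b_mem one_pos) k1 (.transvection
      (k1 _ (b_mem one_pos))) fun _ => rfl))
    simp [LinearMap.transvection.apply, k2, b0] at this
  · obtain ⟨h1, h2⟩ := QC 1 one_pos (by omega) ⟨hT.1 hz, fun s hs => hc s (QU 1 hs)⟩
    obtain ⟨χ, -, k1⟩ := exists_dual_eq_one (F := F) (H := ⊥) b0
    let φ : Dual F V := χ ∘ₗ ((z : End F V) - 1)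
    have k2 : ∀ x, z x = x + φ x • b 0 := fun x => by
      obtain ⟨c, hc⟩ := (W1 _).1 (h1.2 x trivial)
      rw [show φ x = χ (z x - x) from rfl, ← hc, map_smul, k1, smul_eq_mul, mul_one, hc, add_sub_cancel]
    obtain ⟨y, hy⟩ : ∃ y, φ y = 1 := by
      obtain ⟨y, hy⟩ := DFunLike.ne_iff.1 z1
      exact ⟨(φ y)⁻¹ • y, by rw [map_smul, smul_eq_mul, inv_mul_cancel₀ fun k => hy (by simp [k2, k])]⟩
    have φ0 : φ (b 0) = 0 := by simp [φ, mem_Qs_bot.1 h2 _ (b_mem one_pos)]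
    have hU : ∀ ψ : Dual F V, ψ (b 0) = 0 → ∀ s : V ≃ₗ[F] V, (∀ x, s x = x + ψ x • b 0) → s ∈ Uf F b n :=
      fun ψ h => tr_mem_Uf 1 (b_mem one_pos) fun x hx => by
        obtain ⟨c, rfl⟩ := (W1 _).1 hx; simp [h]
    have A : ∀ ψ : Dual F V, ψ (b 0) = 0 → ∀ x, ψ x = 0 → φ x = 1 → H12.Tr T (b 0) ψ := fun ψ h x h1 h2 => by
      have := H12.Tr.sub_right (hT.tr (ψ := φ + ψ) ⟨z, hz, k2⟩ (tr_iff (v := -x) (φ := ψ) (by simp [h1]) |>.1
        (tr_SLV (by simp [h1]))) (by simp [LinearMap.transvection.apply, h])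
        (fun v => by simp [LinearMap.transvection.apply, h1, h2]) (hU _ (by simp [h, φ0])))
        ⟨z, hz, k2⟩ (by simp [h, φ0]) φ0
      simpa using this
    have B : ∀ ψ : Dual F V, ψ (b 0) = 0 → H12.Tr T (b 0) ψ := fun ψ h => by
      obtain ⟨x, hx⟩ := exists_not_mem_of_ne_top (ne_top_of_finrank_lt
        ((finrank_span_pair_le (F := F) (b 0) y).trans_lt h3))
      obtain ⟨θ, t1, t2⟩ := exists_dual_eq_one hx
      have t3 := t1 _ (Submodule.subset_span (Set.mem_insert _ _))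
      have t4 := t1 _ (Submodule.subset_span (Set.mem_insert_of_mem _ rfl))
      have := (A (ψ - ψ (x + (1 - φ x) • y) • θ) (by simp [h, t3]) (x + (1 - φ x) • y)
        (by simp [t2, t4]) (by simp [hy])).add_right (A (ψ (x + (1 - φ x) • y) • θ) (by simp [t3]) y
          (by simp [t4]) hy) (by simp [h, t3])
      simpa using this
    have key : ∀ d k, k + d = n → ∀ g ∈ Uf F b n, (∀ x ∈ Wf F b k, g x = x) → g ∈ T := fun d => by
      induction d with
      | zero => exact fun k e g _ h => (LinearEquiv.ext fun x => h x (by simp [show k = n from e, hn]) : g = 1) ▸ one_mem _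
      | succ d ih =>
        intro k e g hg h
        obtain ⟨ψ, k1, k2⟩ := exists_dual_eq_one (hb k (by omega))
        have hw := mem_Uf'.1 hg k (by omega)
        obtain ⟨s, hs, e'⟩ : H12.Tr T (g (b k) - b k) ψ := by
          by_cases k3 : g (b k) - b k = 0
          · exact k3 ▸ tr_zero_left
          obtain ⟨a, ha, k4⟩ := slv_trans (F := F) (by omega) b0 k3
          exact hT.tr (B (ψ ∘ₗ a) (k1 _ (k4 ▸ hw :))) ha k4 (fun _ => rfl) (tr_mem_Uf k hw k1)
        exact (mul_mem_cancel_left (inv_mem hs)).1 (ih (k + 1) (by omega) _ (mul_mem (inv_mem (hT.1 hs)) hg)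
          (fix_succ (fun x hx => by simp [h x hx, e', k1 x hx]) (by simp [e', k2])))
    exact fun g hg => key n 0 (by simp) g hg (by simp [Wf_zero])
  have key : ∀ d k, k + d + 1 = n → ∀ g ∈ SLV F V, (∀ i ≤ n, g ∈ glStab (Wf F b i)) →
      (∀ x ∈ Wf F b k, g x = x) → g ∈ K := fun d => by
    induction d with
    | zero =>
      rintro k rfl g hg - h
      obtain ⟨φ, k1, k2⟩ := exists_dual_eq_one (hb k (by omega))
      have e : ∀ x, g x = x + φ x • (g (b k) - b k) := fun x => by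
        obtain ⟨w, hw, c, rfl⟩ := mem_Wf_succ.1 (hn ▸ trivial : x ∈ Wf F b (k + 1))
        simp [h w hw, k1 w hw, k2, smul_sub]
      rw [mem_SLV, show (g : V →ₗ[F] V) = .transvection φ (g (b k) - b k) from LinearMap.ext e,
        LinearMap.transvection.det, add_eq_left] at hg
      obtain ⟨w, hw, c, e'⟩ := mem_Wf_succ.1 (hn ▸ trivial : g (b k) - b k ∈ Wf F b (k + 1))
      obtain rfl : c = 0 := by simpa [e', k1 w hw, k2] using hg
      exact hK (tr_mem_Uf k (by simpa [e'] using hw) k1 g e)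
    | succ d ih =>
      intro k e g hg hs h
      obtain ⟨w, hw, t, e'⟩ := mem_Wf_succ.1 ((hs (k + 1) (by omega) _).1 (b_mem k.lt_succ_self))
      have ht : t ≠ 0 := fun k' => hb k (by omega) ((hs k (by omega) _).2 (by simpa [e', k'] using hw))
      obtain ⟨φ, k1, k2, k3⟩ := exists_dual_one_zero (exists_dual_pair (hb k (by omega)) (hb _ (by omega)))
      obtain ⟨ψ, k4, k5⟩ := exists_dual_eq_one (hb (k + 1) (by omega))
      have k6 := k4 _ (b_mem k.lt_succ_self)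
      obtain ⟨j, j0, jn, hj⟩ : ∃ j, 0 < j ∧ j < n ∧ (j = k ∨ j = k + 2) := by
        rcases k.eq_zero_or_pos with rfl | h
        exacts [⟨2, by omega⟩, ⟨k, by omega⟩]
      have J : ∀ v (χ : Dual F V), χ v = 0 → v ∈ Wf F b (k + 2) → (∀ x ∈ Wf F b k, χ x = 0) → ∃ g ∈ pgen p
          (SLV F V ⊓ nz (Qs ⊤ (Wf F b j) ⊓ Qs (Wf F b j) ⊥)), ∀ x ∈ (⊤ : Submodule F V), g x = x + χ x • v :=
        fun v χ h0 h1 h2 => by
          obtain ⟨g, hg, e⟩ := tr_glStab_SLV (W := Wf F b j) h0 (by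
            rcases hj with rfl | rfl
            exacts [.inr h2, .inl h1])
          refine ⟨g, mem_pgen' ⟨hg.2, QN _ hg.1⟩ ?_, fun x _ => e x⟩
          have : ∀ i : ℕ, ∀ x, (g ^ i) x = x + (i * χ x) • v := fun i => by
            induction i with
            | zero => simp
            | succ i ih => intro x; rw [pow_succ, LinearEquiv.mul_apply, ih, e]; simp [h0]; module
          exact LinearEquiv.ext fun x => by simp [this]
      obtain ⟨a, ha, ea⟩ := sl2_mem (X := ⊤) trivial trivial k2 k3 k6 k5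
        (fun s => J _ (s • ψ) (by simp [k6]) (b_mem (by omega)) fun x hx => by
          simp [k4 x (Wf_mono k.le_succ hx)])
        (fun s => J _ (s • φ) (by simp [k3]) (b_mem (by omega)) fun x hx => by simp [k1 x hx]) ht
      have a1 : ∀ x ∈ Wf F b k, a x = x := fun x hx => by
        simp [ea, k1 x hx, k4 x (Wf_mono k.le_succ hx)]
      have a2 : ∀ i ≤ n, a ∈ glStab (Wf F b i) := fun i _ => mem_glStab_of_mapsTo fun x hx => by
        rcases le_or_gt i k with h | h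
        · rwa [a1 x (Wf_mono h hx)]
        rw [ea x trivial]
        refine add_mem (add_mem hx (Submodule.smul_mem _ _ (b_mem h))) ?_
        rcases (show i = k + 1 ∨ k + 1 < i by omega) with rfl | h
        · simp [k4 x hx]
        · exact Submodule.smul_mem _ _ (b_mem h)
      have a3 := (pgen_le _ _ ha).1
      obtain ⟨s, s1, es⟩ := tr_SLV (k1 w hw)
      have s2 := tr_mem_Uf (n := n) k hw k1 s es
      have := H _ (QU j) (fun g hg => QN _ (Uf_stab hg jn.le)) (QC j j0 jn) ⟨⟨a3, mem_nz_Uf a2⟩, ha⟩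
      refine (mul_mem_cancel_left (inv_mem (mul_mem this (hK s2)))).1 (ih (k + 1) (by omega) _
        (mul_mem (inv_mem (mul_mem a3 s1)) hg) (fun i hi => mul_mem (inv_mem (mul_mem (a2 i hi)
          (Uf_stab s2 hi))) (hs i hi)) (fix_succ (fun x hx => by simp [h x hx, es, k1 x hx, a1 x hx]) ?_))
      rw [e', LinearEquiv.mul_apply, es, k2, one_smul, map_add, a1 w hw, ea _ trivial, k2, k6]
      module
  refine key (n - 1) 0 (by omega) g hg.1 (fun i => ?_) (by simp [Wf_zero])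
  induction i with
  | zero => simp [Wf_zero, mem_glStab]
  | succ i ih =>
    refine fun hi => mem_glStab_of_nz hg.2 (ih (by omega)) (fun s hs => mem_Qs (Wf_mono i.le_succ)
      (mem_Uf.1 hs i hi)) fun v hv => by_contra fun k => ?_
    obtain ⟨φ, k1, k2⟩ := exists_dual_eq_one k
    have := hv _ (tr_mem_Uf _ (b_mem i.lt_succ_self) k1 (.transvection (k1 _ (b_mem i.lt_succ_self)))
      fun _ => rfl)
    exact hb i hi (by simpa [LinearMap.transvection.apply, k2] using this)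

theorem exists_fusOK_SL (h3 : 3 ≤ finrank F V) (R : Subgroup (V ≃ₗ[F] V)) (hR : IsPGroup p R) :
    ∃ U, R ≤ U ∧ FusOK p (SLV F V) U := by
  obtain ⟨b, n, h1, h2⟩ := exists_flag (fun (W : Submodule F V) v => v ∉ W ∧ ∀ s ∈ R, s v - v ∈ W)
    fun _ _ h => h.1
  have h4 : R ≤ Uf F b n := fun s hs => mem_Uf'.2 fun i hi => (h1 i hi).2 s hs
  refine ⟨_, h4, fusOK_SL h3 (fun i hi => (h1 i hi).1) (eq_top_iff.2 (by_contra fun k => h2 ?_))⟩
  exact (exists_fixed_mod hR (fun s hs => Uf_stab (h4 hs) le_rfl) (fun s _ => by simp [mem_glStab])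
    k).imp fun _ h => h.2

omit [CharP F p] in
theorem isSimple_center {G : Type*} [Group G] (e : G ≃* Γ)
    (hz : ∀ k ∈ Γ, (∀ g ∈ Γ, g * k = k * g) → ∀ j, k ^ p ^ j = 1 → k = 1)
    (H : ∀ R ≤ Γ, IsPGroup p R → ∃ U, R ≤ U ∧ FusOK p Γ U) (S : Sylow p (G ⧸ center G)) :
    (groupFusionSystem S.1).IsSimple p := by
  have : Finite G := .of_equiv _ e.symm.toEquiv
  refine isSimple_amb ((QuotientGroup.mk' _).comp e.symm.toMonoidHom)
    ((QuotientGroup.mk'_surjective _).comp e.symm.surjective) (fun k hk => ?_) H S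
  have : k ∈ center Γ := mem_center_iff.2 fun g => e.symm.injective (by
    simpa using mem_center_iff.1 ((QuotientGroup.eq_one_iff _).1 hk) (e.symm g))
  exact ⟨this, fun j h => Subtype.ext (hz k k.2 (fun g hg => congrArg Subtype.val
    (mem_center_iff.1 this ⟨g, hg⟩)) j (congrArg Subtype.val h))⟩

theorem isSimple_SL {G : Type*} [Group G] (e : G ≃* SLV F V) (h3 : 3 ≤ finrank F V)
    (S : Sylow p (G ⧸ center G)) : (groupFusionSystem S.1).IsSimple p := by
  refine isSimple_center e (fun k _ h j hj => LinearEquiv.ext fun v => ?_)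
    (fun R _ => exists_fusOK_SL h3 R) S
  obtain ⟨x, hx⟩ := exists_not_mem_of_ne_top (ne_top_of_finrank_lt
    ((finrank_span_singleton_le (F := F) v).trans_lt (by omega)))
  obtain ⟨φ, k1, k2⟩ := exists_dual_eq_one hx
  obtain ⟨t, ht, e⟩ := tr_SLV (k1 _ (Submodule.mem_span_singleton_self v))
  have : k v = φ (k x) • v := by simpa [e, k2] using (congrArg (· x) (h t ht)).symm
  by_cases hv : v = 0
  · simp [hv]
  · simp [this, eigen_eq_one hj hv this]

end H21
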