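import Cfsg.Agent.H21.JF3
import Cfsg.Agent.H1.JF1

/-! Computing in the Sylow `2`-subgroup of `M22:2`. -/

set_option autoImplicit false
set_option linter.unusedSectionVars false
set_option maxRecDepth 100000
set_option synthInstance.maxSize 100000
set_option synthInstance.maxHeartbeats 400000
namespace H21.JF
open Subgroup H16 H19 H0.TR H20.J4 H1.JF
open H15 (pt ap pid pack24 Rep isM getP)
open H29.SD (mem_Cx')
open H29.JC (El)

noncomputable def LT (k b : ℕ) : ℕ := lk (nth 0 [0xfefffcfdfafbf8f9f6f7f4f5f2f3f0f1eeefecedeaebe8e9e6e7e4e5e2e3e0e1dedfdcdddadbd8d9d6d7d4d5d2d3d0d1cecfcccdcacbc8c9c6c7c4c5c2c3c0c1bebfbcbdbabbb8b9b6b7b4b5b2b3b0b1aeafacadaaaba8a9a6a7a4a5a2a3a0a19e9f9c9d9a9b989996979495929390918e8f8c8d8a8b888986878485828380817e7f7c7d7a7b787976777475727370716e6f6c6d6a6b686966676465626360615e5f5c5d5a5b585956575455525350514e4f4c4d4a4b484946474445424340413e3f3c3d3a3b383936373435323330312e2f2c2d2a2b282926272425222320211e1f1c1d1a1b181916171415121310110e0f0c0d0a0b08090607040502030001,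
  0xfcfdfefff8f9fafbf4f5f6f7f0f1f2f3ecedeeefe8e9eaebe4e5e6e7e0e1e2e3dcdddedfd8d9dadbd4d5d6d7d0d1d2d3cccdcecfc8c9cacbc4c5c6c7c0c1c2c3bcbdbebfb8b9babbb4b5b6b7b0b1b2b3acadaeafa8a9aaaba4a5a6a7a0a1a2a39c9d9e9f98999a9b94959697909192938c8d8e8f88898a8b84858687808182837d7c7f7e79787b7a75747776717073726d6c6f6e69686b6a65646766616063625d5c5f5e59585b5a55545756515053524d4c4f4e49484b4a45444746414043423d3c3f3e39383b3a35343736313033322d2c2f2e29282b2a25242726212023221d1c1f1e19181b1a15141716111013120d0c0f0e09080b0a0504070601000302,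
  0xf8f9fafbfcfdfefff0f1f2f3f4f5f6f7e8e9eaebecedeeefe0e1e2e3e4e5e6e7d9d8dbdadddcdfded1d0d3d2d5d4d7d6c9c8cbcacdcccfcec1c0c3c2c5c4c7c6babbb8b9bebfbcbdb2b3b0b1b6b7b4b5aaaba8a9aeafacada2a3a0a1a6a7a4a59b9a99989f9e9d9c93929190979695948b8a89888f8e8d8c838281808786858478797a7b7c7d7e7f707172737475767768696a6b6c6d6e6f606162636465666759585b5a5d5c5f5e515053525554575649484b4a4d4c4f4e41404342454447463a3b38393e3f3c3d32333031363734352a2b28292e2f2c2d22232021262724251b1a19181f1e1d1c13121110171615140b0a09080f0e0d0c0302010007060504,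
  0xf1f0f3f2f5f4f7f6f9f8fbfafdfcfffee1e0e3e2e5e4e7e6e9e8ebeaedecefeed2d3d0d1d6d7d4d5dadbd8d9dedfdcddc2c3c0c1c6c7c4c5cacbc8c9cecfcccdb0b1b2b3b4b5b6b7b8b9babbbcbdbebfa0a1a2a3a4a5a6a7a8a9aaabacadaeaf93929190979695949b9a99989f9e9d9c83828180878685848b8a89888f8e8d8c76777475727370717e7f7c7d7a7b787966676465626360616e6f6c6d6a6b686954555657505152535c5d5e5f58595a5b44454647404142434c4d4e4f48494a4b35343736313033323d3c3f3e39383b3a25242726212023222d2c2f2e29282b2a17161514131211101f1e1d1c1b1a191807060504030201000f0e0d0c0b0a0908,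
  0xeaebe8e9eeefecede2e3e0e1e6e7e4e5fafbf8f9fefffcfdf2f3f0f1f6f7f4f5c8c9cacbcccdcecfc0c1c2c3c4c5c6c7d8d9dadbdcdddedfd0d1d2d3d4d5d6d7a8a9aaabacadaeafa0a1a2a3a4a5a6a7b8b9babbbcbdbebfb0b1b2b3b4b5b6b78a8b88898e8f8c8d82838081868784859a9b98999e9f9c9d92939091969794956c6d6e6f68696a6b64656667606162637c7d7e7f78797a7b74757677707172734f4e4d4c4b4a494847464544434241405f5e5d5c5b5a595857565554535251502c2d2e2f28292a2b24252627202122233c3d3e3f38393a3b34353637303132330f0e0d0c0b0a090807060504030201001f1e1d1c1b1a19181716151413121110,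
  0xdfdedddcdbdad9d8d7d6d5d4d3d2d1d0cfcecdcccbcac9c8c7c6c5c4c3c2c1c0fffefdfcfbfaf9f8f7f6f5f4f3f2f1f0efeeedecebeae9e8e7e6e5e4e3e2e1e09f9e9d9c9b9a999897969594939291908f8e8d8c8b8a89888786858483828180bfbebdbcbbbab9b8b7b6b5b4b3b2b1b0afaeadacabaaa9a8a7a6a5a4a3a2a1a05f5e5d5c5b5a595857565554535251504f4e4d4c4b4a494847464544434241407f7e7d7c7b7a797877767574737271706f6e6d6c6b6a696867666564636261601f1e1d1c1b1a191817161514131211100f0e0d0c0b0a090807060504030201003f3e3d3c3b3a393837363534333231302f2e2d2c2b2a29282726252423222120,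
  0x9f9e9d9c9b9a999897969594939291908f8e8d8c8b8a89888786858483828180bfbebdbcbbbab9b8b7b6b5b4b3b2b1b0afaeadacabaaa9a8a7a6a5a4a3a2a1a0dfdedddcdbdad9d8d7d6d5d4d3d2d1d0cfcecdcccbcac9c8c7c6c5c4c3c2c1c0fffefdfcfbfaf9f8f7f6f5f4f3f2f1f0efeeedecebeae9e8e7e6e5e4e3e2e1e03f3e3d3c3b3a393837363534333231302f2e2d2c2b2a292827262524232221201f1e1d1c1b1a191817161514131211100f0e0d0c0b0a090807060504030201007f7e7d7c7b7a797877767574737271706f6e6d6c6b6a696867666564636261605f5e5d5c5b5a595857565554535251504f4e4d4c4b4a49484746454443424140,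
  0x7f7e7d7c7b7a797877767574737271706f6e6d6c6b6a696867666564636261605f5e5d5c5b5a595857565554535251504f4e4d4c4b4a494847464544434241403f3e3d3c3b3a393837363534333231302f2e2d2c2b2a292827262524232221201f1e1d1c1b1a191817161514131211100f0e0d0c0b0a09080706050403020100fffefdfcfbfaf9f8f7f6f5f4f3f2f1f0efeeedecebeae9e8e7e6e5e4e3e2e1e0dfdedddcdbdad9d8d7d6d5d4d3d2d1d0cfcecdcccbcac9c8c7c6c5c4c3c2c1c0bfbebdbcbbbab9b8b7b6b5b4b3b2b1b0afaeadacabaaa9a8a7a6a5a4a3a2a1a09f9e9d9c9b9a999897969594939291908f8e8d8c8b8a89888786858483828180] k) 8 255 b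
theorem actL : Act ta tb LT 256 8 := fun k hk b hb => by
  obtain ⟨h1, h2⟩ := (by decide +kernel : ∀ k < 8, ∀ b < 256, LT k b < 256 ∧ pm (Y k) (TC b) = TC (LT k b)) k hk b hb
  exact ⟨h1, by rw [smul_eq_mul, cd_eq, cd_mul, cd_ta hk, cd_tb hb, cd_tb h1, h2]⟩
/-- multiplication and inversion of indices -/
noncomputable def mu (a b : ℕ) : ℕ := force a fun a => force b fun b => apW LT (bw a 8) (b % 256)
noncomputable def iv (a : ℕ) : ℕ := apW LT (bw (a % 256) 8).reverse 0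
theorem tb_mod (a : ℕ) : tb (a % 256) = tb a := congrArg (evA ta) (bw_congr fun i hi => by
  rw [show 256 = 2 ^ 8 from rfl, Nat.testBit_mod_two_pow]; simp [hi])
theorem l256 (a : ℕ) : a % 256 < 256 := Nat.mod_lt _ (by decide)
theorem tb_mul (a b : ℕ) : tb a * tb b = tb (mu a b) := by
  rw [mu, force_eq, force_eq, ← (actL.apW (bw_lt a 8) (l256 b)).2, tb_mod]; rfl
theorem tb_eq {a b : ℕ} : tb a = tb b ↔ a % 256 = b % 256 :=
  ⟨fun e => tb_inj (l256 a) (l256 b) (by rwa [tb_mod, tb_mod]), fun e => by rw [← tb_mod, e, tb_mod]⟩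
theorem tb_one {a : ℕ} : tb a = 1 ↔ a % 256 = 0 := tb_eq (b := 0)
theorem tb_inv (a : ℕ) : (tb a)⁻¹ = tb (iv a) := by
  rw [inv_eq_iff_mul_eq_one, ← tb_mod, tb_mul, tb_one, iv]
  exact (by decide +kernel : ∀ a < 256, mu a (apW LT (bw a 8).reverse 0) % 256 = 0) _ (l256 a)
theorem ta_tb {k : ℕ} (h : k < 8) : ta k = tb (2 ^ k) := by
  rw [tb, (by decide +kernel : ∀ k < 8, bw (2 ^ k) 8 = [k]) k h]; simp
theorem t0 : ta 0 = tb 1 := ta_tb (by decide)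
theorem t1 : ta 1 = tb 2 := ta_tb (by decide)
theorem t2 : ta 2 = tb 4 := ta_tb (by decide)
theorem t3 : ta 3 = tb 8 := ta_tb (by decide)
theorem t4 : ta 4 = tb 16 := ta_tb (by decide)
theorem t5 : ta 5 = tb 32 := ta_tb (by decide)
theorem t6 : ta 6 = tb 64 := ta_tb (by decide)
theorem t7 : ta 7 = tb 128 := ta_tb (by decide)
theorem ts : ss = tb 30 := by simp only [ss, t1, t2, t3, t4, tb_mul, tb_eq]; decide +kernel
theorem all_tb {S : Subgroup GPm} (hS : S ≤ T0) {P : GPm → Prop} (h : ∀ b < 256, tb b ∈ S → P (tb b)) : ∀ x ∈ S, P x := fun x hx => by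
  obtain ⟨b, hb, rfl⟩ := ex_tb le_rfl (hS hx)
  exact h b hb hx
theorem ex_tb' {S : Subgroup GPm} {P : GPm → Prop} (h : ∃ b < 256, tb b ∈ S ∧ P (tb b)) : ∃ x ∈ S, P x := let ⟨_, _, h⟩ := h; ⟨_, h⟩
/-- subgroups generated by some of the `ta` that are given by a mask -/
theorem msk {L : List ℕ} {S : Set GPm} (h : ∀ x, x ∈ S ↔ x ∈ L.map ta) (m : ℕ)
    (k : (∀ i ∈ L, i < 8) ∧ ∀ b < 256, b &&& m = 0 → (∀ i ∈ bw b 8, i ∈ L) ∧ ∀ i ∈ L, LT i b &&& m = 0) :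
    Subgroup.closure S ≤ T0 ∧ ∀ b, tb b ∈ Subgroup.closure S ↔ b % 256 &&& m = 0 := by
  have k1 : ∀ x ∈ Subgroup.closure S, ∃ b < 256, b &&& m = 0 ∧ x = tb b := fun x hx => by
    have s : ∀ x ∈ S, ∀ u, (∃ b < 256, b &&& m = 0 ∧ u = tb b) → ∃ b < 256, b &&& m = 0 ∧ x * u = tb b := by
      rintro x hx _ ⟨b, hb, h1, rfl⟩
      obtain ⟨i, hi, rfl⟩ := List.mem_map.1 ((h x).1 hx)
      exact ⟨_, (actL i (k.1 i hi) b hb).1, (k.2 b hb h1).2 i hi, (actL i (k.1 i hi) b hb).2⟩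
    refine closure_induction_left ⟨0, by decide, Nat.zero_and _, rfl⟩ (fun x hx u _ => s x hx u) (fun x hx u _ hu => ?_) hx
    obtain ⟨i, hi, rfl⟩ := List.mem_map.1 ((h x).1 hx)
    rw [inv_eq_of_mul_eq_one_right (by
      rw [ta_tb (k.1 i hi), tb_mul, tb_one]; exact (by decide +kernel : ∀ i < 8, mu (2 ^ i) (2 ^ i) % 256 = 0) i (k.1 i hi) : ta i * ta i = 1)]
    exact s _ hx u hu
  refine ⟨fun x hx => let ⟨b, _, _, e⟩ := k1 x hx; e ▸ tb_T b, fun b => ⟨fun e => ?_, fun e => ?_⟩⟩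
  · obtain ⟨c, hc, h1, h2⟩ := k1 _ e
    rwa [tb_eq.1 h2, Nat.mod_eq_of_lt hc]
  · exact tb_mod b ▸ tb_mem fun i hi => subset_closure ((h _).2 (List.mem_map_of_mem ((k.2 _ (l256 b) e).1 i hi)))
theorem mE {b : ℕ} : tb b ∈ EE ↔ b % 256 &&& 156 = 0 := (msk (L := [0, 1, 5, 6]) (by simp) _ (by decide +kernel)).2 b
theorem mP {b : ℕ} : tb b ∈ EP ↔ b % 256 &&& 240 = 0 := (msk (L := [0, 1, 2, 3]) (by simp) _ (by decide +kernel)).2 b
theorem kV : VV ≤ T0 ∧ ∀ b, tb b ∈ VV ↔ b % 256 &&& 252 = 0 := msk (L := [0, 1]) (by simp) _ (by decide +kernel)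
theorem mV {b : ℕ} : tb b ∈ VV ↔ b % 256 &&& 252 = 0 := kV.2 b
theorem mM {b : ℕ} : tb b ∈ M22 ↔ b % 256 &&& 16 = 0 := by
  rw [← tb_mod, tb_M (l256 b)]; exact (by decide +kernel : ∀ b < 256, (4 ∉ bw b 8 ↔ b &&& 16 = 0)) _ (l256 b)
theorem m0 {b : ℕ} : tb b ∈ T0 ↔ True := iff_true_intro (tb_T b)
theorem mT {b : ℕ} : tb b ∈ H1.JF.TT ↔ b % 256 &&& 16 = 0 := ⟨fun h => mM.1 h.2, fun h => ⟨tb_T b, mM.2 h⟩⟩
theorem m5 {b : ℕ} : tb b ∈ E5 ↔ b % 256 < 32 := by rw [← tb_mod]; exact tb_gen (j := 5) (by decide) (l256 b)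
theorem EP_eq : EE ⊔ EP = Subgroup.closure {ta 0, ta 1, ta 2, ta 3, ta 5, ta 6} := by
  rw [EE, EP, ← Subgroup.closure_union]; congr 1; ext; simp only [Set.mem_union, Set.mem_insert_iff, Set.mem_singleton_iff]; tauto
theorem kEP : EE ⊔ EP ≤ T0 ∧ ∀ b, tb b ∈ EE ⊔ EP ↔ b % 256 &&& 144 = 0 :=
  EP_eq ▸ msk (L := [0, 1, 2, 3, 5, 6]) (by simp) _ (by decide +kernel)
theorem mEP {b : ℕ} : tb b ∈ EE ⊔ EP ↔ b % 256 &&& 144 = 0 := kEP.2 b
theorem ET : EE ≤ T0 := kE.2.1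
theorem PT : EP ≤ T0 := kP.2.1
theorem TT0 : H1.JF.TT ≤ T0 := inf_le_left
theorem cx (a : GPm) : H29.SD.Cx a = C[a] := cent_zpowers a
theorem toS {P M : Subgroup GPm} (h : Syl 2 P M) : H25.Syl 2 P M := ⟨h.le, h.not_dvd Nat.prime_two⟩
theorem el8 {L : List ℕ} (h : (∀ a ∈ L, mu a a % 256 = 0 ∧ ∀ b ∈ L, mu a b % 256 = mu b a % 256) ∧
    ((List.range (2 ^ L.length)).map fun c => (bw c L.length).foldr (fun i r => mu r (nth 0 L i)) 0 % 256).Nodup) :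
    El (gen (fun i => tb (nth 0 L i)) L.length) ∧ #(gen (fun i => tb (nth 0 L i)) L.length) = 2 ^ L.length := by
  have l := fun i (hi : i < L.length) => nth_mem_of_lt 0 L hi
  have := pc_el (x := fun i => tb (nth 0 L i)) (n := L.length) fun i hi => by
    simp only [tb_mul, tb_one, tb_eq]
    exact ⟨(h.1 _ (l i hi)).1, fun j hj => (h.1 _ (l i hi)).2 _ (l j hj)⟩
  refine ⟨this.1, le_antisymm ?_ ?_⟩
  · choose f hf using fun x : gen (fun i => tb (nth 0 L i)) L.length => this.2 x x.2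
    simpa using Nat.card_le_card_of_injective (fun x => (⟨f x, (hf x).1⟩ : Fin (2 ^ L.length)))
      fun x y e => Subtype.ext (by rw [(hf x).2, (hf y).2, show f x = f y from congrArg Fin.val e])
  · have e : ∀ W : List ℕ, tb (W.foldr (fun i r => mu r (nth 0 L i)) 0) = evA (fun i => tb (nth 0 L i)) W := fun W => by
      induction W with
      | nil => exact tb0
      | cons i W ih => rw [List.foldr_cons, ← tb_mul, ih]; rfl
    simpa using low_tb (S := gen (fun i => tb (nth 0 L i)) L.length) _ ⟨h.2, by simp [l256]⟩ fun b hb => by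
      obtain ⟨c, -, rfl⟩ := List.mem_map.1 hb
      rw [tb_mod, e]; exact evA_mem_gen _ (bw_lt _ _)
end H21.JF
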