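import Cfsg.Agent.H20.J4.N2
import Cfsg.Agent.H0.TRX

/-! Generated by tools/h0/tr.py. -/

set_option maxRecDepth 100000
set_option maxHeartbeats 0

namespace H21.JF
open H16 H0.TR
open scoped commutatorElement

noncomputable def rp_W : List (List ℕ) := [[nat_lit 11, nat_lit 5, nat_lit 6, nat_lit 2, nat_lit 8, nat_lit 7, nat_lit 11, nat_lit 4],
  [nat_lit 3, nat_lit 6, nat_lit 1, nat_lit 4, nat_lit 12, nat_lit 6, nat_lit 7],
  [nat_lit 11]]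
noncomputable def rp_P : ℕ → ℕ → ℕ := wdsP H20.J4.A0.P rp_W
noncomputable def czx_W : List (List ℕ) := [[nat_lit 11, nat_lit 5, nat_lit 6, nat_lit 2, nat_lit 8, nat_lit 7, nat_lit 11, nat_lit 4]]
noncomputable def czx_P : ℕ → ℕ → ℕ := wdsP H20.J4.A0.P czx_W
noncomputable def czth_W : List (List ℕ) := [[nat_lit 6, nat_lit 8, nat_lit 1, nat_lit 3, nat_lit 6, nat_lit 2, nat_lit 7, nat_lit 6, nat_lit 8, nat_lit 1, nat_lit 0],
  [nat_lit 1, nat_lit 2, nat_lit 5],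
  [nat_lit 11, nat_lit 3, nat_lit 5, nat_lit 8, nat_lit 12],
  [nat_lit 2, nat_lit 5, nat_lit 6, nat_lit 4, nat_lit 7, nat_lit 8, nat_lit 7, nat_lit 6, nat_lit 2],
  [nat_lit 0],
  [nat_lit 1],
  [nat_lit 2],
  [nat_lit 3],
  [nat_lit 4],
  [nat_lit 5],
  [nat_lit 6],
  [nat_lit 7],
  [nat_lit 8],
  [nat_lit 11],
  [nat_lit 12]]
noncomputable def czth_P : ℕ → ℕ → ℕ := wdsP H20.J4.A0.P czth_W
noncomputable def cztl0Dd : ℕ := nat_lit 0xd0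
noncomputable def cztl0D (u : ℕ) : ℕ := Nat.land (Nat.shiftRight cztl0Dd (Nat.mul u (nat_lit 4))) (nat_lit 15)
noncomputable def cztl0Pd : ℕ := nat_lit 0x2e0
noncomputable def cztl0P (u : ℕ) : ℕ := Nat.land (Nat.shiftRight cztl0Pd (Nat.mul u (nat_lit 5))) (nat_lit 31)
noncomputable def cztl0Qd : ℕ := nat_lit 0x800000
noncomputable def cztl0Q (u : ℕ) : ℕ := Nat.land (Nat.shiftRight cztl0Qd (Nat.mul u (nat_lit 1))) (nat_lit 1)
noncomputable def cztl0 : Lev := ⟨2, 15, cztl0D, cztl0P, cztl0Q⟩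
noncomputable def cztl1Dd : ℕ := nat_lit 0x41c0435576313d303c3a2d39381a281d10171c0c0b00
noncomputable def cztl1D (u : ℕ) : ℕ := Nat.land (Nat.shiftRight cztl1Dd (Nat.mul u (nat_lit 8))) (nat_lit 255)
noncomputable def cztl1Pd : ℕ := nat_lit 0x1c58a4863c16cb4df2552ad40462
noncomputable def cztl1P (u : ℕ) : ℕ := Nat.land (Nat.shiftRight cztl1Pd (Nat.mul u (nat_lit 5))) (nat_lit 31)
noncomputable def cztl1Qd : ℕ := nat_lit 0x2ca65226e4d48c69e437c29108040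
noncomputable def cztl1Q (u : ℕ) : ℕ := Nat.land (Nat.shiftRight cztl1Qd (Nat.mul u (nat_lit 5))) (nat_lit 31)
noncomputable def cztl1 : Lev := ⟨22, 13, cztl1D, cztl1P, cztl1Q⟩
noncomputable def cztl2Dd : ℕ := nat_lit 0x6db5129be5c614143ab489018284870c14200
noncomputable def cztl2D (u : ℕ) : ℕ := Nat.land (Nat.shiftRight cztl2Dd (Nat.mul u (nat_lit 7))) (nat_lit 127)
noncomputable def cztl2Pd : ℕ := nat_lit 0x3284eb8b95684da9a225579186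
noncomputable def cztl2P (u : ℕ) : ℕ := Nat.land (Nat.shiftRight cztl2Pd (Nat.mul u (nat_lit 5))) (nat_lit 31)
noncomputable def cztl2Qd : ℕ := nat_lit 0x3087515eb1b9218350688262a0240
noncomputable def cztl2Q (u : ℕ) : ℕ := Nat.land (Nat.shiftRight cztl2Qd (Nat.mul u (nat_lit 5))) (nat_lit 31)
noncomputable def cztl2 : Lev := ⟨21, 11, cztl2D, cztl2P, cztl2Q⟩
noncomputable def cztl3Dd : ℕ := nat_lit 0x9e06d0b699486522c434a1c91850c0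
noncomputable def cztl3D (u : ℕ) : ℕ := Nat.land (Nat.shiftRight cztl3Dd (Nat.mul u (nat_lit 6))) (nat_lit 63)
noncomputable def cztl3Pd : ℕ := nat_lit 0xa90d92e892598e2be078cea3
noncomputable def cztl3P (u : ℕ) : ℕ := Nat.land (Nat.shiftRight cztl3Pd (Nat.mul u (nat_lit 5))) (nat_lit 31)
noncomputable def cztl3Qd : ℕ := nat_lit 0x282d13c653220974991200eb00260
noncomputable def cztl3Q (u : ℕ) : ℕ := Nat.land (Nat.shiftRight cztl3Qd (Nat.mul u (nat_lit 5))) (nat_lit 31)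
noncomputable def cztl3 : Lev := ⟨20, 4, cztl3D, cztl3P, cztl3Q⟩
noncomputable def cztl4Dd : ℕ := nat_lit 0xebd96344706ace520820
noncomputable def cztl4D (u : ℕ) : ℕ := Nat.land (Nat.shiftRight cztl4Dd (Nat.mul u (nat_lit 5))) (nat_lit 31)
noncomputable def cztl4Pd : ℕ := nat_lit 0x435454d8358acee94c8f
noncomputable def cztl4P (u : ℕ) : ℕ := Nat.land (Nat.shiftRight cztl4Pd (Nat.mul u (nat_lit 5))) (nat_lit 31)
noncomputable def cztl4Qd : ℕ := nat_lit 0xa80237004e06dbf50c10090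
noncomputable def cztl4Q (u : ℕ) : ℕ := Nat.land (Nat.shiftRight cztl4Qd (Nat.mul u (nat_lit 4))) (nat_lit 15)
noncomputable def cztl4 : Lev := ⟨16, 3, cztl4D, cztl4P, cztl4Q⟩
noncomputable def cztl5Dd : ℕ := nat_lit 4
noncomputable def cztl5D (u : ℕ) : ℕ := Nat.land (Nat.shiftRight cztl5Dd (Nat.mul u (nat_lit 1))) (nat_lit 1)
noncomputable def cztl5Pd : ℕ := nat_lit 0x2665
noncomputable def cztl5P (u : ℕ) : ℕ := Nat.land (Nat.shiftRight cztl5Pd (Nat.mul u (nat_lit 5))) (nat_lit 31)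
noncomputable def cztl5Qd : ℕ := nat_lit 0x4000080000
noncomputable def cztl5Q (u : ℕ) : ℕ := Nat.land (Nat.shiftRight cztl5Qd (Nat.mul u (nat_lit 2))) (nat_lit 3)
noncomputable def cztl5 : Lev := ⟨3, 1, cztl5D, cztl5P, cztl5Q⟩
noncomputable def czce_W : List (List ℕ) := [[nat_lit 8, nat_lit 0, nat_lit 1, nat_lit 2, nat_lit 6, nat_lit 4, nat_lit 7, nat_lit 6, nat_lit 0, nat_lit 1, nat_lit 8],
  [nat_lit 1, nat_lit 5, nat_lit 6, nat_lit 3],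
  [nat_lit 0, nat_lit 6, nat_lit 1, nat_lit 4, nat_lit 7, nat_lit 6, nat_lit 0],
  [nat_lit 5, nat_lit 6, nat_lit 4, nat_lit 7, nat_lit 6, nat_lit 4, nat_lit 11]]
noncomputable def czce_P : ℕ → ℕ → ℕ := wdsP H20.J4.A0.P czce_W
noncomputable def czcc5Dd : ℕ := nat_lit 4
noncomputable def czcc5D (u : ℕ) : ℕ := Nat.land (Nat.shiftRight czcc5Dd (Nat.mul u (nat_lit 1))) (nat_lit 1)
noncomputable def czcc5Pd : ℕ := nat_lit 0x2665
noncomputable def czcc5P (u : ℕ) : ℕ := Nat.land (Nat.shiftRight czcc5Pd (Nat.mul u (nat_lit 5))) (nat_lit 31)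
noncomputable def czcc5Qd : ℕ := nat_lit 0x4000080000
noncomputable def czcc5Q (u : ℕ) : ℕ := Nat.land (Nat.shiftRight czcc5Qd (Nat.mul u (nat_lit 2))) (nat_lit 3)
noncomputable def czcc5 : Lev := ⟨3, 1, czcc5D, czcc5P, czcc5Q⟩
noncomputable def cztn0Fd : ℕ := nat_lit 0
noncomputable def cztn0F (u : ℕ) : ℕ := Nat.land (Nat.shiftRight cztn0Fd (Nat.mul u (nat_lit 1))) (nat_lit 1)
noncomputable def cztn0 : Nd := ⟨cztn0F, (nat_lit 2), (nat_lit 1), [], [((nat_lit 0), [])], []⟩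
noncomputable def czcc3Dd : ℕ := nat_lit 0xda645210
noncomputable def czcc3D (u : ℕ) : ℕ := Nat.land (Nat.shiftRight czcc3Dd (Nat.mul u (nat_lit 4))) (nat_lit 15)
noncomputable def czcc3Pd : ℕ := nat_lit 0x7b211a22c3
noncomputable def czcc3P (u : ℕ) : ℕ := Nat.land (Nat.shiftRight czcc3Pd (Nat.mul u (nat_lit 5))) (nat_lit 31)
noncomputable def czcc3Qd : ℕ := nat_lit 0x43025e06002000000
noncomputable def czcc3Q (u : ℕ) : ℕ := Nat.land (Nat.shiftRight czcc3Qd (Nat.mul u (nat_lit 3))) (nat_lit 7)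
noncomputable def czcc3 : Lev := ⟨8, 2, czcc3D, czcc3P, czcc3Q⟩
noncomputable def cztn1Fd : ℕ := nat_lit 0xd07f42a02806048
noncomputable def cztn1F (u : ℕ) : ℕ := Nat.land (Nat.shiftRight cztn1Fd (Nat.mul u (nat_lit 3))) (nat_lit 7)
noncomputable def cztn1 : Nd := ⟨cztn1F, (nat_lit 2), (nat_lit 2), [[nat_lit 0]], [((nat_lit 0), []), ((nat_lit 0), [nat_lit 0])], []⟩
noncomputable def czcc1Dd : ℕ := nat_lit 0xb2879b64f4d1309346204080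
noncomputable def czcc1D (u : ℕ) : ℕ := Nat.land (Nat.shiftRight czcc1Dd (Nat.mul u (nat_lit 6))) (nat_lit 63)
noncomputable def czcc1Pd : ℕ := nat_lit 0x30ec72c56d825149b1e2
noncomputable def czcc1P (u : ℕ) : ℕ := Nat.land (Nat.shiftRight czcc1Pd (Nat.mul u (nat_lit 5))) (nat_lit 31)
noncomputable def czcc1Qd : ℕ := nat_lit 0xd0430a710829065cfb0e000
noncomputable def czcc1Q (u : ℕ) : ℕ := Nat.land (Nat.shiftRight czcc1Qd (Nat.mul u (nat_lit 4))) (nat_lit 15)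
noncomputable def czcc1 : Lev := ⟨16, 3, czcc1D, czcc1P, czcc1Q⟩
noncomputable def cztn2Fd : ℕ := nat_lit 0xa000600000000370900100
noncomputable def cztn2F (u : ℕ) : ℕ := Nat.land (Nat.shiftRight cztn2Fd (Nat.mul u (nat_lit 4))) (nat_lit 15)
noncomputable def cztn2 : Nd := ⟨cztn2F, (nat_lit 3), (nat_lit 3), [[nat_lit 0]], [((nat_lit 0), [])], []⟩
noncomputable def czcc0Dd : ℕ := nat_lit 0xc
noncomputable def czcc0D (u : ℕ) : ℕ := Nat.land (Nat.shiftRight czcc0Dd (Nat.mul u (nat_lit 2))) (nat_lit 3)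
noncomputable def czcc0Pd : ℕ := nat_lit 0x2e0
noncomputable def czcc0P (u : ℕ) : ℕ := Nat.land (Nat.shiftRight czcc0Pd (Nat.mul u (nat_lit 5))) (nat_lit 31)
noncomputable def czcc0Qd : ℕ := nat_lit 0x800000
noncomputable def czcc0Q (u : ℕ) : ℕ := Nat.land (Nat.shiftRight czcc0Qd (Nat.mul u (nat_lit 1))) (nat_lit 1)
noncomputable def czcc0 : Lev := ⟨2, 4, czcc0D, czcc0P, czcc0Q⟩
noncomputable def cztn3Fd : ℕ := nat_lit 0
noncomputable def cztn3F (u : ℕ) : ℕ := Nat.land (Nat.shiftRight cztn3Fd (Nat.mul u (nat_lit 1))) (nat_lit 1)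
noncomputable def cztn3 : Nd := ⟨cztn3F, (nat_lit 4), (nat_lit 4), [], [((nat_lit 0), [])], []⟩
noncomputable def csx_W : List (List ℕ) := [[nat_lit 3, nat_lit 6, nat_lit 1, nat_lit 4, nat_lit 12, nat_lit 6, nat_lit 7]]
noncomputable def csx_P : ℕ → ℕ → ℕ := wdsP H20.J4.A0.P csx_W
noncomputable def csth_W : List (List ℕ) := [[nat_lit 6, nat_lit 4, nat_lit 7, nat_lit 6],
  [nat_lit 7, nat_lit 3, nat_lit 6, nat_lit 3, nat_lit 7],
  [nat_lit 7, nat_lit 8, nat_lit 6, nat_lit 2, nat_lit 8, nat_lit 7, nat_lit 2],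
  [nat_lit 7, nat_lit 6, nat_lit 7],
  [nat_lit 0, nat_lit 3, nat_lit 6, nat_lit 4, nat_lit 7, nat_lit 6, nat_lit 5],
  [nat_lit 1, nat_lit 5, nat_lit 6, nat_lit 4, nat_lit 2, nat_lit 7, nat_lit 6],
  [nat_lit 0],
  [nat_lit 1],
  [nat_lit 2],
  [nat_lit 3],
  [nat_lit 4],
  [nat_lit 5],
  [nat_lit 6],
  [nat_lit 7],
  [nat_lit 8],
  [nat_lit 11],
  [nat_lit 12]]
noncomputable def csth_P : ℕ → ℕ → ℕ := wdsP H20.J4.A0.P csth_W
noncomputable def cstl0Dd : ℕ := nat_lit 0xf0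
noncomputable def cstl0D (u : ℕ) : ℕ := Nat.land (Nat.shiftRight cstl0Dd (Nat.mul u (nat_lit 4))) (nat_lit 15)
noncomputable def cstl0Pd : ℕ := nat_lit 0x2e0
noncomputable def cstl0P (u : ℕ) : ℕ := Nat.land (Nat.shiftRight cstl0Pd (Nat.mul u (nat_lit 5))) (nat_lit 31)
noncomputable def cstl0Qd : ℕ := nat_lit 0x800000
noncomputable def cstl0Q (u : ℕ) : ℕ := Nat.land (Nat.shiftRight cstl0Qd (Nat.mul u (nat_lit 1))) (nat_lit 1)
noncomputable def cstl0 : Lev := ⟨2, 17, cstl0D, cstl0P, cstl0Q⟩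
noncomputable def cstl1Dd : ℕ := nat_lit 0x89a83b692f51202e422625142124131c1110120f0e00
noncomputable def cstl1D (u : ℕ) : ℕ := Nat.land (Nat.shiftRight cstl1Dd (Nat.mul u (nat_lit 8))) (nat_lit 255)
noncomputable def cstl1Pd : ℕ := nat_lit 0x1c6ac5109148c9d96f50e893b441
noncomputable def cstl1P (u : ℕ) : ℕ := Nat.land (Nat.shiftRight cstl1Pd (Nat.mul u (nat_lit 5))) (nat_lit 31)
noncomputable def cstl1Qd : ℕ := nat_lit 0x2a655be504544c49c911d1cd30400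
noncomputable def cstl1Q (u : ℕ) : ℕ := Nat.land (Nat.shiftRight cstl1Qd (Nat.mul u (nat_lit 5))) (nat_lit 31)
noncomputable def cstl1 : Lev := ⟨22, 15, cstl1D, cstl1P, cstl1Q⟩
noncomputable def cstl2Dd : ℕ := nat_lit 0xc9e34f5b4d333b24382a111c0e0c0b0a0908070600
noncomputable def cstl2D (u : ℕ) : ℕ := Nat.land (Nat.shiftRight cstl2Dd (Nat.mul u (nat_lit 8))) (nat_lit 255)
noncomputable def cstl2Pd : ℕ := nat_lit 0x3135277cd658d08e932c654115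
noncomputable def cstl2P (u : ℕ) : ℕ := Nat.land (Nat.shiftRight cstl2Pd (Nat.mul u (nat_lit 5))) (nat_lit 31)
noncomputable def cstl2Qd : ℕ := nat_lit 0x140a71d627a24668e2181189a4c00
noncomputable def cstl2Q (u : ℕ) : ℕ := Nat.land (Nat.shiftRight cstl2Qd (Nat.mul u (nat_lit 5))) (nat_lit 31)
noncomputable def cstl2 : Lev := ⟨21, 14, cstl2D, cstl2P, cstl2Q⟩
noncomputable def cstl3Dd : ℕ := nat_lit 0xcb0672c465889a20507131a3c4071218280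
noncomputable def cstl3D (u : ℕ) : ℕ := Nat.land (Nat.shiftRight cstl3Dd (Nat.mul u (nat_lit 7))) (nat_lit 127)
noncomputable def cstl3Pd : ℕ := nat_lit 0x65a667c5256896a848e4a3903
noncomputable def cstl3P (u : ℕ) : ℕ := Nat.land (Nat.shiftRight cstl3Pd (Nat.mul u (nat_lit 5))) (nat_lit 31)
noncomputable def cstl3Qd : ℕ := nat_lit 0x4803899c7789734a1a12c18402800
noncomputable def cstl3Q (u : ℕ) : ℕ := Nat.land (Nat.shiftRight cstl3Qd (Nat.mul u (nat_lit 5))) (nat_lit 31)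
noncomputable def cstl3 : Lev := ⟨20, 6, cstl3D, cstl3P, cstl3Q⟩
noncomputable def cstl4Dd : ℕ := nat_lit 0x940
noncomputable def cstl4D (u : ℕ) : ℕ := Nat.land (Nat.shiftRight cstl4Dd (Nat.mul u (nat_lit 4))) (nat_lit 15)
noncomputable def cstl4Pd : ℕ := nat_lit 0x32cf
noncomputable def cstl4P (u : ℕ) : ℕ := Nat.land (Nat.shiftRight cstl4Pd (Nat.mul u (nat_lit 5))) (nat_lit 31)
noncomputable def cstl4Qd : ℕ := nat_lit 0x100002000000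
noncomputable def cstl4Q (u : ℕ) : ℕ := Nat.land (Nat.shiftRight cstl4Qd (Nat.mul u (nat_lit 2))) (nat_lit 3)
noncomputable def cstl4 : Lev := ⟨3, 5, cstl4D, cstl4P, cstl4Q⟩
noncomputable def cstl5Dd : ℕ := nat_lit 0xb9e69654e2862451c2043000
noncomputable def cstl5D (u : ℕ) : ℕ := Nat.land (Nat.shiftRight cstl5Dd (Nat.mul u (nat_lit 6))) (nat_lit 63)
noncomputable def cstl5Pd : ℕ := nat_lit 0x6897391d26a3a2542a04
noncomputable def cstl5P (u : ℕ) : ℕ := Nat.land (Nat.shiftRight cstl5Pd (Nat.mul u (nat_lit 5))) (nat_lit 31)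
noncomputable def cstl5Qd : ℕ := nat_lit 0x7cb5106f0d293a8400e00
noncomputable def cstl5Q (u : ℕ) : ℕ := Nat.land (Nat.shiftRight cstl5Qd (Nat.mul u (nat_lit 4))) (nat_lit 15)
noncomputable def cstl5 : Lev := ⟨16, 4, cstl5D, cstl5P, cstl5Q⟩
noncomputable def csce_W : List (List ℕ) := [[nat_lit 6, nat_lit 4, nat_lit 7, nat_lit 6],
  [nat_lit 7, nat_lit 6, nat_lit 7],
  [nat_lit 7, nat_lit 3, nat_lit 6, nat_lit 3, nat_lit 7],
  [nat_lit 1, nat_lit 6, nat_lit 1, nat_lit 7, nat_lit 6, nat_lit 4],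
  [nat_lit 1, nat_lit 3, nat_lit 5, nat_lit 7, nat_lit 8, nat_lit 7, nat_lit 6, nat_lit 0, nat_lit 1],
  [nat_lit 0, nat_lit 2, nat_lit 3, nat_lit 4, nat_lit 6, nat_lit 3, nat_lit 6, nat_lit 11]]
noncomputable def csce_P : ℕ → ℕ → ℕ := wdsP H20.J4.A0.P csce_W
noncomputable def cscc5Dd : ℕ := nat_lit 0xe8532010
noncomputable def cscc5D (u : ℕ) : ℕ := Nat.land (Nat.shiftRight cscc5Dd (Nat.mul u (nat_lit 4))) (nat_lit 15)
noncomputable def cscc5Pd : ℕ := nat_lit 0x93a9144144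
noncomputable def cscc5P (u : ℕ) : ℕ := Nat.land (Nat.shiftRight cscc5Pd (Nat.mul u (nat_lit 5))) (nat_lit 31)
noncomputable def cscc5Qd : ℕ := nat_lit 0x51e2180043000000
noncomputable def cscc5Q (u : ℕ) : ℕ := Nat.land (Nat.shiftRight cscc5Qd (Nat.mul u (nat_lit 3))) (nat_lit 7)
noncomputable def cscc5 : Lev := ⟨8, 3, cscc5D, cscc5P, cscc5Q⟩
noncomputable def cstn0Fd : ℕ := nat_lit 0xb886054300010000
noncomputable def cstn0F (u : ℕ) : ℕ := Nat.land (Nat.shiftRight cstn0Fd (Nat.mul u (nat_lit 4))) (nat_lit 15)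
noncomputable def cstn0 : Nd := ⟨cstn0F, (nat_lit 3), (nat_lit 3), [[nat_lit 0]], [((nat_lit 0), [])], []⟩
noncomputable def cscc3Dd : ℕ := nat_lit 0xddecf7290621460
noncomputable def cscc3D (u : ℕ) : ℕ := Nat.land (Nat.shiftRight cscc3Dd (Nat.mul u (nat_lit 5))) (nat_lit 31)
noncomputable def cscc3Pd : ℕ := nat_lit 0x7d90ca389254223
noncomputable def cscc3P (u : ℕ) : ℕ := Nat.land (Nat.shiftRight cscc3Pd (Nat.mul u (nat_lit 5))) (nat_lit 31)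
noncomputable def cscc3Qd : ℕ := nat_lit 0xa070412b608030900050000
noncomputable def cscc3Q (u : ℕ) : ℕ := Nat.land (Nat.shiftRight cscc3Qd (Nat.mul u (nat_lit 4))) (nat_lit 15)
noncomputable def cscc3 : Lev := ⟨12, 4, cscc3D, cscc3P, cscc3Q⟩
noncomputable def cstn1Fd : ℕ := nat_lit 0xba00a6854000100000
noncomputable def cstn1F (u : ℕ) : ℕ := Nat.land (Nat.shiftRight cstn1Fd (Nat.mul u (nat_lit 4))) (nat_lit 15)
noncomputable def cstn1 : Nd := ⟨cstn1F, (nat_lit 4), (nat_lit 4), [[nat_lit 0]], [((nat_lit 0), [])], []⟩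
noncomputable def cscc1Dd : ℕ := nat_lit 0xb30adc50f40c28b248100
noncomputable def cscc1D (u : ℕ) : ℕ := Nat.land (Nat.shiftRight cscc1Dd (Nat.mul u (nat_lit 6))) (nat_lit 63)
noncomputable def cscc1Pd : ℕ := nat_lit 0x2b67b08ea495044461
noncomputable def cscc1P (u : ℕ) : ℕ := Nat.land (Nat.shiftRight cscc1Pd (Nat.mul u (nat_lit 5))) (nat_lit 31)
noncomputable def cscc1Qd : ℕ := nat_lit 0xcd70624b80a050300091000
noncomputable def cscc1Q (u : ℕ) : ℕ := Nat.land (Nat.shiftRight cscc1Qd (Nat.mul u (nat_lit 4))) (nat_lit 15)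
noncomputable def cscc1 : Lev := ⟨14, 5, cscc1D, cscc1P, cscc1Q⟩
noncomputable def cstn2Fd : ℕ := nat_lit 0xb00000c0080a000076510
noncomputable def cstn2F (u : ℕ) : ℕ := Nat.land (Nat.shiftRight cstn2Fd (Nat.mul u (nat_lit 4))) (nat_lit 15)
noncomputable def cstn2 : Nd := ⟨cstn2F, (nat_lit 5), (nat_lit 5), [[nat_lit 0]], [((nat_lit 0), [])], []⟩
noncomputable def cscc0Dd : ℕ := nat_lit 0x28
noncomputable def cscc0D (u : ℕ) : ℕ := Nat.land (Nat.shiftRight cscc0Dd (Nat.mul u (nat_lit 3))) (nat_lit 7)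
noncomputable def cscc0Pd : ℕ := nat_lit 0x2e0
noncomputable def cscc0P (u : ℕ) : ℕ := Nat.land (Nat.shiftRight cscc0Pd (Nat.mul u (nat_lit 5))) (nat_lit 31)
noncomputable def cscc0Qd : ℕ := nat_lit 0x800000
noncomputable def cscc0Q (u : ℕ) : ℕ := Nat.land (Nat.shiftRight cscc0Qd (Nat.mul u (nat_lit 1))) (nat_lit 1)
noncomputable def cscc0 : Lev := ⟨2, 6, cscc0D, cscc0P, cscc0Q⟩
noncomputable def cstn3Fd : ℕ := nat_lit 0
noncomputable def cstn3F (u : ℕ) : ℕ := Nat.land (Nat.shiftRight cstn3Fd (Nat.mul u (nat_lit 1))) (nat_lit 1)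
noncomputable def cstn3 : Nd := ⟨cstn3F, (nat_lit 6), (nat_lit 6), [], [((nat_lit 0), [])], []⟩
noncomputable def ccx_W : List (List ℕ) := [[nat_lit 11]]
noncomputable def ccx_P : ℕ → ℕ → ℕ := wdsP H20.J4.A0.P ccx_W
noncomputable def ccth_W : List (List ℕ) := [[nat_lit 2, nat_lit 3, nat_lit 6, nat_lit 0, nat_lit 2],
  [nat_lit 6],
  [nat_lit 3, nat_lit 4, nat_lit 6, nat_lit 3],
  [nat_lit 0, nat_lit 4, nat_lit 6, nat_lit 4, nat_lit 7, nat_lit 6, nat_lit 2],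
  [nat_lit 0],
  [nat_lit 1],
  [nat_lit 2],
  [nat_lit 3],
  [nat_lit 4],
  [nat_lit 5],
  [nat_lit 7],
  [nat_lit 8],
  [nat_lit 11],
  [nat_lit 12]]
noncomputable def ccth_P : ℕ → ℕ → ℕ := wdsP H20.J4.A0.P ccth_W
noncomputable def cctl0Dd : ℕ := nat_lit 0xc0
noncomputable def cctl0D (u : ℕ) : ℕ := Nat.land (Nat.shiftRight cctl0Dd (Nat.mul u (nat_lit 4))) (nat_lit 15)
noncomputable def cctl0Pd : ℕ := nat_lit 0x2e0
noncomputable def cctl0P (u : ℕ) : ℕ := Nat.land (Nat.shiftRight cctl0Pd (Nat.mul u (nat_lit 5))) (nat_lit 31)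
noncomputable def cctl0Qd : ℕ := nat_lit 0x800000
noncomputable def cctl0Q (u : ℕ) : ℕ := Nat.land (Nat.shiftRight cctl0Qd (Nat.mul u (nat_lit 1))) (nat_lit 1)
noncomputable def cctl0 : Lev := ⟨2, 14, cctl0D, cctl0P, cctl0Q⟩
noncomputable def cctl1Dd : ℕ := nat_lit 0x6eb54261415532362635242a34291a1825190f160b00
noncomputable def cctl1D (u : ℕ) : ℕ := Nat.land (Nat.shiftRight cctl1Dd (Nat.mul u (nat_lit 8))) (nat_lit 255)
noncomputable def cctl1Pd : ℕ := nat_lit 0x12484555730d32d1f69216d38c41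
noncomputable def cctl1P (u : ℕ) : ℕ := Nat.land (Nat.shiftRight cctl1Pd (Nat.mul u (nat_lit 5))) (nat_lit 31)
noncomputable def cctl1Qd : ℕ := nat_lit 0x220a61e534bc8e2c6a61b57410400
noncomputable def cctl1Q (u : ℕ) : ℕ := Nat.land (Nat.shiftRight cctl1Qd (Nat.mul u (nat_lit 5))) (nat_lit 31)
noncomputable def cctl1 : Lev := ⟨22, 12, cctl1D, cctl1P, cctl1Q⟩
noncomputable def cctl2Dd : ℕ := nat_lit 0x8e4a7a51281316120d0b112217090c080706050400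
noncomputable def cctl2D (u : ℕ) : ℕ := Nat.land (Nat.shiftRight cctl2Dd (Nat.mul u (nat_lit 8))) (nat_lit 255)
noncomputable def cctl2Pd : ℕ := nat_lit 0x27148664da3822474c68faaeca
noncomputable def cctl2P (u : ℕ) : ℕ := Nat.land (Nat.shiftRight cctl2Pd (Nat.mul u (nat_lit 5))) (nat_lit 31)
noncomputable def cctl2Qd : ℕ := nat_lit 0x465724cb24daf100ea4425165000
noncomputable def cctl2Q (u : ℕ) : ℕ := Nat.land (Nat.shiftRight cctl2Qd (Nat.mul u (nat_lit 5))) (nat_lit 31)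
noncomputable def cctl2 : Lev := ⟨21, 11, cctl2D, cctl2P, cctl2Q⟩
noncomputable def cctl3Dd : ℕ := nat_lit 0xc1b5ee3d851231d1d128d2061050c0
noncomputable def cctl3D (u : ℕ) : ℕ := Nat.land (Nat.shiftRight cctl3Dd (Nat.mul u (nat_lit 6))) (nat_lit 63)
noncomputable def cctl3Pd : ℕ := nat_lit 0x8be96491d590d886c2662ace2
noncomputable def cctl3P (u : ℕ) : ℕ := Nat.land (Nat.shiftRight cctl3Pd (Nat.mul u (nat_lit 5))) (nat_lit 31)
noncomputable def cctl3Qd : ℕ := nat_lit 0x41912ae66934e9101e80906e50000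
noncomputable def cctl3Q (u : ℕ) : ℕ := Nat.land (Nat.shiftRight cctl3Qd (Nat.mul u (nat_lit 5))) (nat_lit 31)
noncomputable def cctl3 : Lev := ⟨20, 4, cctl3D, cctl3P, cctl3Q⟩
noncomputable def cctl4Dd : ℕ := nat_lit 0x95e6d844f30634a1c50c2040
noncomputable def cctl4D (u : ℕ) : ℕ := Nat.land (Nat.shiftRight cctl4Dd (Nat.mul u (nat_lit 6))) (nat_lit 63)
noncomputable def cctl4Pd : ℕ := nat_lit 0x640b38d8eba98924386d
noncomputable def cctl4P (u : ℕ) : ℕ := Nat.land (Nat.shiftRight cctl4Pd (Nat.mul u (nat_lit 5))) (nat_lit 31)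
noncomputable def cctl4Qd : ℕ := nat_lit 0xa70c4be020f800396d51000
noncomputable def cctl4Q (u : ℕ) : ℕ := Nat.land (Nat.shiftRight cctl4Qd (Nat.mul u (nat_lit 4))) (nat_lit 15)
noncomputable def cctl4 : Lev := ⟨16, 3, cctl4D, cctl4P, cctl4Q⟩
noncomputable def cctl5Dd : ℕ := nat_lit 4
noncomputable def cctl5D (u : ℕ) : ℕ := Nat.land (Nat.shiftRight cctl5Dd (Nat.mul u (nat_lit 1))) (nat_lit 1)
noncomputable def cctl5Pd : ℕ := nat_lit 0x683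
noncomputable def cctl5P (u : ℕ) : ℕ := Nat.land (Nat.shiftRight cctl5Pd (Nat.mul u (nat_lit 4))) (nat_lit 15)
noncomputable def cctl5Qd : ℕ := nat_lit 0x12000
noncomputable def cctl5Q (u : ℕ) : ℕ := Nat.land (Nat.shiftRight cctl5Qd (Nat.mul u (nat_lit 2))) (nat_lit 3)
noncomputable def cctl5 : Lev := ⟨3, 1, cctl5D, cctl5P, cctl5Q⟩
noncomputable def ccce_W : List (List ℕ) := [[nat_lit 0, nat_lit 6, nat_lit 1, nat_lit 4, nat_lit 7, nat_lit 6, nat_lit 0],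
  [nat_lit 6, nat_lit 2, nat_lit 7, nat_lit 6, nat_lit 2, nat_lit 7],
  [nat_lit 2, nat_lit 7],
  [nat_lit 3, nat_lit 6, nat_lit 0, nat_lit 2, nat_lit 7, nat_lit 6, nat_lit 4],
  [nat_lit 1, nat_lit 4, nat_lit 7, nat_lit 6, nat_lit 3, nat_lit 8, nat_lit 7, nat_lit 6, nat_lit 0],
  [nat_lit 0, nat_lit 8, nat_lit 0, nat_lit 2, nat_lit 5, nat_lit 11, nat_lit 4, nat_lit 8]]
noncomputable def ccce_P : ℕ → ℕ → ℕ := wdsP H20.J4.A0.P ccce_W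
noncomputable def cctn0Fd : ℕ := nat_lit 6
noncomputable def cctn0F (u : ℕ) : ℕ := Nat.land (Nat.shiftRight cctn0Fd (Nat.mul u (nat_lit 1))) (nat_lit 1)
noncomputable def cctn0 : Nd := ⟨cctn0F, (nat_lit 2), (nat_lit 0), [], [((nat_lit 0), []), ((nat_lit 1), [nat_lit 0])], []⟩
noncomputable def cccc3Dd : ℕ := nat_lit 0x85751e3cb2121c4143001080
noncomputable def cccc3D (u : ℕ) : ℕ := Nat.land (Nat.shiftRight cccc3Dd (Nat.mul u (nat_lit 6))) (nat_lit 63)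
noncomputable def cccc3Pd : ℕ := nat_lit 0x831113ad33299b67d062
noncomputable def cccc3P (u : ℕ) : ℕ := Nat.land (Nat.shiftRight cccc3Pd (Nat.mul u (nat_lit 5))) (nat_lit 31)
noncomputable def cccc3Qd : ℕ := nat_lit 0x40280cf305ea09db6701000
noncomputable def cccc3Q (u : ℕ) : ℕ := Nat.land (Nat.shiftRight cccc3Qd (Nat.mul u (nat_lit 4))) (nat_lit 15)
noncomputable def cccc3 : Lev := ⟨16, 4, cccc3D, cccc3P, cccc3Q⟩
noncomputable def cctn1Fd : ℕ := nat_lit 0x1f9200000000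
noncomputable def cctn1F (u : ℕ) : ℕ := Nat.land (Nat.shiftRight cctn1Fd (Nat.mul u (nat_lit 3))) (nat_lit 7)
noncomputable def cctn1 : Nd := ⟨cctn1F, (nat_lit 4), (nat_lit 4), [], [((nat_lit 0), []), ((nat_lit 0), [nat_lit 0])], []⟩
noncomputable def cccc1Dd : ℕ := nat_lit 0xeeb85379748e3db34928b205187100
noncomputable def cccc1D (u : ℕ) : ℕ := Nat.land (Nat.shiftRight cccc1Dd (Nat.mul u (nat_lit 6))) (nat_lit 63)
noncomputable def cccc1Pd : ℕ := nat_lit 0x511674c193446d57d0a668861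
noncomputable def cccc1P (u : ℕ) : ℕ := Nat.land (Nat.shiftRight cccc1Pd (Nat.mul u (nat_lit 5))) (nat_lit 31)
noncomputable def cccc1Qd : ℕ := nat_lit 0x25066014e3806d8cdeb810b208800
noncomputable def cccc1Q (u : ℕ) : ℕ := Nat.land (Nat.shiftRight cccc1Qd (Nat.mul u (nat_lit 5))) (nat_lit 31)
noncomputable def cccc1 : Lev := ⟨20, 5, cccc1D, cccc1P, cccc1Q⟩
noncomputable def cctn2y18_W : List (List ℕ) := [[nat_lit 1, nat_lit 2, nat_lit 3, nat_lit 4, nat_lit 6, nat_lit 0, nat_lit 7, nat_lit 11]]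
noncomputable def cctn2y18_P : ℕ → ℕ → ℕ := wdsP H20.J4.A0.P cctn2y18_W
noncomputable def cctr3k_W : List (List ℕ) := [[nat_lit 0, nat_lit 1, nat_lit 6, nat_lit 0, nat_lit 7, nat_lit 6, nat_lit 3, nat_lit 6, nat_lit 5, nat_lit 1],
  [nat_lit 7, nat_lit 6, nat_lit 1, nat_lit 7, nat_lit 6, nat_lit 3, nat_lit 6],
  [nat_lit 12, nat_lit 3, nat_lit 5, nat_lit 6, nat_lit 5, nat_lit 7, nat_lit 6, nat_lit 3, nat_lit 6, nat_lit 11]]
noncomputable def cctr3k_P : ℕ → ℕ → ℕ := wdsP H20.J4.A0.P cctr3k_W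
noncomputable def cctn3Fd : ℕ := nat_lit 0xa8ea795b3bdd7e698941
noncomputable def cctn3F (u : ℕ) : ℕ := Nat.land (Nat.shiftRight cctn3Fd (Nat.mul u (nat_lit 4))) (nat_lit 15)
noncomputable def cctn3 : Nd := ⟨cctn3F, (nat_lit 3), (nat_lit 3), [], [((nat_lit 0), []), ((nat_lit 0), [nat_lit 0])], []⟩
noncomputable def cctn2Fd : ℕ := nat_lit 0x8000000010000000
noncomputable def cctn2F (u : ℕ) : ℕ := Nat.land (Nat.shiftRight cctn2Fd (Nat.mul u (nat_lit 4))) (nat_lit 15)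
noncomputable def cctn2 : Nd := ⟨cctn2F, (nat_lit 5), (nat_lit 5), [], [((nat_lit 0), []), ((nat_lit 0), [nat_lit 0])], [((nat_lit 18), cctn2y18_W)]⟩
noncomputable def cccc0Dd : ℕ := nat_lit 0x28
noncomputable def cccc0D (u : ℕ) : ℕ := Nat.land (Nat.shiftRight cccc0Dd (Nat.mul u (nat_lit 3))) (nat_lit 7)
noncomputable def cccc0Pd : ℕ := nat_lit 0x2e0
noncomputable def cccc0P (u : ℕ) : ℕ := Nat.land (Nat.shiftRight cccc0Pd (Nat.mul u (nat_lit 5))) (nat_lit 31)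
noncomputable def cccc0Qd : ℕ := nat_lit 0x800000
noncomputable def cccc0Q (u : ℕ) : ℕ := Nat.land (Nat.shiftRight cccc0Qd (Nat.mul u (nat_lit 1))) (nat_lit 1)
noncomputable def cccc0 : Lev := ⟨2, 6, cccc0D, cccc0P, cccc0Q⟩
noncomputable def cctn4Fd : ℕ := nat_lit 0
noncomputable def cctn4F (u : ℕ) : ℕ := Nat.land (Nat.shiftRight cctn4Fd (Nat.mul u (nat_lit 1))) (nat_lit 1)
noncomputable def cctn4 : Nd := ⟨cctn4F, (nat_lit 6), (nat_lit 6), [], [((nat_lit 0), [])], []⟩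

theorem rp_lt : allL (ltAll 13) rp_W = true := by decide +kernel
theorem czx_lt : allL (ltAll 13) czx_W = true := by decide +kernel
theorem czth_lt : allL (ltAll 13) czth_W = true := by decide +kernel
theorem cztl0_e_0 : allZ (dent cztl0 czth_P (nat_lit 24)) (nat_lit 0) (nat_lit 1) = true := by decide +kernel
theorem cztl0_h : 0 < cztl0.n ∧ 0 < cztl0.K ∧ cztl0.Pt 0 < 24 ∧ cztl0.Q (cztl0.Pt 0) = 0 := by decide +kernel
theorem cztl1_e_0 : allZ (dent cztl1 czth_P (nat_lit 24)) (nat_lit 0) (nat_lit 21) = true := by decide +kernel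
theorem cztl1_h : 0 < cztl1.n ∧ 0 < cztl1.K ∧ cztl1.Pt 0 < 24 ∧ cztl1.Q (cztl1.Pt 0) = 0 := by decide +kernel
theorem cztl2_e_0 : allZ (dent cztl2 czth_P (nat_lit 24)) (nat_lit 0) (nat_lit 20) = true := by decide +kernel
theorem cztl2_h : 0 < cztl2.n ∧ 0 < cztl2.K ∧ cztl2.Pt 0 < 24 ∧ cztl2.Q (cztl2.Pt 0) = 0 := by decide +kernel
theorem cztl3_e_0 : allZ (dent cztl3 czth_P (nat_lit 24)) (nat_lit 0) (nat_lit 19) = true := by decide +kernel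
theorem cztl3_h : 0 < cztl3.n ∧ 0 < cztl3.K ∧ cztl3.Pt 0 < 24 ∧ cztl3.Q (cztl3.Pt 0) = 0 := by decide +kernel
theorem cztl4_e_0 : allZ (dent cztl4 czth_P (nat_lit 24)) (nat_lit 0) (nat_lit 15) = true := by decide +kernel
theorem cztl4_h : 0 < cztl4.n ∧ 0 < cztl4.K ∧ cztl4.Pt 0 < 24 ∧ cztl4.Q (cztl4.Pt 0) = 0 := by decide +kernel
theorem cztl5_e_0 : allZ (dent cztl5 czth_P (nat_lit 24)) (nat_lit 0) (nat_lit 2) = true := by decide +kernel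
theorem cztl5_h : 0 < cztl5.n ∧ 0 < cztl5.K ∧ cztl5.Pt 0 < 24 ∧ cztl5.Q (cztl5.Pt 0) = 0 := by decide +kernel
theorem czt_f5 : (Nat.ble cztl5.K 15 && Nat.ble (topK []) cztl5.K && fixLetters czth_P (topK []) (cztl5.Pt 0)) = true := by decide +kernel
theorem czt_f4 : (Nat.ble cztl4.K 15 && Nat.ble (topK [cztl5]) cztl4.K && fixLetters czth_P (topK [cztl5]) (cztl4.Pt 0)) = true := by decide +kernel
theorem czt_f3 : (Nat.ble cztl3.K 15 && Nat.ble (topK [cztl4, cztl5]) cztl3.K && fixLetters czth_P (topK [cztl4, cztl5]) (cztl3.Pt 0)) = true := by decide +kernel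
theorem czt_f2 : (Nat.ble cztl2.K 15 && Nat.ble (topK [cztl3, cztl4, cztl5]) cztl2.K && fixLetters czth_P (topK [cztl3, cztl4, cztl5]) (cztl2.Pt 0)) = true := by decide +kernel
theorem czt_f1 : (Nat.ble cztl1.K 15 && Nat.ble (topK [cztl2, cztl3, cztl4, cztl5]) cztl1.K && fixLetters czth_P (topK [cztl2, cztl3, cztl4, cztl5]) (cztl1.Pt 0)) = true := by decide +kernel
theorem czt_f0 : (Nat.ble cztl0.K 15 && Nat.ble (topK [cztl1, cztl2, cztl3, cztl4, cztl5]) cztl0.K && fixLetters czth_P (topK [cztl1, cztl2, cztl3, cztl4, cztl5]) (cztl0.Pt 0)) = true := by decide +kernel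
theorem czt_c : chainCard [cztl0, cztl1, cztl2, cztl3, cztl4, cztl5] = 887040 := by decide +kernel
theorem czce_lt : allL (ltAll 13) czce_W = true := by decide +kernel
theorem czcc5_e_0 : allZ (dent czcc5 czce_P (nat_lit 24)) (nat_lit 0) (nat_lit 2) = true := by decide +kernel
theorem czcc5_h : 0 < czcc5.n ∧ 0 < czcc5.K ∧ czcc5.Pt 0 < 24 ∧ czcc5.Q (czcc5.Pt 0) = 0 := by decide +kernel
theorem cztn0_0 : (Nat.ble cztl5.K 15 && Nat.beq (ltAll 24 [cztl4.Pt 0, cztl3.Pt 0, cztl2.Pt 0, cztl1.Pt 0, cztl0.Pt 0]) 0 && kChk czce_P czx_P cztn0.Kn 1 H20.J4.A0.B [cztl4.Pt 0, cztl3.Pt 0, cztl2.Pt 0, cztl1.Pt 0, cztl0.Pt 0] && allL (ltAll 1) cztn0.pre && planOK czth_P czx_P 1 (cztl5.Pt 0) cztn0.plan [cztl5]) = true := by decide +kernel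
theorem cztn0_1_0 : allZ (cztn0.ent H20.J4.A0.P czth_P czx_P czx_P czce_P (nat_lit 13) (nat_lit 1) H20.J4.A0.B cztl5 [] (memO czcc5)) (nat_lit 0) (nat_lit 3) = true := by decide +kernel
theorem czc_f5 : (Nat.ble czcc5.K 4 && Nat.ble (topK []) czcc5.K && Nat.beq (czcc5.Pt 0) (cztl5.Pt 0) && Nat.beq (ltAll 24 [cztl4.Pt 0, cztl3.Pt 0, cztl2.Pt 0, cztl1.Pt 0, cztl0.Pt 0]) 0 && kChk czce_P czx_P czcc5.K 1 H20.J4.A0.B [cztl4.Pt 0, cztl3.Pt 0, cztl2.Pt 0, cztl1.Pt 0, cztl0.Pt 0]) = true := by decide +kernel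
theorem czc_f4 : (Nat.ble cztl4.K 15 && Nat.blt (nat_lit 3) 24 && fixLetters czth_P cztl4.K (nat_lit 3) && Nat.beq (ltAll 1 [nat_lit 0]) 0 && Nat.beq (apW czx_P [nat_lit 0] (nat_lit 3)) (cztl4.Pt 0)) = true := by decide +kernel
theorem czcc3_e_0 : allZ (dent czcc3 czce_P (nat_lit 24)) (nat_lit 0) (nat_lit 7) = true := by decide +kernel
theorem czcc3_h : 0 < czcc3.n ∧ 0 < czcc3.K ∧ czcc3.Pt 0 < 24 ∧ czcc3.Q (czcc3.Pt 0) = 0 := by decide +kernel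
theorem cztn1_0 : (Nat.ble cztl3.K 15 && Nat.beq (ltAll 24 [cztl2.Pt 0, cztl1.Pt 0, cztl0.Pt 0]) 0 && kChk czce_P czx_P cztn1.Kn 1 H20.J4.A0.B [cztl2.Pt 0, cztl1.Pt 0, cztl0.Pt 0] && allL (ltAll 1) cztn1.pre && planOK czth_P czx_P 1 (cztl3.Pt 0) cztn1.plan [cztl3, cztl4, cztl5]) = true := by decide +kernel
theorem cztn1_1_0 : allZ (cztn1.ent H20.J4.A0.P czth_P czx_P czx_P czce_P (nat_lit 13) (nat_lit 1) H20.J4.A0.B cztl3 [cztl4, cztl5] (memO czcc3)) (nat_lit 0) (nat_lit 20) = true := by decide +kernel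
theorem czc_f3 : (Nat.ble czcc3.K 4 && Nat.ble (topK [czcc5]) czcc3.K && Nat.beq (czcc3.Pt 0) (cztl3.Pt 0) && Nat.beq (ltAll 24 [cztl2.Pt 0, cztl1.Pt 0, cztl0.Pt 0]) 0 && kChk czce_P czx_P czcc3.K 1 H20.J4.A0.B [cztl2.Pt 0, cztl1.Pt 0, cztl0.Pt 0]) = true := by decide +kernel
theorem czc_f2 : (Nat.ble cztl2.K 15 && Nat.blt (nat_lit 2) 24 && fixLetters czth_P cztl2.K (nat_lit 2) && Nat.beq (ltAll 1 [nat_lit 0]) 0 && Nat.beq (apW czx_P [nat_lit 0] (nat_lit 2)) (cztl2.Pt 0)) = true := by decide +kernel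
theorem czcc1_e_0 : allZ (dent czcc1 czce_P (nat_lit 24)) (nat_lit 0) (nat_lit 15) = true := by decide +kernel
theorem czcc1_h : 0 < czcc1.n ∧ 0 < czcc1.K ∧ czcc1.Pt 0 < 24 ∧ czcc1.Q (czcc1.Pt 0) = 0 := by decide +kernel
theorem cztn2_0 : (Nat.ble cztl1.K 15 && Nat.beq (ltAll 24 [cztl0.Pt 0]) 0 && kChk czce_P czx_P cztn2.Kn 1 H20.J4.A0.B [cztl0.Pt 0] && allL (ltAll 1) cztn2.pre && planOK czth_P czx_P 1 (cztl1.Pt 0) cztn2.plan [cztl1, cztl2, cztl3, cztl4, cztl5]) = true := by decide +kernel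
theorem cztn2_1_0 : allZ (cztn2.ent H20.J4.A0.P czth_P czx_P czx_P czce_P (nat_lit 13) (nat_lit 1) H20.J4.A0.B cztl1 [cztl2, cztl3, cztl4, cztl5] (memO czcc1)) (nat_lit 0) (nat_lit 22) = true := by decide +kernel
theorem czc_f1 : (Nat.ble czcc1.K 4 && Nat.ble (topK [czcc3, czcc5]) czcc1.K && Nat.beq (czcc1.Pt 0) (cztl1.Pt 0) && Nat.beq (ltAll 24 [cztl0.Pt 0]) 0 && kChk czce_P czx_P czcc1.K 1 H20.J4.A0.B [cztl0.Pt 0]) = true := by decide +kernel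
theorem czcc0_e_0 : allZ (dent czcc0 czce_P (nat_lit 24)) (nat_lit 0) (nat_lit 1) = true := by decide +kernel
theorem czcc0_h : 0 < czcc0.n ∧ 0 < czcc0.K ∧ czcc0.Pt 0 < 24 ∧ czcc0.Q (czcc0.Pt 0) = 0 := by decide +kernel
theorem cztn3_0 : (Nat.ble cztl0.K 15 && Nat.beq (ltAll 24 []) 0 && kChk czce_P czx_P cztn3.Kn 1 H20.J4.A0.B [] && allL (ltAll 1) cztn3.pre && planOK czth_P czx_P 1 (cztl0.Pt 0) cztn3.plan [cztl0, cztl1, cztl2, cztl3, cztl4, cztl5]) = true := by decide +kernel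
theorem cztn3_1_0 : allZ (cztn3.ent H20.J4.A0.P czth_P czx_P czx_P czce_P (nat_lit 13) (nat_lit 1) H20.J4.A0.B cztl0 [cztl1, cztl2, cztl3, cztl4, cztl5] (memO czcc0)) (nat_lit 0) (nat_lit 2) = true := by decide +kernel
theorem czc_f0 : (Nat.ble czcc0.K 4 && Nat.ble (topK [czcc1, czcc3, czcc5]) czcc0.K && Nat.beq (czcc0.Pt 0) (cztl0.Pt 0) && Nat.beq (ltAll 24 []) 0 && kChk czce_P czx_P czcc0.K 1 H20.J4.A0.B []) = true := by decide +kernel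
theorem czc_c : chainCard [czcc0, czcc1, czcc3, czcc5] = 768 ∧ topK [czcc0, czcc1, czcc3, czcc5] = 4 := by decide +kernel
theorem csx_lt : allL (ltAll 13) csx_W = true := by decide +kernel
theorem csth_lt : allL (ltAll 13) csth_W = true := by decide +kernel
theorem cstl0_e_0 : allZ (dent cstl0 csth_P (nat_lit 24)) (nat_lit 0) (nat_lit 1) = true := by decide +kernel
theorem cstl0_h : 0 < cstl0.n ∧ 0 < cstl0.K ∧ cstl0.Pt 0 < 24 ∧ cstl0.Q (cstl0.Pt 0) = 0 := by decide +kernel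
theorem cstl1_e_0 : allZ (dent cstl1 csth_P (nat_lit 24)) (nat_lit 0) (nat_lit 21) = true := by decide +kernel
theorem cstl1_h : 0 < cstl1.n ∧ 0 < cstl1.K ∧ cstl1.Pt 0 < 24 ∧ cstl1.Q (cstl1.Pt 0) = 0 := by decide +kernel
theorem cstl2_e_0 : allZ (dent cstl2 csth_P (nat_lit 24)) (nat_lit 0) (nat_lit 20) = true := by decide +kernel
theorem cstl2_h : 0 < cstl2.n ∧ 0 < cstl2.K ∧ cstl2.Pt 0 < 24 ∧ cstl2.Q (cstl2.Pt 0) = 0 := by decide +kernel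
theorem cstl3_e_0 : allZ (dent cstl3 csth_P (nat_lit 24)) (nat_lit 0) (nat_lit 19) = true := by decide +kernel
theorem cstl3_h : 0 < cstl3.n ∧ 0 < cstl3.K ∧ cstl3.Pt 0 < 24 ∧ cstl3.Q (cstl3.Pt 0) = 0 := by decide +kernel
theorem cstl4_e_0 : allZ (dent cstl4 csth_P (nat_lit 24)) (nat_lit 0) (nat_lit 2) = true := by decide +kernel
theorem cstl4_h : 0 < cstl4.n ∧ 0 < cstl4.K ∧ cstl4.Pt 0 < 24 ∧ cstl4.Q (cstl4.Pt 0) = 0 := by decide +kernel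
theorem cstl5_e_0 : allZ (dent cstl5 csth_P (nat_lit 24)) (nat_lit 0) (nat_lit 15) = true := by decide +kernel
theorem cstl5_h : 0 < cstl5.n ∧ 0 < cstl5.K ∧ cstl5.Pt 0 < 24 ∧ cstl5.Q (cstl5.Pt 0) = 0 := by decide +kernel
theorem cst_f5 : (Nat.ble cstl5.K 17 && Nat.ble (topK []) cstl5.K && fixLetters csth_P (topK []) (cstl5.Pt 0)) = true := by decide +kernel
theorem cst_f4 : (Nat.ble cstl4.K 17 && Nat.ble (topK [cstl5]) cstl4.K && fixLetters csth_P (topK [cstl5]) (cstl4.Pt 0)) = true := by decide +kernel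
theorem cst_f3 : (Nat.ble cstl3.K 17 && Nat.ble (topK [cstl4, cstl5]) cstl3.K && fixLetters csth_P (topK [cstl4, cstl5]) (cstl3.Pt 0)) = true := by decide +kernel
theorem cst_f2 : (Nat.ble cstl2.K 17 && Nat.ble (topK [cstl3, cstl4, cstl5]) cstl2.K && fixLetters csth_P (topK [cstl3, cstl4, cstl5]) (cstl2.Pt 0)) = true := by decide +kernel
theorem cst_f1 : (Nat.ble cstl1.K 17 && Nat.ble (topK [cstl2, cstl3, cstl4, cstl5]) cstl1.K && fixLetters csth_P (topK [cstl2, cstl3, cstl4, cstl5]) (cstl1.Pt 0)) = true := by decide +kernel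
theorem cst_f0 : (Nat.ble cstl0.K 17 && Nat.ble (topK [cstl1, cstl2, cstl3, cstl4, cstl5]) cstl0.K && fixLetters csth_P (topK [cstl1, cstl2, cstl3, cstl4, cstl5]) (cstl0.Pt 0)) = true := by decide +kernel
theorem cst_c : chainCard [cstl0, cstl1, cstl2, cstl3, cstl4, cstl5] = 887040 := by decide +kernel
theorem csce_lt : allL (ltAll 13) csce_W = true := by decide +kernel
theorem cscc5_e_0 : allZ (dent cscc5 csce_P (nat_lit 24)) (nat_lit 0) (nat_lit 7) = true := by decide +kernel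
theorem cscc5_h : 0 < cscc5.n ∧ 0 < cscc5.K ∧ cscc5.Pt 0 < 24 ∧ cscc5.Q (cscc5.Pt 0) = 0 := by decide +kernel
theorem cstn0_0 : (Nat.ble cstl5.K 17 && Nat.beq (ltAll 24 [cstl4.Pt 0, cstl3.Pt 0, cstl2.Pt 0, cstl1.Pt 0, cstl0.Pt 0]) 0 && kChk csce_P csx_P cstn0.Kn 1 H20.J4.A0.B [cstl4.Pt 0, cstl3.Pt 0, cstl2.Pt 0, cstl1.Pt 0, cstl0.Pt 0] && allL (ltAll 1) cstn0.pre && planOK csth_P csx_P 1 (cstl5.Pt 0) cstn0.plan [cstl5]) = true := by decide +kernel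
theorem cstn0_1_0 : allZ (cstn0.ent H20.J4.A0.P csth_P csx_P csx_P csce_P (nat_lit 13) (nat_lit 1) H20.J4.A0.B cstl5 [] (memO cscc5)) (nat_lit 0) (nat_lit 16) = true := by decide +kernel
theorem csc_f5 : (Nat.ble cscc5.K 6 && Nat.ble (topK []) cscc5.K && Nat.beq (cscc5.Pt 0) (cstl5.Pt 0) && Nat.beq (ltAll 24 [cstl4.Pt 0, cstl3.Pt 0, cstl2.Pt 0, cstl1.Pt 0, cstl0.Pt 0]) 0 && kChk csce_P csx_P cscc5.K 1 H20.J4.A0.B [cstl4.Pt 0, cstl3.Pt 0, cstl2.Pt 0, cstl1.Pt 0, cstl0.Pt 0]) = true := by decide +kernel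
theorem csc_f4 : (Nat.ble cstl4.K 17 && Nat.blt (nat_lit 3) 24 && fixLetters csth_P cstl4.K (nat_lit 3) && Nat.beq (ltAll 1 [nat_lit 0]) 0 && Nat.beq (apW csx_P [nat_lit 0] (nat_lit 3)) (cstl4.Pt 0)) = true := by decide +kernel
theorem cscc3_e_0 : allZ (dent cscc3 csce_P (nat_lit 24)) (nat_lit 0) (nat_lit 11) = true := by decide +kernel
theorem cscc3_h : 0 < cscc3.n ∧ 0 < cscc3.K ∧ cscc3.Pt 0 < 24 ∧ cscc3.Q (cscc3.Pt 0) = 0 := by decide +kernel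
theorem cstn1_0 : (Nat.ble cstl3.K 17 && Nat.beq (ltAll 24 [cstl2.Pt 0, cstl1.Pt 0, cstl0.Pt 0]) 0 && kChk csce_P csx_P cstn1.Kn 1 H20.J4.A0.B [cstl2.Pt 0, cstl1.Pt 0, cstl0.Pt 0] && allL (ltAll 1) cstn1.pre && planOK csth_P csx_P 1 (cstl3.Pt 0) cstn1.plan [cstl3, cstl4, cstl5]) = true := by decide +kernel
theorem cstn1_1_0 : allZ (cstn1.ent H20.J4.A0.P csth_P csx_P csx_P csce_P (nat_lit 13) (nat_lit 1) H20.J4.A0.B cstl3 [cstl4, cstl5] (memO cscc3)) (nat_lit 0) (nat_lit 20) = true := by decide +kernel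
theorem csc_f3 : (Nat.ble cscc3.K 6 && Nat.ble (topK [cscc5]) cscc3.K && Nat.beq (cscc3.Pt 0) (cstl3.Pt 0) && Nat.beq (ltAll 24 [cstl2.Pt 0, cstl1.Pt 0, cstl0.Pt 0]) 0 && kChk csce_P csx_P cscc3.K 1 H20.J4.A0.B [cstl2.Pt 0, cstl1.Pt 0, cstl0.Pt 0]) = true := by decide +kernel
theorem csc_f2 : (Nat.ble cstl2.K 17 && Nat.blt (nat_lit 1) 24 && fixLetters csth_P cstl2.K (nat_lit 1) && Nat.beq (ltAll 1 [nat_lit 0]) 0 && Nat.beq (apW csx_P [nat_lit 0] (nat_lit 1)) (cstl2.Pt 0)) = true := by decide +kernel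
theorem cscc1_e_0 : allZ (dent cscc1 csce_P (nat_lit 24)) (nat_lit 0) (nat_lit 13) = true := by decide +kernel
theorem cscc1_h : 0 < cscc1.n ∧ 0 < cscc1.K ∧ cscc1.Pt 0 < 24 ∧ cscc1.Q (cscc1.Pt 0) = 0 := by decide +kernel
theorem cstn2_0 : (Nat.ble cstl1.K 17 && Nat.beq (ltAll 24 [cstl0.Pt 0]) 0 && kChk csce_P csx_P cstn2.Kn 1 H20.J4.A0.B [cstl0.Pt 0] && allL (ltAll 1) cstn2.pre && planOK csth_P csx_P 1 (cstl1.Pt 0) cstn2.plan [cstl1, cstl2, cstl3, cstl4, cstl5]) = true := by decide +kernel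
theorem cstn2_1_0 : allZ (cstn2.ent H20.J4.A0.P csth_P csx_P csx_P csce_P (nat_lit 13) (nat_lit 1) H20.J4.A0.B cstl1 [cstl2, cstl3, cstl4, cstl5] (memO cscc1)) (nat_lit 0) (nat_lit 22) = true := by decide +kernel
theorem csc_f1 : (Nat.ble cscc1.K 6 && Nat.ble (topK [cscc3, cscc5]) cscc1.K && Nat.beq (cscc1.Pt 0) (cstl1.Pt 0) && Nat.beq (ltAll 24 [cstl0.Pt 0]) 0 && kChk csce_P csx_P cscc1.K 1 H20.J4.A0.B [cstl0.Pt 0]) = true := by decide +kernel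
theorem cscc0_e_0 : allZ (dent cscc0 csce_P (nat_lit 24)) (nat_lit 0) (nat_lit 1) = true := by decide +kernel
theorem cscc0_h : 0 < cscc0.n ∧ 0 < cscc0.K ∧ cscc0.Pt 0 < 24 ∧ cscc0.Q (cscc0.Pt 0) = 0 := by decide +kernel
theorem cstn3_0 : (Nat.ble cstl0.K 17 && Nat.beq (ltAll 24 []) 0 && kChk csce_P csx_P cstn3.Kn 1 H20.J4.A0.B [] && allL (ltAll 1) cstn3.pre && planOK csth_P csx_P 1 (cstl0.Pt 0) cstn3.plan [cstl0, cstl1, cstl2, cstl3, cstl4, cstl5]) = true := by decide +kernel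
theorem cstn3_1_0 : allZ (cstn3.ent H20.J4.A0.P csth_P csx_P csx_P csce_P (nat_lit 13) (nat_lit 1) H20.J4.A0.B cstl0 [cstl1, cstl2, cstl3, cstl4, cstl5] (memO cscc0)) (nat_lit 0) (nat_lit 2) = true := by decide +kernel
theorem csc_f0 : (Nat.ble cscc0.K 6 && Nat.ble (topK [cscc1, cscc3, cscc5]) cscc0.K && Nat.beq (cscc0.Pt 0) (cstl0.Pt 0) && Nat.beq (ltAll 24 []) 0 && kChk csce_P csx_P cscc0.K 1 H20.J4.A0.B []) = true := by decide +kernel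
theorem csc_c : chainCard [cscc0, cscc1, cscc3, cscc5] = 2688 ∧ topK [cscc0, cscc1, cscc3, cscc5] = 6 := by decide +kernel
theorem ccx_lt : allL (ltAll 13) ccx_W = true := by decide +kernel
theorem ccth_lt : allL (ltAll 13) ccth_W = true := by decide +kernel
theorem cctl0_e_0 : allZ (dent cctl0 ccth_P (nat_lit 24)) (nat_lit 0) (nat_lit 1) = true := by decide +kernel
theorem cctl0_h : 0 < cctl0.n ∧ 0 < cctl0.K ∧ cctl0.Pt 0 < 24 ∧ cctl0.Q (cctl0.Pt 0) = 0 := by decide +kernel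
theorem cctl1_e_0 : allZ (dent cctl1 ccth_P (nat_lit 24)) (nat_lit 0) (nat_lit 21) = true := by decide +kernel
theorem cctl1_h : 0 < cctl1.n ∧ 0 < cctl1.K ∧ cctl1.Pt 0 < 24 ∧ cctl1.Q (cctl1.Pt 0) = 0 := by decide +kernel
theorem cctl2_e_0 : allZ (dent cctl2 ccth_P (nat_lit 24)) (nat_lit 0) (nat_lit 20) = true := by decide +kernel
theorem cctl2_h : 0 < cctl2.n ∧ 0 < cctl2.K ∧ cctl2.Pt 0 < 24 ∧ cctl2.Q (cctl2.Pt 0) = 0 := by decide +kernel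
theorem cctl3_e_0 : allZ (dent cctl3 ccth_P (nat_lit 24)) (nat_lit 0) (nat_lit 19) = true := by decide +kernel
theorem cctl3_h : 0 < cctl3.n ∧ 0 < cctl3.K ∧ cctl3.Pt 0 < 24 ∧ cctl3.Q (cctl3.Pt 0) = 0 := by decide +kernel
theorem cctl4_e_0 : allZ (dent cctl4 ccth_P (nat_lit 24)) (nat_lit 0) (nat_lit 15) = true := by decide +kernel
theorem cctl4_h : 0 < cctl4.n ∧ 0 < cctl4.K ∧ cctl4.Pt 0 < 24 ∧ cctl4.Q (cctl4.Pt 0) = 0 := by decide +kernel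
theorem cctl5_e_0 : allZ (dent cctl5 ccth_P (nat_lit 24)) (nat_lit 0) (nat_lit 2) = true := by decide +kernel
theorem cctl5_h : 0 < cctl5.n ∧ 0 < cctl5.K ∧ cctl5.Pt 0 < 24 ∧ cctl5.Q (cctl5.Pt 0) = 0 := by decide +kernel
theorem cct_f5 : (Nat.ble cctl5.K 14 && Nat.ble (topK []) cctl5.K && fixLetters ccth_P (topK []) (cctl5.Pt 0)) = true := by decide +kernel
theorem cct_f4 : (Nat.ble cctl4.K 14 && Nat.ble (topK [cctl5]) cctl4.K && fixLetters ccth_P (topK [cctl5]) (cctl4.Pt 0)) = true := by decide +kernel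
theorem cct_f3 : (Nat.ble cctl3.K 14 && Nat.ble (topK [cctl4, cctl5]) cctl3.K && fixLetters ccth_P (topK [cctl4, cctl5]) (cctl3.Pt 0)) = true := by decide +kernel
theorem cct_f2 : (Nat.ble cctl2.K 14 && Nat.ble (topK [cctl3, cctl4, cctl5]) cctl2.K && fixLetters ccth_P (topK [cctl3, cctl4, cctl5]) (cctl2.Pt 0)) = true := by decide +kernel
theorem cct_f1 : (Nat.ble cctl1.K 14 && Nat.ble (topK [cctl2, cctl3, cctl4, cctl5]) cctl1.K && fixLetters ccth_P (topK [cctl2, cctl3, cctl4, cctl5]) (cctl1.Pt 0)) = true := by decide +kernel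
theorem cct_f0 : (Nat.ble cctl0.K 14 && Nat.ble (topK [cctl1, cctl2, cctl3, cctl4, cctl5]) cctl0.K && fixLetters ccth_P (topK [cctl1, cctl2, cctl3, cctl4, cctl5]) (cctl0.Pt 0)) = true := by decide +kernel
theorem cct_c : chainCard [cctl0, cctl1, cctl2, cctl3, cctl4, cctl5] = 887040 := by decide +kernel
theorem ccce_lt : allL (ltAll 13) ccce_W = true := by decide +kernel
theorem cctn0_0 : (Nat.ble cctl5.K 14 && Nat.beq (ltAll 24 [cctl4.Pt 0, cctl3.Pt 0, cctl2.Pt 0, cctl1.Pt 0, cctl0.Pt 0]) 0 && kChk ccce_P ccx_P cctn0.Kn 1 H20.J4.A0.B [cctl4.Pt 0, cctl3.Pt 0, cctl2.Pt 0, cctl1.Pt 0, cctl0.Pt 0] && allL (ltAll 1) cctn0.pre && planOK ccth_P ccx_P 1 (cctl5.Pt 0) cctn0.plan [cctl5]) = true := by decide +kernel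
theorem cctn0_1_0 : allZ (cctn0.ent H20.J4.A0.P ccth_P ccx_P ccx_P ccce_P (nat_lit 13) (nat_lit 1) H20.J4.A0.B cctl5 [] (fun w => Nat.xor w (cctl5.Pt (nat_lit 0)))) (nat_lit 0) (nat_lit 3) = true := by decide +kernel
theorem ccc_f4 : (Nat.ble cctl4.K 14 && Nat.blt (nat_lit 2) 24 && fixLetters ccth_P cctl4.K (nat_lit 2) && Nat.beq (ltAll 1 [nat_lit 0]) 0 && Nat.beq (apW ccx_P [nat_lit 0] (nat_lit 2)) (cctl4.Pt 0)) = true := by decide +kernel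
theorem cccc3_e_0 : allZ (dent cccc3 ccce_P (nat_lit 24)) (nat_lit 0) (nat_lit 15) = true := by decide +kernel
theorem cccc3_h : 0 < cccc3.n ∧ 0 < cccc3.K ∧ cccc3.Pt 0 < 24 ∧ cccc3.Q (cccc3.Pt 0) = 0 := by decide +kernel
theorem cctn1_0 : (Nat.ble cctl3.K 14 && Nat.beq (ltAll 24 [cctl2.Pt 0, cctl1.Pt 0, cctl0.Pt 0]) 0 && kChk ccce_P ccx_P cctn1.Kn 1 H20.J4.A0.B [cctl2.Pt 0, cctl1.Pt 0, cctl0.Pt 0] && allL (ltAll 1) cctn1.pre && planOK ccth_P ccx_P 1 (cctl3.Pt 0) cctn1.plan [cctl3, cctl4, cctl5]) = true := by decide +kernel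
theorem cctn1_1_0 : allZ (cctn1.ent H20.J4.A0.P ccth_P ccx_P ccx_P ccce_P (nat_lit 13) (nat_lit 1) H20.J4.A0.B cctl3 [cctl4, cctl5] (memO cccc3)) (nat_lit 0) (nat_lit 20) = true := by decide +kernel
theorem ccc_f3 : (Nat.ble cccc3.K 6 && Nat.ble (topK []) cccc3.K && Nat.beq (cccc3.Pt 0) (cctl3.Pt 0) && Nat.beq (ltAll 24 [cctl2.Pt 0, cctl1.Pt 0, cctl0.Pt 0]) 0 && kChk ccce_P ccx_P cccc3.K 1 H20.J4.A0.B [cctl2.Pt 0, cctl1.Pt 0, cctl0.Pt 0]) = true := by decide +kernel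
theorem ccc_f2 : (Nat.ble cctl2.K 14 && Nat.blt (nat_lit 1) 24 && fixLetters ccth_P cctl2.K (nat_lit 1) && Nat.beq (ltAll 1 [nat_lit 0]) 0 && Nat.beq (apW ccx_P [nat_lit 0] (nat_lit 1)) (cctl2.Pt 0)) = true := by decide +kernel
theorem cccc1_e_0 : allZ (dent cccc1 ccce_P (nat_lit 24)) (nat_lit 0) (nat_lit 19) = true := by decide +kernel
theorem cccc1_h : 0 < cccc1.n ∧ 0 < cccc1.K ∧ cccc1.Pt 0 < 24 ∧ cccc1.Q (cccc1.Pt 0) = 0 := by decide +kernel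
theorem cctn2y18_lt : allL (ltAll 13) cctn2y18_W = true := by decide +kernel
theorem cctr3k_lt : allL (ltAll 13) cctr3k_W = true := by decide +kernel
theorem cctn3_0 : (Nat.ble cctl3.K 14 && Nat.beq (ltAll 24 [cctl2.Pt 0, cctl1.Pt 0, cctl0.Pt 0]) 0 && kChk cctr3k_P cctn2y18_P cctn3.Kn 1 H20.J4.A0.B [cctl2.Pt 0, cctl1.Pt 0, cctl0.Pt 0] && allL (ltAll 1) cctn3.pre && planOK ccth_P ccx_P 1 (cctl3.Pt 0) cctn3.plan [cctl3, cctl4, cctl5]) = true := by decide +kernel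
theorem cctn3_1_0 : allZ (cctn3.ent H20.J4.A0.P ccth_P ccx_P cctn2y18_P cctr3k_P (nat_lit 13) (nat_lit 1) H20.J4.A0.B cctl3 [cctl4, cctl5] (fun _ => nat_lit 1)) (nat_lit 0) (nat_lit 20) = true := by decide +kernel
theorem cctn2_0 : (Nat.ble cctl1.K 14 && Nat.beq (ltAll 24 [cctl0.Pt 0]) 0 && kChk ccce_P ccx_P cctn2.Kn 1 H20.J4.A0.B [cctl0.Pt 0] && allL (ltAll 1) cctn2.pre && planOK ccth_P ccx_P 1 (cctl1.Pt 0) cctn2.plan [cctl1, cctl2, cctl3, cctl4, cctl5]) = true := by decide +kernel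
theorem cctn2_1_0 : allZ (cctn2.ent H20.J4.A0.P ccth_P ccx_P ccx_P ccce_P (nat_lit 13) (nat_lit 1) H20.J4.A0.B cctl1 [cctl2, cctl3, cctl4, cctl5] (memO cccc1)) (nat_lit 0) (nat_lit 22) = true := by decide +kernel
theorem ccc_f1 : (Nat.ble cccc1.K 6 && Nat.ble (topK [cccc3]) cccc1.K && Nat.beq (cccc1.Pt 0) (cctl1.Pt 0) && Nat.beq (ltAll 24 [cctl0.Pt 0]) 0 && kChk ccce_P ccx_P cccc1.K 1 H20.J4.A0.B [cctl0.Pt 0]) = true := by decide +kernel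
theorem cccc0_e_0 : allZ (dent cccc0 ccce_P (nat_lit 24)) (nat_lit 0) (nat_lit 1) = true := by decide +kernel
theorem cccc0_h : 0 < cccc0.n ∧ 0 < cccc0.K ∧ cccc0.Pt 0 < 24 ∧ cccc0.Q (cccc0.Pt 0) = 0 := by decide +kernel
theorem cctn4_0 : (Nat.ble cctl0.K 14 && Nat.beq (ltAll 24 []) 0 && kChk ccce_P ccx_P cctn4.Kn 1 H20.J4.A0.B [] && allL (ltAll 1) cctn4.pre && planOK ccth_P ccx_P 1 (cctl0.Pt 0) cctn4.plan [cctl0, cctl1, cctl2, cctl3, cctl4, cctl5]) = true := by decide +kernel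
theorem cctn4_1_0 : allZ (cctn4.ent H20.J4.A0.P ccth_P ccx_P ccx_P ccce_P (nat_lit 13) (nat_lit 1) H20.J4.A0.B cctl0 [cctl1, cctl2, cctl3, cctl4, cctl5] (memO cccc0)) (nat_lit 0) (nat_lit 2) = true := by decide +kernel
theorem ccc_f0 : (Nat.ble cccc0.K 6 && Nat.ble (topK [cccc1, cccc3]) cccc0.K && Nat.beq (cccc0.Pt 0) (cctl0.Pt 0) && Nat.beq (ltAll 24 []) 0 && kChk ccce_P ccx_P cccc0.K 1 H20.J4.A0.B []) = true := by decide +kernel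
theorem ccc_c : chainCard [cccc0, cccc1, cccc3] = 640 ∧ topK [cccc0, cccc1, cccc3] = 6 := by decide +kernel

theorem rp_act {G Ω : Type*} [Group G] [MulAction G Ω] {g : ℕ → G} {pt : ℕ → Ω}
    (M : Md g pt H20.J4.A0.P 24 13 H20.J4.A0.B 887040) : Act (wds g rp_W) pt rp_P 24 3 :=
  M.wact rp_lt
theorem czx_act {G Ω : Type*} [Group G] [MulAction G Ω] {g : ℕ → G} {pt : ℕ → Ω}
    (M : Md g pt H20.J4.A0.P 24 13 H20.J4.A0.B 887040) : Act (wds g czx_W) pt czx_P 24 1 :=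
  M.wact czx_lt
theorem czth_act {G Ω : Type*} [Group G] [MulAction G Ω] {g : ℕ → G} {pt : ℕ → Ω}
    (M : Md g pt H20.J4.A0.P 24 13 H20.J4.A0.B 887040) : Act (wds g czth_W) pt czth_P 24 15 :=
  M.wact czth_lt
theorem cztl0_e : ∀ i < 1, (dent cztl0 czth_P (nat_lit 24)) i = 0 := allZ_sound0 cztl0_e_0
theorem cztl0_ok : DOK cztl0 czth_P 24 := ⟨cztl0_h, cztl0_e⟩
theorem cztl1_e : ∀ i < 21, (dent cztl1 czth_P (nat_lit 24)) i = 0 := allZ_sound0 cztl1_e_0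
theorem cztl1_ok : DOK cztl1 czth_P 24 := ⟨cztl1_h, cztl1_e⟩
theorem cztl2_e : ∀ i < 20, (dent cztl2 czth_P (nat_lit 24)) i = 0 := allZ_sound0 cztl2_e_0
theorem cztl2_ok : DOK cztl2 czth_P 24 := ⟨cztl2_h, cztl2_e⟩
theorem cztl3_e : ∀ i < 19, (dent cztl3 czth_P (nat_lit 24)) i = 0 := allZ_sound0 cztl3_e_0
theorem cztl3_ok : DOK cztl3 czth_P 24 := ⟨cztl3_h, cztl3_e⟩
theorem cztl4_e : ∀ i < 15, (dent cztl4 czth_P (nat_lit 24)) i = 0 := allZ_sound0 cztl4_e_0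
theorem cztl4_ok : DOK cztl4 czth_P 24 := ⟨cztl4_h, cztl4_e⟩
theorem cztl5_e : ∀ i < 2, (dent cztl5 czth_P (nat_lit 24)) i = 0 := allZ_sound0 cztl5_e_0
theorem cztl5_ok : DOK cztl5 czth_P 24 := ⟨cztl5_h, cztl5_e⟩
theorem czt_low {G Ω : Type*} [Group G] [MulAction G Ω] {g : ℕ → G} {pt : ℕ → Ω}
    (M : Md g pt H20.J4.A0.P 24 13 H20.J4.A0.B 887040) : SLow (gi (wds g czth_W)) pt 24 [cztl0, cztl1, cztl2, cztl3, cztl4, cztl5] :=
  ((((((SLow.nil).cons cztl5_ok (czth_act M) czt_f5).cons cztl4_ok (czth_act M) czt_f4).cons cztl3_ok (czth_act M) czt_f3).cons cztl2_ok (czth_act M) czt_f2).cons cztl1_ok (czth_act M) czt_f1).cons cztl0_ok (czth_act M) czt_f0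
theorem czt_S0 {G Ω : Type*} [Group G] [MulAction G Ω] {g : ℕ → G} {pt : ℕ → Ω}
    (M : Md g pt H20.J4.A0.P 24 13 H20.J4.A0.B 887040) : Stage ⊤ (wds g czth_W) pt 24 [cztl0, cztl1, cztl2, cztl3, cztl4, cztl5] [] :=
  M.stage (czt_low M) czt_c
theorem czt_S1 {G Ω : Type*} [Group G] [MulAction G Ω] {g : ℕ → G} {pt : ℕ → Ω}
    (M : Md g pt H20.J4.A0.P 24 13 H20.J4.A0.B 887040) : Stage ⊤ (wds g czth_W) pt 24 [cztl1, cztl2, cztl3, cztl4, cztl5] [cztl0.Pt 0] :=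
  (czt_S0 M).next
theorem czt_S2 {G Ω : Type*} [Group G] [MulAction G Ω] {g : ℕ → G} {pt : ℕ → Ω}
    (M : Md g pt H20.J4.A0.P 24 13 H20.J4.A0.B 887040) : Stage ⊤ (wds g czth_W) pt 24 [cztl2, cztl3, cztl4, cztl5] [cztl1.Pt 0, cztl0.Pt 0] :=
  (czt_S1 M).next
theorem czt_S3 {G Ω : Type*} [Group G] [MulAction G Ω] {g : ℕ → G} {pt : ℕ → Ω}
    (M : Md g pt H20.J4.A0.P 24 13 H20.J4.A0.B 887040) : Stage ⊤ (wds g czth_W) pt 24 [cztl3, cztl4, cztl5] [cztl2.Pt 0, cztl1.Pt 0, cztl0.Pt 0] :=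
  (czt_S2 M).next
theorem czt_S4 {G Ω : Type*} [Group G] [MulAction G Ω] {g : ℕ → G} {pt : ℕ → Ω}
    (M : Md g pt H20.J4.A0.P 24 13 H20.J4.A0.B 887040) : Stage ⊤ (wds g czth_W) pt 24 [cztl4, cztl5] [cztl3.Pt 0, cztl2.Pt 0, cztl1.Pt 0, cztl0.Pt 0] :=
  (czt_S3 M).next
theorem czt_S5 {G Ω : Type*} [Group G] [MulAction G Ω] {g : ℕ → G} {pt : ℕ → Ω}
    (M : Md g pt H20.J4.A0.P 24 13 H20.J4.A0.B 887040) : Stage ⊤ (wds g czth_W) pt 24 [cztl5] [cztl4.Pt 0, cztl3.Pt 0, cztl2.Pt 0, cztl1.Pt 0, cztl0.Pt 0] :=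
  (czt_S4 M).next
theorem czt_S6 {G Ω : Type*} [Group G] [MulAction G Ω] {g : ℕ → G} {pt : ℕ → Ω}
    (M : Md g pt H20.J4.A0.P 24 13 H20.J4.A0.B 887040) : Stage ⊤ (wds g czth_W) pt 24 [] [cztl5.Pt 0, cztl4.Pt 0, cztl3.Pt 0, cztl2.Pt 0, cztl1.Pt 0, cztl0.Pt 0] :=
  (czt_S5 M).next
theorem czce_act {G Ω : Type*} [Group G] [MulAction G Ω] {g : ℕ → G} {pt : ℕ → Ω}
    (M : Md g pt H20.J4.A0.P 24 13 H20.J4.A0.B 887040) : Act (wds g czce_W) pt czce_P 24 4 :=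
  M.wact czce_lt
theorem czcc5_e : ∀ i < 2, (dent czcc5 czce_P (nat_lit 24)) i = 0 := allZ_sound0 czcc5_e_0
theorem czcc5_ok : DOK czcc5 czce_P 24 := ⟨czcc5_h, czcc5_e⟩
theorem cztn0_1 : ∀ i < 3, (cztn0.ent H20.J4.A0.P czth_P czx_P czx_P czce_P (nat_lit 13) (nat_lit 1) H20.J4.A0.B cztl5 [] (memO czcc5)) i = 0 := allZ_sound0 cztn0_1_0
theorem cztn0_t {G Ω : Type*} [Group G] [MulAction G Ω] {g : ℕ → G} {pt : ℕ → Ω}
    (M : Md g pt H20.J4.A0.P 24 13 H20.J4.A0.B 887040) : TrO (gen (wds g czth_W) cztl5.K) (wds g czx_W) (wds g czx_W) 1 pt 24 (cztl5.Pt 0) (memO czcc5) :=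
  node M (czt_S5 M) (czth_act M) (czx_act M) (czx_act M) cztn0 ((czce_act M).mono (by decide)) (fun _ _ => trivial) cztn0_0 cztn0_1 (List.forall_mem_nil _)
theorem czcc3_e : ∀ i < 7, (dent czcc3 czce_P (nat_lit 24)) i = 0 := allZ_sound0 czcc3_e_0
theorem czcc3_ok : DOK czcc3 czce_P 24 := ⟨czcc3_h, czcc3_e⟩
theorem cztn1_1 : ∀ i < 20, (cztn1.ent H20.J4.A0.P czth_P czx_P czx_P czce_P (nat_lit 13) (nat_lit 1) H20.J4.A0.B cztl3 [cztl4, cztl5] (memO czcc3)) i = 0 := allZ_sound0 cztn1_1_0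
theorem cztn1_t {G Ω : Type*} [Group G] [MulAction G Ω] {g : ℕ → G} {pt : ℕ → Ω}
    (M : Md g pt H20.J4.A0.P 24 13 H20.J4.A0.B 887040) : TrO (gen (wds g czth_W) cztl3.K) (wds g czx_W) (wds g czx_W) 1 pt 24 (cztl3.Pt 0) (memO czcc3) :=
  node M (czt_S3 M) (czth_act M) (czx_act M) (czx_act M) cztn1 ((czce_act M).mono (by decide)) (fun _ _ => trivial) cztn1_0 cztn1_1 (List.forall_mem_nil _)
theorem czcc1_e : ∀ i < 15, (dent czcc1 czce_P (nat_lit 24)) i = 0 := allZ_sound0 czcc1_e_0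
theorem czcc1_ok : DOK czcc1 czce_P 24 := ⟨czcc1_h, czcc1_e⟩
theorem cztn2_1 : ∀ i < 22, (cztn2.ent H20.J4.A0.P czth_P czx_P czx_P czce_P (nat_lit 13) (nat_lit 1) H20.J4.A0.B cztl1 [cztl2, cztl3, cztl4, cztl5] (memO czcc1)) i = 0 := allZ_sound0 cztn2_1_0
theorem cztn2_t {G Ω : Type*} [Group G] [MulAction G Ω] {g : ℕ → G} {pt : ℕ → Ω}
    (M : Md g pt H20.J4.A0.P 24 13 H20.J4.A0.B 887040) : TrO (gen (wds g czth_W) cztl1.K) (wds g czx_W) (wds g czx_W) 1 pt 24 (cztl1.Pt 0) (memO czcc1) :=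
  node M (czt_S1 M) (czth_act M) (czx_act M) (czx_act M) cztn2 ((czce_act M).mono (by decide)) (fun _ _ => trivial) cztn2_0 cztn2_1 (List.forall_mem_nil _)
theorem czcc0_e : ∀ i < 1, (dent czcc0 czce_P (nat_lit 24)) i = 0 := allZ_sound0 czcc0_e_0
theorem czcc0_ok : DOK czcc0 czce_P 24 := ⟨czcc0_h, czcc0_e⟩
theorem cztn3_1 : ∀ i < 2, (cztn3.ent H20.J4.A0.P czth_P czx_P czx_P czce_P (nat_lit 13) (nat_lit 1) H20.J4.A0.B cztl0 [cztl1, cztl2, cztl3, cztl4, cztl5] (memO czcc0)) i = 0 := allZ_sound0 cztn3_1_0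
theorem cztn3_t {G Ω : Type*} [Group G] [MulAction G Ω] {g : ℕ → G} {pt : ℕ → Ω}
    (M : Md g pt H20.J4.A0.P 24 13 H20.J4.A0.B 887040) : TrO (gen (wds g czth_W) cztl0.K) (wds g czx_W) (wds g czx_W) 1 pt 24 (cztl0.Pt 0) (memO czcc0) :=
  node M (czt_S0 M) (czth_act M) (czx_act M) (czx_act M) cztn3 ((czce_act M).mono (by decide)) (fun _ _ => trivial) cztn3_0 cztn3_1 (List.forall_mem_nil _)
theorem czc {G Ω : Type*} [Group G] [MulAction G Ω] {g : ℕ → G} {pt : ℕ → Ω}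
    (M : Md g pt H20.J4.A0.P 24 13 H20.J4.A0.B 887040) : Cen ⊤ (wds g czx_W) 1 (wds g czce_W) pt 24 [czcc0, czcc1, czcc3, czcc5] :=
  (czt_S0 M).top ▸ Cen.lev M (czt_S0 M) (Cen.lev M (czt_S1 M) (Cen.triv (czt_S2 M) (Cen.lev M (czt_S3 M) (Cen.triv (czt_S4 M) (Cen.lev M (czt_S5 M) (Cen.bot) (cztn0_t M) (czx_act M) (czce_act M) (fun _ _ => trivial) czcc5_ok czc_f5) (forced (czt_S4 M) (czth_act M) (czx_act M) _ _ czc_f4)) (cztn1_t M) (czx_act M) (czce_act M) (fun _ _ => trivial) czcc3_ok czc_f3) (forced (czt_S2 M) (czth_act M) (czx_act M) _ _ czc_f2)) (cztn2_t M) (czx_act M) (czce_act M) (fun _ _ => trivial) czcc1_ok czc_f1) (cztn3_t M) (czx_act M) (czce_act M) (fun _ _ => trivial) czcc0_ok czc_f0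
theorem czc_card {G Ω : Type*} [Group G] [MulAction G Ω] {g : ℕ → G} {pt : ℕ → Ω}
    (M : Md g pt H20.J4.A0.P 24 13 H20.J4.A0.B 887040) : Nat.card (Subgroup.centralizer {(wds g czx_W) 0}) = 768 :=
  (czc M).card_cent1 M.inj czc_c.1
theorem czc_eq {G Ω : Type*} [Group G] [MulAction G Ω] {g : ℕ → G} {pt : ℕ → Ω}
    (M : Md g pt H20.J4.A0.P 24 13 H20.J4.A0.B 887040) : Subgroup.centralizer (gen (wds g czx_W) 1) = gen (wds g czce_W) 4 ∧ Nat.card (gen (wds g czce_W) 4) = 768 :=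
  czc_c.1 ▸ czc_c.2 ▸ ⟨(czc M).cent, (czc M).card M.inj⟩
theorem cz {G Ω : Type*} [Group G] [MulAction G Ω] {g : ℕ → G} {pt : ℕ → Ω}
    (M : Md g pt H20.J4.A0.P 24 13 H20.J4.A0.B 887040) : Nat.card (Subgroup.centralizer {(wds g rp_W) 0}) = 768 :=
  czc_card M
theorem csx_act {G Ω : Type*} [Group G] [MulAction G Ω] {g : ℕ → G} {pt : ℕ → Ω}
    (M : Md g pt H20.J4.A0.P 24 13 H20.J4.A0.B 887040) : Act (wds g csx_W) pt csx_P 24 1 :=
  M.wact csx_lt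
theorem csth_act {G Ω : Type*} [Group G] [MulAction G Ω] {g : ℕ → G} {pt : ℕ → Ω}
    (M : Md g pt H20.J4.A0.P 24 13 H20.J4.A0.B 887040) : Act (wds g csth_W) pt csth_P 24 17 :=
  M.wact csth_lt
theorem cstl0_e : ∀ i < 1, (dent cstl0 csth_P (nat_lit 24)) i = 0 := allZ_sound0 cstl0_e_0
theorem cstl0_ok : DOK cstl0 csth_P 24 := ⟨cstl0_h, cstl0_e⟩
theorem cstl1_e : ∀ i < 21, (dent cstl1 csth_P (nat_lit 24)) i = 0 := allZ_sound0 cstl1_e_0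
theorem cstl1_ok : DOK cstl1 csth_P 24 := ⟨cstl1_h, cstl1_e⟩
theorem cstl2_e : ∀ i < 20, (dent cstl2 csth_P (nat_lit 24)) i = 0 := allZ_sound0 cstl2_e_0
theorem cstl2_ok : DOK cstl2 csth_P 24 := ⟨cstl2_h, cstl2_e⟩
theorem cstl3_e : ∀ i < 19, (dent cstl3 csth_P (nat_lit 24)) i = 0 := allZ_sound0 cstl3_e_0
theorem cstl3_ok : DOK cstl3 csth_P 24 := ⟨cstl3_h, cstl3_e⟩
theorem cstl4_e : ∀ i < 2, (dent cstl4 csth_P (nat_lit 24)) i = 0 := allZ_sound0 cstl4_e_0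
theorem cstl4_ok : DOK cstl4 csth_P 24 := ⟨cstl4_h, cstl4_e⟩
theorem cstl5_e : ∀ i < 15, (dent cstl5 csth_P (nat_lit 24)) i = 0 := allZ_sound0 cstl5_e_0
theorem cstl5_ok : DOK cstl5 csth_P 24 := ⟨cstl5_h, cstl5_e⟩
theorem cst_low {G Ω : Type*} [Group G] [MulAction G Ω] {g : ℕ → G} {pt : ℕ → Ω}
    (M : Md g pt H20.J4.A0.P 24 13 H20.J4.A0.B 887040) : SLow (gi (wds g csth_W)) pt 24 [cstl0, cstl1, cstl2, cstl3, cstl4, cstl5] :=
  ((((((SLow.nil).cons cstl5_ok (csth_act M) cst_f5).cons cstl4_ok (csth_act M) cst_f4).cons cstl3_ok (csth_act M) cst_f3).cons cstl2_ok (csth_act M) cst_f2).cons cstl1_ok (csth_act M) cst_f1).cons cstl0_ok (csth_act M) cst_f0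
theorem cst_S0 {G Ω : Type*} [Group G] [MulAction G Ω] {g : ℕ → G} {pt : ℕ → Ω}
    (M : Md g pt H20.J4.A0.P 24 13 H20.J4.A0.B 887040) : Stage ⊤ (wds g csth_W) pt 24 [cstl0, cstl1, cstl2, cstl3, cstl4, cstl5] [] :=
  M.stage (cst_low M) cst_c
theorem cst_S1 {G Ω : Type*} [Group G] [MulAction G Ω] {g : ℕ → G} {pt : ℕ → Ω}
    (M : Md g pt H20.J4.A0.P 24 13 H20.J4.A0.B 887040) : Stage ⊤ (wds g csth_W) pt 24 [cstl1, cstl2, cstl3, cstl4, cstl5] [cstl0.Pt 0] :=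
  (cst_S0 M).next
theorem cst_S2 {G Ω : Type*} [Group G] [MulAction G Ω] {g : ℕ → G} {pt : ℕ → Ω}
    (M : Md g pt H20.J4.A0.P 24 13 H20.J4.A0.B 887040) : Stage ⊤ (wds g csth_W) pt 24 [cstl2, cstl3, cstl4, cstl5] [cstl1.Pt 0, cstl0.Pt 0] :=
  (cst_S1 M).next
theorem cst_S3 {G Ω : Type*} [Group G] [MulAction G Ω] {g : ℕ → G} {pt : ℕ → Ω}
    (M : Md g pt H20.J4.A0.P 24 13 H20.J4.A0.B 887040) : Stage ⊤ (wds g csth_W) pt 24 [cstl3, cstl4, cstl5] [cstl2.Pt 0, cstl1.Pt 0, cstl0.Pt 0] :=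
  (cst_S2 M).next
theorem cst_S4 {G Ω : Type*} [Group G] [MulAction G Ω] {g : ℕ → G} {pt : ℕ → Ω}
    (M : Md g pt H20.J4.A0.P 24 13 H20.J4.A0.B 887040) : Stage ⊤ (wds g csth_W) pt 24 [cstl4, cstl5] [cstl3.Pt 0, cstl2.Pt 0, cstl1.Pt 0, cstl0.Pt 0] :=
  (cst_S3 M).next
theorem cst_S5 {G Ω : Type*} [Group G] [MulAction G Ω] {g : ℕ → G} {pt : ℕ → Ω}
    (M : Md g pt H20.J4.A0.P 24 13 H20.J4.A0.B 887040) : Stage ⊤ (wds g csth_W) pt 24 [cstl5] [cstl4.Pt 0, cstl3.Pt 0, cstl2.Pt 0, cstl1.Pt 0, cstl0.Pt 0] :=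
  (cst_S4 M).next
theorem cst_S6 {G Ω : Type*} [Group G] [MulAction G Ω] {g : ℕ → G} {pt : ℕ → Ω}
    (M : Md g pt H20.J4.A0.P 24 13 H20.J4.A0.B 887040) : Stage ⊤ (wds g csth_W) pt 24 [] [cstl5.Pt 0, cstl4.Pt 0, cstl3.Pt 0, cstl2.Pt 0, cstl1.Pt 0, cstl0.Pt 0] :=
  (cst_S5 M).next
theorem csce_act {G Ω : Type*} [Group G] [MulAction G Ω] {g : ℕ → G} {pt : ℕ → Ω}
    (M : Md g pt H20.J4.A0.P 24 13 H20.J4.A0.B 887040) : Act (wds g csce_W) pt csce_P 24 6 :=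
  M.wact csce_lt
theorem cscc5_e : ∀ i < 7, (dent cscc5 csce_P (nat_lit 24)) i = 0 := allZ_sound0 cscc5_e_0
theorem cscc5_ok : DOK cscc5 csce_P 24 := ⟨cscc5_h, cscc5_e⟩
theorem cstn0_1 : ∀ i < 16, (cstn0.ent H20.J4.A0.P csth_P csx_P csx_P csce_P (nat_lit 13) (nat_lit 1) H20.J4.A0.B cstl5 [] (memO cscc5)) i = 0 := allZ_sound0 cstn0_1_0
theorem cstn0_t {G Ω : Type*} [Group G] [MulAction G Ω] {g : ℕ → G} {pt : ℕ → Ω}
    (M : Md g pt H20.J4.A0.P 24 13 H20.J4.A0.B 887040) : TrO (gen (wds g csth_W) cstl5.K) (wds g csx_W) (wds g csx_W) 1 pt 24 (cstl5.Pt 0) (memO cscc5) :=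
  node M (cst_S5 M) (csth_act M) (csx_act M) (csx_act M) cstn0 ((csce_act M).mono (by decide)) (fun _ _ => trivial) cstn0_0 cstn0_1 (List.forall_mem_nil _)
theorem cscc3_e : ∀ i < 11, (dent cscc3 csce_P (nat_lit 24)) i = 0 := allZ_sound0 cscc3_e_0
theorem cscc3_ok : DOK cscc3 csce_P 24 := ⟨cscc3_h, cscc3_e⟩
theorem cstn1_1 : ∀ i < 20, (cstn1.ent H20.J4.A0.P csth_P csx_P csx_P csce_P (nat_lit 13) (nat_lit 1) H20.J4.A0.B cstl3 [cstl4, cstl5] (memO cscc3)) i = 0 := allZ_sound0 cstn1_1_0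
theorem cstn1_t {G Ω : Type*} [Group G] [MulAction G Ω] {g : ℕ → G} {pt : ℕ → Ω}
    (M : Md g pt H20.J4.A0.P 24 13 H20.J4.A0.B 887040) : TrO (gen (wds g csth_W) cstl3.K) (wds g csx_W) (wds g csx_W) 1 pt 24 (cstl3.Pt 0) (memO cscc3) :=
  node M (cst_S3 M) (csth_act M) (csx_act M) (csx_act M) cstn1 ((csce_act M).mono (by decide)) (fun _ _ => trivial) cstn1_0 cstn1_1 (List.forall_mem_nil _)
theorem cscc1_e : ∀ i < 13, (dent cscc1 csce_P (nat_lit 24)) i = 0 := allZ_sound0 cscc1_e_0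
theorem cscc1_ok : DOK cscc1 csce_P 24 := ⟨cscc1_h, cscc1_e⟩
theorem cstn2_1 : ∀ i < 22, (cstn2.ent H20.J4.A0.P csth_P csx_P csx_P csce_P (nat_lit 13) (nat_lit 1) H20.J4.A0.B cstl1 [cstl2, cstl3, cstl4, cstl5] (memO cscc1)) i = 0 := allZ_sound0 cstn2_1_0
theorem cstn2_t {G Ω : Type*} [Group G] [MulAction G Ω] {g : ℕ → G} {pt : ℕ → Ω}
    (M : Md g pt H20.J4.A0.P 24 13 H20.J4.A0.B 887040) : TrO (gen (wds g csth_W) cstl1.K) (wds g csx_W) (wds g csx_W) 1 pt 24 (cstl1.Pt 0) (memO cscc1) :=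
  node M (cst_S1 M) (csth_act M) (csx_act M) (csx_act M) cstn2 ((csce_act M).mono (by decide)) (fun _ _ => trivial) cstn2_0 cstn2_1 (List.forall_mem_nil _)
theorem cscc0_e : ∀ i < 1, (dent cscc0 csce_P (nat_lit 24)) i = 0 := allZ_sound0 cscc0_e_0
theorem cscc0_ok : DOK cscc0 csce_P 24 := ⟨cscc0_h, cscc0_e⟩
theorem cstn3_1 : ∀ i < 2, (cstn3.ent H20.J4.A0.P csth_P csx_P csx_P csce_P (nat_lit 13) (nat_lit 1) H20.J4.A0.B cstl0 [cstl1, cstl2, cstl3, cstl4, cstl5] (memO cscc0)) i = 0 := allZ_sound0 cstn3_1_0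
theorem cstn3_t {G Ω : Type*} [Group G] [MulAction G Ω] {g : ℕ → G} {pt : ℕ → Ω}
    (M : Md g pt H20.J4.A0.P 24 13 H20.J4.A0.B 887040) : TrO (gen (wds g csth_W) cstl0.K) (wds g csx_W) (wds g csx_W) 1 pt 24 (cstl0.Pt 0) (memO cscc0) :=
  node M (cst_S0 M) (csth_act M) (csx_act M) (csx_act M) cstn3 ((csce_act M).mono (by decide)) (fun _ _ => trivial) cstn3_0 cstn3_1 (List.forall_mem_nil _)
theorem csc {G Ω : Type*} [Group G] [MulAction G Ω] {g : ℕ → G} {pt : ℕ → Ω}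
    (M : Md g pt H20.J4.A0.P 24 13 H20.J4.A0.B 887040) : Cen ⊤ (wds g csx_W) 1 (wds g csce_W) pt 24 [cscc0, cscc1, cscc3, cscc5] :=
  (cst_S0 M).top ▸ Cen.lev M (cst_S0 M) (Cen.lev M (cst_S1 M) (Cen.triv (cst_S2 M) (Cen.lev M (cst_S3 M) (Cen.triv (cst_S4 M) (Cen.lev M (cst_S5 M) (Cen.bot) (cstn0_t M) (csx_act M) (csce_act M) (fun _ _ => trivial) cscc5_ok csc_f5) (forced (cst_S4 M) (csth_act M) (csx_act M) _ _ csc_f4)) (cstn1_t M) (csx_act M) (csce_act M) (fun _ _ => trivial) cscc3_ok csc_f3) (forced (cst_S2 M) (csth_act M) (csx_act M) _ _ csc_f2)) (cstn2_t M) (csx_act M) (csce_act M) (fun _ _ => trivial) cscc1_ok csc_f1) (cstn3_t M) (csx_act M) (csce_act M) (fun _ _ => trivial) cscc0_ok csc_f0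
theorem csc_card {G Ω : Type*} [Group G] [MulAction G Ω] {g : ℕ → G} {pt : ℕ → Ω}
    (M : Md g pt H20.J4.A0.P 24 13 H20.J4.A0.B 887040) : Nat.card (Subgroup.centralizer {(wds g csx_W) 0}) = 2688 :=
  (csc M).card_cent1 M.inj csc_c.1
theorem csc_eq {G Ω : Type*} [Group G] [MulAction G Ω] {g : ℕ → G} {pt : ℕ → Ω}
    (M : Md g pt H20.J4.A0.P 24 13 H20.J4.A0.B 887040) : Subgroup.centralizer (gen (wds g csx_W) 1) = gen (wds g csce_W) 6 ∧ Nat.card (gen (wds g csce_W) 6) = 2688 :=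
  csc_c.1 ▸ csc_c.2 ▸ ⟨(csc M).cent, (csc M).card M.inj⟩
theorem cs {G Ω : Type*} [Group G] [MulAction G Ω] {g : ℕ → G} {pt : ℕ → Ω}
    (M : Md g pt H20.J4.A0.P 24 13 H20.J4.A0.B 887040) : Nat.card (Subgroup.centralizer {(wds g rp_W) 1}) = 2688 :=
  csc_card M
theorem ccx_act {G Ω : Type*} [Group G] [MulAction G Ω] {g : ℕ → G} {pt : ℕ → Ω}
    (M : Md g pt H20.J4.A0.P 24 13 H20.J4.A0.B 887040) : Act (wds g ccx_W) pt ccx_P 24 1 :=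
  M.wact ccx_lt
theorem ccth_act {G Ω : Type*} [Group G] [MulAction G Ω] {g : ℕ → G} {pt : ℕ → Ω}
    (M : Md g pt H20.J4.A0.P 24 13 H20.J4.A0.B 887040) : Act (wds g ccth_W) pt ccth_P 24 14 :=
  M.wact ccth_lt
theorem cctl0_e : ∀ i < 1, (dent cctl0 ccth_P (nat_lit 24)) i = 0 := allZ_sound0 cctl0_e_0
theorem cctl0_ok : DOK cctl0 ccth_P 24 := ⟨cctl0_h, cctl0_e⟩
theorem cctl1_e : ∀ i < 21, (dent cctl1 ccth_P (nat_lit 24)) i = 0 := allZ_sound0 cctl1_e_0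
theorem cctl1_ok : DOK cctl1 ccth_P 24 := ⟨cctl1_h, cctl1_e⟩
theorem cctl2_e : ∀ i < 20, (dent cctl2 ccth_P (nat_lit 24)) i = 0 := allZ_sound0 cctl2_e_0
theorem cctl2_ok : DOK cctl2 ccth_P 24 := ⟨cctl2_h, cctl2_e⟩
theorem cctl3_e : ∀ i < 19, (dent cctl3 ccth_P (nat_lit 24)) i = 0 := allZ_sound0 cctl3_e_0
theorem cctl3_ok : DOK cctl3 ccth_P 24 := ⟨cctl3_h, cctl3_e⟩
theorem cctl4_e : ∀ i < 15, (dent cctl4 ccth_P (nat_lit 24)) i = 0 := allZ_sound0 cctl4_e_0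
theorem cctl4_ok : DOK cctl4 ccth_P 24 := ⟨cctl4_h, cctl4_e⟩
theorem cctl5_e : ∀ i < 2, (dent cctl5 ccth_P (nat_lit 24)) i = 0 := allZ_sound0 cctl5_e_0
theorem cctl5_ok : DOK cctl5 ccth_P 24 := ⟨cctl5_h, cctl5_e⟩
theorem cct_low {G Ω : Type*} [Group G] [MulAction G Ω] {g : ℕ → G} {pt : ℕ → Ω}
    (M : Md g pt H20.J4.A0.P 24 13 H20.J4.A0.B 887040) : SLow (gi (wds g ccth_W)) pt 24 [cctl0, cctl1, cctl2, cctl3, cctl4, cctl5] :=
  ((((((SLow.nil).cons cctl5_ok (ccth_act M) cct_f5).cons cctl4_ok (ccth_act M) cct_f4).cons cctl3_ok (ccth_act M) cct_f3).cons cctl2_ok (ccth_act M) cct_f2).cons cctl1_ok (ccth_act M) cct_f1).cons cctl0_ok (ccth_act M) cct_f0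
theorem cct_S0 {G Ω : Type*} [Group G] [MulAction G Ω] {g : ℕ → G} {pt : ℕ → Ω}
    (M : Md g pt H20.J4.A0.P 24 13 H20.J4.A0.B 887040) : Stage ⊤ (wds g ccth_W) pt 24 [cctl0, cctl1, cctl2, cctl3, cctl4, cctl5] [] :=
  M.stage (cct_low M) cct_c
theorem cct_S1 {G Ω : Type*} [Group G] [MulAction G Ω] {g : ℕ → G} {pt : ℕ → Ω}
    (M : Md g pt H20.J4.A0.P 24 13 H20.J4.A0.B 887040) : Stage ⊤ (wds g ccth_W) pt 24 [cctl1, cctl2, cctl3, cctl4, cctl5] [cctl0.Pt 0] :=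
  (cct_S0 M).next
theorem cct_S2 {G Ω : Type*} [Group G] [MulAction G Ω] {g : ℕ → G} {pt : ℕ → Ω}
    (M : Md g pt H20.J4.A0.P 24 13 H20.J4.A0.B 887040) : Stage ⊤ (wds g ccth_W) pt 24 [cctl2, cctl3, cctl4, cctl5] [cctl1.Pt 0, cctl0.Pt 0] :=
  (cct_S1 M).next
theorem cct_S3 {G Ω : Type*} [Group G] [MulAction G Ω] {g : ℕ → G} {pt : ℕ → Ω}
    (M : Md g pt H20.J4.A0.P 24 13 H20.J4.A0.B 887040) : Stage ⊤ (wds g ccth_W) pt 24 [cctl3, cctl4, cctl5] [cctl2.Pt 0, cctl1.Pt 0, cctl0.Pt 0] :=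
  (cct_S2 M).next
theorem cct_S4 {G Ω : Type*} [Group G] [MulAction G Ω] {g : ℕ → G} {pt : ℕ → Ω}
    (M : Md g pt H20.J4.A0.P 24 13 H20.J4.A0.B 887040) : Stage ⊤ (wds g ccth_W) pt 24 [cctl4, cctl5] [cctl3.Pt 0, cctl2.Pt 0, cctl1.Pt 0, cctl0.Pt 0] :=
  (cct_S3 M).next
theorem cct_S5 {G Ω : Type*} [Group G] [MulAction G Ω] {g : ℕ → G} {pt : ℕ → Ω}
    (M : Md g pt H20.J4.A0.P 24 13 H20.J4.A0.B 887040) : Stage ⊤ (wds g ccth_W) pt 24 [cctl5] [cctl4.Pt 0, cctl3.Pt 0, cctl2.Pt 0, cctl1.Pt 0, cctl0.Pt 0] :=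
  (cct_S4 M).next
theorem cct_S6 {G Ω : Type*} [Group G] [MulAction G Ω] {g : ℕ → G} {pt : ℕ → Ω}
    (M : Md g pt H20.J4.A0.P 24 13 H20.J4.A0.B 887040) : Stage ⊤ (wds g ccth_W) pt 24 [] [cctl5.Pt 0, cctl4.Pt 0, cctl3.Pt 0, cctl2.Pt 0, cctl1.Pt 0, cctl0.Pt 0] :=
  (cct_S5 M).next
theorem ccce_act {G Ω : Type*} [Group G] [MulAction G Ω] {g : ℕ → G} {pt : ℕ → Ω}
    (M : Md g pt H20.J4.A0.P 24 13 H20.J4.A0.B 887040) : Act (wds g ccce_W) pt ccce_P 24 6 :=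
  M.wact ccce_lt
theorem cctn0_1 : ∀ i < 3, (cctn0.ent H20.J4.A0.P ccth_P ccx_P ccx_P ccce_P (nat_lit 13) (nat_lit 1) H20.J4.A0.B cctl5 [] (fun w => Nat.xor w (cctl5.Pt (nat_lit 0)))) i = 0 := allZ_sound0 cctn0_1_0
theorem cctn0_t {G Ω : Type*} [Group G] [MulAction G Ω] {g : ℕ → G} {pt : ℕ → Ω}
    (M : Md g pt H20.J4.A0.P 24 13 H20.J4.A0.B 887040) : TrO (gen (wds g ccth_W) cctl5.K) (wds g ccx_W) (wds g ccx_W) 1 pt 24 (cctl5.Pt 0) (fun w => Nat.xor w (cctl5.Pt (nat_lit 0))) :=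
  node M (cct_S5 M) (ccth_act M) (ccx_act M) (ccx_act M) cctn0 ((ccce_act M).mono (by decide)) (fun _ _ => trivial) cctn0_0 cctn0_1 (List.forall_mem_nil _)
theorem cccc3_e : ∀ i < 15, (dent cccc3 ccce_P (nat_lit 24)) i = 0 := allZ_sound0 cccc3_e_0
theorem cccc3_ok : DOK cccc3 ccce_P 24 := ⟨cccc3_h, cccc3_e⟩
theorem cctn1_1 : ∀ i < 20, (cctn1.ent H20.J4.A0.P ccth_P ccx_P ccx_P ccce_P (nat_lit 13) (nat_lit 1) H20.J4.A0.B cctl3 [cctl4, cctl5] (memO cccc3)) i = 0 := allZ_sound0 cctn1_1_0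
theorem cctn1_t {G Ω : Type*} [Group G] [MulAction G Ω] {g : ℕ → G} {pt : ℕ → Ω}
    (M : Md g pt H20.J4.A0.P 24 13 H20.J4.A0.B 887040) : TrO (gen (wds g ccth_W) cctl3.K) (wds g ccx_W) (wds g ccx_W) 1 pt 24 (cctl3.Pt 0) (memO cccc3) :=
  node M (cct_S3 M) (ccth_act M) (ccx_act M) (ccx_act M) cctn1 ((ccce_act M).mono (by decide)) (fun _ _ => trivial) cctn1_0 cctn1_1 (List.forall_mem_nil _)
theorem cccc1_e : ∀ i < 19, (dent cccc1 ccce_P (nat_lit 24)) i = 0 := allZ_sound0 cccc1_e_0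
theorem cccc1_ok : DOK cccc1 ccce_P 24 := ⟨cccc1_h, cccc1_e⟩
theorem cctn2y18_act {G Ω : Type*} [Group G] [MulAction G Ω] {g : ℕ → G} {pt : ℕ → Ω}
    (M : Md g pt H20.J4.A0.P 24 13 H20.J4.A0.B 887040) : Act (wds g cctn2y18_W) pt cctn2y18_P 24 1 :=
  M.wact cctn2y18_lt
theorem cctr3k_act {G Ω : Type*} [Group G] [MulAction G Ω] {g : ℕ → G} {pt : ℕ → Ω}
    (M : Md g pt H20.J4.A0.P 24 13 H20.J4.A0.B 887040) : Act (wds g cctr3k_W) pt cctr3k_P 24 3 :=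
  M.wact cctr3k_lt
theorem cctn3_1 : ∀ i < 20, (cctn3.ent H20.J4.A0.P ccth_P ccx_P cctn2y18_P cctr3k_P (nat_lit 13) (nat_lit 1) H20.J4.A0.B cctl3 [cctl4, cctl5] (fun _ => nat_lit 1)) i = 0 := allZ_sound0 cctn3_1_0
theorem cctn3_t {G Ω : Type*} [Group G] [MulAction G Ω] {g : ℕ → G} {pt : ℕ → Ω}
    (M : Md g pt H20.J4.A0.P 24 13 H20.J4.A0.B 887040) : TrO (gen (wds g ccth_W) cctl3.K) (wds g ccx_W) (wds g cctn2y18_W) 1 pt 24 (cctl3.Pt 0) (fun _ => nat_lit 1) :=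
  node M (cct_S3 M) (ccth_act M) (ccx_act M) (cctn2y18_act M) cctn3 ((cctr3k_act M).mono (by decide)) (fun _ _ => trivial) cctn3_0 cctn3_1 (List.forall_mem_nil _)
theorem cctr3 {G Ω : Type*} [Group G] [MulAction G Ω] {g : ℕ → G} {pt : ℕ → Ω}
    (M : Md g pt H20.J4.A0.P 24 13 H20.J4.A0.B 887040) : Ref (gen (wds g ccth_W) (topK [cctl3, cctl4, cctl5])) (wds g ccx_W) (wds g cctn2y18_W) 1 :=
  (cctn3_t M).ref
theorem cctn2_1 : ∀ i < 22, (cctn2.ent H20.J4.A0.P ccth_P ccx_P ccx_P ccce_P (nat_lit 13) (nat_lit 1) H20.J4.A0.B cctl1 [cctl2, cctl3, cctl4, cctl5] (memO cccc1)) i = 0 := allZ_sound0 cctn2_1_0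
theorem cctn2_t {G Ω : Type*} [Group G] [MulAction G Ω] {g : ℕ → G} {pt : ℕ → Ω}
    (M : Md g pt H20.J4.A0.P 24 13 H20.J4.A0.B 887040) : TrO (gen (wds g ccth_W) cctl1.K) (wds g ccx_W) (wds g ccx_W) 1 pt 24 (cctl1.Pt 0) (memO cccc1) :=
  node M (cct_S1 M) (ccth_act M) (ccx_act M) (ccx_act M) cctn2 ((ccce_act M).mono (by decide)) (fun _ _ => trivial) cctn2_0 cctn2_1 (List.forall_mem_cons.2 ⟨cctr3 M, List.forall_mem_nil _⟩)
theorem cccc0_e : ∀ i < 1, (dent cccc0 ccce_P (nat_lit 24)) i = 0 := allZ_sound0 cccc0_e_0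
theorem cccc0_ok : DOK cccc0 ccce_P 24 := ⟨cccc0_h, cccc0_e⟩
theorem cctn4_1 : ∀ i < 2, (cctn4.ent H20.J4.A0.P ccth_P ccx_P ccx_P ccce_P (nat_lit 13) (nat_lit 1) H20.J4.A0.B cctl0 [cctl1, cctl2, cctl3, cctl4, cctl5] (memO cccc0)) i = 0 := allZ_sound0 cctn4_1_0
theorem cctn4_t {G Ω : Type*} [Group G] [MulAction G Ω] {g : ℕ → G} {pt : ℕ → Ω}
    (M : Md g pt H20.J4.A0.P 24 13 H20.J4.A0.B 887040) : TrO (gen (wds g ccth_W) cctl0.K) (wds g ccx_W) (wds g ccx_W) 1 pt 24 (cctl0.Pt 0) (memO cccc0) :=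
  node M (cct_S0 M) (ccth_act M) (ccx_act M) (ccx_act M) cctn4 ((ccce_act M).mono (by decide)) (fun _ _ => trivial) cctn4_0 cctn4_1 (List.forall_mem_nil _)
theorem ccc {G Ω : Type*} [Group G] [MulAction G Ω] {g : ℕ → G} {pt : ℕ → Ω}
    (M : Md g pt H20.J4.A0.P 24 13 H20.J4.A0.B 887040) : Cen ⊤ (wds g ccx_W) 1 (wds g ccce_W) pt 24 [cccc0, cccc1, cccc3] :=
  (cct_S0 M).top ▸ Cen.lev M (cct_S0 M) (Cen.lev M (cct_S1 M) (Cen.triv (cct_S2 M) (Cen.lev M (cct_S3 M) (Cen.triv (cct_S4 M) (Cen.triv (cct_S5 M) (Cen.bot) (cctn0_t M)) (forced (cct_S4 M) (ccth_act M) (ccx_act M) _ _ ccc_f4)) (cctn1_t M) (ccx_act M) (ccce_act M) (fun _ _ => trivial) cccc3_ok ccc_f3) (forced (cct_S2 M) (ccth_act M) (ccx_act M) _ _ ccc_f2)) (cctn2_t M) (ccx_act M) (ccce_act M) (fun _ _ => trivial) cccc1_ok ccc_f1) (cctn4_t M) (ccx_act M) (ccce_act M) (fun _ _ => trivial) cccc0_ok ccc_f0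
theorem ccc_card {G Ω : Type*} [Group G] [MulAction G Ω] {g : ℕ → G} {pt : ℕ → Ω}
    (M : Md g pt H20.J4.A0.P 24 13 H20.J4.A0.B 887040) : Nat.card (Subgroup.centralizer {(wds g ccx_W) 0}) = 640 :=
  (ccc M).card_cent1 M.inj ccc_c.1
theorem ccc_eq {G Ω : Type*} [Group G] [MulAction G Ω] {g : ℕ → G} {pt : ℕ → Ω}
    (M : Md g pt H20.J4.A0.P 24 13 H20.J4.A0.B 887040) : Subgroup.centralizer (gen (wds g ccx_W) 1) = gen (wds g ccce_W) 6 ∧ Nat.card (gen (wds g ccce_W) 6) = 640 :=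
  ccc_c.1 ▸ ccc_c.2 ▸ ⟨(ccc M).cent, (ccc M).card M.inj⟩
theorem cc {G Ω : Type*} [Group G] [MulAction G Ω] {g : ℕ → G} {pt : ℕ → Ω}
    (M : Md g pt H20.J4.A0.P 24 13 H20.J4.A0.B 887040) : Nat.card (Subgroup.centralizer {(wds g rp_W) 2}) = 640 :=
  ccc_card M

end H21.JF
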