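import Cfsg.Agent.H21.DL12
import Cfsg.Agent.H5.FTB2

/-! Linear groups of degree less than `p - 1`, I: Sylow subgroups of order `p`. -/

open Cfsg
open H5 H7 H8
namespace H21.LF
open Module Finset Subgroup DL
open scoped ComplexConjugate MatrixGroups

variable {G : Type*} [Group G] [Finite G] {p : ℕ} {x : G}
local notation "𝐍" x:max => normalizer (SetLike.coe (zpowers x))
local notation "𝐂" x:max => centralizer ({x} : Set _)

theorem aq_add_le (hp : p.Prime) (hx : orderOf x = p) {χ : G → ℂ} (hχ : IsCharacter G χ)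
    (h1 : χ x ≠ χ 1) {m : (zpowers x →* ℂˣ) → ℕ} (hm : FM (fun u : zpowers x => χ u) m) :
    aq x + m 1 ≤ charDegree χ := by
  classical
  obtain ⟨μ, hμ, h2⟩ : ∃ μ ≠ 1, m μ ≠ 0 := by
    by_contra! h
    have : ∀ a : zpowers x, χ a = m 1 := fun a => by
      rw [show χ a = _ from hm.apply a, sum_eq_single 1 (fun l _ hl => by simp [h l hl]) (by simp)]
      simp
    exact h1 ((this ⟨x, mem_zpowers x⟩).trans (this 1).symm)
  rw [← card_aE, ← (free_aE hp hx).card_crel hμ, show charDegree χ = _ from H6.charDegree_eq hm.one,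
    ← add_sum_erase _ _ (mem_univ 1), add_comm, card_filter, ← add_sum_erase _ _ (mem_univ 1),
    if_neg fun H => CRel.ne_one H hμ rfl, zero_add]
  refine Nat.add_le_add_left (sum_le_sum fun l _ => ?_) _
  split_ifs with h
  · rw [hm.crel (by rintro _ ⟨n, rfl⟩ a; exact hχ.isClassFunction _ _) h]; omega
  · omega

theorem lemM [hp : Fact p.Prime] (hx : orderOf x = p) (hi : ¬ p ∣ (zpowers x).index)
    (hn : ¬ (zpowers x).Normal) {χ : IrrCharacter G} (hf : ∀ g, χ.1 g = χ.1 1 → g = 1)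
    (h2 : charDegree χ.1 + 2 ≤ p) : (∀ c ∈ 𝐂 x, ¬ p ∣ orderOf c → c ∈ center G) ∧
    ∃ m, FM (fun u : zpowers x => χ.1 u) m ∧ (∀ l, m l ≤ 1) ∧
      p + 2 * m 1 ≤ 2 * charDegree χ.1 + 1 := by
  classical
  have hχ := χ.2.isCharacter
  have hP : Nat.card (zpowers x) = p := by rw [Nat.card_zpowers, hx]
  obtain ⟨m, hm⟩ := exists_FM (hχ.restrict (zpowers x))
  rcases lt_trichotomy (2 * charDegree χ.1) p with h1 | h1 | h1
  · obtain ⟨M, hM⟩ := exists_isPModular hp.out
    have := charP_kk hM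
    have hq := aq_lt hx hi hχ hf h2
    obtain ⟨V, H, D⟩ := exists_UC ((isPGroup_zpowers_of_orderOf hx).toSylow hi)
      (cent_of_card_prime hp.out hP)
    change UC p (zpowers x) V H at D
    obtain ⟨_, e3, F, _, _, hF, ⟨e4⟩⟩ := small D hx hn
      (fun R _ => ito_cent hχ hf hp.out (by omega) hx) (by omega) (not_noSm hM hx hi hn hχ hf hm (by
      refine lt_of_le_of_lt (Nat.mul_le_mul_left _ ?_) h1
      rw [show charDegree χ.1 = _ from H6.charDegree_eq hm.one, card_filter]
      exact sum_le_sum fun l _ => by split_ifs <;> omega))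
    obtain ⟨e1, ⟨e2⟩⟩ := brauer_small hp.out (hx ▸ orderOf_dvd_natCard x) (fun H => hi (by
      rwa [← (zpowers x).card_mul_index, hP, sq, Nat.mul_dvd_mul_iff_left hp.out.pos] at H))
      (fun R _ H => hn (eq_of_le_of_card_ge (zpowers_le.2 (mem_of_dvd_of_index hp.out hx hi
        H.symm.dvd)) (H.trans hP.symm).le ▸ ‹_›)) hχ hf h1
    have h0 : (center G).index = V.index := Nat.card_congr ((e2.trans (H11.pslCongr (Equiv.refl _)
      (ZMod.ringEquivOfPrime F hp.out hF))).trans e4.symm).toEquiv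
    have h3 : center G = V := eq_of_le_of_card_ge (fun z hz => (D.memV z).2
      ⟨center_le_centralizer _ hz, fun H => cop_center hx hi hn (H.trans (orderOf_dvd_natCard _ hz))⟩)
      (Nat.eq_of_mul_eq_mul_right (Nat.pos_of_ne_zero index_ne_zero_of_finite)
        (by rw [V.card_mul_index, ← h0, card_mul_index])).le
    have h4 : χ.1 x ≠ χ.1 1 := fun e => ne_one_of_orderOf_prime hp.out hx (hf x e)
    have h5 := aq_add_le hp.out hx hχ h4 hm
    refine ⟨fun c a b => h3 ▸ (D.memV c).2 ⟨cent_zpowers x ▸ a, b⟩, m, hm, fun l => ?_, by omega⟩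
    obtain ⟨k, h6, h7⟩ := (aq_le_degree hp.out hx hχ h4).2 (by omega) l
    have : (m l : ℂ) = k := mul_left_cancel₀ (card_ne_zero_complex _) ((hm l).symm.trans h7)
    exact (Nat.cast_injective this).le.trans h6
  · have := hp.out.eq_one_or_self_of_dvd 2 ⟨_, h1.symm⟩
    have := charDegree_pos χ
    omega
  obtain ⟨e1, ⟨H, D⟩, ζ, Y, f, F, hY⟩ := part0 hx hi hn hf h1 h2
  obtain ⟨μ, hμ, rfl⟩ := (F.mem χ).1 hY
  have h3 : ∀ l, m l ≤ 1 := fun l => by
    have h4 := hm l
    have h5 := fm_orbSum (E := aE x) μ l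
    beta_reduce at h4 h5
    rw [← add_sum_erase _ _ (mem_univ 1)] at h4 h5
    rw [sum_congr rfl (g := fun u => - (orbSum (aE x) μ u * conj (l u : ℂ))) fun u hu => by
      rw [F.exc μ hμ u (ne_of_mem_erase hu)]; simp, sum_neg_distrib] at h4
    rw [F.orb_one hμ, hP] at h5
    rw [hP, OneMemClass.coe_one, irr_apply_one] at h4
    have h6 : ((m l + if CRel (aE x) μ l then 1 else 0 : ℕ) : ℂ) = (1 : ℕ) :=
      mul_left_cancel₀ (Nat.cast_ne_zero.2 hp.out.ne_zero) (by
        have : (charDegree (ζ μ).1 : ℂ) + aq x = p := by exact_mod_cast e1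
        simp only [map_one, Units.val_one, mul_one] at h4 h5
        rw [Nat.cast_add]
        linear_combination this - h4 - h5)
    have := Nat.cast_injective h6
    omega
  exact ⟨fun c a b => (D.memV c).2 ⟨cent_zpowers x ▸ a, b⟩, m, hm, h3, by have := h3 1; omega⟩

theorem lemM' [hp : Fact p.Prime] (hx : orderOf x = p) (hi : ¬ p ∣ (zpowers x).index)
    {χ : G → ℂ} (hχ : IsIrrCharacter G χ) (hn : ¬ (zpowers x ⊔ charKer χ).Normal)
    (h2 : charDegree χ + 2 ≤ p) {c : G} (hc : c ∈ 𝐂 x) (h3 : ¬ p ∣ orderOf c) :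
    c ∈ charCenter χ := by
  have := hχ.charKer_normal
  obtain ⟨ψ, hψ, e⟩ := hχ.exists_quotient (charKer χ) le_rfl
  have h4 : ¬ (zpowers (x : G ⧸ charKer χ)).Normal := fun H => hn (by
    have := H.comap (QuotientGroup.mk' _)
    rwa [← QuotientGroup.mk'_apply, ← MonoidHom.map_zpowers, comap_map_eq,
      QuotientGroup.ker_mk'] at this)
  have h5 : orderOf (x : G ⧸ charKer χ) = p :=
    orderOf_eq_prime (by rw [← QuotientGroup.mk_pow, ← hx, pow_orderOf_eq_one]; rfl)
      fun H => h4 (by rw [H, zpowers_one_eq_bot]; infer_instance)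
  have h6 := (lemM (χ := ⟨ψ, hψ⟩) h5 (fun H => hi (H.trans (index_zpowers_quot _ _))) h4
    (fun g hg => by
      obtain ⟨g, rfl⟩ := QuotientGroup.mk_surjective g
      exact (QuotientGroup.eq_one_iff g).2 (hχ.mem_charKer_iff.2 ((e g).symm.trans (hg.trans (e 1)))))
    (by change charDegree ψ + 2 ≤ p; rwa [charDegree, show ψ 1 = χ 1 from e 1])).1 c (mem_centralizer_singleton_iff.2 (by
      rw [← QuotientGroup.mk_mul, mem_centralizer_singleton_iff.1 hc, QuotientGroup.mk_mul]))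
    fun H => h3 (H.trans (orderOf_map_dvd (QuotientGroup.mk' _) c))
  rw [hχ.isCharacter.mem_charCenter_iff, ← e c, ← e 1]
  exact hψ.isCharacter.mem_charCenter_iff.1 (hψ.center_le_charCenter h6)

theorem small_top [hp : Fact p.Prime] (P : Sylow p G)
    (hM : ∀ N : Subgroup G, N.Normal → P ≤ N → N = ⊤) (hab : IsMulCommutative P) {θ : G → ℂ}
    (hθ : IsCharacter G θ) (hd : 2 * charDegree θ + 1 < p) : commutator G ≤ charKer θ := by
  have := hθ.charKer_normal
  obtain ⟨ψ, hψ, e⟩ := hθ.exists_quotient (charKer θ) le_rfl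
  have h1 : H20.deg ψ = charDegree θ := by rw [charDegree, ← e 1]; rfl
  have h2 := (FTB.small hp.out (H20.mem_Chr_top.2 hψ) (H6.charKer_eq_bot hψ fun g hg => by
      obtain ⟨g, rfl⟩ := QuotientGroup.mk_surjective g
      exact (QuotientGroup.eq_one_iff g).2 (hθ.mem_charKer_iff.2 ((e g).symm.trans (hg.trans (e 1)))))
    (by omega) (.inl (by omega)) ((H19.syl_sylow_top P).map (QuotientGroup.mk' _)))
  rw [← MonoidHom.range_eq_map, MonoidHom.range_eq_top.2 (QuotientGroup.mk'_surjective _)] at h2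
  have h3 := hM _ (h2.normal.comap (QuotientGroup.mk' _)) (le_comap_map _ _)
  rw [commutator_def, commutator_le]
  intro a _ b _
  obtain ⟨a', ha, e1⟩ : a ∈ comap _ _ := h3 ▸ mem_top a
  obtain ⟨b', hb, e2⟩ : b ∈ comap _ _ := h3 ▸ mem_top b
  rw [← QuotientGroup.eq_one_iff, ← QuotientGroup.mk'_apply, map_commutatorElement, ← e1, ← e2,
    ← map_commutatorElement, commutatorElement_eq_one_iff_mul_comm.2
      (H19.mul_comm_of_comm hab ha hb), map_one]

theorem lemD [hp : Fact p.Prime] (P : Sylow p G)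
    (hM : ∀ N : Subgroup G, N.Normal → P ≤ N → N = ⊤) (hab : IsMulCommutative P) {χ : G → ℂ}
    (hχ : IsCharacter G χ) (hd : charDegree χ + 2 ≤ p) (hk : ¬ commutator G ≤ charKer χ) :
    ∃ ψ, IsIrrCharacter G ψ ∧ IsCharacter G (χ - ψ) ∧ commutator G ≤ charKer (χ - ψ) ∧
      p ≤ 2 * charDegree ψ + 1 ∧ charDegree (χ - ψ) + charDegree ψ = charDegree χ := by
  have := Fintype.ofFinite G
  obtain ⟨ψ, h1, h2, h3⟩ : ∃ ψ, IsIrrCharacter G ψ ∧ classInner χ ψ ≠ 0 ∧
      ¬ commutator G ≤ charKer ψ := by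
    by_contra! H
    exact hk fun g hg => hχ.mem_charKer_of_constituents fun ψ a b => H ψ a b hg
  have h4 := hχ.sub_irr h1 h2
  have h5 : p ≤ 2 * charDegree ψ + 1 := by
    by_contra! H
    exact h3 (small_top P hM hab h1.isCharacter H)
  have h6 : charDegree (χ - ψ) + charDegree ψ = charDegree χ := by
    obtain ⟨a, ha⟩ := h4.exists_apply_one
    obtain ⟨b, hb⟩ := h1.isCharacter.exists_apply_one
    rw [H6.charDegree_eq ha, H6.charDegree_eq hb, H6.charDegree_eq (n := a + b) (by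
      rw [Nat.cast_add, ← ha, ← hb, Pi.sub_apply, sub_add_cancel])]
  exact ⟨ψ, h1, h4, small_top P hM hab h4 (by omega), h5, h6⟩

end H21.LF
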