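import Cfsg.Agent.H21.LF1

/-! Linear groups of degree less than `p - 1`, II: subgroups with `|P : O_p| = p`. -/

open Cfsg
namespace H21.LF
open Module Subgroup H5 H19 H20 H6
open scoped ComplexConjugate

variable {G : Type*} [Group G] [Finite G] {p : ℕ} {χ : G → ℂ} {A H K L Q : Subgroup G} {x y : G}

variable (p χ) in
/-- a faithful character of degree less than `p - 1` -/
structure Cx : Prop where
  prime : p.Prime
  chr : IsCharacter G χ
  faith : ∀ g, χ g = χ 1 → g = 1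
  deg : charDegree χ + 2 ≤ p

/-- the structure of a subgroup with non-normal Sylow subgroup `Q` and `|Q : O_p| = p` -/
structure GS (p : ℕ) (H Q K : Subgroup G) (y : G) : Prop where
  norm : K ⊴ H
  yQ : y ∈ Q
  yK : y ∈ K
  ord : orderOf y = p
  syl : Syl p (zpowers y) K
  perf : ⁅K, K⁆ = K
  gen : ∀ M, M ⊴ K → y ∈ M → M = K
  cent : Oc {p} H ≤ C(K)
  dec : ∀ u ∈ Q, ∃ i : ℕ, ∃ o ∈ Oc {p} H, u = y ^ i * o

namespace Cx
variable (c : Cx p χ)
include c

theorem ker : cker χ = ⊥ := charKer_eq_bot c.chr c.faith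

theorem ab (h : PG p A) : Ab A := comm_iff_der.2 (le_bot_iff.1 (c.ker ▸
  (der_le_cker_of_lt (mem_Chr_top.2 c.chr) le_top fun q a b => by
    have : q = p := h q a b
    have := c.deg
    change charDegree χ < q
    omega)))

theorem ito (hs : IsPSolvable p L) (hQ : Syl p Q L) : Q ⊴ L := by
  have := Fact.mk c.prime
  by_contra hc
  obtain ⟨e⟩ := quo_equiv (NormalIn.bot L).norm (bot_inf_eq L)
  have h1 := mem_Chr_top.2 c.chr
  have := c.deg
  have := (ito_small ((H1.isPSolvable_congr e).1 hs) (chr_Res h1 le_top)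
    (le_bot_iff.1 (c.ker ▸ (le_cker_of_Res h1 le_top inf_le_left).1 inf_le_right))
    (by rw [deg_Res]; change charDegree χ + 1 ≤ p; omega) fun e => hc ((Rp_eq_bot hQ).1 e)).1
  rw [deg_Res] at this
  change charDegree χ + 1 = p at this
  omega

theorem oc_comm (hx : x ∈ H) (h : PiE {p} x) : Oc {p} H ≤ C[x] := by
  obtain ⟨P, h1, h2⟩ := (piG_zpowers.2 h).exists_syl (zpowers_le.2 hx)
  exact (Oc_le_hall h1).trans (le_cent1_iff.2 (comm_iff_le_cent.1 (c.ab h1.pi) (h2 (mem_zpowers x))))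

theorem gs (hQ : Syl p Q H) (hn : ¬ Q ⊴ H) (h : ¬ p ^ 2 ∣ (Oc {p} H).relIndex H) :
    ∃ K y, GS p H Q K y := by
  have := Fact.mk c.prime
  set L := Gen {p} H
  set O := Oc {p} H
  set K := ⁅L, L⁆
  have hL : L ⊴ H := Gen_normal _ (.refl H)
  have h1 : Syl p Q L := hQ.of_le (le_Gen hQ.le hQ.pi) hL.le
  have h2 : O ≤ Q := Oc_le_hall hQ
  have h3 : O ≤ C(L) := cents_symm (Gen_le_iff.2 fun x a b => le_cent1_iff.1 (c.oc_comm a b))
  have h4 : Q ⊓ K ⊓ O = ⊥ := le_bot_iff.1 (by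
    rw [← comm_iff_der.1 (c.ab hQ.pi)]
    exact le_trans (inf_le_inf_left _ h3) (H5.FTB.syl_der_cent h1))
  have h5 : ∀ M, M ⊴ L → Q ≤ M → M = L := fun M a b => le_antisymm a.le (Gen_le_iff.2 fun x e f =>
    Gen_le_of_idx a (.of_not_dvd (h1.not_dvd_relIndex c.prime b)) (mem_Gen (mem_Gen e f) f))
  have h6 : K ⊔ Q = L := h5 _ (normal_of_der_le le_sup_left (sup_le (der_le L) h1.le)) le_sup_right
  have h7 : Syl p (Q ⊓ K) K := h1.inf_normal (der_normal L)
  have h8 : ¬ Q ⊴ L := fun e => hn ⟨hQ.le, by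
    rw [h1.eq_Oc e.norm]; exact hL.norm.trans (norm_le_norm_Oc _ _)⟩
  have h9 : Q ⊓ K ≠ ⊥ := fun e => h8 (c.ito (by
    rw [← h6, sup_comm]
    exact H1.isPSolvable_sup (h1.le.trans (der_normal L).norm)
      (H1.isPSolvable_of_isPGroup (pG_iff.1 hQ.pi))
      (H5.FTB.psol_of_normal h7 (e ▸ .bot K))) h1)
  have h10 : O ≤ N(Q ⊓ K) := (h3.trans (cent_mono (inf_le_left.trans h1.le))).trans (H19.cent_le_norm _)
  have h11 := card_sup_of_disjoint h10 h4
  have h12 : #(Q ⊓ K) ∣ O.relIndex Q := Nat.dvd_of_mul_dvd_mul_left (card_pos O) (by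
    rw [card_mul_relIndex h2, mul_comm, ← h11]; exact card_dvd (sup_le inf_le_left h2))
  have h13 : O.relIndex Q ∣ p := by
    obtain ⟨k, hk⟩ := (hQ.pi.relIndex O).exists_pow (relIndex_ne_zero' _ _)
    rcases (by omega : k ≤ 1 ∨ 2 ≤ k) with e | e
    · rw [hk]; exact (pow_dvd_pow p e).trans (pow_one p).dvd
    · exact (h (((pow_dvd_pow p e).trans hk.symm.dvd).trans (relIndex_dvd_right h2 hQ.le))).elim
  have h14 : #(Q ⊓ K) = p := Nat.dvd_antisymm (h12.trans h13) (h7.pi.dvd_of_ne_bot h9)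
  obtain ⟨y, hy, y1⟩ := exists_ne_one h9
  have h15 := eq_zpowers_of_prime (h14 ▸ c.prime) hy y1
  have h16 : Q ⊓ K ⊔ O = Q := eq_of_le_of_card_ge (sup_le inf_le_left h2) (by
    rw [h11, h14, ← card_mul_relIndex h2, mul_comm]
    exact Nat.mul_le_mul_right _ (Nat.le_of_dvd c.prime.pos h13))
  have h17 : O ≤ C(K) := h3.trans (cent_mono (der_le L))
  have h18 : K ⊔ O = L := le_antisymm (sup_le (der_le L) (h2.trans h1.le)) (h6.symm.trans_le
    (sup_le le_sup_left (h16.symm.trans_le (sup_le_sup_right inf_le_right _))))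
  refine ⟨K, y, hL.der, hy.1, hy.2, by rw [← Nat.card_zpowers, h15, h14], h15 ▸ h7, ?_,
    fun M a b => ?_, h17, fun u hu => ?_⟩
  · have := der_sup_cent h17
    rwa [h18, comm_iff_der.1 (c.ab (Oc_pi _ _)), sup_bot_eq, eq_comm] at this
  · have h19 : O ≤ N(M) := (h17.trans (cent_mono a.le)).trans (H19.cent_le_norm _)
    have h20 := h5 (M ⊔ O) ⟨h18 ▸ sup_le_sup_right a.le _, h18 ▸ sup_le
      (norms_sup a.norm ((cents_symm h17).trans (H19.cent_le_norm _))) (norms_sup h19 le_normalizer)⟩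
      (by rw [← h16, ← h15]; exact sup_le_sup_right (zpowers_le.2 b) _)
    have := sup_inf_modl h19 a.le
    rwa [h20, inf_eq_right.2 (der_le L), show O ⊓ K = ⊥ from le_bot_iff.1 (h4 ▸ le_inf
      (inf_le_inf_right _ h2) inf_le_left), sup_bot_eq, eq_comm] at this
  · obtain ⟨a, ha, o, ho, rfl⟩ := (mem_sup_of_norm h10).1 (h16.symm ▸ hu)
    obtain ⟨i, rfl⟩ := (Submonoid.mem_powers_iff _ _).1 (mem_powers_iff_mem_zpowers.2 (h15.symm ▸ ha))
    exact ⟨i, o, ho, rfl⟩

end Cx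

theorem invol_four (hG : commutator G = ⊤) (hχ : IsCharacter G χ) {t : G} (ht : t * t = 1) :
    ∃ k : ℕ, χ t = χ 1 - 4 * k := by
  classical
  obtain ⟨m, -, h1, h2⟩ := exists_fourier_nat (hχ.restrict (zpowers t))
  let s : zpowers t := ⟨t, mem_zpowers t⟩
  have h3 : ∀ l : zpowers t →* ℂˣ, l s ≠ 1 → l s = -1 := fun l e => by
    have : l s * l s = 1 := by rw [← map_mul, show s * s = 1 from Subtype.ext ht, map_one]
    exact Units.ext ((mul_self_eq_one_iff.1 (congrArg Units.val this)).resolve_left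
      fun H => e (Units.ext H))
  have h4 := h2 s
  rw [detHom_res hχ, MonoidHom.comp_apply, (Abelianization.commutator_subset_ker _ (hG ▸ mem_top _) :
    detHom χ _ = 1), Finset.prod_congr rfl (g := fun l => (-1) ^ if l s = 1 then 0 else m l)
    fun l _ => by by_cases e : l s = 1 <;> simp [e, h3 l], Finset.prod_pow_eq_pow_sum, eq_comm,
    neg_one_pow_eq_one_iff_even (by simp [Units.ext_iff]; norm_num)] at h4
  obtain ⟨k, hk⟩ := h4
  refine ⟨k, ?_⟩
  have h5 := congrArg (Nat.cast : ℕ → ℂ) hk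
  have h6 : χ 1 - χ t = 2 * (∑ l, if l s = 1 then 0 else m l : ℕ) := by
    rw [show χ 1 = _ from h1 1, show χ t = _ from h1 s, ← Finset.sum_sub_distrib, Nat.cast_sum,
      Finset.mul_sum]
    exact Finset.sum_congr rfl fun l _ => by
      by_cases e : l s = 1 <;> simp [e, h3 l]
      ring
  push_cast at h5 h6
  linear_combination - h6 - 2 * h5

variable {V : Type*} [AddCommGroup V] [Module ℂ V] [FiniteDimensional ℂ V]
  {ρ : Representation ℂ G V} {a : ℂ}

variable (ρ) in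
/-- eigenspaces -/
abbrev E (g : G) (a : ℂ) : Submodule ℂ V := End.eigenspace (ρ g) a

omit [Finite G] [FiniteDimensional ℂ V] in
theorem mem_E {v : V} : v ∈ E ρ x a ↔ ρ x v = a • v := End.mem_eigenspace_iff

omit [Finite G] [FiniteDimensional ℂ V] in
theorem E_pow (i : ℕ) : E ρ x a ≤ E ρ (x ^ i) (a ^ i) := fun v hv => mem_E.2 (by
  induction i with
  | zero => simp
  | succ i ih => rw [pow_succ, map_mul, End.mul_apply, mem_E.1 hv, map_smul, ih, smul_smul,
      pow_succ'])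

omit [Finite G] [FiniteDimensional ℂ V] in
theorem E_disj {b : ℂ} (h : a ≠ b) : E ρ x a ⊓ E ρ x b = ⊥ := eq_bot_iff.2 fun v hv => by
  have := (mem_E.1 hv.1).symm.trans (mem_E.1 hv.2)
  rwa [← sub_eq_zero, ← sub_smul, smul_eq_zero, or_iff_right (sub_ne_zero.2 h)] at this

open Classical in
theorem eig_fm (hx : orderOf x = p) {m : (zpowers x →* ℂˣ) → ℕ}
    (hm : FM (fun u : zpowers x => ρ.character u) m) :
    finrank ℂ (E ρ x a) = ∑ l with (l ⟨x, mem_zpowers x⟩ : ℂ) = a, m l := by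
  set y : zpowers x := ⟨x, mem_zpowers x⟩
  have h0 : p ≠ 0 := hx ▸ (orderOf_pos x).ne'
  have h1 : x ^ p = 1 := hx ▸ pow_orderOf_eq_one x
  have h3 : ∀ l : zpowers x →* ℂˣ, (l y : ℂ) ^ p = 1 := fun l => by
    rw [← Units.val_pow_eq_pow_val, ← map_pow, show y ^ p = 1 from Subtype.ext h1, map_one,
      Units.val_one]
  by_cases h2 : a ^ p = 1
  · have k4 : a ≠ 0 := ne_zero_pow h0 (h2 ▸ one_ne_zero)
    have k8 := DL.eig_rank ρ (h := x) k4 h0 (by rw [← map_pow, h1, h2]; simp)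
    rw [Finset.sum_congr rfl fun i _ => by
      rw [show ρ.character (x ^ i) = _ from hm.apply (y ^ i), Finset.mul_sum], Finset.sum_comm] at k8
    refine Nat.cast_injective (R := ℂ) (mul_left_cancel₀ (Nat.cast_ne_zero.2 h0) (k8.symm.trans ?_))
    rw [Finset.sum_filter, Nat.cast_sum, Finset.mul_sum]
    refine Finset.sum_congr rfl fun l _ => ?_
    simp only [mul_left_comm _ (m l : ℂ), ← Finset.mul_sum, map_pow, Units.val_pow_eq_pow_val,
      ← mul_pow]
    split_ifs with e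
    · simp [e, k4, mul_comm]
    · rw [geom_sum_eq fun H => e ((inv_mul_eq_one₀ k4).1 H).symm, mul_pow, h3, inv_pow, h2]
      simp
  · rw [Finset.filter_false_of_mem fun l _ e => h2 (by rw [← e, h3]), Finset.sum_empty,
      Submodule.finrank_eq_zero]
    refine le_bot_iff.1 ((le_inf (E_pow p) fun v _ => mem_E.2 ?_).trans (E_disj h2).le)
    simp [h1]

theorem hom_inj {l l' : zpowers x →* ℂˣ}
    (h : (l ⟨x, mem_zpowers x⟩ : ℂ) = l' ⟨x, mem_zpowers x⟩) : l = l' := by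
  ext ⟨_, k, rfl⟩
  change ((l (⟨x, mem_zpowers x⟩ ^ k) : ℂˣ) : ℂ) = l' (⟨x, mem_zpowers x⟩ ^ k)
  rw [map_zpow, map_zpow, Units.ext h]

theorem eig_one (hx : orderOf x = p) {m : (zpowers x →* ℂˣ) → ℕ}
    (hm : FM (fun u : zpowers x => ρ.character u) m) : finrank ℂ (E ρ x 1) = m 1 := by
  classical
  rw [eig_fm hx hm, Finset.sum_eq_single_of_mem 1 (by simp) fun l hl e =>
    (e (hom_inj (by simpa using hl))).elim]

theorem eig_le (hx : orderOf x = p) {m : (zpowers x →* ℂˣ) → ℕ}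
    (hm : FM (fun u : zpowers x => ρ.character u) m) (h : ∀ l, l ≠ 1 → m l ≤ 1) (ha : a ≠ 1) :
    finrank ℂ (E ρ x a) ≤ 1 := by
  classical
  rw [eig_fm hx hm]
  refine (Finset.sum_le_card_nsmul _ _ 1 fun l hl => h l ?_).trans (by
    simpa using Finset.card_le_one.2 fun l hl l' hl' => hom_inj
      ((Finset.mem_filter.1 hl).2.trans (Finset.mem_filter.1 hl').2.symm))
  rintro rfl
  exact ha (by simpa using (Finset.mem_filter.1 hl).2.symm)

end H21.LF
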