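import Cfsg.Agent.H21.LF2

/-! Linear groups of degree less than `p - 1`, III: eigenspaces. -/

open Cfsg
namespace H21.LF
open Module Subgroup H5 H19 H20 H6
open scoped ComplexConjugate

variable {G : Type*} [Group G] [Finite G] {p : ℕ} {χ : G → ℂ} {A H K L Q : Subgroup G} {x y : G}

namespace GS
variable (s : GS p H Q K y)
include s

omit [Finite G] in
theorem ord' : orderOf (⟨y, s.yK⟩ : K) = p := (orderOf_mk y s.yK).trans s.ord

omit [Finite G] in
theorem idx (hp : p.Prime) : ¬ p ∣ (zpowers (⟨y, s.yK⟩ : K)).index := by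
  have := s.syl.idx.not_dvd hp rfl
  rwa [show zpowers y = _ from (K.subtype.map_zpowers ⟨y, s.yK⟩).symm, relIndex, subgroupOf,
    comap_map_eq_self_of_injective K.subtype_injective] at this

omit [Finite G] in
theorem perf' : commutator K = ⊤ := map_injective K.subtype_injective (by
  rw [map_subtype_commutator, s.perf, ← MonoidHom.range_eq_map, range_subtype])

omit [Finite G] in
theorem gen' (N : Subgroup K) (h : N.Normal) (hy : ⟨y, s.yK⟩ ∈ N) : N = ⊤ :=
  map_injective K.subtype_injective (by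
    rw [s.gen _ (normalIn_map_subtype N) (mem_map_of_mem _ hy), ← MonoidHom.range_eq_map,
      range_subtype])

omit [Finite G] in
theorem nn (hp : p.Prime) : ¬ (zpowers (⟨y, s.yK⟩ : K)).Normal := fun h => by
  have h1 := s.perf'
  rw [commutator_def, ← s.gen' _ h (mem_zpowers _), comm_iff_der.1 (comm_zpowers _), eq_comm,
    zpowers_eq_bot] at h1
  exact ne_one_of_orderOf_prime hp s.ord' h1

theorem psi (c : Cx p χ) : ∃ (ψ : K → ℂ) (k : ℕ), IsIrrCharacter K ψ ∧ (∀ g : K, χ g = ψ g + k) ∧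
    (∀ g, ψ g = ψ 1 → g = 1) ∧ p ≤ 2 * charDegree ψ + 1 ∧ k + charDegree ψ = charDegree χ := by
  have := Fact.mk c.prime
  have h1 := c.chr.restrict K
  obtain ⟨ψ, h2, h3, h4, h5, h6⟩ := lemD ((isPGroup_zpowers_of_orderOf s.ord').toSylow (s.idx c.prime))
    (fun N a b => s.gen' N a (b (mem_zpowers _))) (comm_zpowers _) h1 c.deg fun e =>
      ne_one_of_orderOf_prime c.prime s.ord (c.faith y (h1.mem_charKer_iff.1
        (e (s.perf' ▸ mem_top (⟨y, s.yK⟩ : K)))))
  obtain ⟨k, hk⟩ := h3.exists_apply_one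
  have h7 : ∀ g : K, χ g = ψ g + k := fun g => by
    rw [← hk, ← h3.mem_charKer_iff.1 (h4 (s.perf' ▸ mem_top g)), Pi.sub_apply, add_sub_cancel]
  exact ⟨ψ, k, h2, h7, fun g hg => Subtype.ext (c.faith g (by rw [h7, hg, ← h7]; rfl)), h5,
    H6.charDegree_eq hk ▸ h6⟩

end GS

variable {V : Type*} [AddCommGroup V] [Module ℂ V] [FiniteDimensional ℂ V]
  {ρ : Representation ℂ G V} {a : ℂ} {W : Submodule ℂ V}

variable (ρ K) in
/-- averaging over `K` -/
noncomputable def av : End ℂ V := (#K : ℂ)⁻¹ • ∑ k ∈ fin (K : Set G), ρ k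

omit [FiniteDimensional ℂ V] in
theorem mul_av (hx : x ∈ K) : ρ x * av K ρ = av K ρ := by
  simp only [av, mul_smul_comm, Finset.mul_sum, ← map_mul, sum_sub_mul_left hx]

omit [FiniteDimensional ℂ V] in
theorem av_mul_av : av K ρ * av K ρ = av K ρ := by
  nth_rw 1 [av]
  rw [smul_mul_assoc, Finset.sum_mul, sum_fin_congr fun x hx => mul_av hx, sum_sub_const,
    ← Nat.cast_smul_eq_nsmul ℂ, inv_smul_smul₀ (cardC_ne K)]

omit [FiniteDimensional ℂ V] in
theorem comm_av (hx : x ∈ N(K)) : ρ x * av K ρ = av K ρ * ρ x := by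
  rw [av, mul_smul_comm, smul_mul_assoc, Finset.mul_sum, Finset.sum_mul,
    ← sum_sub_conj hx fun k => ρ k * ρ x]
  simp [← map_mul]

/-- the structure of the module of a subgroup with `|Q : O_p| = p` -/
structure LS (ρ : Representation ℂ G V) (p : ℕ) (H Q K : Subgroup G) (y : G) (W : Submodule ℂ V) :
    Prop extends GS p H Q K y where
  big : p ≤ 2 * finrank ℂ W + 1
  scal : ∀ c ∈ C(K), ∃ a, W ≤ E ρ c a
  reg : ∀ c ∈ H, c ∈ C[y] → ¬ p ∣ orderOf c → ∃ a, W ≤ E ρ c a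
  one : ∀ u ∈ Q, u ∉ Oc {p} H → ∀ a, finrank ℂ (E ρ u a ⊓ W :) ≤ 1 ∧
    finrank ℂ (E ρ u a) ≤ finrank ℂ (E ρ u a ⊓ E ρ y 1 :) + 1
  ylt : 2 * finrank ℂ (E ρ y 1) + 3 ≤ p
  yne : ∀ a, a ≠ 1 → finrank ℂ (E ρ y a) ≤ 1
  yrk : p + 2 * finrank ℂ (E ρ y 1) ≤ 2 * finrank ℂ V + 1
  two : finrank ℂ W = 2 → ∃ z, orderOf z = 2 ∧ E ρ z (-1) = W ∧ H ≤ C[z]

theorem GS.ls (s : GS p H Q K y) (hQ : Q ≤ H) (c : Cx p ρ.character) : ∃ W, LS ρ p H Q K y W := by
  classical
  have := Fact.mk c.prime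
  obtain ⟨ψ, k, h1, h2, h3, h4, h5⟩ := s.psi c
  have h6 := c.deg
  rw [H6.charDegree_eq ρ.char_one] at h5 h6
  set π := av K ρ with hπ
  set W := LinearMap.ker π
  have π1 : ∀ v, π (π v) = π v := fun v => LinearMap.congr_fun av_mul_av v
  have π2 : ∀ g ∈ K, ∀ v, ρ g (π v) = π v := fun g hg v => LinearMap.congr_fun (mul_av hg) v
  have π3 : ∀ g ∈ N(K), ∀ v, ρ g (π v) = π (ρ g v) := fun g hg v =>
    LinearMap.congr_fun (comm_av hg) v
  have π4 : ∀ v, v - π v ∈ W := fun v => by simp [W, π1]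
  have π5 : LinearMap.trace ℂ V π = k := by
    have := Fintype.ofFinite K
    have e := h1.classInner_of_ne isIrrCharacter_one fun e =>
      ne_one_of_orderOf_prime c.prime s.ord' (h3 _ (by simp [e]))
    simp only [classInner, map_one, mul_one, mul_eq_zero, inv_eq_zero, cardC_ne, false_or] at e
    rw [hπ, av, map_smul, map_sum, sum_sub_eq, Finset.sum_congr rfl
      (f := fun g : K => LinearMap.trace ℂ V (ρ g)) fun g _ => h2 g, Finset.sum_add_distrib, e]
    simp [← Nat.card_eq_fintype_card, inv_mul_cancel_left₀ (cardC_ne K)]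
  let τ : Representation ℂ N(K) W := Representation.subrepresentation (ρ.comp N(K).subtype) W
    fun g v hv => by
      change π (ρ g v) = 0
      rw [← π3 g g.2, show π v = 0 from hv, map_zero]
  have τ1 : ∀ g (hg : g ∈ K), τ.character ⟨g, K.le_normalizer hg⟩ = ψ ⟨g, hg⟩ := fun g hg => by
    have e := LinearMap.trace_restrict_eq_of_forall_mem W (ρ g * (1 - π)) fun v =>
      (τ ⟨g, K.le_normalizer hg⟩ ⟨_, π4 v⟩).2
    have e' : LinearMap.trace ℂ V (ρ g * (1 - π)) = ψ ⟨g, hg⟩ := by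
      rw [mul_sub, mul_one, mul_av hg, map_sub, π5]
      exact sub_eq_of_eq_add (h2 ⟨g, hg⟩)
    refine Eq.trans ?_ (e.trans e')
    unfold Representation.character
    congr 1
    ext ⟨v, hv⟩
    change ρ g v = ρ g (v - π v)
    rw [show π v = 0 from hv, sub_zero]
  have τ2 : finrank ℂ W = charDegree ψ :=
    (H6.charDegree_eq ((τ1 1 K.one_mem).symm.trans τ.char_one)).symm
  have τ3 : ∀ g (hg : g ∈ N(K)) (a : ℂ), τ ⟨g, hg⟩ = a • LinearMap.id → W ≤ E ρ g a :=
    fun g hg a e v hv => mem_E.2 (congrArg Subtype.val (LinearMap.congr_fun e ⟨v, hv⟩))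
  have τ4 : ∀ g (hg : g ∈ N(K)), ∃ φ : (K ⊔ zpowers g :) → ℂ, IsIrrCharacter _ φ ∧
      (∀ u : K, φ ⟨u, mem_sup_left u.2⟩ = ψ u) ∧
      (⟨g, mem_sup_right (mem_zpowers g)⟩ ∈ charCenter φ → ∃ a, W ≤ E ρ g a) := fun g hg => by
    have e1 := (isCharacter_character τ).comp (inclusion (sup_le K.le_normalizer (zpowers_le.2 hg)))
    refine ⟨_, irr_of_comp_irr e1 (inclusion le_sup_left)
      (by rw [← (funext fun u => τ1 u u.2 : _ = ψ)] at h1; exact h1), fun u => τ1 u u.2, fun e => ?_⟩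
    obtain ⟨a, ha⟩ := (norm_char_eq_finrank_iff τ ⟨g, hg⟩).1
      ((e1.mem_charCenter_iff.1 e).trans (by simp))
    exact ⟨a, τ3 g hg a ha⟩
  have τ5 : ∀ g ∈ C(K), ∃ a, W ≤ E ρ g a := fun g hg => by
    obtain ⟨φ, e1, -, e2⟩ := τ4 g (H19.cent_le_norm K hg)
    exact e2 (e1.center_le_charCenter (mem_center_iff.2 fun u => Subtype.ext (mem_cent1.1
      (sup_le (le_cent1_iff.2 hg) (zpowers_le.2 (mem_cent1_self g)) u.2))))
  obtain ⟨-, m, m1, m2, m3⟩ := lemM s.ord' (s.idx c.prime) (s.nn c.prime) (χ := ⟨ψ, h1⟩) h3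
    (show charDegree ψ + 2 ≤ p by omega)
  change _ ≤ 2 * charDegree ψ + 1 at m3
  have m4 : FM (fun u : zpowers (⟨y, s.yK⟩ : K) => Representation.character (ρ.comp K.subtype) u)
      fun l => m l + if l = 1 then k else 0 := fun l => by
    have e := sum_unitsHom_mul_conj 1 l
    simp only [MonoidHom.one_apply, Units.val_one, one_mul, eq_comm (b := l)] at e
    rw [Finset.sum_congr rfl (g := fun u : zpowers (⟨y, s.yK⟩ : K) =>
      ψ u * conj (l u : ℂ) + k * conj (l u : ℂ))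
      fun u _ => by rw [← add_mul, ← h2 u]; rfl,
      Finset.sum_add_distrib, ← Finset.mul_sum, e, show _ = _ from m1 l]
    split_ifs with h <;> simp [mul_add, mul_comm, h]
  have m5 : finrank ℂ (E ρ y 1) = m 1 + k := 
    (eig_one (ρ := ρ.comp K.subtype) s.ord' m4).trans (by simp)
  have m6 : ∀ a, a ≠ 1 → finrank ℂ (E ρ y a) ≤ 1 := fun a ha => by
    have := eig_le (ρ := ρ.comp K.subtype) s.ord' m4 (fun l hl => by rw [if_neg hl]; exact m2 l) ha
    rwa [show E (ρ.comp K.subtype) ⟨y, s.yK⟩ a = E ρ y a from rfl] at this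
  have m7 : LinearMap.range π ≤ E ρ y 1 := by
    rintro _ ⟨v, rfl⟩
    exact mem_E.2 (by rw [π2 y s.yK, one_smul])
  have m8 : ∀ a, finrank ℂ (E ρ y a ⊓ W :) ≤ 1 := fun a => by
    rcases eq_or_ne a 1 with rfl | e
    · have e1 := Submodule.finrank_sup_add_finrank_inf_eq (E ρ y 1 ⊓ W) (LinearMap.range π)
      have e2 := Submodule.finrank_mono (sup_le inf_le_left m7 : E ρ y 1 ⊓ W ⊔ _ ≤ _)
      have e3 := π.finrank_range_add_finrank_ker
      rw [show E ρ y 1 ⊓ W ⊓ LinearMap.range π = ⊥ from eq_bot_iff.2 (by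
        rintro _ ⟨e, v, rfl⟩
        exact (π1 v).symm.trans e.2), finrank_bot] at e1
      have := m2 1
      change _ + finrank ℂ W = _ at e3
      omega
    · exact (Submodule.finrank_mono inf_le_left).trans (m6 a e)
  refine ⟨W, s, τ2 ▸ h4, τ5, fun g g1 g2 g3 => ?_, fun u u1 u2 a => ?_,
    by have := m2 1; omega, m6, by omega, fun e => ?_⟩
  · obtain ⟨φ, e1, e2, e3⟩ := τ4 g (s.norm.norm g1)
    refine e3 (lemM' (x := ⟨y, mem_sup_left s.yK⟩) ((orderOf_mk y (mem_sup_left s.yK)).trans s.ord) (fun e => ?_) e1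
      (fun e => s.nn c.prime ?_) (by rw [charDegree, show φ 1 = ψ 1 from e2 1]; change charDegree ψ + 2 ≤ p; omega)
      (mem_cent1.2 (Subtype.ext (mem_cent1.1 g2))) (by rwa [orderOf_mk]))
    · have e4 := (s.syl.of_idx le_sup_left (.of_not_dvd (by
        rw [relIndex_sup_of_norm (zpowers_le.2 (s.norm.norm g1))]
        exact fun e => g3 (e.trans (Nat.card_zpowers g ▸ relIndex_dvd_card _ _))))).idx.not_dvd
          c.prime rfl
      rw [show zpowers y = _ from ((K ⊔ zpowers g).subtype.map_zpowers ⟨y, mem_sup_left s.yK⟩).symm,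
        relIndex, subgroupOf, comap_map_eq_self_of_injective (subtype_injective _)] at e4
      exact e4 e
    · convert e.comap (inclusion (le_sup_left : K ≤ K ⊔ zpowers g))
      refine le_antisymm (zpowers_le.2 (mem_sup_left (mem_zpowers _))) fun u hu => ?_
      have := e1.charKer_normal
      obtain ⟨_, ⟨i, rfl⟩, b, hb, e4⟩ := mem_sup_of_normal_right.1 hu
      have e5 : b = inclusion le_sup_left ((⟨y, s.yK⟩ ^ i)⁻¹ * u) := by
        rw [map_mul, ← e4]; ext; simp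
      have := h3 ((⟨y, s.yK⟩ ^ i)⁻¹ * u) (by
        rw [← e2, ← e2]; rw [e5] at hb; exact e1.mem_charKer_iff.1 hb)
      exact ⟨i, inv_mul_eq_one.1 this⟩
  · obtain ⟨i, o, ho, rfl⟩ := s.dec u u1
    obtain ⟨b, hb⟩ := τ5 o (s.cent ho)
    obtain ⟨j, -, hj⟩ := Nat.exists_mul_mod_eq_one_of_coprime (((Nat.Prime.coprime_iff_not_dvd
      c.prime).2 fun e => u2 (by rwa [orderOf_dvd_iff_pow_eq_one.1 (s.ord ▸ e), one_mul])).symm)
      c.prime.one_lt
    have e1 : finrank ℂ (E ρ (y ^ i * o) a ⊓ W :) ≤ 1 := by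
      refine (Submodule.finrank_mono (show E ρ (y ^ i * o) a ⊓ W ≤ E ρ y ((a / b) ^ j) ⊓ W from
        fun v hv => ⟨?_, hv.2⟩)).trans (m8 _)
      have e2 := mem_E.1 hv.1
      have e3 := mem_E.1 (hb hv.2)
      rw [map_mul, End.mul_apply, e3, map_smul] at e2
      rcases eq_or_ne b 0 with rfl | e
      · rw [zero_smul] at e3
        rw [← DL.inv_apply ρ o v, e3, map_zero]
        exact zero_mem _
      have := E_pow j (mem_E.2 (show ρ (y ^ i) v = (a / b) • v by
        rw [div_eq_inv_mul, mul_smul, ← e2, inv_smul_smul₀ e]))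
      rwa [← pow_mul, ← pow_mod_orderOf, s.ord, hj, pow_one] at this
    refine ⟨e1, ?_⟩
    have e2 : E ρ (y ^ i * o) a ≤ E ρ (y ^ i * o) a ⊓ E ρ y 1 ⊔ E ρ (y ^ i * o) a ⊓ W := fun v hv => by
      have e3 : π v ∈ E ρ (y ^ i * o) a :=
        mem_E.2 (by rw [π3 _ (s.norm.norm (hQ u1)), mem_E.1 hv, map_smul])
      rw [← add_sub_cancel (π v) v]
      exact Submodule.add_mem_sup ⟨e3, m7 ⟨v, rfl⟩⟩ ⟨sub_mem hv e3, π4 v⟩
    exact (Submodule.finrank_mono e2).trans ((Submodule.finrank_add_le_finrank_add_finrank _ _).trans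
      (Nat.add_le_add_left e1 _))
  · have e1 : ψ 1 = (2 : ℕ) := (τ1 1 K.one_mem).symm.trans (e ▸ τ.char_one)
    have := Fact.mk Nat.prime_two
    obtain ⟨z, hz⟩ := exists_prime_orderOf_dvd_card' 2 (h1.dvd_card e1)
    obtain ⟨n, hn⟩ := invol_four s.perf' h1.isCharacter (t := z) (by rw [← sq, ← hz, pow_orderOf_eq_one])
    have e2 := h1.isCharacter.norm_apply_le z
    have e3 : n ≠ 0 := fun e => ne_one_of_orderOf_prime Nat.prime_two hz (h3 z (by simpa [e] using hn))
    rw [hn, e1, show ((2 : ℕ) : ℂ) - 4 * n = ((2 - 4 * n : ℤ) : ℂ) by simp, Complex.norm_intCast,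
      Complex.natCast_re, abs_le] at e2
    have e4 : (-2 : ℤ) ≤ 2 - 4 * n := by exact_mod_cast e2.1
    obtain rfl : n = 1 := by omega
    have e5 := τ3 z (K.le_normalizer z.2) (-1) (DL.scal τ (by simp) (by
      rw [τ1 z z.2, show τ.character 1 = ψ 1 from τ1 1 K.one_mem, Subtype.coe_eta, hn, e1]; norm_num))
    have e6 : ∀ v, ρ z v = 2 • π v - v := fun v => by
      have := mem_E.1 (e5 (π4 v))
      rw [map_sub, π2 z z.2, sub_eq_iff_eq_add] at this
      rw [this]; module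
    refine ⟨z, (orderOf_coe z).trans hz, le_antisymm (fun v hv => ?_) e5, fun g hg => mem_cent1.2 ?_⟩
    · have := (e6 v).symm.trans (mem_E.1 hv)
      rw [neg_smul, one_smul, sub_eq_neg_self, two_smul, ← two_smul ℂ, smul_eq_zero] at this
      exact this.resolve_left two_ne_zero
    · rw [← mul_inv_eq_one]
      refine c.faith _ (by
        rw [ρ.char_one, char_eq_finrank_iff]
        ext v
        rw [mul_inv_rev, map_mul, map_mul, map_mul]
        simp only [End.mul_apply, LinearMap.id_apply]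
        rw [e6, map_sub, map_nsmul, π3 g (s.norm.norm hg), ← e6, DL.apply_inv, DL.apply_inv])

end H21.LF
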