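import Cfsg.Agent.H21.LF3

/-! Linear groups of degree less than `p - 1`, IV: `|P : O_p| ≤ p` (Feit). -/

set_option linter.unusedSectionVars false
open Cfsg
namespace H21.LF
open Module Subgroup H5 H19 H20 H6
open scoped ComplexConjugate

universe u

variable {G : Type u} [Group G] [Finite G] {p : ℕ} {χ : G → ℂ} {A H K L Q : Subgroup G} {x y g : G}
  {V : Type*} [AddCommGroup V] [Module ℂ V] [FiniteDimensional ℂ V]
  {ρ : Representation ℂ G V} {a : ℂ} {W : Submodule ℂ V}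

omit [Finite G] in
theorem E_conj (g : G) : finrank ℂ (E ρ x a) ≤ finrank ℂ (E ρ (g * x * g⁻¹) a) :=
  LinearMap.finrank_le_finrank_of_injective (f := (ρ g).restrict fun v hv => mem_E.2 (by
    rw [map_mul, map_mul, End.mul_apply, End.mul_apply, DL.inv_apply, mem_E.1 hv, map_smul]))
    fun v w e => Subtype.ext (by
      have := congrArg (fun t : E ρ (g * x * g⁻¹) a => ρ g⁻¹ t) e
      simpa only [LinearMap.coe_restrict_apply, DL.inv_apply] using this)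

omit [Finite G] [FiniteDimensional ℂ V] in
theorem E_stab (hg : g ∈ C[x]) {v : V} (hv : v ∈ E ρ x a) : ρ g v ∈ E ρ x a := mem_E.2 (by
  rw [← End.mul_apply, ← map_mul, ← mem_cent1.1 hg, map_mul, End.mul_apply, mem_E.1 hv, map_smul])

theorem E_top (x : G) : ⨆ a, E ρ x a = ⊤ :=
  (End.isSemisimple_of_squarefree_aeval_eq_zero (Polynomial.separable_X_pow_sub_C (1 : ℂ)
    (Nat.cast_ne_zero.2 (orderOf_pos x).ne') one_ne_zero).squarefree
    (by rw [map_sub, map_pow, Polynomial.aeval_X, ← map_pow]; simp)).iSup_eigenspace_eq_top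

theorem comm_fix {u : G} (h : ∀ a, a ≠ 1 → finrank ℂ (E ρ y a) ≤ 1) (hg : g ∈ C[y]) (hu : u ∈ C[y]) :
    finrank ℂ V ≤ finrank ℂ (E ρ (g * u * g⁻¹ * u⁻¹) 1) + finrank ℂ (E ρ y 1) := by
  rw [← finrank_top, ← E_top (ρ := ρ) y]
  refine (Submodule.finrank_mono (iSup_le fun a => ?_)).trans
    (Submodule.finrank_add_le_finrank_add_finrank _ _)
  rcases eq_or_ne a 1 with rfl | e
  · exact le_sup_right
  refine le_sup_of_le_left fun v hv => mem_E.2 ?_
  rcases eq_or_ne v 0 with rfl | e0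
  · simp
  have h1 : ∀ k ∈ C[y], ∃ b : ℂ, ρ k v = b • v := fun k hk => by
    obtain ⟨w, hw⟩ := finrank_le_one_iff.1 (h a e)
    obtain ⟨c, hc⟩ := hw ⟨v, hv⟩
    obtain ⟨d, hd⟩ := hw ⟨_, E_stab hk hv⟩
    have e1 : c • (w : V) = v := congrArg Subtype.val hc
    have e2 : c ≠ 0 := fun e => e0 (by rw [← e1, e, zero_smul])
    exact ⟨d * c⁻¹, by rw [mul_smul, ← e1, inv_smul_smul₀ e2, e1]; exact (congrArg Subtype.val hd).symm⟩
  obtain ⟨b, hb⟩ := h1 g⁻¹ (inv_mem hg)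
  obtain ⟨c, hc⟩ := h1 u⁻¹ (inv_mem hu)
  have h2 : ρ g⁻¹ (ρ u⁻¹ v) = ρ u⁻¹ (ρ g⁻¹ v) := by
    rw [hb, hc, map_smul, map_smul, hb, hc, smul_comm]
  simp only [map_mul, End.mul_apply]
  rw [h2, DL.apply_inv, DL.apply_inv, one_smul]

/-- `|P : O_p| ≤ p` -/
def Good (p : ℕ) (H : Subgroup G) : Prop := ¬ p ^ 2 ∣ (Oc {p} H).relIndex H

theorem Good.mk {O : Subgroup G} (h1 : O ⊴ H) (h2 : PG p O) (h3 : ¬ p ^ 2 ∣ O.relIndex H) :
    Good p H := fun e => h3 (e.trans (relIndex_dvd_left (le_Oc h1 h2) H))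

/-- non-normal Sylow subgroups -/
def NS (p : ℕ) (H : Subgroup G) : Prop := ∀ Q, Syl p Q H → ¬ Q ⊴ H

theorem NS.mk (hQ : Syl p Q H) (h : ¬ Q ⊴ H) : NS p H := fun _ a b =>
  h (a.eq_of_normal b.norm hQ ▸ b)

theorem Cx.ns (c : Cx p χ) (hx : x ∈ H) (hy : y ∈ H) (h1 : PiE {p} x) (h2 : PiE {p} y)
    (h : x ∉ C[y]) : NS p H := fun _ a b => h (mem_cent1.2 (mul_comm_of_comm (c.ab a.pi)
      (a.mem_of_normal b.norm hx h1) (a.mem_of_normal b.norm hy h2)))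

theorem mem_Oc_cent (h : PiE {p} x) (hx : x ∈ H) (hc : H ≤ C[x]) : x ∈ Oc {p} H :=
  le_Oc (normal_of_le_center (zpowers_le.2 ⟨hx, le_cent1_iff.1 hc⟩)) (piG_zpowers.2 h)
    (mem_zpowers x)

variable (p ρ) in
/-- a minimal counterexample -/
structure Mn : Prop where
  c : Cx p ρ.character
  irr : ρ.IsIrreducible
  irr' : IsIrrCharacter G ρ.character
  two : 2 ≤ finrank ℂ V
  oc : Oc {p} (⊤ : Subgroup G) = ⊥
  ih : ∀ H : Subgroup G, H ≠ ⊤ → Good p H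
  gen : ∀ P M : Subgroup G, Syl p P ⊤ → M ⊴ ⊤ → P ≤ M → M = ⊤
  sq : p ^ 2 ∣ Nat.card G

variable (p ρ) in
/-- `p`-elements with a large eigenspace -/
def Big (x : G) : Prop := PiE {p} x ∧ x ≠ 1 ∧ ∃ a, p ≤ 2 * finrank ℂ (E ρ x a) + 1

namespace Mn
variable (m : Mn p ρ)
include m

theorem deg : finrank ℂ V + 2 ≤ p := H6.charDegree_eq ρ.char_one ▸ m.c.deg

theorem five : 5 ≤ p := by
  have := m.deg
  have := m.two
  have : p ≠ 4 := fun e => by have := m.c.prime; rw [e] at this; exact absurd this (by decide)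
  omega

theorem ls (hH : H ≠ ⊤) (h : NS p H) (hQ : Syl p Q H) : ∃ K y W, LS ρ p H Q K y W :=
  let ⟨K, y, s⟩ := m.c.gs hQ (h Q hQ) (m.ih H hH)
  ⟨K, y, s.ls hQ.le m.c⟩

theorem cent_ne (h : PiE {p} x) (h1 : x ≠ 1) : C[x] ≠ ⊤ := fun e =>
  h1 (mem_bot.1 (m.oc ▸ mem_Oc_cent h (mem_top x) e.ge))

theorem not_big (s : LS ρ p H Q K y W) (hx : y ∈ zpowers x) : ¬ Big p ρ x := by
  rintro ⟨-, -, a, ha⟩
  obtain ⟨j, rfl⟩ := (Submonoid.mem_powers_iff _ _).1 (mem_powers_iff_mem_zpowers.2 hx)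
  have h1 := Submodule.finrank_mono (E_pow (ρ := ρ) (x := x) (a := a) j)
  have := m.five
  rcases eq_or_ne (a ^ j) 1 with e | e
  · have := s.ylt
    rw [e] at h1
    omega
  · have := s.yne _ e
    omega

theorem b0 (hx : Big p ρ x) : ∃ z, PiE {p} z ∧ z ≠ 1 ∧ x ∈ C[z] ∧ NS p C[z] ∧ x ∉ Oc {p} C[z] := by
  obtain ⟨h1, h2, a, ha⟩ := id hx
  obtain ⟨g, hg⟩ : ∃ g, x ∉ C[g * x * g⁻¹] := by
    by_contra! H
    refine h2 (mem_bot.1 (m.oc ▸ Oc_le_Oc (normalIn_top (H := C(normalClosure {x})))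
      (mem_Oc_cent h1 (le_cent1_iff.1 ((closure_le _).2 fun y hy => ?_))
        (cent_le_cent1 (subset_normalClosure rfl)))))
    obtain ⟨_, rfl, e⟩ := Group.mem_conjugatesOfSet_iff.1 hy
    obtain ⟨g, rfl⟩ := isConj_iff.1 e
    exact mem_cent1_symm.1 (H g)
  set y := g * x * g⁻¹
  have h3 : PiE {p} y := h1.e_conj g
  have h4 : x ∈ zpowers x ⊔ zpowers y := mem_sup_left (mem_zpowers x)
  have h5 : y ∈ zpowers x ⊔ zpowers y := mem_sup_right (mem_zpowers y)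
  have h6 : zpowers x ⊔ zpowers y ≠ ⊤ := fun e => by
    have e1 := Submodule.finrank_sup_add_finrank_inf_eq (E ρ x a) (E ρ y a)
    have e2 := E_conj (ρ := ρ) (x := x) (a := a) g
    have e3 := (E ρ x a ⊔ E ρ y a).finrank_le
    have := m.deg
    obtain ⟨v, hv, e4⟩ := (E ρ x a ⊓ E ρ y a).exists_mem_ne_zero_of_ne_bot fun e => by
      rw [e, finrank_bot] at e1
      change _ ≤ finrank ℂ (E ρ y a) at e2
      omega
    let S : Subgroup G := {
      carrier := {k | ∃ b : ℂ, ρ k v = b • v}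
      mul_mem' := fun {k l} ⟨b, hb⟩ ⟨c, hc⟩ =>
        ⟨c * b, by rw [map_mul, End.mul_apply, hc, map_smul, hb, smul_smul]⟩
      one_mem' := ⟨1, by simp⟩
      inv_mem' := fun {k} ⟨b, hb⟩ => ⟨b⁻¹, by
        have := DL.inv_apply ρ k v
        rw [hb, map_smul] at this
        rw [eq_inv_smul_iff₀ (fun e => e4 (by rw [← this, e, zero_smul])), this]⟩ }
    have e5 : ⊤ ≤ S := e ▸ sup_le (zpowers_le.2 ⟨a, mem_E.1 hv.1⟩) (zpowers_le.2 ⟨a, mem_E.1 hv.2⟩)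
    have := m.irr
    rcases eq_bot_or_eq_top (⟨ℂ ∙ v, fun k w hw => by
      obtain ⟨c, rfl⟩ := Submodule.mem_span_singleton.1 hw
      obtain ⟨b, hb⟩ := e5 (mem_top k)
      exact Submodule.mem_span_singleton.2 ⟨c * b, by rw [map_smul, hb, smul_smul]⟩⟩ :
        Subrepresentation ρ) with e6 | e6
    · exact e4 (Submodule.span_singleton_eq_bot.1 (congrArg Subrepresentation.toSubmodule e6))
    · have e7 := finrank_span_singleton (K := ℂ) e4
      rw [show (ℂ ∙ v) = ⊤ from congrArg Subrepresentation.toSubmodule e6, finrank_top] at e7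
      have := m.two
      omega
  obtain ⟨Q, hQ, h7⟩ := (piG_zpowers.2 h1).exists_syl (zpowers_le.2 h4)
  obtain ⟨K, w, W, s⟩ := m.ls h6 (m.c.ns h4 h5 h1 h3 hg) hQ
  obtain ⟨z, z1, z2⟩ := exists_ne_one fun e : Oc {p} (zpowers x ⊔ zpowers y) = ⊥ => by
    obtain ⟨i, o, ho, e1⟩ := s.dec x (h7 (mem_zpowers x))
    rw [show o = 1 from mem_bot.1 (e ▸ ho), mul_one] at e1
    refine m.not_big s (eq_zpowers_of_prime (X := zpowers w)
      (by rw [Nat.card_zpowers, s.ord]; exact m.c.prime) (e1 ▸ npow_mem_zpowers w i) h2 ▸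
        mem_zpowers w) hx
  have h8 := mem_cent1_symm.1 (m.c.oc_comm h4 h1 z1)
  have h9 := mem_cent1_symm.1 (m.c.oc_comm h5 h3 z1)
  exact ⟨z, (Oc_pi _ _).elt z1, z2, h8, m.c.ns h8 h9 h1 h3 hg, fun e => hg (m.c.oc_comm h9 h3 e)⟩

theorem case2 (h1 : PiE {p} x) (h2 : x ≠ 1) : ¬ NS p C[x] := fun h => by
  have h3 := mem_Oc_cent h1 (mem_cent1_self x) le_rfl
  have h4 : ∀ {Q K y W}, LS ρ p C[x] Q K y W → ∃ a, W ≤ E ρ x a := fun s => s.scal x (s.cent h3)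
  obtain ⟨z, z1, z2, z3, z4, z5⟩ := m.b0 (x := x) (by
    obtain ⟨Q, hQ⟩ := exists_syl p C[x]
    obtain ⟨K, y, W, s⟩ := m.ls (m.cent_ne h1 h2) h hQ
    obtain ⟨a, ha⟩ := h4 s
    have := Submodule.finrank_mono ha
    exact ⟨h1, h2, a, by have := s.big; omega⟩)
  obtain ⟨Q, hQ, h5⟩ := ((piG_zpowers.2 h1).sup (piG_zpowers.2 z1) (zpowers_le.2
    (cent1_le_norm_zpowers x (mem_cent1_symm.1 z3)))).exists_syl le_top
  have x1 : x ∈ Q := h5 (mem_sup_left (mem_zpowers x))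
  have h6 : ∀ u ∈ Q, Q ≤ C[u] := fun u hu => le_cent1_iff.2 (comm_iff_le_cent.1 (m.c.ab hQ.pi) hu)
  obtain ⟨K₁, y₁, W₁, s₁⟩ := m.ls (m.cent_ne h1 h2) h (hQ.of_le (h6 x x1) le_top)
  obtain ⟨K₂, y₂, W₂, s₂⟩ := m.ls (m.cent_ne z1 z2) z4
    (hQ.of_le (h6 z (h5 (mem_sup_right (mem_zpowers z)))) le_top)
  obtain ⟨a, ha⟩ := h4 s₁
  obtain ⟨e1, e2⟩ := s₂.one x x1 z5 a
  have e3 := s₁.big
  have e4 := s₂.big
  have := m.five
  have := m.deg
  have e5 := Submodule.finrank_mono (inf_le_inf_right W₂ ha)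
  have e6 := Submodule.finrank_sup_add_finrank_inf_eq W₁ W₂
  have e7 := (W₁ ⊔ W₂).finrank_le
  rcases (by omega : 3 ≤ finrank ℂ W₁ ∨ finrank ℂ W₁ = 2) with e | e
  · have e8 := Submodule.finrank_sup_add_finrank_inf_eq W₁ (E ρ x a ⊓ E ρ y₂ 1)
    have e9 := Submodule.finrank_mono (sup_le ha inf_le_left : W₁ ⊔ E ρ x a ⊓ E ρ y₂ 1 ≤ _)
    have e10 := Submodule.finrank_mono (le_inf (inf_le_right.trans inf_le_right) inf_le_left :
      W₁ ⊓ (E ρ x a ⊓ E ρ y₂ 1) ≤ E ρ y₂ 1 ⊓ W₁)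
    obtain ⟨b, hb⟩ := s₁.scal y₂ (s₁.cent (by_contra fun H => by
      have := (s₁.one y₂ s₂.yQ H 1).1
      omega))
    have := Submodule.finrank_mono hb
    exact m.not_big s₂ (mem_zpowers _) ⟨hQ.pi.elt s₂.yQ,
      ne_one_of_orderOf_prime m.c.prime s₂.ord, b, by omega⟩
  · obtain ⟨t, t1, t2, t3⟩ := s₂.two (by omega)
    have t4 : ∀ u ∈ Q, t ∈ C[u] := fun u hu => mem_cent1_symm.1
      (t3 (h6 z (h5 (mem_sup_right (mem_zpowers z))) hu))
    obtain ⟨b, hb⟩ := s₁.reg t (t4 x x1) (t4 y₁ s₁.yQ) (by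
      rw [t1]; exact fun H => by have := Nat.le_of_dvd two_pos H; omega)
    rcases eq_or_ne b (-1) with rfl | e'
    · rw [inf_eq_left.2 (t2 ▸ hb)] at e5
      omega
    · rw [show W₁ ⊓ W₂ = ⊥ from le_bot_iff.1 (E_disj (ρ := ρ) (x := t) e' ▸ t2 ▸
        inf_le_inf_right _ hb), finrank_bot] at e6
      omega

theorem case1 (hg : g ∉ C((⊤ : Subgroup G))) : ¬ NS p C[g] := fun h => by
  have h0 : ∀ x, ¬ Big p ρ x := fun x hx =>
    let ⟨_, z1, z2, _, z4, _⟩ := m.b0 hx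
    m.case2 z1 z2 z4
  have h1 : C[g] ≠ ⊤ := fun e => hg (le_cent1_iff.1 e.ge)
  obtain ⟨Q, hQ⟩ := exists_syl p C[g]
  obtain ⟨K, y, W, s⟩ := m.ls h1 h hQ
  have h2 : Oc {p} C[g] = ⊥ := by_contra fun e => by
    obtain ⟨x, x1, x2⟩ := exists_ne_one e
    obtain ⟨a, ha⟩ := s.scal x (s.cent x1)
    have := Submodule.finrank_mono ha
    exact h0 x ⟨(Oc_pi _ _).elt x1, x2, a, by have := s.big; omega⟩
  have h3 := hQ.pi.elt s.yQ
  obtain ⟨P, hP, h4⟩ := (piG_zpowers.2 h3).exists_syl le_top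
  have h5 : P ≤ C[y] := le_cent1_iff.2 (comm_iff_le_cent.1 (m.c.ab hP.pi) (h4 (mem_zpowers y)))
  have h6 : P ⊴ C[y] := by_contra fun e => m.case2 h3 (ne_one_of_orderOf_prime m.c.prime s.ord)
    (.mk (hP.of_le h5 le_top) e)
  have h7 := mem_cent1_symm.1 (hQ.le s.yQ)
  have h8 : P ≤ C[g] := fun u hu => mem_cent1.2 (by
    have e1 := comm_fix s.yne h7 (h5 hu)
    have e2 := s.yrk
    have : g * u * g⁻¹ * u⁻¹ = 1 := by_contra fun e =>
      h0 _ ⟨hP.pi.elt (mul_mem (h6.conj_mem h7 hu) (inv_mem hu)), e, 1, by omega⟩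
    rw [mul_inv_eq_one, mul_inv_eq_iff_eq_mul] at this
    exact this.symm)
  refine m.ih _ h1 ?_
  rw [h2, relIndex_bot_left]
  exact (hP.dvd (.prime_pow m.c.prime 2) (by rw [card_top]; exact m.sq)).trans (card_dvd h8)

theorem false : False := by
  obtain ⟨P, hP⟩ := exists_syl p (⊤ : Subgroup G)
  have hab : ∀ A : Subgroup G, PG p A → Ab A := fun A => m.c.ab
  have hz : ∀ Q, Syl p Q (⊤ : Subgroup G) → Q ⊓ C((⊤ : Subgroup G)) = ⊥ := fun Q hQ =>
    eq_bot_iff.2 fun x hx => m.oc ▸ mem_Oc_cent (hQ.pi.elt hx.1) (mem_top x) (le_cent1_iff.2 hx.2)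
  have h3 : ∀ g, g ∉ C((⊤ : Subgroup G)) → ∀ Q, Syl p Q C[g] → Q ⊴ C[g] := fun g b Q hQ =>
    by_contra fun e => m.case1 b (.mk hQ e)
  have h4 : ∀ Q : Subgroup G, Syl p Q ⊤ → ∀ x ∈ Q, x ≠ 1 → ∀ R, R ≤ C[x] → PG p R → R ≤ Q :=
    fun Q a x b c R d e => by
    have f := a.of_le (le_cent1_iff.2 (comm_iff_le_cent.1 (hab Q a.pi) b)) le_top
    exact f.le_of_normal (h3 x (fun e => c (mem_bot.1 (hz Q a ▸ ⟨b, e⟩))) Q f).norm d e
  have ho : FTB.One P ⊤ := fun g a b k c d e => by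
    obtain ⟨x, ⟨x1, x2⟩, x3⟩ := exists_ne_one d
    obtain ⟨y, ⟨y1, y2⟩, y3⟩ := exists_ne_one e
    have hk := hP.Jmem c
    obtain ⟨Q, hQ⟩ := exists_syl p C[g]
    have f := h3 g b Q hQ
    have f1 := hQ.mem_of_normal f.norm x2 (hP.pi.elt x1)
    have f2 := hQ.mem_of_normal f.norm y2 (hk.pi.elt y1)
    have f3 := h4 P hP x x1 x3 Q (le_cent1_iff.2 (comm_iff_le_cent.1 (hab Q hQ.pi) f1)) hQ.pi f2
    exact mem_norm_of_cj_le (h4 P hP y f3 y3 _ (le_cent1_iff.2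
      (comm_iff_le_cent.1 (hab _ hk.pi) y1)) hk.pi)
  have h1 : H20.deg ρ.character = finrank ℂ V := H6.charDegree_eq ρ.char_one
  have := m.two
  have := m.deg
  have h5 := FTB.core2 hP.le (hab P hP.pi) (hz P hP) ho (mem_Irr_top.2 m.irr') (by omega)
    fun M => m.gen P M hP
  have h7 := Nat.le_of_dvd (card_pos P) (hP.dvd (.prime_pow m.c.prime 2) (by rw [card_top]; exact m.sq))
  have h8 : #P < (1 + H20.deg ρ.character) ^ 2 := by exact_mod_cast h5
  have := Nat.pow_le_pow_left (show 1 + H20.deg ρ.character ≤ p by omega) 2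
  omega

end Mn

theorem good_top (c : Cx p χ) : Good p (⊤ : Subgroup G) := by
  induction' hn : Nat.card G using Nat.strong_induction_on with n ih generalizing G χ
  subst hn
  have := Fact.mk c.prime
  by_contra hc
  have ih1 : ∀ H : Subgroup G, H ≠ ⊤ → Good p H := fun H a e => ih _
    (card_top (G := G) ▸ card_lt a.lt_top) (G := H) (χ := fun u => χ u)
    ⟨c.prime, c.chr.restrict H, fun g hg => Subtype.ext (c.faith g hg), c.deg⟩ rfl (by
      rwa [← subgroupOf_self, Oc_subgroupOf le_rfl, subgroupOf_self, relIndex_top_right])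
  have ih2 : ∀ ψ, IsCharacter G ψ → charDegree ψ + 2 ≤ p → PG p (charKer ψ) → charKer ψ = ⊥ :=
    fun ψ a b d => by_contra fun e => by
    have := a.charKer_normal
    obtain ⟨φ, hφ, e1⟩ := a.exists_quotient (charKer ψ) le_rfl
    have h1 := ih _ (by
      rw [← (charKer ψ).card_mul_index]
      exact lt_mul_of_one_lt_left (Nat.pos_of_ne_zero index_ne_zero_of_finite)
        (ne_bot_iff_one_lt_card.1 e)) (G := G ⧸ charKer ψ) (χ := φ) ⟨c.prime, hφ, fun g hg => by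
      obtain ⟨g, rfl⟩ := QuotientGroup.mk_surjective g
      exact (QuotientGroup.eq_one_iff g).2 (a.mem_charKer_iff.2 ((e1 g).symm.trans (hg.trans (e1 1)))),
      by rwa [charDegree, show φ 1 = ψ 1 from e1 1]⟩ rfl
    have := (Oc_normal {p} (⊤ : Subgroup (G ⧸ charKer ψ))).normal
    refine hc (.mk (normalIn_top (H := (Oc {p} ⊤).comap (QuotientGroup.mk' (charKer ψ))))
      (pG_iff.2 ((pG_iff.1 (Oc_pi _ _)).comap_of_ker_isPGroup _
        (by rw [QuotientGroup.ker_mk']; exact pG_iff.1 d))) ?_)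
    rw [relIndex_top_right, index_comap_of_surjective _ (QuotientGroup.mk'_surjective _)]
    rwa [Good, relIndex_top_right] at h1
  have h1 : ∀ P M : Subgroup G, Syl p P ⊤ → M ⊴ ⊤ → P ≤ M → M = ⊤ := fun P M a b d =>
    by_contra fun e => hc (.mk (b.Oc _) (Oc_pi _ _) fun f => ih1 M e
      ((PiN.prime_pow c.prime 2).dvd_of_dvd_mul (.of_not_dvd (a.not_dvd_relIndex c.prime d))
        (by rwa [relIndex_mul_relIndex _ _ _ (Oc_le _ _) le_top])))
  obtain ⟨P⟩ : Nonempty (Sylow p G) := inferInstance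
  have hP := syl_sylow_top P
  have h2 : ¬ Ab (⊤ : Subgroup G) := fun e => hc (.mk (normal_of_ab e le_top) hP.pi fun f =>
    hP.not_dvd c.prime ((dvd_pow_self p two_ne_zero).trans f))
  obtain ⟨ψ, h3, h4, h5, h6, h7⟩ := lemD P (fun N _ => h1 P N hP normalIn_top) (c.ab hP.pi) c.chr
    c.deg fun e => h2 (comm_iff_der.2 (le_bot_iff.1 (c.ker ▸ e)))
  have h8 : charDegree ψ + 2 ≤ p := by have := c.deg; omega
  have h9 := h3.charKer_normal
  have h10 : charKer ψ = ⊥ := ih2 ψ h3.isCharacter h8 (by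
    have e1 : commutator G ⊓ charKer ψ = ⊥ := eq_bot_iff.2 fun g hg => c.faith g (by
      have := h4.mem_charKer_iff.1 (h5 hg.1)
      rwa [Pi.sub_apply, Pi.sub_apply, h3.mem_charKer_iff.1 hg.2, sub_left_inj] at this)
    refine PiN.of_relIndex (H := commutator G) (e1 ▸ .bot) (.dvd ?_
      (relIndex_dvd_of_norm le_normalizer_of_normal le_top le_top))
    rw [← h1 P (commutator G ⊔ P) hP (normal_of_der_le le_sup_left le_top) le_sup_right,
      relIndex_sup_of_norm le_normalizer_of_normal]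
    exact hP.pi.relIndex _)
  have h11 : Oc {p} (⊤ : Subgroup G) = ⊥ := by_contra fun e => by
    obtain ⟨x, x1, x2⟩ := exists_orderOf_eq_prime c.prime ((Oc_pi _ _).dvd_of_ne_bot e)
    obtain ⟨φ, a1, a2, a3, a4⟩ := exists_twist c.prime (mem_Irr_top.2 h3) (fun e => by
      have := Nat.le_of_dvd (H6.irr_deg_pos h3) e; omega) h10 ⟨mem_top x, by
        rw [← h1 P _ hP (Gen_normal {p} (.refl ⊤)) (le_Gen le_top hP.pi)]
        exact cents_symm (Gen_le_iff.2 fun x a b => le_cent1_iff.1 (c.oc_comm a b)) x1⟩ x2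
    exact ne_bot_of_mem a3 (ne_one_of_orderOf_prime c.prime x2)
      (ih2 φ (mem_Irr_top.1 a1).isCharacter (show H20.deg φ + 2 ≤ p from a2 ▸ h8) a4)
  obtain ⟨d, ρ, h12, rfl⟩ := id h3
  refine Mn.false (p := p) (ρ := ρ) ⟨⟨c.prime, h3.isCharacter, fun g hg => mem_bot.1
    (h10 ▸ h3.mem_charKer_iff.2 hg), h8⟩, h12, h3, by_contra fun e => h2 (comm_iff_der.2
      (le_bot_iff.1 (h10 ▸ (der_le_cker (mem_Irr_top.2 h3)).2 ?_))), h11, ih1, h1, ?_⟩
  · have := H6.irr_deg_pos h3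
    have e1 : H20.deg ρ.character = _ := H6.charDegree_eq ρ.char_one
    change 0 < H20.deg ρ.character at this
    omega
  · rwa [Good, h11, relIndex_bot_left, card_top, not_not] at hc

theorem Cx.good (c : Cx p χ) (H : Subgroup G) : Good p H := fun e =>
  good_top (G := H) (χ := fun u => χ u)
    ⟨c.prime, c.chr.restrict H, fun g hg => Subtype.ext (c.faith g hg), c.deg⟩ (by
      rwa [← subgroupOf_self, Oc_subgroupOf le_rfl, subgroupOf_self, relIndex_top_right])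

end H21.LF
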