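import Cfsg.Agent.H21.MB0
import Cfsg.Agent.H5.KT10

/-! Groups of characteristic `{2, 3}` type: no involution centralizes a `3 ^ 3`. -/

set_option autoImplicit false
set_option linter.unusedSectionVars false

namespace H21.MB
open _root_.Cfsg Subgroup H19 H22.KM
open H5.KT (pg23 pg32 cop23 cop32 odd3 ord3 el13 el12 ne13 norm_zp faith_bd)
open scoped commutatorElement

variable {G : Type*} [Group G] [Finite G] {p n m d : ℕ}
  {A B D E F H K L M P Q R S T U V W X : Subgroup G} {a b g s t u x y z : G}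

namespace Hy

theorem le_zp (h : Hy G) (hg : AG D) (hm : ¬ Good 3 (d + 3) G) (ht : orderOf t = 2)
    (hD : El 3 (d + 2) D C[t]) (hV : Abelem 2 V) (hVt : V ≤ C[t]) (hn : D ≤ N(V)) :
    V ≤ zpowers t := by
  have hT := el12 ht
  have hDt : D ≤ C(zpowers t) := by rw [cent_zpowers]; exact hD.le
  have hW : Abelem 2 (V ⊔ zpowers t) := abelem_sup hV hT.ab (by rw [cent_zpowers]; exact hVt)
  have hWn : D ≤ N(V ⊔ zpowers t) := norms_sup hn (norms_of_cents hDt)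
  have cop : ∀ U : Subgroup G, Abelem 2 U → (#U).Coprime #D := fun U hU =>
    cop23 (abelem_pg Nat.prime_two hU) hD.pg
  refine le_sup_left.trans (H18.coprime_abelem_gen_cent hD hWn (cop _ hW) fun H hH => ?_)
  have hU := abelem_mono hW (inf_le_left (b := C(H)))
  have hUn : D ≤ N((V ⊔ zpowers t) ⊓ C(H)) :=
    norms_inf hWn (norms_cent (norms_of_comm hD.comm le_rfl hH.le))
  have htU : zpowers t ≤ (V ⊔ zpowers t) ⊓ C(H) :=
    le_inf le_sup_right (cents_symm (hH.le.trans hDt))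
  obtain ⟨k, hk⟩ := abelem_el Nat.prime_two hU inf_le_right
  generalize (V ⊔ zpowers t) ⊓ C(H) = U at hU hUn htU hk
  match k, hk with
  | 0, hk => exact absurd (hT.rank_le hk htU) (by omega)
  | 1, hk => exact (hT.eq_of_le hk htU).ge
  | 2, hk =>
    have h0 := ab_commg_inf_cent hk.comm hUn (cop _ hU)
    have hc : ⁅U, D⁆ = ⊥ := by
      rcases hk.sub2 (commg_le_left hUn) with e | e | e
      · exact e
      · rw [← h0, inf_eq_left.2 (cent_of_two e (commg_normr U D))]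
      · rw [e] at h0
        exact absurd (H19.eq_bot_mono (le_inf htU (cents_symm hDt)) h0) hT.ne_bot
    exact absurd (h.lemA' (hg.hg hD.ne_bot) hD.top (hk.of_le (commg_eq_bot.1 hc))) hm
  | k + 3, hk =>
    exact absurd ((h.lemA' ((hg.mono hH.le).hg hH.ne_bot) hH.top hk).mono (by omega)) hm

theorem exists_cr (h : Hy G) (hg : AG D) (hm : ¬ Good 3 (d + 3) G) (ht : orderOf t = 2)
    (hD : El 3 (d + 2) D C[t]) : ∃ K, Cr t K := by
  obtain ⟨K, h1, h3, h4, -, h5, h6⟩ :=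
    H3.exists_critical_small_amb (p := 2) (Oc_pi {2} C[t]).isPGroup
  have hn : C[t] ≤ N(K) := (Oc_norm _ _).trans h3
  have hK : K ≤ C[t] := h1.trans (Oc_le _ _)
  refine ⟨K, ht, (Oc_pi _ _).of_le h1, hK, hn, fun x hx => ?_, fun x hx he hc => ?_⟩
  · refine h.le_zp hg hm ht hD (abelem_Ohm1_center 2 K)
      ((Ohm1_le _ _).trans (inf_le_left.trans hK))
      ((hD.le.trans hn).trans (norm_le_norm_Ohm1_center 2 K))
      (mem_Ohm1 ⟨mul_mem hx hx, pow_two x ▸ h5 x hx⟩ ?_)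
    rcases h4 x hx with e | e
    · rw [← pow_two, e, one_pow]
    · rw [← pow_two, ← pow_mul]; exact e.2
  · exact PiN.e_eq_one ((Oc_pi {2} C[t]).elt (h.c2t ht ⟨hx,
      h6 x (Oc_norm _ _ hx) (he.coprime_prime Nat.prime_two) hc⟩)) he

theorem qp (hy : Hy G) (hK : Cr t K) (hg : AG D) (hm : ¬ Good 3 (d + 3) G)
    (hD : El 3 (d + 2) D C[t]) (hX : X ≤ K) (hn : D ≤ N(X)) (h : ¬ X ≤ C(D)) : QP t ⁅X, D⁆ := by
  have ho : PiG {2}ᶜ D := pg23 hD.pg
  have hM : ⁅X, D⁆ ≤ K := (commg_le_left hn).trans hX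
  have hMn := commg_normr X D
  have hMM := commg_commg hn ((hK.pg.of_le hX).coprime ho)
  have fp := fun Y => hK.fpf (Y := Y) hX hD.le hn ho
  rw [← commg_eq_bot] at h
  generalize ⁅X, D⁆ = M at hM hMn hMM fp h
  by_contra hq
  have hq' : ∀ a ∈ M, ∀ b ∈ M, a * a = t → b * b = t → a * b = b * a := fun a ha b hb e1 e2 => by
    by_contra e
    exact hq ⟨a, ha, b, hb, e1, e2, e⟩
  set U : Subgroup G := closure {b | b ∈ M ∧ b * b = t} with hU
  have hUM : U ≤ M := (closure_le _).2 fun b hb => hb.1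
  have hUa : Ab U := comm_iff_le_cent.2 ((closure_le _).2 fun a ha => le_cent1_iff.1
    ((closure_le _).2 fun b hb => mem_cent1.2 (hq' b hb.1 a ha.1 hb.2 ha.2)))
  have hUn : D ≤ N(U) := fun g hg => mem_norm_of_cj_le (by
    rw [cj_le_iff, closure_le]
    refine fun b hb => mem_cj_inv.2 (subset_closure ⟨conj_mem_of_norm (hMn hg) hb.1, ?_⟩)
    rw [conj_mul, hb.2, mem_cent1.1 (hD.le hg), mul_inv_cancel_right])
  have hO := hy.le_zp hg hm hK.t2 hD (abelem_Ohm1 hUa 2)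
    ((Ohm1_le _ _).trans (hUM.trans (hM.trans hK.le))) (norms_Ohm1 2 hUn)
  have hUT : U ≤ zpowers t := fp U hUM (commutator_le.2 fun u hu g hg => hO (by
    have hv := conj_mem_of_norm (hUn hg) (inv_mem hu)
    have e : ⁅u, g⁆ = u * (g * u⁻¹ * g⁻¹) := by simp [commutatorElement_def, mul_assoc]
    have c := mem_cent.1 (zp_cent hD.le (hK.sq _ (inv_mem (hM (hUM hu))))) g hg
    refine e ▸ mem_Ohm1 (mul_mem hu hv) ?_
    rw [(show Commute _ _ from mul_comm_of_comm hUa hu hv).mul_pow, pow_two, pow_two, conj_mul, c]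
    simp [mul_assoc]))
  have hs : ∀ x ∈ M, x * x = 1 := fun x hx => by
    refine ((mem_zp hK.t2).1 (hK.sq x (hM hx))).resolve_right fun e => ne1 hK.t2 ?_
    rcases (mem_zp hK.t2).1 (hUT (subset_closure ⟨hx, e⟩)) with e' | e'
    · rw [← e, e', one_mul]
    · rw [← e, e', sq1 hK.t2]
  have hMa : Abelem 2 M := ⟨comm_iff_le_cent.2 fun x hx => mem_cent.2 fun z hz => by
    have i : ∀ w ∈ M, w⁻¹ = w := fun w hw => inv_eq_of_mul_eq_one_right (hs w hw)
    rw [← i _ (mul_mem hz hx), mul_inv_rev, i x hx, i z hz], fun x hx => by rw [pow_two, hs x hx]⟩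
  exact h (hMM ▸ commg_eq_bot.2
    ((hy.le_zp hg hm hK.t2 hD hMa (hM.trans hK.le) hMn).trans (zp_cent hD.le)))

theorem step4 (hy : Hy G) (hm : ¬ Good 3 (d + 1 + 3) G) (h : Good 3 (d + 1 + 2) G) :
    ∃ E A : Subgroup G, AG E ∧ El 3 (d + 1) E ⊤ ∧ El 2 3 A C(E) := by
  obtain ⟨t, D, ht, hD⟩ := h
  have hg : AG D := hy.gdn (n := d) hD
  have h2 : 3 ≠ 2 := by decide
  obtain ⟨K, hK⟩ := hy.exists_cr hg hm ht hD
  obtain ⟨x, hx, x1⟩ := exists_ne_one hD.ne_bot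
  obtain ⟨H, hH, hxH⟩ := hK.exists_hyp h2 hD hx x1
  obtain ⟨y, hy0, y1⟩ := exists_ne_one hH.ne_bot
  obtain ⟨L, hL, hyL⟩ := hK.exists_hyp h2 hD (hH.le hy0) y1
  obtain ⟨a1, ha1, a2, ha2, e1, e2, na⟩ := hy.qp hK hg hm hD inf_le_left (hK.hn hD hH.le)
    fun e => hxH (cents_symm e hx)
  obtain ⟨b1, hb1, b2, hb2, f1, f2, nb⟩ := hy.qp hK hg hm hD inf_le_left (hK.hn hD hL.le)
    fun e => hyL (cents_symm e (hH.le hy0))
  have l1 := commg_le_left (hK.hn hD hH.le)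
  have l2 := commg_le_left (hK.hn hD hL.le)
  have hc := hK.hyp_cents hD hL (hH.le hy0) (fun e => hyL (cents_symm inf_le_right e))
    (inf_le_left (b := C(H))) (cents_symm inf_le_right hy0)
  have c : ∀ a ∈ ⁅K ⊓ C(H), D⁆, ∀ b ∈ ⁅K ⊓ C(L), D⁆, Commute a b := fun a ha b hb =>
    mem_cent.1 (hc hb) a (l1 ha)
  obtain ⟨E, hE⟩ := exists_el_inf hD hH hL
  have m1 : ∀ a ∈ ⁅K ⊓ C(H), D⁆, ∀ b ∈ ⁅K ⊓ C(L), D⁆, a * b ∈ C(E) := fun a ha b hb =>
    mul_mem (cent_mono (hE.le.trans inf_le_left) (l1 ha).2)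
      (cent_mono (hE.le.trans inf_le_right) (l2 hb).2)
  exact ⟨E, _, hg.mono (hE.le.trans (inf_le_left.trans hH.le)), hE.top, (hK.el3 (l1 ha1).1 (l1 ha2).1 (l2 hb1).1 (l2 hb2).1 e1 e2 f1 f2 na nb
    (c _ ha1 _ hb1) (c _ ha1 _ hb2) (c _ ha2 _ hb1) (c _ ha2 _ hb2)).of_le (sup_le (sup_le
    (zp_cent (hE.le.trans (inf_le_left.trans (hH.le.trans hD.le))))
    (zpowers_le.2 (m1 _ ha1 _ hb1))) (zpowers_le.2 (m1 _ ha2 _ hb2)))⟩

theorem step5 (hG : Hy G) (hm : ¬ Good 3 (d + 4) G) (hg : HG D)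
    (hD : El 3 (d + 1) D ⊤) (hA : El 2 3 A C(D)) : False := by
  have h2 : 3 ≠ 2 := by decide
  obtain ⟨P, L, hP, hPL, hL, oL, hPn, fP⟩ := hG.ex3 hg hD hA.pg hA.le
  have hPD := hPL.trans hL.le
  have nf : ∀ B, El 2 2 B A → ¬ B ≤ C(P) := fun B hB e =>
    hB.ne_bot (H19.eq_bot_mono (le_inf hB.le e) fP)
  obtain ⟨B, a, y, hB, ha, hy, hyB, yo, hi⟩ := step h2 hP hA hPn fun e =>
    hA.ne_bot (by rw [← fP, inf_eq_left.2 e])
  have hBD := hB.le.trans hA.le
  have hY := el1_zpowers hD.prime (mem_top y) yo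
  obtain ⟨S, u, z, hS, hu, hz, hzS, zo, hj⟩ := step (P := P ⊓ C(zpowers y)) h2 (hP.infl _) hB
    (norms_inf (hB.le.trans hPn) (norms_cent (norms_of_cents (cents_symm (zpowers_le.2 hyB)))))
    fun e => nf B hB (PxQ hP hY.pg (hB.pg.sing_ne h2.symm) (zpowers_le.2 hyB)
      (norms_of_le (zpowers_le.2 hy)) (hB.le.trans hPn) (cents_symm e))
  obtain ⟨s, -, s2, rfl⟩ := hS.exists_gen
  have hs : s ∈ B := hS.le (mem_zpowers s)
  have hE := el_adj h2 hD yo (hPD hy) hi (hA.le ha)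
  have hBE : B ≤ C(D ⊔ zpowers y) := cents_sup hBD (cents_symm (zpowers_le.2 hyB))
  have hzE : z ∈ C(D ⊔ zpowers y) := by rw [cent_sup]; exact ⟨hPD hz.1, hz.2⟩
  have hDE : D ≤ D ⊔ zpowers y := le_sup_left
  generalize D ⊔ zpowers y = E at hE hBE hzE hDE
  rw [cent_zpowers] at hzS
  have hF : El 3 (d + 3) (E ⊔ zpowers z) C[s] := (el_adj h2 hE zo hzE hj (hBE hu)).of_le
    (sup_le (le_cent1_iff.2 (hBE hs)) (zpowers_le.2 hzS))
  have hzF : z ∈ E ⊔ zpowers z := mem_sup_right (mem_zpowers z)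
  have gF : AG _ := hG.gdn hF
  obtain ⟨K, hK⟩ := hG.exists_cr gF hm s2 hF
  have hc : P ⊓ C[s] ≤ C(K ⊓ C(D)) := (inf_le_inf_right _ hPL).trans (cents_symm
    ((hK.pg.infl _).cents_of_norms (oL.infl _)
    (norms_inf (inf_le_right.trans hK.norm) (norms_of_le (inf_le_left.trans hL.le)))
    (norms_inf (inf_le_right.trans hL.norm) (norms_of_le (inf_le_left.trans hK.le)))))
  obtain ⟨H, hH, hzH⟩ := hK.exists_hyp h2 hF hzF (ne13 zo)
  obtain ⟨h, hh, hm'⟩ := moved h2 hE zo hzE hj (hBE hu) hH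
    (fun e => hzH (cents_symm inf_le_right e)) fun e =>
      hzH (cent_mono (inf_le_inf_left K (cent_mono (hDE.trans e))) (hc ⟨hz.1, hzS⟩))
  have u2 : u * u = 1 := by rw [← pow_two]; exact hB.ab.2 u hu
  have ui : u⁻¹ = u := inv_eq_of_mul_eq_one_right u2
  have us : u ∈ C[s] := mem_cent1.2 (mul_comm_of_comm hB.comm hu hs)
  have uK := hK.norm us
  have uF : u ∈ N(E ⊔ zpowers z) := by
    refine norms_sup (A := zpowers u) (norms_of_cents (zpowers_le.2 (hBE hu)))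
      (zpowers_le.2 (mem_norm_of_cj_le ?_)) (mem_zpowers u)
    rw [cj_zpowers, hj, zpowers_inv]
  have l1 := commg_le_left (hK.hn hF hH.le)
  obtain ⟨a1, ha1, a2, ha2, e1, e2, na⟩ := hG.qp hK gF hm hF inf_le_left (hK.hn hF hH.le)
    fun e => hzH (cents_symm e hzF)
  have hc2 := hK.hyp_cents hF hH (conj_mem_of_norm uF (hH.le hh)) hm'
    (X := cj u (K ⊓ C(H))) (cj_le_of_mem_norm uK inf_le_left)
    (by rw [← cj_cent, conj_mem_cj]; exact cents_symm inf_le_right hh)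
  have c : ∀ a ∈ ⁅K ⊓ C(H), E ⊔ zpowers z⁆, ∀ b ∈ ⁅K ⊓ C(H), E ⊔ zpowers z⁆,
      Commute a (u * b * u⁻¹) := fun a ha b hb =>
    (mem_cent.1 (hc2 ha) _ (conj_mem_cj.2 (l1 hb))).symm
  have sq : ∀ b, b * b = s → u * b * u⁻¹ * (u * b * u⁻¹) = s := fun b hb => by
    rw [conj_mul, hb, mem_cent1.1 us, mul_inv_cancel_right]
  have h3 := hK.el3 (l1 ha1).1 (l1 ha2).1 (conj_mem_of_norm uK (l1 ha1).1)
    (conj_mem_of_norm uK (l1 ha2).1) e1 e2 (sq _ e1) (sq _ e2) na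
    (fun e => na (by rw [conj_mul, conj_mul] at e; simpa using e))
    (c _ ha1 _ ha1) (c _ ha1 _ ha2) (c _ ha2 _ ha1) (c _ ha2 _ ha2)
  have uo : u ∉ K := fun e => by
    have : z * z ∈ K := by
      have := mul_mem (conj_mem_of_norm (hK.norm hzS) e) (inv_mem e)
      rwa [mul_assoc, mul_assoc, ← mul_assoc u, show u * z⁻¹ * u⁻¹ = z by
        rw [← conj_inv, hj, inv_inv]] at this
    have h1 := PiN.e_eq_one ((hP.of_le (zpowers_le.2 (mul_mem hz.1 hz.1))).elt (mem_zpowers _))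
      ((hK.pg.sing_ne h2.symm).elt this)
    exact h2 ((Nat.prime_dvd_prime_iff_eq hD.prime Nat.prime_two).1
      (zo ▸ orderOf_dvd_of_pow_eq_one (by rw [pow_two, h1])))
  have cu : ∀ b ∈ ⁅K ⊓ C(H), E ⊔ zpowers z⁆, b * (u * b * u⁻¹) ∈ C[u] := fun b hb =>
    mem_cent1.2 (by
      conv_rhs => rw [(c b hb b hb).eq]
      simp only [ui, ← mul_assoc, u2, one_mul]
      rw [mul_assoc (b * u * b), u2, mul_one])
  have h4 := h3.sup (el1_zpowers' Nat.prime_two (mem_top u) (by rw [pow_two, u2])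
    fun e => uo (e ▸ one_mem _)) (by
      rw [cent_zpowers]
      exact sup_le (sup_le (zpowers_le.2 (mem_cent1_symm.1 us)) (zpowers_le.2 (cu _ ha1)))
        (zpowers_le.2 (cu _ ha2))) fun e => uo (sup_le (sup_le (zpowers_le.2
          (e1 ▸ mul_mem (l1 ha1).1 (l1 ha1).1))
          (zpowers_le.2 (mul_mem (l1 ha1).1 (conj_mem_of_norm uK (l1 ha1).1))))
          (zpowers_le.2 (mul_mem (l1 ha2).1 (conj_mem_of_norm uK (l1 ha2).1))) (e (mem_zpowers u)))
  obtain ⟨W, hW⟩ := exists_el_inf hF hH (hE.of_le le_sup_left)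
  have uW : u ∈ C(W) := cent_mono (hW.le.trans inf_le_right) (hBE hu)
  have m1 : ∀ b ∈ ⁅K ⊓ C(H), E ⊔ zpowers z⁆, b * (u * b * u⁻¹) ∈ C(W) := fun b hb => by
    have := cent_mono (hW.le.trans inf_le_left) (l1 hb).2
    exact mul_mem this (mul_mem (mul_mem uW this) (inv_mem uW))
  exact hm (hG.lemA' (m := d + 1) (n := 3)
    ((gF.mono (hW.le.trans (inf_le_left.trans hH.le))).hg hW.ne_bot) hW.top (h4.of_le (sup_le (sup_le (sup_le
    (zpowers_le.2 (cent_mono (hW.le.trans inf_le_right) (hBE hs)))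
    (zpowers_le.2 (m1 _ ha1))) (zpowers_le.2 (m1 _ ha2))) (zpowers_le.2 uW))))

theorem ng3 (h : Hy G) : ¬ Good 3 3 G := fun h0 => by
  have all : ∀ d, Good 3 (d + 3) G := fun d => by
    induction d with
    | zero => exact h0
    | succ d ih =>
      by_contra hm
      obtain ⟨E, A, hg, hE, hA⟩ := h.step4 (d := d) hm ih
      exact h.step5 hm (hg.hg hE.ne_bot) hE hA
  obtain ⟨t, D, -, hD⟩ := all (Nat.card G)
  have := hD.top.lt_card
  rw [card_top] at this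
  omega

theorem gfO (h : Hy G) (ht : orderOf t = 2) :
    (generalizedFittingSubgroup C[t]).map C[t].subtype = Oc {2} C[t] := by
  have := Fact.mk Nat.prime_two
  rw [H1.gf_eq_pCore_iff_of_subgroup.2 (pCore_map_eq Nat.prime_two C[t] ▸ h.c2t ht),
    pCore_map_eq Nat.prime_two]

theorem symp (h : Hy G) (ht : orderOf t = 2) (hD : El 3 2 D C[t]) :
    IsOfSymplecticType (generalizedFittingSubgroup C[t]) := by
  have e := h.gfO ht
  generalize hF : generalizedFittingSubgroup C[t] = F at e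
  have : F.Normal := hF ▸ inferInstance
  have i := C[t].subtype_injective
  have pF : IsPGroup 2 F := (show PG 2 (F.map C[t].subtype) from e ▸ Oc_pi {2} C[t]).isPGroup.of_equiv
    (F.equivMapOfInjective _ i).symm
  refine ⟨pF, fun A hA ab => ?_⟩
  have n := normalIn_map_subtype (A.map F.subtype)
  have j := ((A.equivMapOfInjective _ F.subtype_injective).trans
    ((A.map F.subtype).equivMapOfInjective _ i))
  have pA : PG 2 _ := PiN.of_isPGroup Nat.prime_two ((pF.to_subgroup A).of_equiv j)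
  have aA : Ab ((A.map F.subtype).map C[t].subtype) := inferInstance
  generalize (A.map F.subtype).map C[t].subtype = A' at n j pA aA
  have k := h.le_zp (d := 0) (h.all_gd ht hD) h.ng3 ht hD (abelem_Ohm1 aA 2) ((Ohm1_le _ _).trans n.le)
    (norms_Ohm1 2 (hD.le.trans n.norm))
  exact isCyclic_of_surjective j.symm j.symm.surjective (hH := H4.isCyclic_of_card_omega_le
    pA.isPGroup aA ((card_le (fun x hx => k (mem_Ohm1 hx.1 hx.2) : H4.omegaComm A' aA 2 ≤ _)).trans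
      (el12 ht).card.le))

theorem not8 (h : Hy G) (ht : orderOf t = 2) (hD : El 3 2 D C[t]) : #(Oc {2} C[t]) ≠ 8 := fun e => by
  have z := le_Oc ⟨zpowers_le.2 (mem_cent1_self t), cent1_le_norm_zpowers t⟩ (el12 ht).pg
  have k := faith_bd (Oc_pi {2} C[t]) (ne_bot_mono z (el12 ht).ne_bot) 1 hD.pg
    (hD.le.trans (Oc_norm _ _)) (by have := card_pos (Oc {2} C[t] ⊓ C(D)); omega)
  rw [H19.eq_bot_mono (le_inf inf_le_left ((inf_le_inf_right _ hD.le).trans (h.c2t ht)))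
    ((pg23 hD.pg).inf_eq_bot' (Oc_pi _ _)), card_bot, e, hD.card] at k
  omega


/-- a good element of order three centralizes no `2 ^ 3` -/
theorem no8 (h : Hy G) (hy : orderOf y = 3) (g : Gd y) : ¬ El 2 3 A C[y] := fun hA =>
  h.ng3 (h.lemA' (m := 1) (n := 2) ⟨y, mem_zpowers y, ne13 hy, g⟩ (el13 hy)
    (by rwa [cent_zpowers]))

/-- a `3 ^ 2` centralizes no `2 ^ 2` -/
theorem no4 (h : Hy G) (hD : El 3 2 D M) : ¬ El 2 2 A C(D) := fun hA =>
  h.ng3 (h.lemA' (m := 2) (n := 1) (h.hg2 hD) hD.top hA)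

/-- a `3 ^ 3` has a centralizer of odd order -/
theorem no2 (h : Hy G) (ht : orderOf t = 2) : ¬ El 3 3 D C[t] := fun hD => h.ng3 ⟨t, D, ht, hD⟩

theorem zp (h : Hy G) (ht : orderOf t = 2) (hD : El 3 2 D C[t]) (hV : Abelem 2 V)
    (hVt : V ≤ C[t]) (hn : D ≤ N(V)) : V ≤ zpowers t :=
  h.le_zp (d := 0) (h.all_gd ht hD) h.ng3 ht hD hV hVt hn

end Hy

end H21.MB
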