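import Cfsg.Agent.H21.MCA0

/-! Checked inequalities, part 2. -/

set_option autoImplicit false
set_option maxRecDepth 100000

namespace H21.MC.A

open Equiv

variable {V : Type*} [AddCommGroup V] [Module (ZMod 2) V] [FiniteDimensional (ZMod 2) V]
  (ρ : Perm (Fin 9) →* Module.End (ZMod 2) V)

theorem c16 : (d ρ r0 + (d ρ r27 + (d ρ r27 + 0))) ≤ (d ρ r5 + (d ρ r6 + (d ρ r6 + 0))) :=
  pm ρ (src := [r0, r27, r27]) (m := 16) (CI := 2663648288428366573436144616889909248)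
    (G := [36344967696, 10861495056, 14049313281, 13563745296, 9468016641, 18630583041, 18027603216, 34951489281, 23211422721, 31763671056, 22601561616, 32249239041, 27785381121, 27182401296, 36344967696, 36344967696])
    (gs := [⟨10861495056, 20011295508171557528354450382621311745, 20011315554435697467740779535812263945, [[], [], [], [], [], [], [], [], [], [], [], [], [], [], [0], [0]]⟩, ⟨14049313281, 20011275146223121056986112542034101250, 20011275146223121056986112542034101250, [[], [], [], [], [], [], [], [], [], [], [], [], [], [], [1], [1]]⟩])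
    (tgt := [⟨r5, 36344967696, 1329228075322563415508292494103216128, [[0]]⟩, ⟨r6, 27234152706, 5212658806994947723334882059944193, [[1]]⟩, ⟨r6, 27234152706, 1334440575362544102909673684483440640, [[1]]⟩])
    (ins := [(1, 0), (0, 2), (0, 4), (0, 1), (1, 2), (0, 2), (1, 3), (0, 3), (1, 4), (0, 3), (1, 4), (0, 3), (0, 2)])
    (rows := [(0, [1, 1, 1, 0, 0, 1, 0, 0, 0, 1, 1, 0, 1]), (14, [0, 1, 0, 0, 1, 1, 0, 0, 1, 1, 0, 1, 0, 0, 1]), (15, [1, 1, 1, 1, 1, 1, 1, 1, 1, 1, 1, 1, 0, 0, 1, 1])]) (by decide +kernel)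

theorem c17 : d ρ r28 ≤ 2 * d ρ r58 :=
  idx ρ (t := 32302707216) (c := 36344967696) (w := []) (w1 := [[0], [1]]) (w2 := [[0], [1, 0], [2]]) (by decide +kernel)

theorem c18 : (d ρ r94 + (d ρ r149 + (d ρ r149 + 0))) ≤ (d ρ r133 + (d ρ r133 + (d ρ r130 + 0))) :=
  pm ρ (src := [r94, r149, r149]) (m := 8) (CI := 144396663052566528)
    (G := [13438896246, 4331951751, 8610142311, 9396635496, 5102716806, 840255096, 36344967696, 36344967696])
    (gs := [⟨28039254051, 506096414762533633, 506094228640890883, [[0, 0, 0, 1, 0], [], [0, 1], [], [0, 1, 0], [], [2, 2, 1], [2, 2, 1]]⟩, ⟨36092321811, 506095311039497218, 506095311039497218, [[1, 0, 0, 0], [0, 1], [], [0, 1, 0], [], [1, 0, 0], [2, 0, 0], [2, 0, 0]]⟩])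
    (tgt := [⟨r133, 13439104326, 72339073326448641, [[0, 1, 0, 1, 0, 0, 1], [0, 0, 0, 1, 0], [0, 0, 0, 0, 0, 1]]⟩, ⟨r133, 13439104326, 281474993553408, [[0, 1, 0, 1, 0, 0, 1], [0, 0, 0, 1, 0], [0, 0, 0, 0, 0, 1]]⟩, ⟨r130, 36342730836, 282578783371264, [[0, 1, 1, 1, 1], [0, 1, 0, 0, 1, 0, 0]]⟩])
    (ins := [(0, 0), (0, 2), (1, 4), (0, 2), (0, 2)])
    (rows := [(0, [1, 1, 0, 0, 0, 1, 0, 1]), (6, [1, 0, 1, 1, 0, 0, 1, 1]), (7, [1, 1, 1, 1, 1, 1, 1, 1])]) (by decide +kernel)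

theorem c19 : (d ρ r15 + (d ρ r102 + (d ρ r102 + 0))) ≤ (d ρ r49 + (d ρ r49 + (d ρ r53 + 0))) :=
  pm ρ (src := [r15, r102, r102]) (m := 8) (CI := 144396663052566528)
    (G := [36344967696, 23227220496, 32267194896, 18111357456, 27182789136, 14065041936, 36344967696, 36344967696])
    (gs := [⟨23227220496, 506095315334725633, 506095315334725633, [[0], [], [1], [1, 0], [], [], [0], [0]]⟩, ⟨32267194896, 506096427663885058, 506096427663885058, [[1, 0], [1], [], [], [0], [], [1], [1]]⟩])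
    (tgt := [⟨r49, 14065103376, 72339069031481601, [[1], [0, 0, 1]]⟩, ⟨r49, 14065103376, 72058697861300480, [[1], [0, 0, 1]]⟩, ⟨r53, 36344967696, 72340168526332160, [[0, 0, 1, 0], [1, 1, 1, 0]]⟩])
    (ins := [(0, 0), (0, 2), (0, 4), (1, 2), (1, 2)])
    (rows := [(0, [0, 0, 1, 1, 0, 1, 1]), (6, [1, 1, 0, 1, 1, 1, 1]), (7, [1, 0, 0, 1, 0, 0, 1])]) (by decide +kernel)

theorem c20 : d ρ r86 ≤ d ρ r38 :=
  mon ρ (c := 32317452816) (ws := [[1, 0, 0, 0], [0, 1, 0, 0], [2, 1, 1, 0]]) (by decide +kernel)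

theorem c21 : d ρ r114 + d ρ r114 ≤ d ρ r68 + d ρ r128 :=
  sub ρ (a' := [8614602051, 310801731, 18077934081]) (b' := [309879861, 8614602051, 4333979496]) (c1 := 31813091361) (c2 := 22347389031) (c3 := 561538371)
    (w1 := [[0], [1], [2], [0], [1]]) (w2 := [[0], [1], [2], [1], [2, 2, 1]]) (w3 := [[0], [2, 0, 5, 1], [2, 5, 3, 2]]) (by decide +kernel)

theorem c22 : (d ρ r48 + (d ρ r20 + 0)) ≤ (d ρ r8 + (d ρ z0 + 0)) :=
  pm ρ (src := [r48, r20]) (m := 11) (CI := 1213666705181741055737856)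
    (G := [31744086816, 5973234471, 19076240166, 1685607201, 1902662436, 19160663346, 17549460786, 17287972146, 4418995506, 1902413106, 1685161266])
    (gs := [⟨36093112896, 10927685746723987665256960, 10927685746723987665256960, [[1, 0], [], [], [], [], [1], [0, 0, 1], [], [], [], []]⟩, ⟨34734354951, 9718796604707302512132865, 10918296209596009718874115, [[], [], [1, 1], [], [0, 0], [], [], [], [0, 0, 0], [], [0, 0]]⟩])
    (tgt := [⟨r8, 31743575346, 1208944266359806690918656, [[1, 1, 0, 1, 0, 1, 0], [1, 1, 0, 1, 1, 0, 1, 0, 1]]⟩, ⟨z0, 35524784646, 4311810305, [[0], [1, 0, 1, 1, 0, 1, 0]]⟩])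
    (ins := [(0, 0), (1, 1), (1, 1), (0, 1), (0, 1), (1, 1)])
    (rows := [(0, [0, 0, 1, 0, 1, 1, 1, 1]), (5, [1, 1, 0, 1, 0, 1, 1, 1])]) (by decide +kernel)

theorem c23 : d ρ r94 + d ρ r95 ≤ d ρ r48 + d ρ r149 :=
  sub ρ (a' := [31547671056, 23746265616]) (b' := [36061589796, 23730336036]) (c1 := 32318435856) (c2 := 23494526001) (c3 := 17232394341)
    (w1 := [[0], [1], [1, 1, 1, 0], [0, 1, 0, 0]]) (w2 := [[0], [1], [1, 0, 1, 1], [0, 0]]) (w3 := [[3, 1], [2, 0, 0, 0], [3, 0, 0]]) (by decide +kernel)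

theorem c24 : d ρ r148 + d ρ r165 ≤ d ρ r141 + d ρ z1 :=
  sub ρ (a' := [18075844641, 32282861601, 27182727681]) (b' := [14100615456, 18111418656, 32231543856, 23227220496]) (c1 := 18539030151) (c2 := 36344967696) (c3 := 17272349031)
    (w1 := [[0], [1], [2], [1, 0, 2], [2, 1, 1, 1, 0], [0, 2, 2, 0, 1]]) (w2 := [[0], [1], [2], [3], [0], [1], [3]]) (w3 := [[2, 5, 6, 1, 1], [2, 4, 1, 5, 3, 0]]) (by decide +kernel)

theorem c25 : (d ρ r46 + 0) ≤ (d ρ r44 + (d ρ r91 + 0)) :=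
  pm ρ (src := [r46]) (m := 10) (CI := 0)
    (G := [35772569376, 22689555201, 35769430386, 19418777106, 22689181731, 35771515671, 19412297271, 19418722566, 22683260451, 19412494086])
    (gs := [⟨22402326561, 23777998923875706209025, 37871455512455933263875, [[], [], [1, 0, 0, 0, 0, 0], [], [0, 1, 0, 0, 0, 0], [], [1, 0], [], [], []]⟩, ⟨34734343986, 14333698577449074623490, 37908492263665755489540, [[0, 0, 0, 0, 0], [0], [], [0, 1, 0, 0, 0, 0], [], [], [], [0, 1, 0], [0, 1, 0, 0, 0], [1, 0, 0, 0]]⟩])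
    (tgt := [⟨r44, 35776586256, 4722438540467978109185, [[1, 0, 1, 1, 1, 0, 1, 1], [0, 0, 1, 1, 1]]⟩, ⟨r91, 35775541776, 4722366483973468585984, [[0, 0, 1, 1, 1], [1, 1, 1, 0, 1, 0, 1], [1, 1, 1, 0, 0, 1, 0, 1]]⟩])
    (ins := [(1, 0), (0, 2), (1, 3), (1, 2)])
    (rows := [(0, [1, 1, 1, 1, 1])]) (by decide +kernel)

theorem c26 : (d ρ r2 + (d ρ r33 + (d ρ r33 + 0))) ≤ (d ρ r10 + (d ρ r15 + (d ρ r15 + 0))) :=
  pm ρ (src := [r2, r33, r33]) (m := 8) (CI := 144396663052566528)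
    (G := [22601561616, 18559174416, 18574968336, 22601492496, 22585702416, 22585829136, 36344967696, 36344967696])
    (gs := [⟨28039258896, 506096414762533633, 506094228640890883, [[0], [], [], [], [0], [], [0], [0]]⟩, ⟨32317452816, 506095311039497218, 506095311039497218, [[], [], [], [0], [], [0], [1], [1]]⟩])
    (tgt := [⟨r10, 36344967696, 281474993488129, [[0]]⟩, ⟨r15, 36327073296, 282574505181185, [[1], [1, 0, 0, 0]]⟩, ⟨r15, 36327073296, 72339069014704129, [[1], [1, 0, 0, 0]]⟩])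
    (ins := [(1, 0), (0, 2), (0, 4), (0, 1), (0, 1)])
    (rows := [(0, [0, 0, 1, 0, 0, 1, 1, 1]), (6, [0, 1, 0, 1, 0, 0, 1]), (7, [1, 1, 1, 1, 1, 1, 1, 1])]) (by decide +kernel)

theorem c27 : d ρ r163 + d ρ r163 ≤ d ρ r88 + d ρ z4 :=
  sub ρ (a' := [28039258896, 28038026256, 32232522336, 22605754656]) (b' := [28037039376, 28038026256, 25906459671, 22588950291]) (c1 := 18027603216) (c2 := 13496637441) (c3 := 36344967696)
    (w1 := [[0], [1], [2], [3], [0], [1], [3, 3, 0, 0]]) (w2 := [[0], [1], [2], [3], [1, 0, 0, 0], [1], [2, 2, 1, 0, 0]]) (w3 := [[2, 3, 6, 3, 2], [7, 3, 3, 2, 7]]) (by decide +kernel)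

theorem c28 : (d ρ r88 + (d ρ r44 + 0)) ≤ (d ρ r34 + (d ρ z0 + 0)) :=
  pm ρ (src := [r88, r44]) (m := 11) (CI := 1213666705181741055737856)
    (G := [31700894496, 31700820816, 6279234096, 31700702016, 6279090816, 31696900896, 31694799696, 6283350576, 31697937216, 6283216176, 6283404336])
    (gs := [⟨36343788816, 8509797286628229627642625, 10913500344368320898793475, [[], [], [2, 0, 2, 0, 0], [], [0, 2, 0, 0], [], [], [], [], [], []]⟩, ⟨17571521376, 10927703977297478284214530, 10927703977297478284214530, [[0, 0], [0], [], [0, 0], [], [1, 1], [1], [], [0, 0, 0, 1], [1, 0, 0, 1], [1, 1, 0, 0]]⟩])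
    (tgt := [⟨r34, 35772331536, 1213648186378973796696065, [[1, 0, 1, 0, 0, 1, 0, 1, 0], [0, 1, 0, 0, 1, 0, 1, 0, 1]]⟩, ⟨z0, 32318296116, 1213666705181745367548161, [[1, 0, 0, 1, 0, 1], [0, 1, 0, 1, 0, 0, 1]]⟩])
    (ins := [(0, 0), (0, 0), (1, 1), (1, 1), (0, 1), (0, 1), (0, 1), (0, 1), (1, 1)])
    (rows := [(0, [1, 1, 0, 1, 1, 0, 0, 1, 1, 0, 1]), (5, [1, 0, 0, 0, 1, 1, 1, 1])]) (by decide +kernel)

theorem c29 : d ρ r128 ≤ d ρ r86 :=
  mon ρ (c := 14302077456) (ws := [[2], [1, 1, 2, 0, 0], [1, 2, 0, 0, 0, 0]]) (by decide +kernel)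

theorem c30 : (d ρ r94 + (d ρ r94 + (d ρ r88 + 0))) ≤ (d ρ r48 + (d ρ r129 + (d ρ r129 + 0))) :=
  pm ρ (src := [r94, r94, r88]) (m := 8) (CI := 144679241852649472)
    (G := [22601561616, 9719674896, 22601434896, 22601561616, 9719674896, 22601434896, 36344967696, 32315290896])
    (gs := [⟨32315290896, 434320308636287488, 434320308636287488, [[0, 0, 1], [], [], [0, 0, 1], [], [], [], []]⟩, ⟨32315360016, 434320308636287488, 434320308636287488, [[0], [0, 0, 1, 0], [0, 0, 0, 1], [0], [0, 0, 1, 0], [0, 0, 0, 1], [2], [2, 2, 1, 0, 0]]⟩, ⟨27785442576, 434321399574822913, 434321399574822913, [[], [], [0, 0, 1], [], [], [0, 0, 1], [0, 0], [0, 0, 0, 0]]⟩])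
    (tgt := [⟨r48, 22601561616, 72057598332961024, [[1, 0], [0, 1]]⟩, ⟨r129, 36344967696, 72339069014704385, [[0, 1, 1, 2], [1, 2, 0, 1], [1], [1, 1, 0]]⟩, ⟨r129, 36344967696, 1103823438081, [[0, 1, 1, 2], [1, 2, 0, 1], [1], [1, 1, 0]]⟩])
    (ins := [(0, 0), (2, 1), (2, 1), (0, 1)])
    (rows := [(0, [1, 0, 1, 0, 0, 1]), (3, [0, 0, 0, 1, 1, 1, 1]), (6, [1, 1, 0, 0, 1, 1, 1])]) (by decide +kernel)

theorem c31 : (d ρ r14 + (d ρ r88 + (d ρ r88 + (d ρ r88 + 0)))) ≤ (d ρ r48 + (d ρ r50 + (d ρ r50 + (d ρ r39 + 0)))) :=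
  pm ρ (src := [r14, r88, r88, r88]) (m := 12) (CI := 930877603469747334168969216)
    (G := [22601561616, 9468020496, 13997868816, 22601492496, 22082447376, 9751193616, 13997995536, 14296839696, 9751136016, 36344967696, 36344967696, 36344967696])
    (gs := [⟨28037039376, 3416466960340039667682640641, 3416466997017919065290047491, [[1, 0], [], [0], [], [1], [1], [1], [0], [0], [1, 0, 0, 0], [1, 0, 0, 0], [1, 0, 0, 0]]⟩, ⟨28038145296, 3416466922943829519672607746, 3416466978498829321318172421, [[], [], [], [], [], [], [], [], [], [2, 2, 0], [2, 2, 0], [2, 2, 0]]⟩])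
    (tgt := [⟨r48, 22601561616, 310698658079781636559339521, [[1, 1, 0], [1, 0, 0, 0, 0, 0]]⟩, ⟨r50, 14296839696, 309489732259885532424765440, [[0, 1, 0, 1], [1, 0, 1, 0]]⟩, ⟨r50, 14296778256, 309485028268370617427820544, [[1, 1, 0, 0, 0], [0, 1, 1, 0, 0]]⟩, ⟨r39, 36344967696, 16777473, [[1, 1, 0, 1], [1, 0, 1, 1]]⟩])
    (ins := [(0, 0), (0, 2), (1, 3), (0, 5), (1, 7), (0, 4), (0, 2), (1, 2)])
    (rows := [(0, [0, 1, 1, 0, 0, 1, 0, 1, 0, 1, 1, 1]), (9, [0, 1, 0, 0, 1, 1, 1, 0, 0, 1, 1]), (10, [0, 0, 1, 0, 0, 1, 1, 1, 1, 1]), (11, [1, 1, 0, 1, 1, 0, 0, 0, 0, 0, 1, 1])]) (by decide +kernel)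

end H21.MC.A
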