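import Cfsg.Agent.H21.MCB1
import Cfsg.Agent.H21.MCB2
import Cfsg.Agent.H21.MCB3
import Cfsg.Agent.H21.MCB4

/-! A nonzero module of `S_10` in characteristic 5 has a vector fixed by a nonsolvable subgroup. -/

set_option autoImplicit false
set_option maxRecDepth 100000

namespace H21.MC.B

open Equiv

variable {V : Type*} [AddCommGroup V] [Module (ZMod 5) V] [FiniteDimensional (ZMod 5) V]
  (ρ : Perm (Fin 10) →* Module.End (ZMod 5) V)

theorem main (hz : NoFix ρ) : Subsingleton V := by
  apply subsingleton_of_d (ρ := ρ)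
  show d ρ r0 = 0
  have hz0 : d ρ z0 = 0 := zero hz (by decide +kernel)
  have hz1 : d ρ z1 = 0 := zero hz (by decide +kernel)
  have hz2 : d ρ z2 = 0 := zero hz (by decide +kernel)
  have hz3 : d ρ z3 = 0 := zero hz (by decide +kernel)
  have hz4 : d ρ z4 = 0 := zero hz (by decide +kernel)
  have H := Nat.mul_le_mul_left 113506550392 (c0 ρ)
  replace H := Nat.add_le_add H (Nat.mul_le_mul_left 321823308232 (c1 ρ))
  replace H := Nat.add_le_add H (Nat.mul_le_mul_left 115590409810 (c2 ρ))
  replace H := Nat.add_le_add H (Nat.mul_le_mul_left 117105569782 (c3 ρ))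
  replace H := Nat.add_le_add H (Nat.mul_le_mul_left 321823308232 (c4 ρ))
  replace H := Nat.add_le_add H (Nat.mul_le_mul_left 250543244604 (c5 ρ))
  replace H := Nat.add_le_add H (Nat.mul_le_mul_left 76447098800 (c6 ρ))
  replace H := Nat.add_le_add H (Nat.mul_le_mul_left 1112120265584 (c7 ρ))
  replace H := Nat.add_le_add H (Nat.mul_le_mul_left 23536772440 (c8 ρ))
  replace H := Nat.add_le_add H (Nat.mul_le_mul_left 323937061552 (c9 ρ))
  replace H := Nat.add_le_add H (Nat.mul_le_mul_left 99068154643 (c10 ρ))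
  replace H := Nat.add_le_add H (Nat.mul_le_mul_left 409292155240 (c11 ρ))
  replace H := Nat.add_le_add H (Nat.mul_le_mul_left 364429194246 (c12 ρ))
  replace H := Nat.add_le_add H (Nat.mul_le_mul_left 205773042745 (c13 ρ))
  replace H := Nat.add_le_add H (Nat.mul_le_mul_left 21090471792 (c14 ρ))
  replace H := Nat.add_le_add H (Nat.mul_le_mul_left 737148702744 (c15 ρ))
  replace H := Nat.add_le_add H (Nat.mul_le_mul_left 62514069771 (c16 ρ))
  replace H := Nat.add_le_add H (Nat.mul_le_mul_left 38399169624 (c17 ρ))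
  replace H := Nat.add_le_add H (Nat.mul_le_mul_left 17936511685 (c18 ρ))
  replace H := Nat.add_le_add H (Nat.mul_le_mul_left 23536772440 (c19 ρ))
  replace H := Nat.add_le_add H (Nat.mul_le_mul_left 1020903620688 (c20 ρ))
  replace H := Nat.add_le_add H (Nat.mul_le_mul_left 368574351372 (c21 ρ))
  replace H := Nat.add_le_add H (Nat.mul_le_mul_left 238581967864 (c22 ρ))
  replace H := Nat.add_le_add H (Nat.mul_le_mul_left 58598376820 (c23 ρ))
  replace H := Nat.add_le_add H (Nat.mul_le_mul_left 196401313516 (c24 ρ))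
  replace H := Nat.add_le_add H (Nat.mul_le_mul_left 175867336432 (c25 ρ))
  replace H := Nat.add_le_add H (Nat.mul_le_mul_left 2508561495 (c26 ρ))
  replace H := Nat.add_le_add H (Nat.mul_le_mul_left 6044003002 (c27 ρ))
  replace H := Nat.add_le_add H (Nat.mul_le_mul_left 354622964496 (c28 ρ))
  replace H := Nat.add_le_add H (Nat.mul_le_mul_left 4751891026 (c29 ρ))
  replace H := Nat.add_le_add H (Nat.mul_le_mul_left 279288294432 (c30 ρ))
  replace H := Nat.add_le_add H (Nat.mul_le_mul_left 114597008287 (c31 ρ))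
  replace H := Nat.add_le_add H (Nat.mul_le_mul_left 478106702888 (c32 ρ))
  replace H := Nat.add_le_add H (Nat.mul_le_mul_left 76798339248 (c33 ρ))
  replace H := Nat.add_le_add H (Nat.mul_le_mul_left 174284949318 (c34 ρ))
  replace H := Nat.add_le_add H (Nat.mul_le_mul_left 685037749 (c35 ρ))
  replace H := Nat.add_le_add H (Nat.mul_le_mul_left 137144517863 (c36 ρ))
  replace H := Nat.add_le_add H (Nat.mul_le_mul_left 370464772368 (c37 ρ))
  replace H := Nat.add_le_add H (Nat.mul_le_mul_left 1119735745632 (c38 ρ))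
  replace H := Nat.add_le_add H (Nat.mul_le_mul_left 377177105472 (c39 ρ))
  replace H := Nat.add_le_add H (Nat.mul_le_mul_left 2041807241376 (c40 ρ))
  replace H := Nat.add_le_add H (Nat.mul_le_mul_left 582274754429 (c41 ρ))
  replace H := Nat.add_le_add H (Nat.mul_le_mul_left 205952364184 (c42 ρ))
  replace H := Nat.add_le_add H (Nat.mul_le_mul_left 85075301724 (c43 ρ))
  replace H := Nat.add_le_add H (Nat.mul_le_mul_left 38399169624 (c44 ρ))
  replace H := Nat.add_le_add H (Nat.mul_le_mul_left 559867872816 (c45 ρ))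
  replace H := Nat.add_le_add H (Nat.mul_le_mul_left 170150603448 (c46 ρ))
  replace H := Nat.add_le_add H (Nat.mul_le_mul_left 323937061552 (c47 ρ))
  replace H := Nat.add_le_add H (Nat.mul_le_mul_left 1102771316 (c48 ρ))
  replace H := Nat.add_le_add H (Nat.mul_le_mul_left 6460520552 (c49 ρ))
  replace H := Nat.add_le_add H (Nat.mul_le_mul_left 239053351444 (c50 ρ))
  replace H := Nat.add_le_add H (Nat.mul_le_mul_left 64294357088 (c51 ρ))
  replace H := Nat.add_le_add H (Nat.mul_le_mul_left 737148702744 (c52 ρ))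
  replace H := Nat.add_le_add H (Nat.mul_le_mul_left 66201974520 (c53 ρ))
  replace H := Nat.add_le_add H (Nat.mul_le_mul_left 151589633168 (c54 ρ))
  replace H := Nat.add_le_add H (Nat.mul_le_mul_left 1180645610927 (c55 ρ))
  replace H := Nat.add_le_add H (Nat.mul_le_mul_left 121476398082 (c56 ρ))
  replace H := Nat.add_le_add H (Nat.mul_le_mul_left 97888811040 (c57 ρ))
  replace H := Nat.add_le_add H (Nat.mul_le_mul_left 1228789367104 (c58 ρ))
  replace H := Nat.add_le_add H (Nat.mul_le_mul_left 32629603680 (c59 ρ))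
  replace H := Nat.add_le_add H (Nat.mul_le_mul_left 139644147216 (c60 ρ))
  replace H := Nat.add_le_add H (Nat.mul_le_mul_left 1537003402751 (c61 ρ))
  replace H := Nat.add_le_add H (Nat.mul_le_mul_left 16096102069 (c62 ρ))
  replace H := Nat.add_le_add H (Nat.mul_le_mul_left 2224240531168 (c63 ρ))
  replace H := Nat.add_le_add H (Nat.mul_le_mul_left 237344304760 (c64 ρ))
  replace H := Nat.add_le_add H (Nat.mul_le_mul_left 2319595235664 (c65 ρ))
  replace H := Nat.add_le_add H (Nat.mul_le_mul_left 3193599244 (c66 ρ))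
  replace H := Nat.add_le_add H (Nat.mul_le_mul_left 1457716776984 (c67 ρ))
  replace H := Nat.add_le_add H (Nat.mul_le_mul_left 118299524956 (c68 ρ))
  replace H := Nat.add_le_add H (Nat.mul_le_mul_left 170150603448 (c69 ρ))
  replace H := Nat.add_le_add H (Nat.mul_le_mul_left 174284949318 (c70 ρ))
  replace H := Nat.add_le_add H (Nat.mul_le_mul_left 728858388492 (c71 ρ))
  replace H := Nat.add_le_add H (Nat.mul_le_mul_left 168226629736 (c72 ρ))
  replace H := Nat.add_le_add H (Nat.mul_le_mul_left 240767382014 (c73 ρ))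
  replace H := Nat.add_le_add H (Nat.mul_le_mul_left 510451810344 (c74 ρ))
  replace H := Nat.add_le_add H (Nat.mul_le_mul_left 386558365154 (c75 ρ))
  replace H := Nat.add_le_add H (Nat.mul_le_mul_left 822571930239 (c76 ρ))
  replace H := Nat.add_le_add H (Nat.mul_le_mul_left 12075819947 (c77 ρ))
  replace H := Nat.add_le_add H (Nat.mul_le_mul_left 2185414150 (c78 ρ))
  replace H := Nat.add_le_add H (Nat.mul_le_mul_left 49875272221 (c79 ρ))
  replace H := Nat.add_le_add H (Nat.mul_le_mul_left 168226629736 (c80 ρ))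
  replace H := Nat.add_le_add H (Nat.mul_le_mul_left 685037749 (c81 ρ))
  replace H := Nat.add_le_add H (Nat.mul_le_mul_left 79767520354 (c82 ρ))
  replace H := Nat.add_le_add H (Nat.mul_le_mul_left 1237663104 (c83 ρ))
  replace H := Nat.add_le_add H (Nat.mul_le_mul_left 490699367364 (c84 ρ))
  replace H := Nat.add_le_add H (Nat.mul_le_mul_left 139455493720 (c85 ρ))
  replace H := Nat.add_le_add H (Nat.mul_le_mul_left 364429194246 (c86 ρ))
  replace H := Nat.add_le_add H (Nat.mul_le_mul_left 97888811040 (c87 ρ))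
  replace H := Nat.add_le_add H (Nat.mul_le_mul_left 85355093688 (c88 ρ))
  replace H := Nat.add_le_add H (Nat.mul_le_mul_left 785395122872 (c89 ρ))
  replace H := Nat.add_le_add H (Nat.mul_le_mul_left 106185750372 (c90 ρ))
  replace H := Nat.add_le_add H (Nat.mul_le_mul_left 851255978480 (c91 ρ))
  replace H := Nat.add_le_add H (Nat.mul_le_mul_left 68172994081 (c92 ρ))
  replace H := Nat.add_le_add H (Nat.mul_le_mul_left 32629603680 (c93 ρ))
  replace H := Nat.add_le_add H (Nat.mul_le_mul_left 728858388492 (c94 ρ))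
  replace H := Nat.add_le_add H (Nat.mul_le_mul_left 370464772368 (c95 ρ))
  replace H := Nat.add_le_add H (Nat.mul_le_mul_left 326399338920 (c96 ρ))
  replace H := Nat.add_le_add H (Nat.mul_le_mul_left 1159797617832 (c97 ρ))
  replace H := Nat.add_le_add H (Nat.mul_le_mul_left 56895870302 (c98 ρ))
  replace H := Nat.add_le_add H (Nat.mul_le_mul_left 76798339248 (c99 ρ))
  replace H := Nat.add_le_add H (Nat.mul_le_mul_left 23536772440 (c100 ρ))
  replace H := Nat.add_le_add H (Nat.mul_le_mul_left 33189187608 (c101 ρ))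
  replace H := Nat.add_le_add H (Nat.mul_le_mul_left 376851970856 (c102 ρ))
  replace H := Nat.add_le_add H (Nat.mul_le_mul_left 83915934977 (c103 ρ))
  replace H := Nat.add_le_add H (Nat.mul_le_mul_left 685037749 (c104 ρ))
  replace H := Nat.add_le_add H (Nat.mul_le_mul_left 608998892320 (c105 ρ))
  replace H := Nat.add_le_add H (Nat.mul_le_mul_left 32629603680 (c106 ρ))
  replace H := Nat.add_le_add H (Nat.mul_le_mul_left 30230670904 (c107 ρ))
  replace H := Nat.add_le_add H (Nat.mul_le_mul_left 510451810344 (c108 ρ))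
  replace H := Nat.add_le_add H (Nat.mul_le_mul_left 205952364184 (c109 ρ))
  replace H := Nat.add_le_add H (Nat.mul_le_mul_left 383261877092 (c110 ρ))
  replace H := Nat.add_le_add H (Nat.mul_le_mul_left 321823308232 (c111 ρ))
  replace H := Nat.add_le_add H (Nat.mul_le_mul_left 45053938708 (c112 ρ))
  replace H := Nat.add_le_add H (Nat.mul_le_mul_left 4793281197 (c113 ρ))
  replace H := Nat.add_le_add H (Nat.mul_le_mul_left 79767520354 (c114 ρ))
  replace H := Nat.add_le_add H (Nat.mul_le_mul_left 97888811040 (c115 ρ))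
  replace H := Nat.add_le_add H (Nat.mul_le_mul_left 174687150288 (c116 ρ))
  replace H := Nat.add_le_add H (Nat.mul_le_mul_left 734943160112 (c117 ρ))
  replace H := Nat.add_le_add H (Nat.mul_le_mul_left 3555618093 (c118 ρ))
  replace H := Nat.add_le_add H (Nat.mul_le_mul_left 238581967864 (c119 ρ))
  replace H := Nat.add_le_add H (Nat.mul_le_mul_left 272575961328 (c120 ρ))
  replace H := Nat.add_le_add H (Nat.mul_le_mul_left 170233675064 (c121 ρ))
  replace H := Nat.add_le_add H (Nat.mul_le_mul_left 112485378539 (c122 ρ))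
  replace H := Nat.add_le_add H (Nat.mul_le_mul_left 866773701520 (c123 ρ))
  replace H := Nat.add_le_add H (Nat.mul_le_mul_left 1296236020737 (c124 ρ))
  replace H := Nat.add_le_add H (Nat.mul_le_mul_left 25895187464 (c125 ρ))
  replace H := Nat.add_le_add H (Nat.mul_le_mul_left 32629603680 (c126 ρ))
  replace H := Nat.add_le_add H (Nat.mul_le_mul_left 2675554980 (c127 ρ))
  omega

end H21.MC.B
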