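import Cfsg.Agent.H12.MS2
import Cfsg.Agent.H12.MS1
import Cfsg.Agent.H11.MS1

/-! S5899: the global argument under the weak hypothesis `I4`, part 0. -/

set_option autoImplicit false
set_option linter.unusedVariables false
set_option linter.unusedSectionVars false
set_option synthInstance.maxSize 2000

universe u

namespace H21.MP
open Cfsg Subgroup H18 H17.GS H28.S H2.GW
open H19 hiding eq_bot_mono
open H28.NG hiding Hyp Uniq Ch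
open H29.PU (bm JJ_le_bm bm_le nrm_bm)
open H9 (JJ MaxAb)
open H27.MS H12.MS

section
variable {G : Type u} [Group G]

theorem cent_le_norm (H : Subgroup G) : C(H) ≤ N(H) := H19.cent_le_norm H
theorem cent_zpowers (x : G) : C(zpowers x) = C[x] := H19.cent_zpowers x

structure Hz (G : Type u) [Group G] : Prop extends Hy G where
  i4 : I4 G

def TR : Prop := ∀ {G : Type u} [Group G] [Finite G] {N Q T : Subgroup G}, Hz G → Lc N Q T → ¬ N ≤ C(Zs Q) →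
  bm 2 T ≤ Q ∨ Tc N Q T
def CM : Prop := ∀ {G : Type u} [Group G] [Finite G] {N Q T : Subgroup G}, Hz G → Lc N Q T → Syl 2 T ⊤ ∧
  (N = C(Zs T) ∨ (N = N(bm 2 T) ∧ bm 2 T ≤ Q ∧ ¬ N ≤ C(Zs T)))
def S0 : Prop := ∀ {G : Type u} [Group G] [Finite G] {S : Subgroup G}, Hz G → Syl 2 S ⊤ → ∃ R : Subgroup G,
  R ≠ ⊥ ∧ H19.PG 2 R ∧ (∀ Q, Q ≠ ⊥ → H19.PG 2 Q → N(R) ≤ N(Q) → N(Q) ≤ N(R)) ∧ N(bm 2 S) ≤ N(R) ∧
    ∀ L T, bm 2 S ≤ T → Syl 2 T L → H28.NG.Ch L → L ≤ L ⊓ C(Kc (Zs T) L) ⊔ L ⊓ N(R)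

/-- the main configuration, `M = N(Y)`, `B = bm 2 S` -/
structure Mn (S Y : Subgroup G) : Prop where
  hz : Hz G
  syl : Syl 2 S ⊤
  ab : Abelem 2 Y
  eY : Y = Kc (Zs S) N(Y)
  YQ : Y ≤ Zs (Oc {2} N(Y))
  YB : Y ≤ bm 2 S
  NB : N(bm 2 S) ≤ N(Y)
  max : ∀ R, R ≠ ⊥ → H19.PG 2 R → N(Y) ≤ N(R) → N(R) ≤ N(Y)
  star : ∀ L T, bm 2 S ≤ T → Syl 2 T L → H28.NG.Ch L → L ≤ L ⊓ C(Kc (Zs T) L) ⊔ L ⊓ N(Y)
  nz : ¬ C(Zs S) ≤ N(Y)

structure Gn (S Y : Subgroup G) : Prop extends Mn S Y where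
  b1 : ∀ v ∈ Y, ∃ m ∈ N(Y), H27.cj m (bm 2 S) ≤ C[v]
  rk : ∀ A, A ≤ N(Y) → Abelem 2 A → #A * #(Y ⊓ C(A)) ≤ #Y * #(A ⊓ C(Y))
  tvC : ∀ t u, Tv Y t → u ∈ H2.GW.cm Y t → u ≠ 1 → C[u] ≤ N(Y)
  hypC : ∀ X ≤ Y, #Y ≤ #X * 2 → C(X) ≤ N(Y)
  comm : ∀ g, H27.cj g Y ≤ N(Y) → Y ≤ N(H27.cj g Y) → H27.cj g Y ≤ C(Y)

def M0 : Prop := ∀ {G : Type u} [Group G] [Finite G], Hz G → ∃ S Y : Subgroup G, Mn S Y
def GI : Prop := ∀ {G : Type u} [Group G] [Finite G] {S Y : Subgroup G}, Mn S Y → ¬ Sol N(Y) →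
  Gn S Y ∧ Lc N(Y) C(Y) S ∧ Sec N(Y) C(Y) ⊥ Y ∧ N(Y) = N(bm 2 S) ∧ #Y ≠ 4
def SH : Prop := ∀ {G : Type u} [Group G] [Finite G] {S Y : Subgroup G}, Gn S Y → Sh Y →
  Abelem 2 (Kc Y C(Zs S)) ∧ ¬ Dl S Y
def DS : Prop := ∀ {G : Type u} [Group G] [Finite G] {S Y : Subgroup G}, Mn S Y → Sol C(Zs S) → Dl S Y
def SC : Prop := ∀ {G : Type u} [Group G] [Finite G] {S Y Q : Subgroup G}, Mn S Y → Lc C(Zs S) Q S → Y ≤ Q →
  Abelem 2 (Kc Y C(Zs S)) → Tc C(Zs S) Q S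
def D7 : Prop := ∀ {G : Type u} [Group G] [Finite G] {S Y Q : Subgroup G}, Mn S Y → Lc C(Zs S) Q S →
  Tc C(Zs S) Q S → Dl S Y
def TI : Prop := ∀ {G : Type u} [Group G] [Finite G] {S Y : Subgroup G} {v : G}, Gn S Y → Lc N(Y) C(Y) S →
  Sec N(Y) C(Y) ⊥ Y → v ∈ Y → v ≠ 1 → ¬ Y ≤ Oc {2} C[v] → ¬ Sol C[v]
structure Tl (S Y Q : Subgroup G) : Prop extends Gn S Y where
  lc : Lc C(Zs S) Q S
  nq : ¬ Y ≤ Q
def T0 : Prop := ∀ {G : Type u} [Group G] [Finite G] {S Y : Subgroup G} {v : G}, Gn S Y →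
  v ∈ Y → v ≠ 1 → ¬ Y ≤ Oc {2} C[v] → ¬ Sol C[v] → ∃ m ∈ N(Y), ∃ Q, Tl (H27.cj m S) Y Q
def TK : Prop := ∀ {G : Type u} [Group G] [Finite G] {S Y Q : Subgroup G}, Tl S Y Q → ¬ Kl C(Zs S) Q S
def TD : Prop := ∀ {G : Type u} [Group G] [Finite G] {S Y Q : Subgroup G} {n : ℕ}, Tl S Y Q → One C(Zs S) Q →
  ¬ Di C(Zs S) Q S n
def T9 : Prop := ∀ {G : Type u} [Group G] [Finite G] {S Y Q : Subgroup G}, Tl S Y Q → ¬ L9 C(Zs S) Q
def TZ0 : Prop := ∀ {G : Type u} [Group G] [Finite G] {S Y Q E : Subgroup G}, Tl S Y Q → Be C(Zs S) Q S E →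
  ∃ A D, Tz S Y A D
def TZ2 : Prop := ∀ {G : Type u} [Group G] [Finite G] {S Y A D : Subgroup G}, Mn S Y → Lc N(Y) C(Y) S →
  Sec N(Y) C(Y) ⊥ Y → ¬ Tz S Y A D
end

variable {G : Type u} [Group G] [Finite G] {N Q T T' X V V₀ S Y E L R B A : Subgroup G} {a b g m v : G} {n : ℕ}

theorem Mn.J (h : Mn S Y) (g : G) : Mn (cj g S) (cj g Y) where
  hz := h.hz
  syl := h.syl.Jtop g
  ab := abelem_J h.ab g
  eY := by rw [← cj_Zs, ← cj_norm, ← cj_Kc, ← h.eY]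
  YQ := by rw [← cj_norm, ← cj_Oc, ← cj_Zs]; exact cj_mono g h.YQ
  YB := cj_bm g S ▸ cj_mono g h.YB
  NB := by rw [← cj_bm, ← cj_norm, ← cj_norm]; exact cj_mono g h.NB
  max R a b c := by
    rw [← cj_norm, cj_le_iff, cj_norm] at c
    have := h.max _ (by simpa) (b.J _) c
    rwa [← cj_norm, ← le_cj_iff, cj_norm] at this
  star L T a b c := by
    have := cj_mono g (h.star _ _ (cj_le_iff.1 (cj_bm g S ▸ a)) (b.J g⁻¹) (c.J _))
    simpa only [cj_sup, cj_inf, cj_cent, cj_norm, cj_Kc, cj_Ohm1, cj_cj_inv] using this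
  nz := by rw [← cj_Zs, ← cj_cent, ← cj_norm, cj_le_cj]; exact h.nz
theorem Gn.b1' (h : Gn S Y) (hv : v ∈ Y) : ∃ m ∈ N(Y), cj m (bm 2 S) ≤ C[v] := h.b1 v hv
theorem Gn.comm' (h : Gn S Y) (h1 : cj g Y ≤ N(Y)) (h2 : Y ≤ N(cj g Y)) : cj g Y ≤ C(Y) := h.comm g h1 h2
theorem Gn.J (h : Gn S Y) (g : G) : Gn (cj g S) (cj g Y) where
  toMn := h.toMn.J g
  b1 v p := let ⟨m, a, b⟩ := h.b1' (mem_cj.1 p)
    ⟨g * m * g⁻¹, cj_norm g Y ▸ conj_mem_cj.2 a, by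
      have := cj_mono g b
      rw [cj_cent1, cj_cj] at this
      rw [hcj, ← cj_bm, cj_cj]
      simpa [mul_assoc] using this⟩
  rk A a b := by
    have := h.rk _ (le_cj_iff.1 (cj_norm g Y ▸ a)) (abelem_J b _)
    rw [← card_cj g (Y ⊓ _), ← card_cj g (_ ⊓ C(Y))] at this
    simpa only [card_cj g⁻¹, card_cj g Y, cj_inf, cj_cent, cj_cj_inv] using this
  tvC t u a b c := by
    have := h.tvC _ (g⁻¹ * u * g⁻¹⁻¹) (cj_inv_cj g Y ▸ a.J g⁻¹)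
      (by rw [← cj_inv_cj g Y, ← H2.GW.cj_cm]; exact conj_mem_cj.2 b) (mt (conj_eq_one_iff (a := g⁻¹)).1 c)
    rwa [← cj_cent1, ← le_cj_iff, cj_norm] at this
  hypC X a b := by
    have := h.hypC _ (le_cj_iff.1 a) (by simpa only [card_cj] using b)
    rwa [← cj_cent, ← le_cj_iff, cj_norm] at this
  comm x a b := by
    have e : cj x (cj g Y) = cj g (cj (g⁻¹ * x * g) Y) := by rw [cj_cj, cj_cj]; simp [mul_assoc]
    rw [hcj, e, ← cj_norm, cj_le_cj] at a b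
    rw [hcj, e, ← cj_cent, cj_le_cj]
    exact h.comm' a b
theorem Tl.J (h : Tl S Y Q) (g : G) : Tl (cj g S) (cj g Y) (cj g Q) where
  toGn := h.toGn.J g
  lc := by rw [← cj_Zs, ← cj_cent]; exact h.lc.J g
  nq := by rw [cj_le_cj]; exact h.nq
theorem Gn.conj (h : Gn S Y) (hm : m ∈ N(Y)) : Gn (cj m S) Y := by
  simpa only [cj_of_mem_norm hm] using h.J m

section Mn
variable (h : Mn S Y)
include h
theorem Mn.hy : Hy G := h.hz.toHy
theorem Mn.conj (hm : m ∈ N(Y)) : Mn (cj m S) Y := by simpa only [cj_of_mem_norm hm] using h.J m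
theorem Mn.pg : H19.PG 2 Y := ab_pg h.ab
theorem Mn.Bpg : H19.PG 2 (bm 2 S) := h.syl.pi.of_le bm_le
theorem Mn.YS : Y ≤ S := h.YB.trans bm_le
theorem Mn.ZY : Zs S ≤ Y := le_Kc.trans h.eY.ge
theorem Mn.pgM (hT : H19.PG 2 T) (h1 : bm 2 S ≤ T) : T ≤ N(Y) := (bm_nrm h.syl hT h1).trans h.NB
theorem Mn.SM : S ≤ N(Y) := h.pgM h.syl.pi bm_le
theorem Mn.sM : Syl 2 S N(Y) := h.syl.of_le h.SM le_top
theorem Mn.NS : N(S) ≤ N(Y) := (nrm_bm le_rfl).trans h.NB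
theorem Mn.OM (h1 : bm 2 S ≤ L) : Oc {2} L ≤ N(Y) := by
  obtain ⟨T, a, b⟩ := h.Bpg.exists_syl h1
  exact (Oc_le_hall a).trans (h.pgM a.pi b)
theorem Mn.Y0 : Y ≠ ⊥ := fun k => h.nz (k ▸ nbot)
theorem Mn.Z0 : Zs S ≠ ⊥ := h.syl.pi.Ohm1_center_ne_bot (ne_bot_mono h.YS h.Y0)
theorem Mn.ZlY : Zs S < Y := h.ZY.lt_of_ne fun j => h.nz (j ▸ cent_le_norm _)
theorem Mn.mx (h1 : X ≠ ⊥) (h2 : X ≤ Y) (h3 : N(Y) ≤ N(X)) : N(X) ≤ N(Y) := h.max X h1 (h.pg.of_le h2) h3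
theorem Mn.memZ (hv : v ∈ Y) (k : v ∈ C(S)) : v ∈ Zs S :=
  H19.mem_Ohm1 (mem_inf.2 ⟨h.YS hv, k⟩) (sq v ▸ sq_one h.ab hv)
theorem Mn.ncY : ¬ N(Y) ≤ C(Y) := fun k => h.ZlY.not_ge fun _ p => h.memZ p (cents_symm (h.SM.trans k) p)
theorem Mn.Zc (h1 : X ≠ ⊥) (h2 : X ≤ Y) (h3 : S ≤ N(X)) : ∃ w ∈ X, w ≠ 1 ∧ ¬ C[w] ≤ N(Y) := by
  obtain ⟨w, a, b⟩ := exists_ne_one ((h.pg.of_le h2).meet_cent h.syl.pi h3 h1)
  exact ⟨w, a.1, b, mt (cent_le_cent1 (h.memZ (h2 a.1) a.2)).trans h.nz⟩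
end Mn

theorem Gn.tr (h : Gn S Y) (h1 : v ∈ Y) (h2 : v ∈ cj g Y) : ∃ c ∈ C[v], cj g Y = cj c Y := by
  obtain ⟨m, a, b⟩ := h.b1' h1
  obtain ⟨n, a', b'⟩ := h.b1' (mem_cj.1 h2)
  obtain ⟨T, p, q⟩ := (h.Bpg.J m).exists_syl b
  obtain ⟨c, r, s⟩ := p.scj_le (K := cj g (cj n (bm 2 S))) (by
    rw [cj_le_iff, cj_cent1, inv_inv]; exact b') ((h.Bpg.J _).J _)
  rw [cj_cj, cj_cj] at s
  have := h.NB (mem_norm_iff_cj.2 ((cj_mul m⁻¹ _ _).trans (cj_eq_iff.1 (bm_wc2 h.syl p.pi q s)).symm))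
  refine ⟨c⁻¹, inv_mem r, cj_eq_iff.1 ?_⟩
  rw [cj_cj]
  exact cj_of_mem_norm (by simpa [mul_assoc] using mul_mem (mul_mem a this) (inv_mem a'))

theorem Gn.eq_of (h : Gn S Y) (h1 : v ∈ Y) (h2 : v ∈ cj g Y) (k : C[v] ≤ N(Y)) : g ∈ N(Y) := by
  obtain ⟨c, a, b⟩ := h.tr h1 h2
  exact mem_norm_iff_cj.2 (b.trans (cj_of_mem_norm (k a)))

/-- `O₂(C(v)) ≤ M` for `v ∈ Y` -/
theorem Gn.OC (h : Gn S Y) (hv : v ∈ Y) : Oc {2} C[v] ≤ N(Y) :=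
  let ⟨m, a, b⟩ := h.b1' hv; (h.toMn.conj a).OM (cj_bm m S ▸ b)

def NB (N Q : Subgroup G) : Prop := ∀ V, Sec N Q ⊥ V → #V ≠ 8

theorem nt (mb1 : MB1.{u}) (l : Lc N Q T) (nb : NB N Q) (s : Sec N Q ⊥ V) (h1 : a ∈ N) (h2 : a ∉ Q) :
    #(V ⊓ C[a]) * 2 < #V := lt_of_not_ge fun k =>
  have := (mb1 l.toFr s h1 h2 (by rw [Eb, Cm_bot, cent_zpowers, pow_one, mul_comm]; exact k)).2
  nb _ (by simpa using this.1) (by simpa using this.2)

theorem no (nf : NF.{u}) (ff : FF.{u}) (l : Lc N Q T) (nb : NB N Q) (s : Sec N Q ⊥ V) (v : V ≤ Kc (V ⊓ C(T)) N)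
    (a : Abelem 2 A) (b : A ≤ N) (c : ¬ A ≤ Q) : #A * #(V ⊓ C(A)) < #V * #(A ⊓ Q) := lt_of_not_ge fun k =>
  let ⟨_, _, c, w⟩ := ff l.toFr (nf l.toFr l.q0 s a b c (by rwa [Cm_bot])) s v a b c k
  nb _ w c

end H21.MP

namespace H21.MP.A
open Cfsg Subgroup H18 H17.GS H28.S H2.GW H27.MS
open H19 hiding eq_bot_mono
open H28.NG hiding Hyp Uniq Ch
open H29.PU (bm)

open H21.MS
variable {G : Type u} [Group G] [Finite G] {N Q T X S V : Subgroup G}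

theorem cm (tr : TR.{u}) : CM.{u} := fun {G} _ _ {N Q T} h l => by
  have z0 := zs_ne l.syl.pi fun e => l.q0 (le_bot_iff.1 (e ▸ fr_le l.toFr))
  by_cases c : N ≤ C(Zs T)
  · have e := l.nrm _ z0 ⟨(Ohm1_le _ _).trans (inf_le_left.trans l.syl.le), c.trans (centralizer_le_normalizer _)⟩
    exact ⟨l.syl.syl_of_norm_le le_top (inf_le_right.trans ((norm_le_norm_Ohm1_center _ _).trans e.le)),
      .inl (c.antisymm ((centralizer_le_normalizer _).trans e.le))⟩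
  have b := (tr h l fun k => c (k.trans (centralizer_le (by exact zs_le l)))).resolve_right fun k => c k.cen
  have e := l.nrm _ (fun e => z0 (le_bot_iff.1 (e ▸ zs_le_bm))) ⟨b.trans l.nq.le, norm_bm l.toFr b⟩
  exact ⟨l.syl.syl_of_norm_le le_top (inf_le_right.trans ((H29.PU.nrm_bm le_rfl).trans e.le)), .inr ⟨e.symm, b, c⟩⟩

end H21.MP.A

namespace H21.MP.B
open Cfsg Subgroup H18 H17.GS H28.S H2.GW H27.MS H12.MS
open H19 hiding eq_bot_mono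
open H28.NG hiding Hyp Uniq Ch
open H29.PU (bm JJ_le_bm bm_le)
open H9 (JJ MaxAb)
open H8.MS (L3 t8 U up_iff t8_inj mem_U)
open H23.MS (pr mem_pr card_pr pr_le)
open scoped MatrixGroups

open H11.MS
variable {G : Type u} [Group G] [Finite G] {N Q T V W A R : Subgroup G} {a : G}

theorem tr (nf : NF.{u}) (nl : NL.{u}) (mb1 : MB1.{u}) (ff : FF.{u}) (f1 : F1.{u}) : TR.{u} := by
  intro G _ _ N Q T h l nc
  have f := l.toFr
  obtain ⟨V, hV⟩ : ∃ V, V = Zs Q := ⟨_, rfl⟩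
  have ab : Abelem 2 V := hV ▸ abelem_Ohm1_center 2 Q
  have vZ : V ≤ Z(Q) := hV ▸ Ohm1_le _ _
  have vQ : V ≤ Q := vZ.trans inf_le_left
  have vT : V ≤ T := vQ.trans f.le
  have qV : Q ≤ C(V) := cents_symm (vZ.trans inf_le_right)
  have s : Sec N Q ⊥ V := sec_bot ab (hV ▸ f.nq.norm.trans (norm_le_norm_Ohm1_center 2 Q)) qV (hV ▸ nc)
  have zj : ∀ X ≤ V, JJ 2 T ≤ C(X) → bm 2 T ≤ C(X) := fun X a b => inf_le_right.trans (cent_mono fun x hx =>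
    H9.mem_omegaOneCenter_JJ_iff.2 fun A m => m.mem_of_mem_centralizer (vT (a hx)) (ab.2 _ (a hx))
      (cents_symm (m.le_JJ.trans b) hx))
  by_cases hJ : JJ 2 T ≤ Q
  · exact .inl ((le_inf (bm_le.trans f.TN) (zj V le_rfl (hJ.trans qV))).trans (s.ker' f))
  right
  have nb : NB N Q := fun W w c => hJ (JJ_le_bm.trans (h.i4 _ _ _ _ ⟨l, w, c⟩).1)
  obtain ⟨A, m, nA⟩ : ∃ A, MaxAb 2 T A ∧ ¬ A ≤ Q := by
    by_contra k
    push Not at k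
    exact hJ (H9.JJ_le_iff.2 k)
  have l7 : L7 N Q := nf f l.q0 s m.ea (m.le.trans f.TN) nA (by rw [Cm_bot]; exact off m ab vT qV)
  have cT := (H17.MS.l7 f l7).1
  have key : ∀ A, MaxAb 2 T A → ∀ a ∈ A, a ∉ Q → #(A ⊔ Q) = 4 * #Q ∧ V ⊓ C(A) = V ⊓ C[a] := fun A m a ha a0 => by
    have r1 := pg_lt_card f.syl.pi (lt_of_le_of_ne (sup_le m.le f.le) fun e => f1 f l.q0 m.ea m.le e.ge)
    have r2 := card_sup_mul_inf (A := Q) (B := A) ((m.le.trans f.TN).trans f.nq.norm)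
    rw [sup_comm, inf_comm] at r2
    have r3 := off m ab vT qV
    have r4 := le4 (ab_pg ab) inf_le_left (nt mb1 l nb s (f.TN (m.le ha)) a0)
    have le : V ⊓ C(A) ≤ V ⊓ C[a] := inf_le_inf_left _ (cent_le_cent1 ha)
    have r5 := card_le le
    have p1 := card_pos Q
    have p2 := card_pos (A ⊓ Q)
    have p3 := card_pos (V ⊓ C(A))
    have r6 : #A ≤ 4 * #(A ⊓ Q) := Nat.le_of_mul_le_mul_left (by rw [← r2]; nlinarith) p1
    have r7 : #(V ⊓ C[a]) ≤ #(V ⊓ C(A)) := Nat.le_of_mul_le_mul_left (c := 4 * #(A ⊓ Q)) (by nlinarith) (by omega)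
    have r8 : 4 * #(A ⊓ Q) ≤ #A := Nat.le_of_mul_le_mul_right (c := #(V ⊓ C(A))) (by nlinarith) p3
    refine ⟨Nat.eq_of_mul_eq_mul_right p2 (by rw [r2, le_antisymm r6 r8]; ring), eq_of_le_of_card_ge le r7⟩
  obtain ⟨a, ha, a0⟩ := SetLike.not_le_iff_exists.1 nA
  obtain ⟨c4, eU⟩ := key A m a ha a0
  have rT : A ⊔ Q ≤ T := sup_le m.le f.le
  have JR : JJ 2 T ≤ A ⊔ Q := H9.JJ_le_iff.2 fun A' m' => by
    by_cases k : A' ≤ Q
    · exact k.trans le_sup_right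
    obtain ⟨b, hb, b0⟩ := SetLike.not_le_iff_exists.1 k
    exact le_sup_left.trans (nl f l7 l.q0 m'.ea m.ea m'.le m.le (key A' m' b hb b0).1 c4).le
  have cen : N ≤ C(Zs T) := by
    by_contra k
    have wV : Kc (Zs T) N ≤ V := Kc_le_of (hV ▸ H21.MS.zs_le l) s.nV
    have w := abelem_mono ab wV
    have qW := qV.trans (cent_mono wV)
    exact (no nf ff l nb (sec_bot w Kc_norm qW fun j => k (j.trans (cent_mono le_Kc)))
      (Kc_le_of ((le_inf le_Kc ((Ohm1_le _ _).trans inf_le_right)).trans le_Kc) Kc_norm) m.ea (m.le.trans f.TN)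
      nA).not_ge (off m w (wV.trans vT) qW)
  have rU : A ⊔ Q ≤ C(V ⊓ C(A)) := sup_le (cents_symm inf_le_right) (qV.trans (cent_mono inf_le_left))
  have BR : bm 2 T ≤ A ⊔ Q := by
    by_contra k
    have bT : bm 2 T ⊔ (A ⊔ Q) ≤ T := sup_le bm_le rT
    have := pg_lt_card (f.syl.pi.of_le bT) (lt_of_le_of_ne le_sup_right fun e => k (le_sup_left.trans e.ge))
    have tU : T ≤ C(V ⊓ C(A)) := (eq_of_le_of_card_ge bT (by omega)).ge.trans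
      (sup_le (zj _ inf_le_left (JR.trans rU)) rU)
    have nU : N ≤ C(V ⊓ C(A)) := cen.trans (cent_mono (abelem_le_Ohm1 (abelem_mono ab inf_le_left)
      (le_inf (inf_le_left.trans vT) (cents_symm tU))))
    have nn := nU.trans (cent_le_norm _)
    have aN := f.TN (m.le ha)
    have aa : a * a = 1 := sq a ▸ m.ea.2 a ha
    rcases f.smp _ (inf_normal_of_norm' (norms_Cm nn s.nV)) with j | j
    · refine a0 (j ⟨aN, nn aN, fun w hw => ?_⟩)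
      have hx : a * w * a⁻¹ * w⁻¹ ∈ V := mul_mem (conj_mem_of_norm (s.nV aN) hw) (inv_mem hw)
      rw [eU]
      refine ⟨hx, mem_centralizer_singleton_iff.2 ?_⟩
      have xx : (a * w * a⁻¹ * w⁻¹)⁻¹ = a * w * a⁻¹ * w⁻¹ := inv_eq_of_mul_eq_one_right ((sq _).symm.trans (ab.2 _ hx))
      have ai : a⁻¹ = a := inv_eq_of_mul_eq_one_right aa
      symm
      nth_rewrite 2 [← xx]
      rw [ai]
      simp only [mul_inv_rev, inv_inv, ai, ← mul_assoc, aa, one_mul]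
      rw [mul_assoc _ a a, aa, mul_one]
    · have c1 : ⁅N, V⁆ ≤ V ⊓ C(A) := commutator_le.2 fun g hg w hw => (j.ge hg).2.2 w hw
      have c2 : ⁅⁅N, V⁆, N⁆ = ⊥ := commutator_eq_bot_iff_le_centralizer.2 (c1.trans (cents_symm nU))
      have := three_subgroup c2 (by rwa [commutator_comm V])
      rw [f.perf] at this
      exact s.nc' (commutator_eq_bot_iff_le_centralizer.1 this)
  have eR : bm 2 T ⊔ Q = A ⊔ Q :=
    le_antisymm (sup_le BR le_sup_right) (sup_le_sup_right (m.le_JJ.trans JJ_le_bm) _)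
  have eN : N ⊓ N(A ⊔ Q) = N ⊓ N(bm 2 T) := le_antisymm
    (fun g k => ⟨k.1, mem_norm_iff_cj.2 (bm_wc ((cj_le_of_mem_norm k.2 BR).trans rT))⟩)
    (le_inf inf_le_left (eR ▸ norms_sup inf_le_right (inf_le_left.trans f.nq.norm)))
  refine ⟨l7, cen, eN ▸ idx7 f l7 le_sup_right rT c4 fun r hr => ?_, A, m, c4, BR, eN⟩
  have aN := (m.le.trans f.TN).trans f.nq.norm
  obtain ⟨x, hx, y, hy, rfl⟩ := (mem_sup_of_norm' aN).1 hr
  have xx : x * x = 1 := (sq x).symm.trans (m.ea.2 x hx)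
  have := mul_mem (conj_mem_of_norm (aN hx) hy) hy
  rwa [inv_eq_of_mul_eq_one_right xx, mul_assoc] at this


end H21.MP.B

namespace H21.MP.C
open Cfsg Subgroup H18 H17.GS H28.S H2.GW
open H19 hiding eq_bot_mono
open H28.NG hiding Hyp Uniq Ch
open H29.PU (bm JJ_le_bm bm_le nrm_bm)
open H9 (JJ MaxAb)
open H27.MS H12.MS

open H12.MT
variable {G : Type u} [Group G] [Finite G] {S Y A : Subgroup G} {a : G}

theorem m0 (s0 : S0.{u}) (cm : CM.{u}) (lc : LC.{u}) : M0.{u} := fun {G} _ _ h => by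
  obtain ⟨S, hS⟩ := exists_syl 2 (⊤ : Subgroup G)
  obtain ⟨R, R0, Rp, max, NB, star⟩ := s0 h hS
  have SM : S ≤ N(R) := (nrm_bm le_normalizer).trans NB
  have sM := hS.of_le SM le_top
  have QS := Oc_le_hall sM
  have RS := (le_Oc (normalIn_norm R) Rp).trans QS
  have Zab := abelem_Ohm1_center 2 S
  have ZS : Ohm1 2 Z(S) ≤ Z(S) := Ohm1_le _ _
  have Z0 : Ohm1 2 Z(S) ≠ ⊥ := hS.pi.Ohm1_center_ne_bot (ne_bot_mono RS R0)
  have ZQ := ZS.trans (inf_le_right.trans (cent_mono QS))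
  have YQ := Kc_le_of (abelem_le_Ohm1 Zab (le_inf ((le_inf (ZS.trans (inf_le_left.trans SM)) ZQ).trans
    (h.chr R R0 Rp)) ZQ)) (norms_Ohm1 2 (norms_inf (Oc_norm _ _) (norms_cent (Oc_norm _ _))))
  set Y := Kc (Ohm1 2 Z(S)) N(R) with hY
  have ZY : Ohm1 2 Z(S) ≤ Y := le_Kc
  have ab := abelem_mono (abelem_Ohm1_center 2 _) YQ
  have YS := YQ.trans ((Ohm1_le _ _).trans (inf_le_left.trans QS))
  have Y0 := ne_bot_mono ZY Z0
  have e : N(Y) = N(R) := le_antisymm (max _ Y0 (ab_pg ab) Kc_norm) Kc_norm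
  have nz : ¬ C(Zs S) ≤ N(R) := fun k => h.toHy.ntop R0 Rp (h.cs S _ hS k fun Q a b c =>
    (star _ S bm_le (hS.of_le ((nrm_bm le_normalizer).trans c) le_top) (h.toHy.chN a (hS.pi.of_le (b.trans bm_le)))).trans
      (sup_le (inf_le_right.trans ((cent_mono le_Kc).trans k)) inf_le_right))
  have YB : Y ≤ bm 2 S := by
    by_cases s : Sol N(R)
    · obtain ⟨F, m⟩ := exists_Mo ab (e ▸ s) fun N p q => cents_symm (Kc_cents (cents_symm (by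
        rw [← O2r_sup_syl (sM.inf_normal (K := N) (e ▸ p))]
        exact sup_le ((O2r_le_iff.2 q).trans (cent_mono ZY)) (inf_le_left.trans (cents_symm (ZS.trans inf_le_right)))))
        (e ▸ p.norm))
      obtain ⟨A, a⟩ := H9.exists_maxAb 2 S
      exact (m.maxAb YS (e ▸ SM) a).2.trans JJ_le_bm
    · rcases (cm h (lc h.toHy R0 Rp le_rfl s sM).1).2 with k | ⟨-, k, -⟩
      · exact absurd k.ge nz
      · exact le_inf YS (YQ.trans ((Ohm1_le _ _).trans (inf_le_right.trans (cent_mono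
          ((((Ohm1_le _ _).trans inf_le_left).trans JJ_le_bm).trans k)))))
  exact ⟨S, Y, h, hS, ab, e ▸ hY, e ▸ YQ, YB, e ▸ NB, e ▸ max, e ▸ star, e ▸ nz⟩

end H21.MP.C

namespace H21.MP.D
open Cfsg Subgroup H18 H17.GS H28.S H2.GW
open H19 hiding eq_bot_mono
open H28.NG hiding Hyp Uniq Ch
open H29.PU (bm JJ_le_bm bm_le nrm_bm)
open H9 (JJ MaxAb)
open H27.MS H12.MS
open scoped IsMulCommutative

open H12.MU
variable {G : Type u} [Group G] [Finite G] {S Y A W N V : Subgroup G} {a z : G}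

section
variable (h : Mn S Y) (l : Lc N(Y) C(Y) S) (i4 : I4 G)
include h l i4

/-- no transvections on `Y` -/
theorem ntY (mb1 : MB1.{u}) (bk : BK.{u}) (h1 : a ∈ N(Y)) (h2 : a ∉ C(Y)) : #(Y ⊓ C[a]) * 2 < #Y :=
    lt_of_not_ge fun k => by
  obtain ⟨-, s, c⟩ := mb1 l.toFr (sec_bot h.ab le_rfl le_rfl h.ncY) h1 h2
    (by rw [Eb, Cm_bot, cent_zpowers, pow_one, mul_comm]; exact k)
  rw [sup_bot_eq] at s c
  have b : Bd N(Y) C(Y) S ⁅Y, N(Y)⁆ := ⟨l, s, by simpa using c⟩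
  obtain ⟨z, p, q⟩ := SetLike.not_le_iff_exists.1 fun j : Zs S ≤ ⁅Y, N(Y)⁆ => (i4 _ _ _ _ b).2 (le_antisymm
    ((card_le (le_inf j ((Ohm1_le _ _).trans inf_le_right))).trans (bk b).2.2.2.2.2.1.le)
    (ne_bot_iff_one_lt_card.1 h.Z0))
  obtain ⟨w, r, t, e⟩ := fix_odd h.ab le_rfl h.sM le_rfl (h.ZY p) q (Ohm1_le _ _ p).2
  refine h.nz ((cent_le_cent1 (h.memZ r (cent_mono h.SM e))).trans ?_)
  rw [← cent_zpowers]
  exact (cent_le_norm _).trans (h.mx (ne_bot_of_mem (mem_zpowers w) fun j => t (j ▸ one_mem _)) (zpowers_le.2 r)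
    ((cents_symm (zpowers_le.2 e)).trans (cent_le_norm _)))

theorem rkY (mb1 : MB1.{u}) (bk : BK.{u}) (nf : NF.{u}) (f1 : F1.{u}) (h1 : A ≤ N(Y)) (h2 : Abelem 2 A) :
    #A * #(Y ⊓ C(A)) ≤ #Y * #(A ⊓ C(Y)) := by
  by_cases k : A ≤ C(Y)
  · rw [inf_eq_left.2 k, mul_comm]
    exact Nat.mul_le_mul_right _ (card_le inf_le_left)
  refine le_of_not_gt fun j => ?_
  have l7 := nf l.toFr l.q0 (sec_bot h.ab le_rfl le_rfl h.ncY) h2 h1 k (by rw [Cm_bot]; exact j.le)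
  obtain ⟨T, t, aT⟩ := (ab_pg h2).exists_syl h1
  have f := l.toFr.syl' t
  have r0 := H14.MS.cT f l7
  have r1 := pg_lt_card t.pi (lt_of_le_of_ne (sup_le aT f.le) fun e => f1 f l.q0 h2 aT e.ge)
  have r2 := card_sup_mul_inf (A := C(Y)) (B := A) (h1.trans f.nq.norm)
  rw [sup_comm, inf_comm] at r2
  obtain ⟨a, p, q⟩ := SetLike.not_le_iff_exists.1 k
  have r4 := le4 h.pg inf_le_left (ntY h l i4 mb1 bk (h1 p) q)
  have r5 := card_le (inf_le_inf_left Y (cent_le_cent1 p))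
  have p1 := card_pos C(Y)
  have r6 : #A ≤ 4 * #(A ⊓ C(Y)) := Nat.le_of_mul_le_mul_left (by nlinarith) p1
  nlinarith

end

theorem gi_lc (lc : LC.{u}) (cm : CM.{u}) (h : Mn S Y) (s : ¬ Sol N(Y)) :
    Lc N(Y) C(Y) S ∧ N(Y) = N(bm 2 S) ∧ bm 2 S ≤ C(Y) := by
  have l := (lc h.hy h.Y0 h.pg le_rfl s h.sM).1
  have e : Oc {2} N(Y) = C(Y) := le_antisymm (cents_symm (h.YQ.trans ((Ohm1_le _ _).trans inf_le_right)))
    ((l.smp _ ⟨cent_le_norm Y, norm_le_norm_cent Y⟩).resolve_right fun k => h.ncY k.ge)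
  rcases (cm h.hz l).2 with k | ⟨k, j, -⟩
  · exact absurd k.ge h.nz
  · exact ⟨e ▸ l, k, e ▸ j⟩

theorem gi (lc : LC.{u}) (cm : CM.{u}) (mb1 : MB1.{u}) (nf : NF.{u}) (ff : FF.{u}) (f1 : F1.{u}) (bk : BK.{u})
    (ic : IC.{u}) : GI.{u} := fun {G} _ _ {S Y} h s => by
  have i4 := h.hz.i4
  obtain ⟨l, eB, BC⟩ := gi_lc lc cm h s
  have sc : Sec N(Y) C(Y) ⊥ Y := sec_bot h.ab le_rfl le_rfl h.ncY
  have t : ∀ a ∈ N(Y), #Y ≤ #(Y ⊓ C[a]) * 2 → a ∈ C(Y) := fun a p q => by_contra fun k =>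
    (ntY h l i4 mb1 bk p k).not_ge q
  have z1 := ne_bot_iff_one_lt_card.1 h.Z0
  have z2 := pg_lt_card h.pg h.ZlY
  refine ⟨⟨h, fun v p => ⟨1, one_mem _, (cj_one _).trans_le (BC.trans (cent_le_cent1 p))⟩,
    fun A => rkY h l i4 mb1 bk nf f1, fun a u p _ _ => absurd (t a p.mem p.hyp.card.le) p.nK, fun X p q => ?_,
    fun g p q => by_contra fun k => ?_⟩, l, sc, eB, fun e => ?_⟩
  · have X0 : X ≠ ⊥ := fun e => by rw [e, card_bot] at q; omega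
    obtain ⟨T, a, b⟩ := h.Bpg.exists_syl (BC.trans (cent_mono p))
    have TC : T ≤ C(Y) := fun x r => t x (h.pgM a.pi b r) (q.trans (Nat.mul_le_mul_right _
      (card_le (le_inf p (le_cent1_iff.2 (a.le r))))))
    exact (h.star _ T b a (h.hy.chC X0 (abelem_mono h.ab p))).trans (sup_le (inf_le_right.trans ((cent_mono
      ((abelem_le_Ohm1 h.ab (le_inf (h.YB.trans b) (cents_symm TC))).trans le_Kc)).trans (cent_le_norm Y))) inf_le_right)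
  · rw [hcj] at p q k
    have lg : Lc N(cj g Y) C(cj g Y) (cj g S) := by simpa only [cj_norm, cj_cent] using l.J g
    have b := rkY (h.J g) lg i4 mb1 bk nf f1 q h.ab
    have ag := abelem_J h.ab g
    obtain ⟨W, wY, c, w⟩ := ff l.toFr (nf l.toFr l.q0 sc ag p k (by rwa [Cm_bot])) sc
      (h.eY.le.trans (Kc_mono (le_inf h.ZY ((Ohm1_le _ _).trans inf_le_right)) le_rfl)) ag p k b
    have d : Bd N(Y) C(Y) S W := ⟨l, w, c⟩
    have dg := bdJ d g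
    rw [cj_norm, cj_cent] at dg
    have wg := cj_mono g wY
    refine k ((le_inf p (cents_symm ?_)).trans (w.ker' l.toFr))
    by_cases e : cj g W ⊓ W = ⊥
    · exact (le_inf (wY.trans q) (cents_symm (commg_eq_bot.1 (le_bot_iff.1 (e ▸ le_inf
        (commg_le_left ((wY.trans q).trans dg.sec.nV)) (commg_le_right ((wg.trans p).trans w.nV))))))).trans
        (dg.sec.ker' dg.toFr)
    · exact ic dg d e
  · refine h.ZlY.not_ge fun v p => h.memZ p (cents_symm (fun a r => t a (h.SM r) ?_) p)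
    have := card_le (le_inf h.ZY ((Ohm1_le _ _).trans (inf_le_right.trans (cent_le_cent1 r))))
    omega


end H21.MP.D
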