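import Cfsg.Agent.H21.MP0
import Cfsg.Agent.H29.MS2

/-! S5899: the global argument under the weak hypothesis `I4`, step 0. -/

set_option autoImplicit false
set_option linter.unusedVariables false
set_option linter.unusedSectionVars false

universe u

namespace H21.MP.E
open Cfsg Subgroup H18 H28.S H2.GW H27.MS H29.NA
open H17.GS hiding Cm cj_Cm
open H19 hiding eq_bot_mono
open H28.NG hiding Hyp Uniq Ch
open H29.PU (bm)
open H12.MS
open H29.NU (A4)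
open H9 (JJ)
open scoped MatrixGroups

open H29.MS
variable {G : Type u} [Group G] [Finite G] {a b c d e f g r s t u v w x y z : G}
  {A B D E F H J K L M N P Q R S T U V W X Y Z : Subgroup G}

theorem ls (tr : TR.{u}) (h : Hz G) (hS : Syl 2 S ⊤) (l : Li (bm 2 S) L) : Ls (bm 2 S) (pResidualOf 2 L) := by
  intro R r0 rp n1 n2
  have lN := l.le_nrm n2 n1
  by_contra ns
  obtain ⟨T, hT, lT⟩ := (hS.pi.of_le H29.PU.bm_le).exists_syl n1
  have k := (H21.MS.lc h.toHy r0 (.of_isPGroup Nat.prime_two rp) le_rfl ns hT).1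
  have eB := bm_syl (isSyl hS) hT.pi.isPGroup lT le_top
  have a := amb_syl (isSyl hS) (chrP h.toHy r0 rp) n1
  have c := cents_symm (l.vy a lN (H28.pCoreOf_le 2 _) (H28.le_normalizer_pCoreOf 2 _) bot_le nbot
    (H28.pMod_of_isPGroup (H28.isPGroup_pCoreOf 2 _) _) bot_le)
  have o := H28.le_omegaOneCenter ((le_inf (l.leB.trans n1) c).trans a.cp) c l.ea.2
  rw [← Oc2] at o
  generalize Oc {2} N(R) = Q at k o
  have lQ := inf_le_Q k.pg (lN.trans k.nq.norm)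
  rcases tr h k (fun e => l.not_E (((H28.pResidualOf_le 2 L).trans lN).trans (e.trans (cent_mono o)))) with b | b
  · exact l.nJ ((H9.JJ_le 2 _).trans ((le_inf l.syl.le (eB ▸ b)).trans lQ))
  obtain ⟨π, -, ker⟩ := b.l7
  obtain ⟨A, a1, a2, a3, -⟩ := b.four
  have H := l.hyp
  rw [eB] at a3
  have lA : A ≤ bm 2 S := eB ▸ a1.le_JJ.trans H29.PU.JJ_le_bm
  rw [show A ⊔ Q = Q ⊔ bm 2 S from le_antisymm (sup_le (lA.trans le_sup_right) le_sup_left) (sup_le le_sup_right a3)]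
    at a2
  have c1 := card_sup_mul_inf (n1.trans k.nq.norm)
  have c2 := H.card
  have lB : Q ⊓ bm 2 S ≤ pCoreOf 2 L := (le_inf (inf_le_right.trans l.syl.le) inf_le_left).trans lQ
  have H' : H17.GS.Hyp (Q ⊓ bm 2 S) (pCoreOf 2 L) := hyp_of_card lB (by
    rw [a2, c2] at c1
    have := card_pos Q
    nlinarith)
  obtain ⟨t, t1, t2⟩ := hyp_ex H'
  have tB := H.le t1
  have p : PG 2 L := fun r hr hd => (hr.eq_two_or_odd').resolve_right fun o => by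
    obtain ⟨x, x1, e⟩ := exists_orderOf_eq_prime hr hd
    have m := conj_mem_of_norm (H28.le_normalizer_pCoreOf 2 L x1) t1
    have tt := (ker (⟨t, n1 tB⟩ * ⟨t, n1 tB⟩)).2 (hyp_mul H' t1 t1 t2 t2).1
    have xt := (ker (⟨x, lN x1⟩ * ⟨t, n1 tB⟩ * ⟨x, lN x1⟩⁻¹ * ⟨t, n1 tB⟩)).2 (hyp_mul H' m t1 (fun j => t2
      ⟨by simpa [mul_assoc] using conj_mem_of_norm (k.nq.norm (inv_mem (lN x1))) j.1, tB⟩) t2).1
    simp only [map_mul, map_inv] at tt xt
    have := (ker _).1 (l32_cent tt (fun j => t2 ⟨(ker _).1 j, tB⟩) (x := π ⟨x, lN x1⟩) (by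
      rw [← tt] at xt; exact (mul_inv_eq_iff_eq_mul.1 (mul_right_cancel xt)).symm)
      (o.of_dvd_nat ((orderOf_map_dvd π _).trans (by rw [← e, ← Subgroup.orderOf_coe]))))
    exact absurd (k.pg r hr (e ▸ Subgroup.orderOf_dvd_natCard Q this)) (by rintro rfl; exact absurd o (by decide))
  exact l.nJ (((H9.JJ_le 2 _).trans l.syl.le).trans (Oc2 L ▸ le_Oc ⟨le_rfl, le_normalizer⟩ p))

theorem cor (h : Hz G) (hS : Syl 2 S ⊤) (l : Li (bm 2 S) L) (a : A4 K U) (u1 : U ≤ pCoreOf 2 L)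
    (n1 : pCoreOf 2 L ≤ N(K)) (hb : b ∈ bm 2 S) (nc : ¬ U ≤ C(cj b U)) (hx : x ∈ pCoreOf 2 L) (c1 : x ∈ C(K))
    (c2 : x ∈ C(cj b K)) : x = 1 := by_contra fun x1 => by
  have H := l.hyp
  have nJ := l.nJ
  have bP := H28.le_normalizer_pCoreOf 2 L (l.syl.le hb)
  have pP : PG 2 (pCoreOf 2 L) := .of_isPGroup Nat.prime_two (H28.isPGroup_pCoreOf 2 L)
  generalize pCoreOf 2 L = P at *
  have b0 : b ∉ P := fun m => nc (by rw [cj_of_mem_norm (a.nrm b (n1 m))]; exact a.ea.1)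
  have u2 : cj b U ≤ P := cj_le_of_mem_norm bP u1
  have n2 : P ≤ N(cj b K) := by rw [← cj_norm, ← cj_of_mem_norm bP]; exact cj_mono b n1
  have eb : cj b (cj b K) = K := by rw [cj_cj]; exact cj_of_mem_norm (n1 (hyp_mul H hb hb b0 b0))
  obtain ⟨R, r0, rp, nB, k1, k2⟩ : ∃ R, R ≠ ⊥ ∧ PG 2 R ∧ bm 2 S ≤ N(R) ∧ K ≤ N(R) ∧ cj b K ≤ N(R) := by
    refine ⟨P ⊓ (C(K) ⊓ C(cj b K)), ne_bot_of_mem (mem_inf.2 ⟨hx, mem_inf.2 ⟨c1, c2⟩⟩) x1, pP.of_le inf_le_left,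
      (H.sup_eq (zpowers_le' hb) (mt zpowers_le.1 b0)).ge.trans (sup_le (norms_inf le_normalizer (norms_inf
        (norms_cent n1) (norms_cent n2))) (zpowers_le' (mem_norm_iff_cj.2 ?_))),
      (cents_symm (inf_le_right.trans inf_le_left)).trans (cent_le_norm _),
      (cents_symm (inf_le_right.trans inf_le_right)).trans (cent_le_norm _)⟩
    rw [cj_inf, cj_inf, cj_cent, cj_cent, eb, cj_of_mem_norm bP, inf_comm C(K)]
  have ns : ∀ {X}, K ≤ X → cj b K ≤ X → ¬ Sol X := fun p q s =>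
    not_sol a (a4_conj a b) (u2.trans n1) (u1.trans n2) nc s p q
  obtain ⟨T, hT, lT⟩ := (hS.pi.of_le H29.PU.bm_le).exists_syl nB
  have k := (H21.MS.lc h.toHy r0 rp le_rfl (ns k1 k2) hT).1
  have eJ := (amb_syl (isSyl hS) (chrP h.toHy r0 rp.isPGroup) nB).JJ_eq hT.pi.isPGroup lT hT.le
  exact cor2 k H lT nJ (le_normalizer.trans (eJ ▸ H9.normalizer_le_normalizer_JJ 2 T)) a bP u1 n1 n2 hb b0 nc
    (k.toFr.eq_of (sup_le k1 k2) (ns le_sup_left le_sup_right))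

theorem gi (tr : TR.{u}) (h : Hz G) (hS : Syl 2 S ⊤) : H29.MS.GI S := by
  obtain ⟨E, e1, e2, e3⟩ := h.rk S hS
  have := h.simple
  refine ⟨fun Q => chrP h.toHy, isSyl hS, ?_, ⟨E, e1, H9.abE_iff_ea.2 e2, by omega⟩, fun L => ls tr h hS,
    fun g b L K U l a u n m nc x => cor h (S := cj g S) (by simpa using hS.J g) (H29.BB.cj_bm (p := 2) (T := S) g ▸ l) a u n (H29.BB.cj_bm (p := 2) (T := S) g ▸ m) nc⟩
  exact (IsSimpleGroup.eq_bot_or_eq_top_of_normal _ inferInstance).resolve_left fun e =>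
    h.nab (center_eq_top_iff.1 ((_root_.commutator_eq_bot_iff_center_eq_top G).1 e))

theorem s0 (tr : TR.{u}) : S0.{u} := fun {G} _ _ {S} h hS => by
  obtain ⟨D, d0, d1, d2, d3⟩ := (gi tr h hS).exists_D
  obtain ⟨R, ⟨r0, r1, r2⟩, m⟩ := Set.exists_max_image {Q : Subgroup G | Q ≠ ⊥ ∧ PG 2 Q ∧ N(D) ≤ N(Q)}
    (fun Q => #N(Q)) (Set.toFinite _) ⟨D, d0, .of_isPGroup Nat.prime_two d1, le_rfl⟩
  refine ⟨R, r0, r1, fun Q q0 q1 q2 => (H28.eq_of_le_of_card_le q2 (m Q ⟨q0, q1, r2.trans q2⟩)).ge, d2.trans r2,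
    fun L T b s c => ?_⟩
  by_cases sol : Sol L
  · exact star (isSyl hS) sol (fun L l => (d3 L l).trans r2) (d2.trans r2) b s c.le
  rcases (A.cm tr h (H21.MS.lc h.toHy c.ne (Oc_pi _ _) (Oc_norm _ _) sol s).1).2 with e | e
  · exact le_sup_of_le_left (le_inf le_rfl (cents_symm (Kc_cents (cents_symm e.le) le_normalizer)))
  · exact le_sup_of_le_right (le_inf le_rfl (e.1.le.trans (bm_syl (isSyl hS) s.pi.isPGroup b le_top ▸ d2.trans r2)))


end H21.MP.E
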