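import Cfsg.Agent.H21.MP0
import Cfsg.Agent.H6.MS1
import Cfsg.Agent.H3.MS2
import Cfsg.Agent.H5.MS1

/-! S5899: the global argument under the weak hypothesis `I4`, the tall case. -/

set_option autoImplicit false
set_option linter.unusedVariables false
set_option linter.unusedSectionVars false

universe u

namespace H21.MP.N
open Subgroup H17.GS
open H19 hiding eq_bot_mono
open H29.PU (bm bm_le nrm_bm)
open H27.MS H6.MS

variable {G : Type u} [Group G] [Finite G] {N Q T Y : Subgroup G} {a y z : G}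

theorem td (lf : LF.{u}) (el : EL.{u}) : H21.MP.TD.{u} := fun {G} _ _ {S Y Q n} h o d => by
  have f := h.lc.toFr
  have SC := f.syl.le
  have NQ := f.nq.norm
  have QS : Q ≤ S := f.syl.le_of_norm' f.nq.le f.pg (SC.trans NQ)
  have YS : Y ⊴ S := ⟨h.YB.trans bm_le, (nrm_bm le_normalizer).trans h.NB⟩
  obtain ⟨a, b, ha, hb, eS, ab⟩ := d.ex
  have aQ := NQ (SC ha.1)
  have bQ := NQ (SC hb.1)
  have q1 : ∀ (x : G) (k : x ∈ N(Q)), x * x ∈ Q → qmk Q ⟨x, k⟩ * qmk Q ⟨x, k⟩ = 1 := fun x k s => by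
    rw [← map_mul, qmk_eq_one]; exact s
  have eH : quo Q S = zpowers (qmk Q ⟨a, aQ⟩) ⊔ zpowers (qmk Q ⟨b, bQ⟩) := by
    rw [eS, quo_sup (sup_le le_normalizer (zpowers_le.2 aQ)) (zpowers_le.2 bQ), quo_sup_left (zpowers_le.2 aQ),
      quo_zpowers aQ, quo_zpowers bQ]
  have cH : #(quo Q S) = 2 ^ (n + 1) := by
    have := H19.card_mul_relIndex QS
    rw [d.card, mul_comm] at this
    rw [card_quo (SC.trans NQ)]
    exact Nat.eq_of_mul_eq_mul_right (card_pos Q) this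
  obtain ⟨od, na, le4⟩ := dih (q1 a aQ ha.2.2) (q1 b bQ hb.2.2) (eH ▸ cH) (by
    rw [← map_mul, ← map_pow, qmk_eq_one]; exact ab)
  obtain ⟨y, hy, y0⟩ := SetLike.not_le_iff_exists.1 h.nq
  have yy := sq_one h.ab hy
  have YQ := YS.le.trans (SC.trans NQ)
  by_cases e : Y ≤ Q ⊔ zpowers y
  swap
  · have c1 := le4 (quo Q Y) (eH ▸ quo_mono Q YS.le) fun v hv => sq_one (abelem_im h.ab _) hv
    have l1 : Q ⊔ zpowers y < Y ⊔ Q := lt_of_le_of_ne (sup_le le_sup_right ((zpowers_le.2 hy).trans le_sup_left))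
      fun k => e (le_sup_left.trans k.ge)
    have c2 := card_sup_zp yy y0 (YQ hy)
    have c3 := pg_lt_card (f.syl.pi.of_le (sup_le YS.le QS)) l1
    have c4 := H19.card_mul_relIndex (le_sup_right : Q ≤ Y ⊔ Q)
    rw [← card_quo (sup_le YQ le_normalizer), quo_sup_right YQ] at c4
    have c5 : #Q * #(quo Q Y) ≤ #Q * 4 := Nat.mul_le_mul_left _ c1
    exact el f (Or.inr d) o ⟨bot_le, by rw [normalizer_eq_top]; exact le_top⟩ (bot_lt_iff_ne_bot.2 h.lc.q0) YS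
      (comm_iff_der.1 h.ab.1).le (fun e he => (sq_one h.ab he).symm ▸ one_mem _) (by omega) (SC (YS.le hy)) y0
      (yy.symm ▸ one_mem _)
  obtain ⟨m, rfl⟩ := Nat.exists_eq_add_of_le' d.two
  have abS := mul_mem ha.1 hb.1
  -- `z` is the central involution
  have za : (a * b) ^ 2 ^ (m + 1) * a * ((a * b) ^ 2 ^ (m + 1))⁻¹ * a⁻¹ ∈ Q := by
    have k := inv_ab (q1 a aQ ha.2.2) (q1 b bQ hb.2.2) (-((2 ^ (m + 1) : ℕ) : ℤ))
    have k2 : qmk Q (((⟨a, aQ⟩ : N(Q)) * ⟨b, bQ⟩) ^ 2 ^ (m + 1) * ⟨a, aQ⟩ *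
        (((⟨a, aQ⟩ : N(Q)) * ⟨b, bQ⟩) ^ 2 ^ (m + 1))⁻¹ * (⟨a, aQ⟩ : N(Q))⁻¹) = 1 := by
      rw [map_mul, map_mul, map_mul, map_inv, map_inv, map_pow, map_mul, mul_assoc _ (qmk Q ⟨a, aQ⟩),
        ← zpow_natCast, ← zpow_neg, k, neg_neg, mul_assoc, mul_inv_cancel_right, zpow_natCast, ← pow_add,
        ← two_mul, ← pow_succ', ← od, pow_orderOf_eq_one]
    exact qmk_eq_one.1 k2
  obtain ⟨g, g1, zg, a₁, a1, aa, lY⟩ := lift f o YS hy yy y0 e ⟨SC ha.1, ha.2⟩ (pow_mem abS _) za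
  obtain ⟨g', -, -, b₁, b1, bb, -⟩ := lift f o YS hy yy y0 e ⟨SC hb.1, hb.2⟩ (one_mem S) (by simpa using one_mem Q)
  have s1 := sq_one (abelem_J h.ab g) a1
  have s2 := sq_one (abelem_J h.ab g') b1
  have a1S : a₁ ∈ S := by rw [← inv_mul_cancel_right a₁ a]; exact mul_mem (QS aa) ha.1
  have b1S : b₁ ∈ S := by rw [← inv_mul_cancel_right b₁ b]; exact mul_mem (QS bb) hb.1
  have eq : ∀ (x x' : G) (k : x ∈ N(Q)) (k' : x' ∈ N(Q)), x * x'⁻¹ ∈ Q → qmk Q ⟨x, k⟩ = qmk Q ⟨x', k'⟩ :=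
    fun x x' k k' s => by rw [← mul_inv_eq_one, ← map_inv, ← map_mul, qmk_eq_one]; exact s
  have ea := eq _ _ (NQ (SC a1S)) aQ aa
  have eb := eq _ _ (NQ (SC b1S)) bQ bb
  have Qg : Q ≤ H19.cj g S := by rw [← cj_of_mem_norm (NQ g1)]; exact cj_mono g QS
  have nY : H19.cj g S ≤ N(H19.cj g Y) := by rw [← cj_norm]; exact cj_mono g YS.norm
  have zN : (a₁ * b₁) ^ 2 ^ (m + 1) ∈ N(H19.cj g Y) := by
    have k : qmk Q (((⟨a₁, NQ (SC a1S)⟩ : N(Q)) * ⟨b₁, NQ (SC b1S)⟩) ^ 2 ^ (m + 1) *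
        (((⟨a, aQ⟩ : N(Q)) * ⟨b, bQ⟩) ^ 2 ^ (m + 1))⁻¹) = 1 := by
      rw [map_mul, map_inv, map_pow, map_pow, map_mul, map_mul, ea, eb, mul_inv_cancel]
    rw [← inv_mul_cancel_right ((a₁ * b₁) ^ 2 ^ (m + 1)) ((a * b) ^ 2 ^ (m + 1))]
    exact nY (mul_mem (Qg (qmk_eq_one.1 k)) zg)
  have lY1 : H19.cj g Y ≤ Q ⊔ zpowers a₁ := lY.trans (sup_le le_sup_left (zpowers_le.2 (by
    have : a = (a₁ * a⁻¹)⁻¹ * a₁ := by group
    rw [this]; exact mul_mem (mem_sup_left (inv_mem aa)) (mem_sup_right (mem_zpowers _)))))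
  have cjx : ∀ i : ℤ, (a₁ * b₁) ^ i * a₁ * ((a₁ * b₁) ^ i)⁻¹ = (a₁ * b₁) ^ (2 * i) * a₁ := fun i => by
    rw [mul_assoc, ← zpow_neg, inv_ab s1 s2, neg_neg, ← mul_assoc, ← zpow_add, two_mul]
  have x1S := mul_mem a1S b1S
  have nn : ∀ i : ℤ, (a₁ * b₁) ^ (2 * i) ∈ N(H19.cj g Y) → H19.cj ((a₁ * b₁) ^ i) (H19.cj g Y) ≤ N(H19.cj g Y) := fun i k => by
    refine (cj_mono _ lY1).trans ?_
    rw [cj_sup, cj_of_mem_norm (NQ (SC (zpow_mem x1S i))), cj_zpowers, cjx]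
    exact sup_le (Qg.trans nY) (zpowers_le.2 (mul_mem k (le_normalizer a1)))
  have p2 : (2 * ((2 ^ m : ℕ) : ℤ)) = ((2 ^ (m + 1) : ℕ) : ℤ) := by push_cast; ring
  have n1 := nn ((2 ^ m : ℕ) : ℤ) (by rw [p2, zpow_natCast]; exact zN)
  have n2 := nn (-((2 ^ m : ℕ) : ℤ)) (by rw [mul_neg, p2, zpow_neg, zpow_natCast]; exact inv_mem zN)
  set w := (a₁ * b₁) ^ ((2 ^ m : ℕ) : ℤ) with hw
  have cm0 : ∀ g, H19.cj g Y ≤ N(Y) → Y ≤ N(H19.cj g Y) → H19.cj g Y ≤ C(Y) := h.comm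
  have cm := cm0 (g⁻¹ * w * g) (by rw [H19.cj_mul, H19.cj_mul, cj_le_iff, inv_inv, cj_norm]; exact n1) (by
    rw [zpow_neg, ← hw, cj_le_iff, inv_inv, cj_norm, cj_le_iff, cj_norm] at n2
    rwa [H19.cj_mul, H19.cj_mul])
  rw [H19.cj_mul, H19.cj_mul, cj_le_iff, inv_inv, cj_cent] at cm
  have c1 := mem_centralizer_iff.1 (cm (mem_cj'.2 ⟨a₁, a1, rfl⟩)) a₁ a1
  rw [hw, cjx, p2, ← mul_assoc, inv_ab s1 s2, mul_left_inj, mul_left_inj] at c1
  have o1 : (a₁ * b₁) ^ 2 ^ (m + 2) = 1 := by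
    rw [pow_succ 2 (m + 1), pow_mul, sq, ← zpow_natCast]
    nth_rewrite 1 [← c1]
    rw [zpow_neg, inv_mul_cancel]
  refine lf (X := zpowers a₁ ⊔ zpowers b₁) f ⟨bot_le, by rw [normalizer_eq_top]; exact le_top⟩
    (bot_lt_iff_ne_bot.2 h.lc.q0) (eS.le.trans (sup_le (sup_le le_sup_right (zpowers_le.2 ?_)) (zpowers_le.2 ?_)))
    (sup_le (zpowers_le.2 a1S) (zpowers_le.2 b1S)) fun x hx => ?_
  · have : a = (a₁ * a⁻¹)⁻¹ * a₁ := by group
    rw [this]; exact mul_mem (mem_sup_right (inv_mem aa)) (mem_sup_left (mem_sup_left (mem_zpowers _)))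
  · have : b = (b₁ * b⁻¹)⁻¹ * b₁ := by group
    rw [this]; exact mul_mem (mem_sup_right (inv_mem bb)) (mem_sup_left (mem_sup_right (mem_zpowers _)))
  obtain ⟨i, rfl | rfl⟩ := nf s1 s2 hx.1
  · have k : qmk Q (((⟨a₁, NQ (SC a1S)⟩ : N(Q)) * ⟨b₁, NQ (SC b1S)⟩) ^ i) = 1 := qmk_eq_one.2 hx.2
    rw [map_zpow, map_mul, ea, eb, ← orderOf_dvd_iff_zpow_eq_one, od] at k
    obtain ⟨j, rfl⟩ := k
    rw [mem_bot, zpow_mul, zpow_natCast, o1, one_zpow]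
  · have k : qmk Q (((⟨a₁, NQ (SC a1S)⟩ : N(Q)) * ⟨b₁, NQ (SC b1S)⟩) ^ i * ⟨a₁, NQ (SC a1S)⟩) = 1 :=
      qmk_eq_one.2 hx.2
    rw [map_mul, map_zpow, map_mul, ea, eb, mul_eq_one_iff_inv_eq] at k
    exact (na (k.subst (motive := fun t => t ∈ _) (inv_mem (zpow_mem_zpowers _ i)))).elim


end H21.MP.N

namespace H21.MP.O
open Cfsg Subgroup H18 H17.GS H28.S H2.GW
open H19 hiding eq_bot_mono
open H28.NG hiding Hyp Uniq Ch
open H29.PU (bm bm_le nrm_bm)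
open H27.MS

open H3.MS
variable {G : Type u} [Group G] [Finite G] {N Q T S Y B E W Z : Subgroup G} {a b c g : G}

theorem tz0 : TZ0.{u} := by
  intro G _ _ S Y Q E t B
  have f := t.lc.toFr
  have sc := f.syl.le
  have qs := qt f
  have yS : Y ≤ S := t.YB.trans bm_le
  have nY : N(S) ≤ N(Y) := (nrm_bm le_rfl).trans t.NB
  have zz : Zs S ≤ Z(S) := Ohm1_le _ _
  have zY : Zs S ≤ Y := le_Kc.trans t.eY.ge
  have zQ : Zs S ≤ Q := (zz.trans (inf_le_right.trans (cent_mono qs))).trans t.lc.chr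
  have zC : Zs S ≤ C(C(Zs S)) := cents_symm le_rfl
  have cZ : C(Zs S) ≤ N(Zs S) := norms_of_cents le_rfl
  have ns : N(S) ≤ C(Zs S) := (norm_le_norm_Ohm1_center 2 S).trans (t.lc.nrm _
    (f.syl.pi.Ohm1_center_ne_bot fun k => t.lc.q0 (eq_bot_iff.2 (qs.trans k.le))) ⟨zQ.trans f.nq.le, cZ⟩).le
  have ab := t.ab
  have nq := t.nq
  have zm : ∀ w ∈ S, w ^ 2 = 1 → w ∈ C(C(Zs S)) → w ∈ Zs S := fun w p q r => H19.mem_Ohm1 ⟨p, cent_mono sc r⟩ q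
  have chr := t.lc.chr
  obtain ⟨y₀, y1, y0⟩ := SetLike.not_le_iff_exists.1 nq
  obtain ⟨g, hg, g0⟩ := out f (sc (yS y1)) y0
  have iv : ∀ y ∈ Y, y ∉ Q → Iv S Q y := fun y p q => ⟨yS p, q, by rw [← pow_two, ab.2 y p]; exact one_mem _⟩
  have iv' : ∀ y ∈ Y, y ∉ Q → Iv C(Zs S) Q y := fun y p q => ⟨sc (yS p), (iv y p q).2⟩
  have gn : g ∉ N(S) := fun k => g0 (conj_mem_of_norm k (yS y1))
  have gQ : cj g Q = Q := f.nq.cj_eq hg
  have g1 : ∀ x ∈ cj g Y, x ∉ Q → ∀ W, Y ≤ W → x ∈ W → C(Zs S) ≤ W := fun x p q W w r => by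
    have e : x = g * (g⁻¹ * x * g) * g⁻¹ := by group
    have q' : g⁻¹ * x * g ∉ Q := fun k => q (e ▸ f.nq.conj_mem hg k)
    exact gen0 f B ab yS nY nq w r (e ▸ ivJ f (iv' _ (mem_cj.1 p) q') hg) fun k =>
      gn (B.se g hg _ (iv _ (mem_cj.1 p) q') (le_normalizer (e ▸ k)))
  have g2 : ∀ y ∈ Y, y ∉ Q → ∀ W, cj g Y ≤ W → y ∈ W → C(Zs S) ≤ W := fun y p q W w r => by
    have := gen0 (W := cj g⁻¹ W) f B ab yS nY nq (cj_le_iff.1 w) (conj_mem_cj.2 r) (ivJ f (iv' y p q) (inv_mem hg))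
      fun k => gn (inv_mem_iff.1 (B.se _ (inv_mem hg) _ (iv y p q) (le_normalizer k)))
    rw [← cj_of_mem_norm (le_normalizer hg)]
    exact cj_le_iff.2 this
  have ax : Abelem 2 (cj g Y) := abelem_J ab g
  have xC : cj g Y ≤ C(Zs S) := cj_le_of_mem_norm (le_normalizer hg) (yS.trans sc)
  have qY : Q ≤ N(Y) := qs.trans (le_normalizer.trans nY)
  have qX : Q ≤ N(cj g Y) := by rw [← gQ, ← cj_norm]; exact cj_mono g qY
  have zX : Zs S ≤ cj g Y := (cj_of_mem_norm (cZ hg)).ge.trans (cj_mono g zY)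
  have eD : cj g (Y ⊓ Q) = cj g Y ⊓ Q := by rw [cj_inf, gQ]
  have c8 := big8 f B ab yS nY nq
  have c8' : 8 * #(cj g Y ⊓ Q) ≤ #(cj g Y) := by rwa [← eD, card_cj, card_cj]
  have cd : #(Y ⊓ Q) = #(cj g Y ⊓ Q) := by rw [← eD, card_cj]
  have x1 : g * y₀ * g⁻¹ ∈ cj g Y := conj_mem_cj.2 y1
  have x0 := (ivJ f (iv' _ y1 y0) hg).2.1
  generalize cj g Y = X at *
  have yC := yS.trans sc
  have k1 : ⁅Y, Q⁆ ≤ Y ⊓ Q := le_inf (commg_le_left qY) (commg_le_right (f.nq.norms yC))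
  have k2 : ⁅X, Q⁆ ≤ X ⊓ Q := le_inf (commg_le_left qX) (commg_le_right (f.nq.norms xC))
  have yx : Y ⊓ X ≤ Zs S := fun w p => zm w (yS p.1) (ab.2 w p.1) (le_cent1_iff.1 (g1 _ x1 x0 _
    (le_cent1_iff.2 (ab_cent ab p.1)) (le_cent1_iff.2 (ab_cent ax p.2) x1)))
  have n1 : ∀ b ∈ X ⊓ Q, b ∉ Zs S → Y ⊓ H28.NG.Cm (Zs S) (zpowers b) ≤ Y ⊓ Q := fun b p b0 y q => ⟨q.1, by
    by_contra r
    exact b0 (zm b (qs p.2) (ax.2 b p.1) (cen3 f zC (g2 y q.1 r _ (Cm_of_cent (xC.trans cZ)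
      (cents_symm (zpowers_le' (ab_cent ax p.1)))) q.2) (mem_zpowers b)))⟩
  have n2 : ∀ a ∈ Y ⊓ Q, a ∉ Zs S → X ⊓ H28.NG.Cm (Zs S) (zpowers a) ≤ X ⊓ Q := fun a p a0 x q => ⟨q.1, by
    by_contra r
    exact a0 (zm a (qs p.2) (ab.2 a p.1) (cen3 f zC (g1 x q.1 r _ (Cm_of_cent (yC.trans cZ)
      (cents_symm (zpowers_le' (ab_cent ab p.1)))) q.2) (mem_zpowers a)))⟩
  have zA := le_inf zY zQ
  have zD := le_inf zX zQ
  have d0 : ¬ X ⊓ Q ≤ Zs S := fun k => by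
    have k' : Y ⊓ Q ≤ Zs S := (eq_of_le_of_card_ge zA (cd ▸ card_le_of_le k)).ge
    exact f.ns (sol_mono f.pg.sol ((cents_symm (cen3 f zC (g1 _ x1 x0 _ (le_Cm (yC.trans cZ) (k1.trans k'))
      (le_Cm (xC.trans cZ) (k2.trans k) x1)))).trans chr))
  have pA := Nat.card_pos (α := (Y ⊓ Q : Subgroup G))
  refine ⟨Y ⊓ Q, X ⊓ Q, lt_of_le_of_ne inf_le_left fun k => nq (inf_eq_left.1 k), abelem_mono ax inf_le_left,
    inf_le_right.trans qs, zA, zD, (commutator_mono le_rfl inf_le_right).trans k1,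
    (le_inf ((commutator_mono inf_le_left inf_le_right).trans (commg_le_left qY))
      ((commutator_mono inf_le_right inf_le_left).trans (commg_le_right qX))).trans yx,
    fun y p q b r b0 k => q (n1 b r b0 ⟨p, (mem_Cm1 (cZ (f.nq.le r.2))).2 ⟨cZ (yC p), k⟩⟩), cd, ?_, ?_, ns⟩
  · obtain ⟨b, b1, b0⟩ := SetLike.not_le_iff_exists.1 d0
    have c := (ea_of ab zY).card_br (qY b1.2) (cZ (f.nq.le b1.2))
    have := Nat.mul_le_mul (card_le_of_le (n1 b b1 b0))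
      (card_le_of_le (sup_le ((commutator_mono le_rfl (zpowers_le' b1.2)).trans k1) zA))
    nlinarith
  · refine (em _).imp_right fun k => ?_
    obtain ⟨a, ⟨a1, a2⟩, a0⟩ := SetLike.not_le_iff_exists.1 k
    have c := (ea_of ax zX).card_br (qX a1.2) (cZ (f.nq.le a1.2))
    have nx : X ≤ N(C(Y ⊓ Q ⊔ X ⊓ Q)) := norms_cent (norms_of_commg_le'
      (((commutator_mono le_rfl (sup_le inf_le_right inf_le_right)).trans k2).trans le_sup_right))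
    have ac : a ∈ C(Y ⊓ Q ⊔ X ⊓ Q) := (cent_sup _ _).ge ⟨cent_mono inf_le_left (ab_cent ab a1.1), a2⟩
    have := Nat.mul_le_mul (card_le_of_le (n2 a a1 a0)) (card_le_of_le (sup_le (le_inf
      ((commutator_mono le_rfl (zpowers_le' a1.2)).trans k2) (((commutator_mono le_rfl (zpowers_le' ac)).trans
        (commg_le_right nx)).trans (cent_mono le_sup_left))) (le_inf zD (cents_symm (inf_le_left.trans yC)))))
    nlinarith


end H21.MP.O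

namespace H21.MP.P
open Cfsg Subgroup H18 H17.GS H28.S H2.GW H27.MS
open H19 hiding eq_bot_mono
open H28.NG hiding Hyp Uniq Ch
open H17.MS (QT card_q quo2 qsq de dn)
open scoped IsMulCommutative

open H5.MS
variable {G : Type u} [Group G] [Finite G] {N Q T E K K' R V₀ V H D A B : Subgroup G} {t y : G}

theorem tz2 (ty : Ty.{u}) : TZ2.{u} := fun {G} _ _ {S Y A D} h lc s t => by
  have f := lc.toFr
  have sq : ∀ d ∈ D, d * d ∈ C(Y) := fun d hd => (sq_one t.ab hd).symm ▸ one_mem _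
  have c : 8 * #C(Y) ≤ #(D ⊔ C(Y)) := by
    obtain ⟨y, hy, ny⟩ := SetLike.exists_of_lt t.lt
    have l := card_le (show D ⊓ C(Y) ≤ H27.MS.Zs S from fun d hd => by_contra fun n => t.nd y hy ny d hd.1 n (by
      rw [mem_cent.1 hd.2 y hy, mul_inv_cancel_right, mul_inv_cancel]; exact one_mem _))
    have e := card_sup_mul_inf (t.le.trans (f.syl.le.trans f.nq.norm))
    rw [sup_comm, inf_comm] at e
    refine Nat.le_of_mul_le_mul_right ?_ (card_pos (D ⊓ C(Y)))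
    rw [e, mul_comm 8, mul_assoc]
    exact Nat.mul_le_mul_left _ ((Nat.mul_le_mul_left _ l).trans (t.big.trans_eq t.card))
  obtain ⟨E, b⟩ := be_of ty f t.le sq c
  have zY := t.zA.trans t.lt.le
  refine s.nc (le_Cm.2 ⟨s.n0, ?_⟩)
  have k : N(Y) ≤ C(H27.MS.Zs S) := fun g hg => mem_cent.2 fun z hz => (mul_inv_eq_iff_eq_mul.1 (mul_inv_eq_one.1 (mem_bot.1
    (orb b f s (zY hz) (fun g hg => by rw [← mem_cent.1 (t.ns hg.2) z hz, mul_inv_cancel_right, mul_inv_cancel]; exact one_mem _)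
      (fun d hd => (b.mem d).2 ⟨t.le hd, sq d hd⟩) c t.c1 t.c2
      (.inl (commg_eq_bot.2 ((Ohm1_le _ _).trans (inf_le_right.trans (cent_mono t.le)))).le) g hg)))).symm
  have : Y ≤ H27.MS.Zs S := h.eY.le.trans (Kc_le_of le_rfl (norms_of_cents k))
  exact (commg_eq_bot.2 (k.trans (cent_mono this))).le


end H21.MP.P
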