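import Cfsg.Agent.H27.MS2

/-! S5899: the configuration `Tz` with `N(Y)` solvable. -/

set_option autoImplicit false
set_option linter.unusedVariables false
set_option linter.unusedSectionVars false

namespace H21.MS
open Cfsg Subgroup H18 H17.GS H28.S H2.GW H27.MS
open H19 hiding eq_bot_mono
open H28.NG hiding Hyp Uniq Ch
open H29.PU (bm)

universe u
variable {G : Type u} [Group G] [Finite G] {S Y A D F H U Z : Subgroup G} {w y : G}

/-- `h ↦ [y, h]` is injective modulo `Z` -/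
theorem cnt (zh : Z ≤ H) (zu : Z ≤ U) (n : H ≤ N(Z)) (m : ∀ h ∈ H, y * h * y⁻¹ * h⁻¹ ∈ U)
    (nd : ∀ h ∈ H, y * h * y⁻¹ * h⁻¹ ∈ Z → h ∈ Z) : #H ≤ #U := by
  rw [← card_mul_relIndex zh, ← card_mul_relIndex zu]
  refine Nat.mul_le_mul_left _ (Nat.card_le_card_of_injective (fun q : H ⧸ Z.subgroupOf H =>
    (QuotientGroup.mk ⟨_, m q.out q.out.2⟩ : U ⧸ Z.subgroupOf U)) fun a b e => ?_)
  rw [← a.out_eq', ← b.out_eq', QuotientGroup.eq]
  refine nd _ (a.out⁻¹ * b.out).2 ?_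
  convert conj_mem_of_norm (inv_mem (n a.out.2)) (mem_subgroupOf.1 (QuotientGroup.eq (s := Z.subgroupOf U).1 e)) using 1
  simp only [coe_mul, coe_inv, coe_subtype]
  group

theorem tz_key (h : Mo Y F) (t : Tz S Y A D) (DN : D ≤ N(Y)) (hw : w ∈ D) (w0 : w ∉ C(Y)) :
    ∃ H, H17.GS.Hyp H D ∧ w ∉ H ∧ #H ≤ #(A ⊓ C(H)) := by
  obtain ⟨H, x, h1, h2, h3, h4, h5, h6, h7⟩ := h.fs.dlw DN ((ea_bot t.ab).ab.trans bot_le)
    (fun _ p => sq_one t.ab p ▸ one_mem _) hw w0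
  have xL := h.FN h3
  have HL := h1.le.trans DN
  have d := dp1 h.ab xL h5
  have vy : cm Y x ≤ Y := cm_le xL
  have zD : Zs S ≤ C(D) := (Ohm1_le _ _).trans (inf_le_right.trans (cent_mono t.le))
  have nZ : D ≤ N(Zs S) := norms_of_cents (cents_symm zD)
  have zH : Zs S ≤ H := fun b p => by_contra fun k => h4 (h.fs.of_sq h3 (by
    have q := comm_iff_le_cent.1 h.ab.1 (t.lt.le (t.zA p))
    convert mul_mem (inv_mem (C(Y).mul_mem q (h.fs.nK.conj_mem xL (C(Y).inv_mem q)))) (h7 b (t.zD p) k) using 1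
    group))
  have cx : ∀ g ∈ D, cj g (zpowers x) ≤ zpowers x ⊔ C(Y) := fun g hg => by
    by_cases k : g ∈ H
    · exact cj_le_of_Cm (mem_Cm_symm h6 k (h.fs.nK.norm (DN hg)))
    rw [cj_zpowers, zpowers_le, ← mul_inv_cancel_right (g * x * g⁻¹) x]
    exact mul_mem (mem_sup_right (h7 g hg k)) (mem_sup_left (inv_mem (mem_zpowers x)))
  have nV : D ≤ N(cm Y x) := fun g hg => by simpa using h.md.norm_br (zpowers_le' xL) (DN hg) (cx g hg)
  have nC : D ≤ N(Y ⊓ C[x]) := fun g hg => by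
    simpa [Cm_bot, cent_zpowers] using h.md.norm_cm (zpowers_le' xL) (DN hg) (cx _ (inv_mem hg))
  have tr : ∀ U ≤ cm Y x, x ∈ N(U) → U ≤ C(D) → U = ⊥ := fun U a b c => eq_bot_mono (le_inf (le_inf (a.trans vy)
    (le_cent1_iff.2 (mem_of_inv h5 (cents_symm c hw) (conj_mem_of_norm (norm_le_norm_cent _ b) (cents_symm c hw))
      (cent_mono (a.trans vy) (h7 w hw h2))))) a) d.inf
  refine ⟨H, h1, h2, ?_⟩
  by_cases c : cm Y x ≤ A
  · obtain ⟨y, hy, y0⟩ := SetLike.not_le_iff_exists.1 fun k : Y ⊓ C[x] ≤ A => t.lt.not_ge (d.sup.ge.trans (sup_le k c))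
    have e : A ⊓ (Y ⊓ C[x] ⊔ Zs S) = A := eq_of_le_of_card_ge inf_le_left (t.card.le.trans (cnt t.zD (le_inf t.zA le_sup_right) nZ
      (fun b p => ⟨t.c1 (commutator_mem_commutator hy.1 p), mem_sup_left (commg_le_left nC (commutator_mem_commutator hy p))⟩)
        fun b p k => by_contra fun q => t.nd y hy.1 y0 b p q k))
    have k := commg_of_Cm (c.trans (e.ge.trans (inf_le_right.trans (sup_le (Cm_self nC) (Cm_of_cent
      (t.zA.trans (t.lt.le.trans (norms_of_cents ((comm_iff_le_cent.1 h.ab.1).trans (cent_mono inf_le_left))))) zD)))))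
    exact absurd (le_cent1_iff.1 (cm_eq_bot.1 (tr _ le_rfl (cm_norm' _ _)
      (commg_eq_bot.1 (eq_bot_mono (le_inf k (commg_le_left nV)) d.inf))))) h4
  obtain ⟨y, hy, y0⟩ := SetLike.not_le_iff_exists.1 c
  have br : ∀ V ≤ Y, H ≤ N(V) → x ∈ N(V) → x ∈ N(⁅V, H⁆) := fun V a b c => by
    simpa using (ea_bot (abelem_mono h.ab a)).norm_br (Cm_bot (W := V) ▸ cent_mono a) b nbot c (nbot (mem_top x)) (cj_le_of_Cm h6)
  have l := commg_le_left (h1.le.trans nV)
  have e := commg_eq_bot.1 (tr ⁅⁅cm Y x, H⁆, H⁆ ((commg_le_left (commg_normr _ _)).trans l)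
    (br _ (l.trans vy) (commg_normr _ _) (br _ vy (h1.le.trans nV) (cm_norm' _ _)))
    ((commutator_mono ((commutator_mono vy h1.le).trans t.c1) h1.le).trans (t.c2.trans zD)))
  exact cnt zH (le_inf t.zA (zD.trans (cent_mono h1.le))) (h1.le.trans nZ)
    (fun b p => ⟨t.c1 (commutator_mem_commutator (vy hy) (h1.le p)), e (commutator_mem_commutator hy p)⟩)
      fun b p k => by_contra fun q => t.nd y (vy hy) y0 b (h1.le p) q k

theorem tz1 : TZ1.{u} := fun {G} _ _ {S Y A D F} m h t => by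
  have DN : D ≤ N(Y) := t.le.trans ((H29.PU.nrm_bm le_normalizer).trans m.NB)
  have cy : ∀ b ∈ D, b ∉ Zs S → Y ⊓ C[b] ≤ A := fun b p q y hy => by_contra fun k =>
    t.nd y hy.1 k b p q (by rw [mem_cent1.1 hy.2]; simp)
  have nc : ∀ b ∈ D, b ∉ Zs S → b ∉ C(Y) := fun b p q k => t.lt.not_ge ((le_inf le_rfl (le_cent1_iff.2 k)).trans (cy b p q))
  have ex : ∀ W, #(Zs S) < #W → ∃ w ∈ W, w ∉ Zs S := fun W k => SetLike.not_le_iff_exists.1 fun l => (card_le l).not_gt k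
  have z0 := card_pos (Zs S)
  have := t.big
  have := t.card
  rcases t.rad with r | r
  · obtain ⟨a, p, q⟩ := ex D (by omega)
    obtain ⟨H, a1, -, a3⟩ := tz_key h t DN p (nc a p q)
    have := a1.card
    obtain ⟨b, p, q⟩ := ex H (by omega)
    obtain ⟨K, b1, b2, b3⟩ := tz_key h t DN (a1.le p) (nc b (a1.le p) q)
    have := b1.card
    have c := card_sup_mul_inf (A := A ⊓ C(K)) (B := A ⊓ C(H)) (norms_of_cents (inf_le_left.trans (t.lt.le.trans
      ((comm_iff_le_cent.1 h.ab.1).trans (cent_mono (inf_le_left.trans t.lt.le))))))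
    have c1 := Nat.mul_le_mul (card_le (sup_le (inf_le_left (b := C(K))) (inf_le_left (a := A) (b := C(H)))))
      (card_le ((le_inf (inf_le_left.trans inf_le_left) (b1.sup_eq a1.le (fun k => b2 (k p)) ▸ cent_sup K H ▸
        inf_le_inf inf_le_right inf_le_right)).trans r : A ⊓ C(K) ⊓ (A ⊓ C(H)) ≤ _))
    have := Nat.mul_le_mul b3 a3
    nlinarith
  obtain ⟨a, p, q⟩ := ex (D ⊓ C(A)) (by omega)
  obtain ⟨H, a1, -, -, a3⟩ := h.q4w (inf_le_left.trans DN) (abelem_mono t.ab inf_le_left) p (nc a p.1 q)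
  have := a1.card
  obtain ⟨b, p, q⟩ := ex H (by omega)
  exact a3 ((inf_le_inf_left _ (cent_le_cent1 p)).trans ((cy b (a1.le p).1 q).trans (cents_symm inf_le_right)))

end H21.MS
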