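import Cfsg.Agent.H27.MS2

/-! S5899: the dihedral lemma configuration when `C(Z)` is solvable. -/

set_option autoImplicit false
set_option linter.unusedVariables false
set_option linter.unusedSectionVars false

namespace H21.MS
open Cfsg Subgroup H18 H17.GS H28.S H2.GW H27.MS
open H19 hiding eq_bot_mono
open H28.NG hiding Hyp Uniq Ch
open H29.PU (bm)

universe u

theorem ds : DS.{u} := fun {G} _ _ {S Y} h hs => by
  obtain ⟨P, ⟨le, ge, nl⟩, mn'⟩ := (Set.toFinite {P : Subgroup G | P ≤ C(Zs S) ∧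
    C(Zs S) ⊓ N(Y) ≤ P ∧ ¬ P ≤ N(Y)}).exists_minimal ⟨_, le_rfl, inf_le_left, h.nz⟩
  have mn : ∀ X, C(Zs S) ⊓ N(Y) ≤ X → X ≤ P → ¬ X ≤ N(Y) → P ≤ X := fun X a b c => mn' ⟨b.trans le, a, c⟩ b
  refine ⟨P, le, ge, nl, fun A h1 h2 (h3 : ∃ p ∈ P, ¬ A ≤ N(cj p Y)) => show ∃ x ∈ P, H17.GS.Hyp (A ⊓ N(cj x Y)) A from ?_⟩
  have SM : S ≤ N(Y) := (H29.PU.nrm_bm le_normalizer).trans h.NB
  have KP : C(Y) ≤ P := (le_inf (cent_mono (le_Kc.trans h.eY.ge)) (cent_le_norm Y)).trans ge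
  have SG : S ≤ C(Zs S) ⊓ N(Y) := le_inf (cents_symm ((Ohm1_le _ _).trans inf_le_right)) SM
  have core {N} (p : N ⊴ P) (q : N ≤ N(Y)) : N ≤ P ⊓ ⨅ p : P, N(cj (p : G) Y) := le_inf p.le (le_iInf fun r => by
    rw [← cj_norm, ← p.cj_eq r.2]; exact cj_mono _ q)
  have nN : P ⊓ ⨅ p : P, N(cj (p : G) Y) ⊴ P := inf_normal_of_norm' fun g p => mem_norm_of_cj_le (le_iInf fun r => by
    rw [cj_le_iff, cj_norm, cj_cj]; exact iInf_le (fun p : P => N(cj (p : G) Y)) ⟨_, mul_mem (inv_mem p) r.2⟩)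
  have NM : P ⊓ ⨅ p : P, N(cj (p : G) Y) ≤ N(Y) := inf_le_right.trans (by simpa using iInf_le (fun p : P => N(cj (p : G) Y)) 1)
  obtain ⟨E, fs⟩ := exists_FS nN (sol_mono hs le) fun N p q r => core p
      ((((h.syl.of_le (SG.trans ge) le_top).inf_normal p).sup_eq q r).ge.trans (sup_le NM (inf_le_left.trans SM)))
  have EM : E ⊓ N(Y) ≤ P ⊓ ⨅ p : P, N(cj (p : G) Y) := by
    by_cases k : E ⊓ N(E ⊓ N(Y)) ≤ N(Y)
    · have := fs.nil _ (le_inf fs.le NM) inf_le_left (le_inf inf_le_left k)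
      exact inf_le_left.trans (core fs.nF (this.ge.trans inf_le_right))
    · exact core ⟨inf_le_left.trans fs.FP, (mn (P ⊓ N(E ⊓ N(Y))) (le_inf ge (norms_inf (ge.trans fs.nF.norm)
        (norms_of_le inf_le_right))) inf_le_left (mt (inf_le_inf_right _ fs.FP).trans k)).trans inf_le_right⟩
        inf_le_right
  obtain ⟨p, p1, p2⟩ := h3
  obtain ⟨H, x, a1, -, a2, a3, a4, a5, a6⟩ := fs.dl (h1.trans KP) ((ea_bot h2).ab.trans bot_le)
    (fun _ q => sq_one h2 q ▸ one_mem _) fun k => p2 (k.trans (inf_le_right.trans (iInf_le (fun p : P => N(cj (p : G) Y)) ⟨p, p1⟩)))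
  have AM := h1.trans (cent_le_norm Y)
  refine ⟨x, fs.FP a2, (a1.max (le_inf a1.le fun η q => ?_) inf_le_left).resolve_right (fun k => ?_) ▸ a1⟩
  · rw [← cj_norm, mem_cj]
    simpa using mul_mem (NM ((inv_mem a5).2 η q)) (AM (a1.le q))
  · obtain ⟨a, q, r⟩ := hyp_ex a1
    have := (k.ge q).2
    rw [← cj_norm] at this
    refine a3 (EM ⟨a2, N(Y).inv_mem_iff.1 (mem_of_inv (a := a) (by simpa using a4) (AM q) (by simpa using mem_cj.1 this) ?_)⟩)
    convert inv_mem (NM (nN.conj_mem (fs.FP a2) (a6 a q r))) using 1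
    group

end H21.MS
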