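import Cfsg.Agent.H24.ND0

/-! S4780, chunk `LV`: characters over a central section. -/

set_option autoImplicit false
set_option linter.unusedVariables false
set_option linter.unusedSectionVars false

open Subgroup MulAction H19 H20 H6 Cfsg H3.PT H3.GR H3.ND Module H24.ND
open scoped commutatorElement

namespace H21.ND

universe u
variable {G : Type u} [Group G] [Finite G] {P H X Y : Subgroup G} [hX : X.Normal] [hY : Y.Normal] {c : G}
  {ψ : G → ℂ}

/-- `x ↦ [c, x]` modulo `Y` -/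
def cm (hab : ⁅X, X⁆ ≤ Y) (c : G) : X →* G ⧸ Y :=
  MonoidHom.mk' (fun x => ((c * x * c⁻¹ * (x : G)⁻¹ : G) : G ⧸ Y)) fun x y => by
    rw [← QuotientGroup.mk_mul, QuotientGroup.eq]
    have hu : c * y * c⁻¹ * (y : G)⁻¹ ∈ X := mul_mem (hX.conj_mem _ y.2 c) (inv_mem y.2)
    have := hab (commutator_mem_commutator x.2 (inv_mem hu))
    convert this using 1
    simp only [commutatorElement_def, Subgroup.coe_mul]
    group

theorem fpf_of (hab : ⁅X, X⁆ ≤ Y) (h : X ≤ (cm hab c).range.comap (QuotientGroup.mk' Y)) : Fpf X Y c := by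
  let A := X.map (QuotientGroup.mk' Y)
  have hA : A.Normal := hX.map _ (QuotientGroup.mk'_surjective Y)
  let f : A → A := fun a => ⟨(c : G ⧸ Y) * a * (c : G ⧸ Y)⁻¹ * (a : G ⧸ Y)⁻¹,
    mul_mem (hA.conj_mem _ a.2 _) (inv_mem a.2)⟩
  have hs : Function.Surjective f := by
    rintro ⟨_, w, hw, rfl⟩
    obtain ⟨x, hx⟩ := h hw
    exact ⟨⟨(x : G), x, x.2, rfl⟩, Subtype.ext hx⟩
  intro w hw e
  have := Finite.injective_iff_surjective.2 hs (a₁ := ⟨(w : G), w, hw, rfl⟩) (a₂ := 1) (Subtype.ext (by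
    simp only [f, OneMemClass.coe_one, mul_one, mul_inv_cancel, inv_one]
    exact (QuotientGroup.eq_one_iff _).2 e))
  exact (QuotientGroup.eq_one_iff _).1 (congrArg Subtype.val this)

theorem ce_fix (hk : Y ≤ cker ψ) (h : Ce Y X c) : ∀ x ∈ X, ψ (c * x * c⁻¹) = ψ x := fun x hx => by
  have := cker_mul (hk (h x hx)) x
  rwa [inv_mul_cancel_right] at this

section
variable (hXP : X ≤ P) (h1 : ⁅X, P⁆ ≤ Y) (h2 : ⁅P ⊓ C(H), P⁆ ≤ Y)
include h1 h2

theorem cen : ⁅P, X ⊔ (P ⊓ C(H))⁆ ≤ Y := by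
  rw [commutator_le]
  intro g hg z hz
  obtain ⟨x, hx, j, hj, rfl⟩ := mem_sup_of_normal_left.1 hz
  have a := inv_mem (h1 (commutator_mem_commutator hx hg))
  have b := hY.conj_mem _ (inv_mem (h2 (commutator_mem_commutator hj hg))) x
  convert mul_mem a b using 1
  simp only [commutatorElement_def]
  group

variable (hYX : Y ≤ X)
  (h3 : ∀ x ∈ P, x ∉ X ⊔ (P ⊓ C(H)) → ∀ y ∈ X, ∃ g ∈ P, g * x * g⁻¹ * (y * x)⁻¹ ∈ Y)
  (hψ : ψ ∈ Irr P) (hk : Y ≤ cker ψ) (hn : ¬ X ≤ cker ψ)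
include hXP hYX h3 hψ hk hn

theorem van (g : G) (hg : g ∉ X ⊔ (P ⊓ C(H))) : ψ g = 0 := by
  by_cases gP : g ∈ P
  swap
  · exact irr_zero hψ gP
  obtain ⟨y, hy, hy'⟩ := SetLike.not_le_iff_exists.1 hn
  obtain ⟨a, ha, e⟩ := h3 g gP hg y hy
  have e1 : a * g * a⁻¹ * g⁻¹ = a * g * a⁻¹ * (y * g)⁻¹ * y := by group
  refine vanish_off_center hψ (sup_le hXP inf_le_left) ((cen h1 h2).trans hk) ha ?_ fun k => hy' ?_
  · rw [e1]; exact mem_sup_left (mul_mem (hYX e) hy)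
  · rw [e1] at k; exact (mul_mem_cancel_left (hk e)).1 k

theorem fix (hc : c ∈ H) (e : ∀ x ∈ X, ψ (c * x * c⁻¹) = ψ x) : cfj c ψ = ψ := by
  obtain ⟨l, -, -, h5⟩ := irr_Res_central hψ (sup_le hXP inf_le_left) ((cen h1 h2).trans hk)
  have key : ∀ d ∈ H, ∀ x ∈ X, ∀ j ∈ P ⊓ C(H), d * (x * j) * d⁻¹ = d * x * d⁻¹ * j := fun d hd x hx j hj => by
    have := mem_cent.1 hj.2 _ (inv_mem hd)
    rw [mul_assoc (d * x), this]; group
  funext g
  rw [cfj_apply]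
  by_cases hg : g ∈ X ⊔ (P ⊓ C(H))
  · obtain ⟨x, hx, j, hj, rfl⟩ := mem_sup_of_normal_left.1 hg
    have cx := hX.conj_mem _ hx c
    have a := h5 _ (mem_sup_left cx) 1
    have b := h5 _ (mem_sup_left hx) 1
    rw [mul_one] at a b
    rw [key c hc x hx j hj, h5 _ (mem_sup_left cx), h5 _ (mem_sup_left hx),
      mul_right_cancel₀ (irr_one_ne hψ) (a.symm.trans ((e x hx).trans b))]
  · rw [van hXP h1 h2 hYX h3 hψ hk hn g hg, van hXP h1 h2 hYX h3 hψ hk hn _ fun k => hg ?_]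
    obtain ⟨x, hx, j, hj, e⟩ := mem_sup_of_normal_left.1 k
    have : g = c⁻¹ * (x * j) * c⁻¹⁻¹ := by rw [e]; group
    rw [this, key _ (inv_mem hc) x hx j hj]
    exact mul_mem (mem_sup_left (hX.conj_mem _ hx _)) (mem_sup_right hj)

end

theorem lv (ro : RO.{u}) : LV.{u} := by
  intro G _ _ P H X Y p hX hY h hYX hX2 h1 h2 h3
  have nP := h.nP
  have hXP : X ≤ P := hX2.trans (commutator_le_left P P)
  have hab : ⁅X, X⁆ ≤ Y := (commutator_mono le_rfl hXP).trans h1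
  have dsq : ∀ ψ ∈ Irr P, Y ≤ cker ψ → ¬ X ≤ cker ψ → deg ψ ^ 2 = (X ⊔ (P ⊓ C(H))).relIndex P :=
    fun ψ hψ hk hn => deg_sq_of_vanish hψ (sup_le hXP inf_le_left) ((cen h1 h2).trans hk)
      (van hXP h1 h2 hYX h3 hψ hk hn)
  have back : ∀ ψ ∈ Irr P, Y ≤ cker ψ → ¬ X ≤ cker ψ → ∀ c ∈ H, Ce Y X c → cfj c ψ = ψ :=
    fun ψ hψ hk hn c hc e => fix hXP h1 h2 hYX h3 hψ hk hn hc (ce_fix hk e)
  obtain ⟨ν, hν, kν, rν⟩ := ro (H := H) h.pr (h.pg.of_le hXP) h.np h.ab hab hYX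
  have fwd : ∀ ψ ∈ Irr P, Y ≤ cker ψ → ¬ X ≤ cker ψ → ∀ c ∈ H, cfj c ψ = ψ → Ce Y X c := by
    intro ψ hψ hk hn c hc e
    by_cases n0 : X ≤ cker ν
    · refine rν c hc ?_
      rw [(irr_le_cker_iff hν.irr).1 n0]
      exact cfj_triv (nr (mem_top c))
    obtain ⟨φ, hφ⟩ := exists_ovr hXP hν.irr
    obtain ⟨hφ, d0⟩ := mem_ovr.1 hφ
    have kφ : Y ≤ cker φ := le_cker_of_above hφ hXP hν.chr d0 nr hYX kν
    have nφ : ¬ X ≤ cker φ := fun k => n0 (le_cker_of_below (irr_chr hφ) hXP hν.irr d0 le_rfl k)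
    have le : H20.inertia H φ ≤ H20.inertia H ψ := fun d hd => ⟨hd.1, back ψ hψ hk hn d hd.1 (rν d hd.1 (by
      obtain ⟨l, hl, e1, -⟩ := irr_Res_central hφ hXP (((commutator_comm P X).le.trans h1).trans kφ)
      have e2 : l = ν := by
        by_contra e3
        rw [← dot_Res_left, e1, dot_smul_left, irr_dot_ne hl.irr hν.irr e3, mul_zero] at d0
        exact d0 rfl
      have e4 := cfj_Res_of_norm (H := X) (nr (mem_top d)) φ
      rw [hd.2, e1, map_smul, e2] at e4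
      exact smul_right_injective _ (irr_one_ne hφ) e4))⟩
    have dg : deg ψ = deg φ := (Nat.pow_left_injective two_ne_zero) ((dsq ψ hψ hk hn).trans (dsq φ hφ kφ nφ).symm)
    have d1 : deg ψ ≠ 1 := fun k => hn (hX2.trans (lin_of_deg (irr_chr hψ) k).der_le)
    have e5 := h.nd ψ hψ φ hφ d1 (by
      rw [dd, dd, dg]; exact Nat.mul_dvd_mul_right (relIndex_dvd_of_le_left _ le) _)
    rw [dd, dd, dg] at e5
    have e6 := Nat.eq_of_mul_eq_mul_right (irr_deg_pos hφ) e5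
    have e7 := relIndex_mul_relIndex _ _ _ le (inertia_le H ψ)
    rw [← e6] at e7
    have e8 : (H20.inertia H φ).relIndex (H20.inertia H ψ) = 1 :=
      Nat.eq_of_mul_eq_mul_right (Nat.pos_of_ne_zero (Nat.cast_ne_zero.1 (relIndexC_ne (H20.inertia H ψ) H)))
        (e7.trans (one_mul _).symm)
    have hc' : c ∈ H20.inertia H φ := relIndex_eq_one.1 e8 ⟨hc, e⟩
    refine rν c hc ?_
    obtain ⟨l, hl, e1, -⟩ := irr_Res_central hφ hXP (((commutator_comm P X).le.trans h1).trans kφ)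
    have e2 : l = ν := by
      by_contra e3
      rw [← dot_Res_left, e1, dot_smul_left, irr_dot_ne hl.irr hν.irr e3, mul_zero] at d0
      exact d0 rfl
    have e4 := cfj_Res_of_norm (H := X) (nr (mem_top c)) φ
    rw [hc'.2, e1, map_smul, e2] at e4
    exact smul_right_injective _ (irr_one_ne hφ) e4
  refine ⟨fun c hc => or_iff_not_imp_right.2 fun nf => ?_,
    fun ψ hψ hk hn => ⟨dsq ψ hψ hk hn, fun c hc => ⟨fwd ψ hψ hk hn c hc, back ψ hψ hk hn c hc⟩⟩⟩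
  set M := (cm hab c).range.comap (QuotientGroup.mk' Y) with hM
  have YM : Y ≤ M := fun y hy => by
    rw [hM, mem_comap, QuotientGroup.mk'_apply, (QuotientGroup.eq_one_iff y).2 hy]; exact one_mem _
  have MX : M ≤ X := by
    rintro w ⟨x, hx⟩
    have := QuotientGroup.eq.1 hx
    exact (mul_mem_cancel_left (inv_mem (mul_mem (hX.conj_mem _ x.2 c) (inv_mem x.2)))).1 (hYX this)
  obtain ⟨x, hx, hx'⟩ := SetLike.not_le_iff_exists.1 fun k => nf (fpf_of hab k)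
  have nM : M ⊴ P := ⟨MX.trans hXP, norms_of_commg_le (((commutator_mono MX le_rfl).trans h1).trans YM)⟩
  by_contra k
  refine hx' (mem_of_forall_cker nM (hXP hx) fun θ hθ kθ => by_contra fun nθ => k ?_)
  have nθ' : ¬ X ≤ cker θ := fun a => nθ (a hx)
  refine fwd θ hθ (YM.trans kθ) nθ' c hc (fix hXP h1 h2 hYX h3 hθ (YM.trans kθ) nθ' hc fun y hy => ?_)
  have := cker_mul (kθ (show c * y * c⁻¹ * y⁻¹ ∈ M from ⟨⟨y, hy⟩, rfl⟩)) y
  rwa [inv_mul_cancel_right] at this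

end H21.ND
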