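import Cfsg.Agent.H10.PR.A0

/-! S4881: the finite check `FIN`. -/

set_option autoImplicit false

namespace H21.PR
open H10.PR

def D0 : List ℕ := (List.range 11).flatMap fun i => (List.range 6).flatMap fun j =>
  (List.range 4).flatMap fun k => (List.range 3).map fun l => 2 ^ i * 3 ^ j * 5 ^ k * 7 ^ l

def DL : List ℕ :=
  [1, 7, 49, 5, 35, 245, 25, 175, 1225, 125, 875, 6125, 3, 21, 147, 15, 105, 735, 75, 525, 3675,
  375, 2625, 18375, 9, 63, 441, 45, 315, 2205, 225, 1575, 11025, 1125, 7875, 55125, 27, 189, 1323,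
  135, 945, 6615, 675, 4725, 33075, 3375, 23625, 165375, 81, 567, 3969, 405, 2835, 19845, 2025,
  14175, 99225, 10125, 70875, 496125, 243, 1701, 11907, 1215, 8505, 59535, 6075, 42525, 297675,
  30375, 212625, 1488375, 2, 14, 98, 10, 70, 490, 50, 350, 2450, 250, 1750, 12250, 6, 42, 294, 30,
  210, 1470, 150, 1050, 7350, 750, 5250, 36750, 18, 126, 882, 90, 630, 4410, 450, 3150, 22050,
  2250, 15750, 110250, 54, 378, 2646, 270, 1890, 13230, 1350, 9450, 66150, 6750, 47250, 330750,
  162, 1134, 7938, 810, 5670, 39690, 4050, 28350, 198450, 20250, 141750, 992250, 486, 3402, 23814,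
  2430, 17010, 119070, 12150, 85050, 595350, 60750, 425250, 2976750, 4, 28, 196, 20, 140, 980, 100,
  700, 4900, 500, 3500, 24500, 12, 84, 588, 60, 420, 2940, 300, 2100, 14700, 1500, 10500, 73500,
  36, 252, 1764, 180, 1260, 8820, 900, 6300, 44100, 4500, 31500, 220500, 108, 756, 5292, 540, 3780,
  26460, 2700, 18900, 132300, 13500, 94500, 661500, 324, 2268, 15876, 1620, 11340, 79380, 8100,
  56700, 396900, 40500, 283500, 1984500, 972, 6804, 47628, 4860, 34020, 238140, 24300, 170100,
  1190700, 121500, 850500, 5953500, 8, 56, 392, 40, 280, 1960, 200, 1400, 9800, 1000, 7000, 49000,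
  24, 168, 1176, 120, 840, 5880, 600, 4200, 29400, 3000, 21000, 147000, 72, 504, 3528, 360, 2520,
  17640, 1800, 12600, 88200, 9000, 63000, 441000, 216, 1512, 10584, 1080, 7560, 52920, 5400, 37800,
  264600, 27000, 189000, 1323000, 648, 4536, 31752, 3240, 22680, 158760, 16200, 113400, 793800,
  81000, 567000, 3969000, 1944, 13608, 95256, 9720, 68040, 476280, 48600, 340200, 2381400, 243000,
  1701000, 11907000, 16, 112, 784, 80, 560, 3920, 400, 2800, 19600, 2000, 14000, 98000, 48, 336,
  2352, 240, 1680, 11760, 1200, 8400, 58800, 6000, 42000, 294000, 144, 1008, 7056, 720, 5040,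
  35280, 3600, 25200, 176400, 18000, 126000, 882000, 432, 3024, 21168, 2160, 15120, 105840, 10800,
  75600, 529200, 54000, 378000, 2646000, 1296, 9072, 63504, 6480, 45360, 317520, 32400, 226800,
  1587600, 162000, 1134000, 7938000, 3888, 27216, 190512, 19440, 136080, 952560, 97200, 680400,
  4762800, 486000, 3402000, 23814000, 32, 224, 1568, 160, 1120, 7840, 800, 5600, 39200, 4000,
  28000, 196000, 96, 672, 4704, 480, 3360, 23520, 2400, 16800, 117600, 12000, 84000, 588000, 288,
  2016, 14112, 1440, 10080, 70560, 7200, 50400, 352800, 36000, 252000, 1764000, 864, 6048, 42336,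
  4320, 30240, 211680, 21600, 151200, 1058400, 108000, 756000, 5292000, 2592, 18144, 127008, 12960,
  90720, 635040, 64800, 453600, 3175200, 324000, 2268000, 15876000, 7776, 54432, 381024, 38880,
  272160, 1905120, 194400, 1360800, 9525600, 972000, 6804000, 47628000, 64, 448, 3136, 320, 2240,
  15680, 1600, 11200, 78400, 8000, 56000, 392000, 192, 1344, 9408, 960, 6720, 47040, 4800, 33600,
  235200, 24000, 168000, 1176000, 576, 4032, 28224, 2880, 20160, 141120, 14400, 100800, 705600,
  72000, 504000, 3528000, 1728, 12096, 84672, 8640, 60480, 423360, 43200, 302400, 2116800, 216000,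
  1512000, 10584000, 5184, 36288, 254016, 25920, 181440, 1270080, 129600, 907200, 6350400, 648000,
  4536000, 31752000, 15552, 108864, 762048, 77760, 544320, 3810240, 388800, 2721600, 19051200,
  1944000, 13608000, 95256000, 128, 896, 6272, 640, 4480, 31360, 3200, 22400, 156800, 16000,
  112000, 784000, 384, 2688, 18816, 1920, 13440, 94080, 9600, 67200, 470400, 48000, 336000,
  2352000, 1152, 8064, 56448, 5760, 40320, 282240, 28800, 201600, 1411200, 144000, 1008000,
  7056000, 3456, 24192, 169344, 17280, 120960, 846720, 86400, 604800, 4233600, 432000, 3024000,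
  21168000, 10368, 72576, 508032, 51840, 362880, 2540160, 259200, 1814400, 12700800, 1296000,
  9072000, 63504000, 31104, 217728, 1524096, 155520, 1088640, 7620480, 777600, 5443200, 38102400,
  3888000, 27216000, 190512000, 256, 1792, 12544, 1280, 8960, 62720, 6400, 44800, 313600, 32000,
  224000, 1568000, 768, 5376, 37632, 3840, 26880, 188160, 19200, 134400, 940800, 96000, 672000,
  4704000, 2304, 16128, 112896, 11520, 80640, 564480, 57600, 403200, 2822400, 288000, 2016000,
  14112000, 6912, 48384, 338688, 34560, 241920, 1693440, 172800, 1209600, 8467200, 864000, 6048000,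
  42336000, 20736, 145152, 1016064, 103680, 725760, 5080320, 518400, 3628800, 25401600, 2592000,
  18144000, 127008000, 62208, 435456, 3048192, 311040, 2177280, 15240960, 1555200, 10886400,
  76204800, 7776000, 54432000, 381024000, 512, 3584, 25088, 2560, 17920, 125440, 12800, 89600,
  627200, 64000, 448000, 3136000, 1536, 10752, 75264, 7680, 53760, 376320, 38400, 268800, 1881600,
  192000, 1344000, 9408000, 4608, 32256, 225792, 23040, 161280, 1128960, 115200, 806400, 5644800,
  576000, 4032000, 28224000, 13824, 96768, 677376, 69120, 483840, 3386880, 345600, 2419200,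
  16934400, 1728000, 12096000, 84672000, 41472, 290304, 2032128, 207360, 1451520, 10160640,
  1036800, 7257600, 50803200, 5184000, 36288000, 254016000, 124416, 870912, 6096384, 622080,
  4354560, 30481920, 3110400, 21772800, 152409600, 15552000, 108864000, 762048000, 1024, 7168,
  50176, 5120, 35840, 250880, 25600, 179200, 1254400, 128000, 896000, 6272000, 3072, 21504, 150528,
  15360, 107520, 752640, 76800, 537600, 3763200, 384000, 2688000, 18816000, 9216, 64512, 451584,
  46080, 322560, 2257920, 230400, 1612800, 11289600, 1152000, 8064000, 56448000, 27648, 193536,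
  1354752, 138240, 967680, 6773760, 691200, 4838400, 33868800, 3456000, 24192000, 169344000, 82944,
  580608, 4064256, 414720, 2903040, 20321280, 2073600, 14515200, 101606400, 10368000, 72576000,
  508032000, 248832, 1741824, 12192768, 1244160, 8709120, 60963840, 6220800, 43545600, 304819200,
  31104000, 217728000, 1524096000]

theorem D0_eq : D0 = DL := by decide +kernel

theorem mem_DL {N : ℕ} (h : N ∣ 2 ^ 10 * 3 ^ 5 * 5 ^ 3 * 7 ^ 2) : N ∈ DL := by
  obtain ⟨a1, d, ha1, hd, rfl⟩ := (Nat.dvd_mul).1 h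
  obtain ⟨a2, c, ha2, hc, rfl⟩ := (Nat.dvd_mul).1 ha1
  obtain ⟨a, b, ha, hb, rfl⟩ := (Nat.dvd_mul).1 ha2
  obtain ⟨i, hi, rfl⟩ := (Nat.dvd_prime_pow (by norm_num)).1 ha
  obtain ⟨j, hj, rfl⟩ := (Nat.dvd_prime_pow (by norm_num)).1 hb
  obtain ⟨k, hk, rfl⟩ := (Nat.dvd_prime_pow (by norm_num)).1 hc
  obtain ⟨l, hl, rfl⟩ := (Nat.dvd_prime_pow (by norm_num)).1 hd
  rw [← D0_eq]
  simp only [D0, List.mem_flatMap, List.mem_map, List.mem_range]
  exact ⟨i, by omega, j, by omega, k, by omega, l, by omega, rfl⟩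

def sn (z N ν : ℕ) : ℕ :=
  nn z N ν 0 + nn z N ν 1 + nn z N ν 2 + nn z N ν 3 + nn z N ν 5 + nn z N ν 7

def q (z N ν l : ℕ) : ℕ := nn z N ν l * 10 ^ 30 / gg z N ν l + 1

def sq (z N ν : ℕ) : ℕ :=
  q z N ν 0 + q z N ν 1 + q z N ν 2 + q z N ν 3 + q z N ν 5 + q z N ν 7

def okb (z N ν k : ℕ) : Bool :=
  Nat.ble (sn z N ν) k &&
    Nat.ble (gam z N * 10 ^ 30 + sn z N ν * 10 ^ 30) (k * 10 ^ 30 + gam z N * sq z N ν)

theorem q_ge (z N ν l : ℕ) (hg : 0 < gam z N) :
    (nn z N ν l : ℚ) * (1 / gg z N ν l) * 10 ^ 30 ≤ q z N ν l := by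
  have h0 : 0 < gg z N ν l := lt_of_lt_of_le hg (le_max_left _ _)
  have h1 : nn z N ν l * 10 ^ 30 < q z N ν l * gg z N ν l := by
    unfold q
    have := Nat.lt_div_mul_add (a := nn z N ν l * 10 ^ 30) h0
    rw [add_mul, one_mul]; exact this
  have h2 : (0 : ℚ) < gg z N ν l := by exact_mod_cast h0
  have h3 : ((nn z N ν l : ℚ)) * 10 ^ 30 ≤ q z N ν l * gg z N ν l := by exact_mod_cast h1.le
  rw [mul_one_div, div_mul_eq_mul_div, div_le_iff₀ h2]
  exact h3

theorem okb_of {z N ν k k' : ℕ} (hz : 0 < z) (hk : k ≤ k') (h : Ok z N ν k) :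
    okb z N ν k' = true := by
  obtain ⟨h1, h2⟩ := h
  have hg : 0 < gam z N := by unfold gam; split_ifs <;> omega
  rw [Finset.sum_insert (by decide), Finset.sum_insert (by decide), Finset.sum_insert (by decide),
    Finset.sum_insert (by decide), Finset.sum_insert (by decide), Finset.sum_singleton] at h1 h2
  simp only [okb, Bool.and_eq_true, Nat.ble_eq]
  refine ⟨by unfold sn; omega, ?_⟩
  have hg' : (0 : ℚ) < gam z N := by exact_mod_cast hg
  have hk' : (k : ℚ) ≤ k' := by exact_mod_cast hk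
  have a0 := q_ge z N ν 0 hg
  have a1 := q_ge z N ν 1 hg
  have a2 := q_ge z N ν 2 hg
  have a3 := q_ge z N ν 3 hg
  have a5 := q_ge z N ν 5 hg
  have a7 := q_ge z N ν 7 hg
  have key : ((gam z N : ℚ)) * 10 ^ 30 + (sn z N ν : ℚ) * 10 ^ 30 ≤
      k' * 10 ^ 30 + gam z N * (sq z N ν : ℚ) := by
    have h3 := mul_le_mul_of_nonneg_left h2 hg'.le
    have e : ∀ x y : ℚ, (gam z N : ℚ) * (x * (1 / gam z N - y)) = x - gam z N * (x * y) := by
      intro x y; field_simp
    have e2 : (gam z N : ℚ) * (k / gam z N) = k := by field_simp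
    simp only [mul_add, e, e2, mul_one] at h3
    unfold sn sq
    push_cast
    nlinarith [mul_le_mul_of_nonneg_left a0 hg'.le, mul_le_mul_of_nonneg_left a1 hg'.le,
      mul_le_mul_of_nonneg_left a2 hg'.le, mul_le_mul_of_nonneg_left a3 hg'.le,
      mul_le_mul_of_nonneg_left a5 hg'.le, mul_le_mul_of_nonneg_left a7 hg'.le]
  exact_mod_cast key

def dv (a b : ℕ) : Bool := Nat.beq (b % a) 0

theorem dv_of {a b : ℕ} (h : a ∣ b) : dv a b = true := by
  simp only [dv, Nat.beq_eq]; exact Nat.mod_eq_zero_of_dvd h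

def chkN (p t u ν N : ℕ) : Bool :=
  !(dv ((p + 1) * ν * t) N && dv ((p + 1) * ν * u) N) ||
    (!dv 7 ((p - 1) / ν) && dv 49 N) ||
    !(okb ((p - 1) / ν) N 1 ((p - 1) / 2) && okb ((p - 1) / ν) N ν ((p - 1) / 2))

def chkV (p t u ν : ℕ) : Bool :=
  !(dv ν (p - 1) && dv ((p + 1) * ν * t) 1524096000 && dv ((p + 1) * ν * u) 1524096000) ||
    DL.all (chkN p t u ν)

def chkT (p t : ℕ) : Bool :=
  !(Nat.ble t (p ^ 2) && dv ((p + 1) * t) 1524096000 && dv ((p + 1) * (p ^ 2 + 1 - t)) 1524096000) ||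
    (List.range p).all (chkV p t (p ^ 2 + 1 - t))

def chkP (p : ℕ) : Bool := !(Nat.ble 11 p && dv (p + 1) 1524096000) || DL.all (chkT p)

theorem chk_all : (List.range 1500).all chkP = true := by decide +kernel

theorem fin : FIN := by
  intro p t u z N k hp htu hz ht hu hN h7 hk o1 o2
  obtain ⟨ν, hν⟩ := hz
  have hz0 : 0 < z := Nat.pos_of_ne_zero (by rintro rfl; omega)
  have hν0 : 0 < ν := Nat.pos_of_ne_zero (by rintro rfl; omega)
  have hN0 : 0 < N := Nat.pos_of_dvd_of_pos hN (by norm_num)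
  have e : p ^ 2 - 1 = z * ((p + 1) * ν) := by
    have : p ^ 2 - 1 = (p + 1) * (p - 1) := by simpa using Nat.sq_sub_sq p 1
    rw [this, hν]; ring
  rw [e, mul_assoc] at ht hu
  have ht' := Nat.dvd_of_mul_dvd_mul_left hz0 ht
  have hu' := Nat.dvd_of_mul_dvd_mul_left hz0 hu
  have hB : (2 ^ 10 * 3 ^ 5 * 5 ^ 3 * 7 ^ 2 : ℕ) = 1524096000 := by norm_num
  have htB : (p + 1) * ν * t ∣ 1524096000 := hB ▸ ht'.trans hN
  have huB : (p + 1) * ν * u ∣ 1524096000 := hB ▸ hu'.trans hN
  have htB' : (p + 1) * t ∣ 1524096000 := Dvd.dvd.trans ⟨ν, by ring⟩ htB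
  have huB' : (p + 1) * u ∣ 1524096000 := Dvd.dvd.trans ⟨ν, by ring⟩ huB
  have hu0 : 0 < u := Nat.pos_of_ne_zero (by rintro rfl; simp at huB')
  have hp2 : p < 1500 := by
    have a1 := Nat.le_of_dvd (by norm_num) htB'
    have a2 := Nat.le_of_dvd (by norm_num) huB'
    have a3 : (p + 1) * (p ^ 2 + 1) ≤ 3048192000 := by rw [← htu, mul_add]; omega
    by_contra hc
    have : 1501 * (1500 ^ 2 + 1) ≤ (p + 1) * (p ^ 2 + 1) :=
      Nat.mul_le_mul (by omega) (by have := Nat.pow_le_pow_left (not_lt.1 hc) 2; omega)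
    omega
  have hzν : (p - 1) / ν = z := by rw [hν]; exact Nat.mul_div_cancel _ hν0
  have hνz : (p - 1) / z = ν := by rw [hν]; exact Nat.mul_div_cancel_left _ hz0
  have hut : p ^ 2 + 1 - t = u := by omega
  have c1 := List.all_eq_true.1 chk_all p (List.mem_range.2 hp2)
  have b1 : Nat.ble 11 p = true := Nat.ble_eq.mpr hp
  have b2 := dv_of ((Dvd.intro _ rfl : p + 1 ∣ (p + 1) * t).trans htB')
  simp only [chkP, b1, b2, Bool.and_self, Bool.not_true, Bool.false_or] at c1
  have c2 := List.all_eq_true.1 c1 t (mem_DL (hB ▸ (Dvd.intro_left _ rfl).trans htB'))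
  have b3 : Nat.ble t (p ^ 2) = true := Nat.ble_eq.mpr (by omega)
  simp only [chkT, hut, b3, dv_of htB', dv_of huB', Bool.and_self, Bool.not_true,
    Bool.false_or] at c2
  have hνp : ν < p := by
    have : ν ≤ z * ν := Nat.le_mul_of_pos_left _ hz0
    omega
  have c3 := List.all_eq_true.1 c2 ν (List.mem_range.2 hνp)
  have b4 : dv ν (p - 1) = true := dv_of ⟨z, by rw [hν, mul_comm]⟩
  simp only [chkV, b4, dv_of htB, dv_of huB, Bool.and_self, Bool.not_true, Bool.false_or] at c3
  have c4 := List.all_eq_true.1 c3 N (mem_DL hN)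
  rw [hνz] at o2
  have k1 := okb_of hz0 (show k ≤ (p - 1) / 2 by omega) o1
  have k2 := okb_of hz0 (show k ≤ (p - 1) / 2 by omega) o2
  simp only [chkN, hzν, k1, k2, dv_of ht', dv_of hu', Bool.and_self, Bool.not_true, Bool.false_or,
    Bool.or_false, Bool.and_eq_true, Bool.not_eq_true'] at c4
  refine h7 (fun h => ?_) (Nat.dvd_of_mod_eq_zero (by simpa [dv] using c4.2))
  rw [dv_of h] at c4; exact absurd c4.1 (by simp)

end H21.PR
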