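import Cfsg.Agent.H10.PR.A0
import Cfsg.Agent.S3430

/-! S4881: the cyclotomic finite check `NT`. -/

set_option autoImplicit false

namespace H21.PR
open H10.PR H24 Nat Polynomial

def MM (d : ℕ) : ℕ := (d + 1) ^ 2 * (2 * d + 1) * (3 * d + 1) * (4 * d + 1)

def PP (d p : ℕ) : ℕ := ∏ e ∈ d.properDivisors, (p ^ e - 1)

theorem sub_dvd {d p c : ℕ} (hp : 1 ≤ p) (hd : 0 < d) (h : cycV d p ∣ c) :
    p ^ d - 1 ∣ c * PP d p := by
  have h1 : p ^ d - 1 = ∏ e ∈ d.divisors, cycV e p := by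
    have := congrArg (eval (p : ℤ)) (prod_cyclotomic_eq_X_pow_sub_one hd ℤ)
    rw [eval_prod] at this
    rw [← Int.natCast_inj, Nat.cast_prod, Nat.cast_sub (Nat.one_le_pow _ _ hp)]
    simp only [cycV_int hp]
    rw [this]; simp
  rw [h1, ← Nat.cons_self_properDivisors hd.ne', Finset.prod_cons]
  exact Nat.mul_dvd_mul h (Finset.prod_dvd_prod_of_dvd _ _ fun e _ => cycV_dvd hp)

theorem dvd_mul_of {d p c : ℕ} (hp : 2 ≤ p) (hd : 2 < d)
    (h : ∀ r j, r.Prime → ¬ r ∣ d → r ^ j ∣ cycV d p → r ^ j ∣ c) : cycV d p ∣ d * c := by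
  rcases cycV_dvd_mul hp hd h with e | ⟨s, -, e1, -, e⟩
  exacts [e.mul_left _, e.trans (Nat.mul_dvd_mul_right e1 _)]

theorem lt_ten_pow {t : ℕ} (h : 16 ≤ t) : 69120 * t ^ 9 < 10 ^ t := by
  induction t, h using Nat.le_induction with
  | base => norm_num
  | succ t h ih =>
    have h1 : (16 * (t + 1)) ^ 9 ≤ (17 * t) ^ 9 := Nat.pow_le_pow_left (by omega) 9
    rw [mul_pow, mul_pow] at h1
    rw [pow_succ 10]
    omega

def LD : List (ℕ × ℕ) := [(3, 2), (4, 2), (5, 4), (6, 2), (7, 6), (8, 4), (9, 6), (10, 4), (12, 4),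
  (14, 6), (15, 8), (16, 8), (18, 6), (20, 8), (24, 8), (30, 8)]

set_option synthInstance.maxSize 100000 in
theorem nt1 : ∀ d < 165, 3 ≤ d → 10 ^ φ d < d * MM d → (d, φ d) ∈ LD := by decide +kernel

theorem nt2 : ∀ x ∈ LD, x.1 * MM x.1 ≤ 1399 ^ x.2 := by decide +kernel

set_option synthInstance.maxSize 100000 in
theorem nt3 : ∀ x ∈ LD, ∀ p < 1400, 11 ≤ p → (p - 1) ^ x.2 < x.1 * MM x.1 →
    p ^ x.1 - 1 ∣ x.1 * MM x.1 * PP x.1 p →
    x.1 = 4 ∨ x.1 = 6 ∧ (p = 17 ∨ p = 31) ∨ p = 16 ∨ p = 12 := by decide +kernel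

set_option synthInstance.maxSize 100000 in
theorem nt4' : ∀ k < 6, ∀ a < 4, ∀ b < 900, 11 ≤ 900 * a + b → 5 ^ k ≤ max 65 (4 * (900 * a + b)) →
    (900 * a + b) ^ 4 - 1 ∣ 4 * (5 ^ k * 221) * PP 4 (900 * a + b) →
    (900 * a + b) ∈ [13, 47, 18, 21, 57] := by decide +kernel

theorem nt4 (k : ℕ) (hk : k < 6) (p : ℕ) (hp : p < 3600) (h1 : 11 ≤ p) (h2 : 5 ^ k ≤ max 65 (4 * p))
    (h3 : p ^ 4 - 1 ∣ 4 * (5 ^ k * 221) * PP 4 p) :
    p = 13 ∨ p = 47 ∨ p = 18 ∨ p = 21 ∨ p = 57 := by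
  have e : 900 * (p / 900) + p % 900 = p := Nat.div_add_mod p 900
  have := nt4' k hk (p / 900) (by omega) (p % 900) (by omega)
  rw [e] at this
  simpa using this h1 h2 h3

theorem nt : NT := by
  intro p d hp h11 hd h
  have hs : ∀ s j, s.Prime → ¬ s ∣ d → 1 ≤ j → s ^ j ∣ cycV d p →
      s = d + 1 ∨ s = 2 * d + 1 ∨ s = 3 * d + 1 ∨ s = 4 * d + 1 := by
    intro s j h1 h2 h3 h4
    obtain ⟨h5, h6⟩ := prim_of_dvd_cycV (by omega) h1 h2 ((dvd_pow_self s (by omega)).trans h4)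
    obtain ⟨i, hi⟩ := (dvd_of_prim (by omega) (by omega) h1 h5 h6).2
    have h7 := (h s j h1 h2 h3 h4).1
    have := h1.two_le
    have : i < 5 := by
      by_contra hc
      have : d * 5 ≤ d * i := Nat.mul_le_mul_left _ (by omega)
      omega
    interval_cases i <;> omega
  have hlt := Polynomial.sub_one_pow_totient_lt_natAbs_cyclotomic_eval (n := d) (q := p)
    (by omega) (by omega)
  change _ < cycV d p at hlt
  by_cases h4 : d = 4
  · subst h4
    set k := Nat.log 5 (max 65 (4 * p)) with hk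
    have k1 : 5 ^ k ≤ max 65 (4 * p) := Nat.pow_log_le_self 5 (by omega)
    have k2 : max 65 (4 * p) < 5 ^ (k + 1) := Nat.lt_pow_succ_log_self (by norm_num) _
    have hc : cycV 4 p ∣ 4 * (5 ^ k * 221) := by
      refine dvd_mul_of (by omega) (by omega) fun r j h1 h2 h3 => ?_
      rcases Nat.eq_zero_or_pos j with rfl | hj
      · simp
      have h5 := (h r j h1 h2 hj h3).2
      have big : ∀ r : ℕ, 9 ≤ r → r ≠ 5 → (r ^ j ≤ 4 * 4 ^ 2 + 1 ∨ 4 = 4 ∧ r = 5 ∧ r ^ j ≤ 4 * p) →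
          j = 1 := by
        intro r a1 a2 a3
        by_contra a4
        have : r ^ 2 ≤ r ^ j := Nat.pow_le_pow_right (by omega) (by omega)
        have : 9 ^ 2 ≤ r ^ 2 := Nat.pow_le_pow_left a1 2
        omega
      rcases hs r j h1 h2 hj h3 with rfl | rfl | rfl | rfl
      · refine Dvd.dvd.mul_right (pow_dvd_pow _ ?_) _
        have : 5 ^ j < 5 ^ (k + 1) := lt_of_le_of_lt (by
          change 5 ^ j ≤ _ ∨ _ ∧ _ ∧ 5 ^ j ≤ _ at h5
          omega) k2
        have := (Nat.pow_lt_pow_iff_right (by norm_num)).1 this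
        omega
      · exact absurd h1 (by norm_num)
      · rw [big _ (by norm_num) (by norm_num) h5]; exact Dvd.dvd.mul_left (by norm_num) _
      · rw [big _ (by norm_num) (by norm_num) h5]; exact Dvd.dvd.mul_left (by norm_num) _
    have h6 := Nat.le_of_dvd (by positivity) hc
    have e4 : φ 4 = 2 := by decide
    rw [e4] at hlt
    have hp2 : p < 3600 := by
      by_contra hc
      obtain ⟨q, rfl⟩ : ∃ q, p = q + 1 := ⟨p - 1, by omega⟩
      rw [Nat.add_sub_cancel] at hlt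
      have : max 65 (4 * (q + 1)) = 4 * (q + 1) := by omega
      rw [this] at k1
      nlinarith
    have hk6 : k < 6 := by
      by_contra hc
      have : 5 ^ 6 ≤ 5 ^ k := Nat.pow_le_pow_right (by norm_num) (by omega)
      omega
    rcases nt4 k hk6 p hp2 h11 k1 (sub_dvd (by omega) (by omega) hc) with e | e | e | e | e
    · exact Or.inl ⟨rfl, Or.inl e⟩
    · exact Or.inl ⟨rfl, Or.inr e⟩
    all_goals exact absurd hp (by rw [e]; norm_num)
  have hc : cycV d p ∣ d * MM d := by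
    refine dvd_mul_of (by omega) (by omega) fun r j h1 h2 h3 => ?_
    rcases Nat.eq_zero_or_pos j with rfl | hj
    · simp
    have h5 := ((h r j h1 h2 hj h3).2.resolve_right fun e => h4 e.1)
    have big : ∀ r : ℕ, 2 * d + 1 ≤ r → r ^ j ≤ 4 * d ^ 2 + 1 → j = 1 := by
      intro r a1 a3
      by_contra a4
      have : r ^ 2 ≤ r ^ j := Nat.pow_le_pow_right (by omega) (by omega)
      have : (2 * d + 1) ^ 2 ≤ r ^ 2 := Nat.pow_le_pow_left a1 2
      nlinarith
    unfold MM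
    rcases hs r j h1 h2 hj h3 with rfl | rfl | rfl | rfl
    · refine (((pow_dvd_pow _ ?_).mul_right _).mul_right _).mul_right _
      by_contra a4
      have : (d + 1) ^ 3 ≤ (d + 1) ^ j := Nat.pow_le_pow_right (by omega) (by omega)
      nlinarith [Nat.zero_le (d ^ 3), Nat.mul_le_mul_right (d ^ 2) hd]
    · rw [big _ (by omega) h5, pow_one]
      exact ((dvd_mul_left _ _).mul_right _).mul_right _
    · rw [big _ (by omega) h5, pow_one]
      exact (dvd_mul_left _ _).mul_right _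
    · rw [big _ (by omega) h5, pow_one]
      exact dvd_mul_left _ _
  have h6 := hlt.trans_le (Nat.le_of_dvd (by unfold MM; positivity) hc)
  have h7 : 10 ^ φ d < d * MM d := lt_of_le_of_lt (Nat.pow_le_pow_left (by omega) _) h6
  have h8 := Cfsg.Agent.S3430.sq_le_totient d
  have h9 : d * MM d ≤ 135 * d ^ 6 := by
    have a1 : 3 * (d + 1) ≤ 4 * d := by omega
    have a2 : 3 * (2 * d + 1) ≤ 7 * d := by omega
    have a3 : 3 * (3 * d + 1) ≤ 10 * d := by omega
    have a4 : 3 * (4 * d + 1) ≤ 13 * d := by omega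
    have a5 := Nat.mul_le_mul (Nat.mul_le_mul (Nat.mul_le_mul (Nat.mul_le_mul a1 a1) a2) a3) a4
    have a6 : 243 * (d * MM d) ≤ 14560 * d ^ 6 := by
      have := Nat.mul_le_mul_left d a5
      unfold MM
      calc _ = d * (3 * (d + 1) * (3 * (d + 1)) * (3 * (2 * d + 1)) * (3 * (3 * d + 1)) *
            (3 * (4 * d + 1))) := by ring
        _ ≤ _ := this
        _ = _ := by ring
    omega
  have h10 : φ d ≤ 15 := by
    by_contra hc
    have a1 := lt_ten_pow (t := φ d) (by omega)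
    have a2 : (d ^ 2) ^ 3 ≤ (φ d ^ 3 * 8) ^ 3 := Nat.pow_le_pow_left h8 3
    have a3 : (φ d ^ 3 * 8) ^ 3 = 512 * φ d ^ 9 := by ring
    have a4 : (d ^ 2) ^ 3 = d ^ 6 := by ring
    omega
  have h12 : d < 165 := by
    have := Nat.pow_le_pow_left h10 3
    nlinarith
  have m := nt1 d h12 hd h7
  have h13 : p < 1400 := by
    have a1 := lt_of_lt_of_le h6 (nt2 _ m)
    have := lt_of_pow_lt_pow_left₀ _ (by norm_num) a1
    omega
  rcases nt3 _ m p h13 h11 h6 (sub_dvd (by omega) (by omega) hc) with e | e | e | e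
  · exact absurd e h4
  · exact Or.inr e
  all_goals exact absurd hp (by rw [e]; norm_num)

end H21.PR
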