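import Cfsg.Agent.H10.PR.A0
import Cfsg.Agent.H5.FTB2

/-! S4881: `SM` (small constituents) and `CY` (cyclic Sylow subgroups). -/

set_option autoImplicit false

namespace H21.PR
open _root_.Cfsg Subgroup H19 H20 H6 H10.PR H5
open scoped Classical

universe u

theorem sup_cker_normal {G : Type u} [Group G] [Finite G] {s : ℕ} {K P : Subgroup G} {θ : G → ℂ}
    (hs : s.Prime) (hP : Syl s P K) (hθ : θ ∈ Irr K) (hd : 2 * deg θ + 1 < s) :
    cker θ ⊔ P ⊴ K := by
  have hc : IsCharacter K (rs K θ) := (irr_chr hθ).1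
  have := hc.charKer_normal
  obtain ⟨ψ, hψ, e⟩ := hc.exists_quotient (charKer (rs K θ)) le_rfl
  have h1 : H20.deg ψ = deg θ := by
    unfold H20.deg
    rw [show ψ 1 = θ 1 from e 1]
  have h2 := (H5.FTB.small hs (H20.mem_Chr_top.2 hψ) (H6.charKer_eq_bot hψ fun g hg => by
      obtain ⟨g, rfl⟩ := QuotientGroup.mk_surjective g
      exact (QuotientGroup.eq_one_iff g).2 (hc.mem_charKer_iff.2 ((e g).symm.trans (hg.trans (e 1)))))
    (by omega) (.inl (by omega)) (hP.subgroupOf_top.map (QuotientGroup.mk' _)))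
  rw [← MonoidHom.range_eq_map, MonoidHom.range_eq_top.2 (QuotientGroup.mk'_surjective _)] at h2
  have hk := H6.cker_normal hθ
  refine ⟨sup_le hk.le hP.le, fun g hg => mem_norm_of_cj_le ?_⟩
  rw [cj_sup]
  refine sup_le ((cj_of_mem_norm (hk.norm hg)).le.trans le_sup_left) (cj_le_iff.2 fun x hx => mem_cj_inv.2 ?_)
  obtain ⟨y, hy, e1⟩ := h2.normal.conj_mem _ (mem_map_of_mem (QuotientGroup.mk' _)
    (show (⟨x, hP.le hx⟩ : K) ∈ P.subgroupOf K from hx)) (QuotientGroup.mk' _ ⟨g, hg⟩)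
  rw [← map_inv, ← map_mul, ← map_mul] at e1
  have e2 := QuotientGroup.eq.1 e1
  have e3 : (y : G)⁻¹ * (g * x * g⁻¹) ∈ cker θ :=
    (chr_mem_cker (irr_chr hθ) (mul_mem (inv_mem y.2) (mul_mem (mul_mem hg (hP.le hx)) (inv_mem hg)))).2
      (hc.mem_charKer_iff.1 e2)
  have e4 := mul_mem (mem_sup_right (S := cker θ) (show (y : G) ∈ P from hy)) (mem_sup_left (T := P) e3)
  rwa [mul_inv_cancel_left] at e4

theorem sm : SM.{u} := by
  intro G _ _ χ s K P hχ hk hs hP h
  refine (Rp_eq_bot hP).1 (le_bot_iff.1 (hk ▸ le_cker_of_below' hχ le_top (Rp_le s K) fun θ a b => ?_))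
  have h1 := sup_cker_normal hs hP a (h θ a b)
  have hk := H6.cker_normal a
  refine (Gen_mono _ (Gen_le_of_idx h1 (hP.idx.dvd (relIndex_dvd_left le_sup_right _)))).trans
    (Gen_le_of_idx (hk.of_le le_sup_left h1.le) ?_)
  rw [compl_compl, relIndex_sup_of_norm (hk.norms hP.le)]
  exact hP.pi.dvd (relIndex_dvd_card _ _)

theorem cy : CY.{u} := by
  intro G _ _ χ s P hχ hk hs hP hc h hd
  have := Fact.mk hs
  obtain ⟨S, rfl⟩ := hP.exists_sylow_top
  have hab : Ab (S : Subgroup G) := comm_of_cyclic hc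
  have h1 := comm_iff_le_cent.1 hab
  have := H21.feit_normal S (fun x a b => le_antisymm ?_ (cent_le_cent1 a)) (mem_Chr_top.1 hχ)
    (fun g e => mem_bot.1 (hk ▸ (chr_mem_cker hχ (mem_top g)).2 e)) (hd :)
  · exact normalIn_top
  have hx : s ∣ orderOf x := (orderOf_coe (⟨x, a⟩ : S)) ▸ S.isPGroup'.dvd_orderOf (mt Subtype.ext_iff.1 b)
  obtain ⟨y, hy, e⟩ := exists_orderOf_eq_prime (H := zpowers x) hs (by rwa [Nat.card_zpowers])
  have hyS : y ∈ (S : Subgroup G) := zpowers_le.2 a hy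
  have h2 : C[x] ≤ C[y] := by
    intro g hg
    obtain ⟨k, rfl⟩ := hy
    rw [mem_centralizer_singleton_iff] at hg ⊢
    exact (Commute.zpow_right hg k)
  have h3 := h2.trans (h y hyS e)
  refine le_of_syl fun q Q hq hQ => ?_
  have hn := hQ.le.trans h3
  by_cases hqs : q = s
  · subst hqs
    exact (hP.le_of_norm le_top hQ.pi hn).trans h1
  refine cents_symm (commg_eq_bot.1 (by_contra fun e1 => ?_))
  have hcop : (#(S : Subgroup G)).Coprime #Q :=
    hP.pi.coprime (hQ.pi.mono fun r hr hr' => hqs (hr.symm.trans hr'))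
  have h4 := H4.Ohm1_le_of_cyc hP.pi hc (commg_le_left hn) e1 (mem_Ohm1 hyS (e ▸ pow_orderOf_eq_one y))
  have h5 : y ∈ C(Q) := le_cent1_iff.1 (hQ.le.trans h2)
  have := mem_bot.1 ((ab_commg_inf_cent hab hn hcop).le ⟨h4, h5⟩)
  rw [this, orderOf_one] at e
  exact hs.one_lt.ne e

end H21.PR
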