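import Cfsg.Agent.H6.PR3

/-! S4881: chunk `SR` (two orbits on non-zero vectors, Fourier analysis). -/

set_option autoImplicit false
set_option linter.unusedSectionVars false

namespace H21.PR
open _root_.Cfsg H10.PR H24.NF Finset
open scoped Classical

universe u

def be {R : Type*} [CommRing R] (a b x y : R) : R := a * b + b * x * y + a * (1 + x) * (1 + y)

theorem arith {p n a b c1 c2 N : ℕ} {r s θ : ℤ} (hp : p.Prime) (hN : ¬ p ∣ N) (ha : a ∣ N)
    (hb : b ∣ N) (h1 : c1 ∣ N) (h2 : c2 ∣ N) (hs : a + b + 1 = p ^ n)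
    (e1 : (a * b * p ^ n * c1 : ℤ) = N * be (a : ℤ) b r r)
    (e2 : (a * b * p ^ n * c2 : ℤ) = N * be (a : ℤ) b s s) (e3 : be (a : ℤ) b r s = 0)
    (e4 : (r - s) * θ = p ^ n) :
    ∃ d, n = 2 * d ∧ (p ^ d - 1 ∣ a ∧ p ^ d - 1 ∣ b ∨ p ^ d + 1 ∣ a ∧ p ^ d + 1 ∣ b) := by
  have N0 : N ≠ 0 := by rintro rfl; exact hN (dvd_zero p)
  have a0 : (a : ℤ) ≠ 0 := by exact_mod_cast ne_zero_of_dvd_ne_zero N0 ha
  have b0 : (b : ℤ) ≠ 0 := by exact_mod_cast ne_zero_of_dvd_ne_zero N0 hb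
  have p0 : ((p : ℤ) ^ n) ≠ 0 := pow_ne_zero _ (by exact_mod_cast hp.ne_zero)
  have hs' : (a : ℤ) + b + 1 = p ^ n := by exact_mod_cast hs
  have k1 : be (a : ℤ) b r r * be (a : ℤ) b s s = (r - s) ^ 2 * (a * b * p ^ n) := by
    rw [← hs']
    unfold be at e3 ⊢
    linear_combination (a * b + b * r * s + a * (1 + r) * (1 + s)) * e3
  have k2 : (p ^ n * (a * b * c1 * c2) : ℤ) = (r - s) ^ 2 * (N * N) := by
    refine mul_left_cancel₀ (mul_ne_zero (mul_ne_zero a0 b0) p0) ?_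
    linear_combination (a * b * p ^ n * c2) * e1 + (N * be (a : ℤ) b r r) * e2 + N * N * k1
  obtain ⟨j, -, hj⟩ := (Nat.dvd_prime_pow hp).1 (show (r - s).natAbs ∣ p ^ n by
    have := Int.natAbs_dvd_natAbs.2 (Dvd.intro _ e4)
    simpa [Int.natAbs_pow] using this)
  have k3 : (r - s) ^ 2 = (p ^ j) ^ 2 := by
    rw [← Int.natAbs_sq, hj]; simp
  have k4 : p ^ n * (a * b * c1 * c2) = p ^ (2 * j) * (N * N) := by
    rw [k3, ← pow_mul, mul_comm j] at k2; exact_mod_cast k2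
  have cN : p.Coprime N := (Nat.Prime.coprime_iff_not_dvd hp).2 hN
  have hn : n = 2 * j := by
    have c1' : p.Coprime (a * b * c1 * c2) :=
      (((cN.of_dvd_right ha).mul_right (cN.of_dvd_right hb)).mul_right (cN.of_dvd_right h1)).mul_right
        (cN.of_dvd_right h2)
    refine le_antisymm ((Nat.pow_dvd_pow_iff_le_right hp.one_lt).1
      (((cN.mul_right cN).pow_left n).dvd_of_dvd_mul_right (k4 ▸ dvd_mul_right _ _)))
      ((Nat.pow_dvd_pow_iff_le_right hp.one_lt).1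
      ((c1'.pow_left _).dvd_of_dvd_mul_right (k4 ▸ dvd_mul_right _ _)))
  refine ⟨j, hn, ?_⟩
  have k5 : (a : ℤ) + b = (p ^ j - 1) * (p ^ j + 1) := by
    rw [hn, mul_comm 2, pow_mul] at hs'; linear_combination hs'
  have k6 : ((a : ℤ) - s * (1 - (r - s))) * (a - r * (1 + (r - s))) = 0 := by
    unfold be at e3
    have : (b : ℤ) = (r - s) ^ 2 - 1 - a := by rw [k3]; linear_combination k5
    rw [this] at e3
    linear_combination -e3
  have one : 1 ≤ p ^ j := Nat.one_le_pow _ _ hp.pos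
  have m1 : ((p : ℤ) ^ j - 1 ∣ a) → p ^ j - 1 ∣ a ∧ p ^ j - 1 ∣ b := fun h => by
    have h' : (p : ℤ) ^ j - 1 ∣ b := (dvd_add_right h).1 (k5 ▸ dvd_mul_right _ _)
    rw [← Int.natCast_dvd_natCast, ← Int.natCast_dvd_natCast, Nat.cast_sub one]
    exact ⟨by simpa using h, by simpa using h'⟩
  have m2 : ((p : ℤ) ^ j + 1 ∣ a) → p ^ j + 1 ∣ a ∧ p ^ j + 1 ∣ b := fun h => by
    have h' : (p : ℤ) ^ j + 1 ∣ b := (dvd_add_right h).1 (k5 ▸ dvd_mul_left _ _)
    exact ⟨by exact_mod_cast h, by exact_mod_cast h'⟩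
  rcases sq_eq_sq_iff_eq_or_eq_neg.1 k3 with e | e <;> rw [e] at k6 <;>
    rcases mul_eq_zero.1 k6 with f | f
  · exact .inl (m1 ⟨-s, by linear_combination f⟩)
  · exact .inr (m2 ⟨r, by linear_combination f⟩)
  · exact .inr (m2 ⟨s, by linear_combination f⟩)
  · exact .inl (m1 ⟨-r, by linear_combination f⟩)

theorem odd_of {p n i : ℕ} (hp : p.Prime) (h : (p - 1) ^ 2 * p ^ n = i ^ 2 * p) : Odd n := by
  have := hp.two_le
  have h0 : p - 1 ≠ 0 := by omega
  have i0 : i ≠ 0 := by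
    rintro rfl
    simp only [ne_eq, OfNat.ofNat_ne_zero, not_false_eq_true, zero_pow, zero_mul, mul_eq_zero,
      Nat.pow_eq_zero] at h
    omega
  have e := congrArg (fun x => x.factorization p) h
  simp only [Nat.factorization_mul (pow_ne_zero _ h0) (pow_ne_zero _ hp.ne_zero),
    Nat.factorization_mul (pow_ne_zero _ i0) hp.ne_zero, Nat.factorization_pow, Finsupp.add_apply,
    Finsupp.smul_apply, smul_eq_mul, hp.factorization_self] at e
  exact Nat.odd_iff.2 (by omega)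

theorem int_of {z : ℂ} (hz : IsIntegral ℤ z) {k m : ℤ} (hk : k ≠ 0) (h : k * z = m) :
    ∃ r : ℤ, z = r := by
  have e : z = algebraMap ℚ ℂ ((m : ℚ) / k) := by
    have : (k : ℂ) ≠ 0 := by exact_mod_cast hk
    simp only [map_div₀, map_intCast]
    rw [eq_div_iff this, mul_comm, h]
  rw [e, isIntegral_algebraMap_iff (algebraMap ℚ ℂ).injective] at hz
  obtain ⟨r, hr⟩ := IsIntegrallyClosed.isIntegral_iff.1 hz
  exact ⟨r, by rw [e, ← hr]; simp⟩

section
variable {G V : Type u} [Group G] [Fintype G] {p n : ℕ} [Fact p.Prime] [AddCommGroup V]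
  [Module (ZMod p) V] [Fintype V] {ρ : G →* (V ≃ₗ[ZMod p] V)} {u w : V} {ψ φ : AddChar V ℂ}

noncomputable def ind (ρ : G →* (V ≃ₗ[ZMod p] V)) (u x : V) : ℂ := if ∃ g, ρ g u = x then 1 else 0

noncomputable def et (ρ : G →* (V ≃ₗ[ZMod p] V)) (u : V) (ψ : V → ℂ) : ℂ := ∑ x, ind ρ u x * ψ x

theorem rho_mul (g k : G) (x : V) : ρ (g * k) x = ρ g (ρ k x) := by rw [map_mul]; rfl

theorem rho_inv (g : G) (x : V) : ρ g⁻¹ (ρ g x) = x := by rw [← rho_mul, inv_mul_cancel, map_one]; rfl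

theorem ind_sc {k : G} {t : ZMod p} {u' : V} (ht : t ≠ 0) (h : ρ k u' = t • u) (x : V) :
    ind ρ u' (t • x) = ind ρ u x := by
  refine if_congr ⟨fun ⟨g, e⟩ => ⟨g * k⁻¹, smul_right_injective V ht ?_⟩,
    fun ⟨g, e⟩ => ⟨g * k, by rw [rho_mul, h, map_smul, e]⟩⟩ rfl rfl
  change t • _ = t • _
  rw [← map_smul, ← h, rho_mul, rho_inv, e]

theorem ind_g (g : G) (x : V) : ind ρ u (ρ g x) = ind ρ u x :=
  if_congr ⟨fun ⟨k, e⟩ => ⟨g⁻¹ * k, by rw [rho_mul, e, rho_inv]⟩,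
    fun ⟨k, e⟩ => ⟨g * k, by rw [rho_mul, e]⟩⟩ rfl rfl

theorem sum_ind (u : V) : ∑ x, ind ρ u x = (St ρ u).index := by
  rw [H6.PR.idx_eq, Set.ncard_eq_toFinset_card', Set.toFinset_ofPred]
  simp [ind]

theorem ind_self (u : V) : ind ρ u u = 1 := if_pos ⟨1, by simp⟩

theorem part (h : Two ρ n u w) (x : V) : (if x = 0 then 1 else 0) + ind ρ u x + ind ρ w x = 1 := by
  by_cases e : x = 0
  · subst e
    simp [ind, h.u0, h.w0]
  have : ¬ ((∃ g, ρ g u = x) ∧ ∃ g, ρ g w = x) := fun ⟨⟨g, a⟩, k, b⟩ =>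
    h.ne (k⁻¹ * g) (by rw [rho_mul, a, ← b, rho_inv])
  rcases h.all x e with a | a
  · simp [ind, e, a, show ¬ ∃ g, ρ g w = x from fun b => this ⟨a, b⟩]
  · simp [ind, e, a, show ¬ ∃ g, ρ g u = x from fun b => this ⟨b, a⟩]

theorem et_g (f : V → ℂ) (g : G) : et ρ u (fun x => f (ρ g x)) = et ρ u f := by
  unfold et
  rw [← Equiv.sum_comp (ρ g).toEquiv fun x => ind ρ u x * f x]
  exact sum_congr rfl fun x _ => by rw [← ind_g g x]; rfl

theorem sum_split (h : Two ρ n u w) (f : V → ℂ) : ∑ x, f x = f 0 + et ρ u f + et ρ w f := by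
  unfold et
  rw [← sum_congr rfl fun x _ => (one_mul (f x)), ← sum_congr rfl fun x _ => congrArg (· * f x) (part h x)]
  simp [add_mul, sum_add_distrib]

theorem et_sum (h : Two ρ n u w) (h1 : ψ ≠ 1) : et ρ w ψ = -(1 + et ρ u ψ) := by
  have := sum_split h ψ
  rw [AddChar.sum_eq_zero_of_ne_one h1, ψ.map_zero_eq_one] at this
  linear_combination -this

theorem et_F (f f' : V → ℂ) : ((St ρ u).index : ℂ) * et ρ u (fun x => (∑ g, f (ρ g x)) * f' x) =
    Fintype.card G * et ρ u f * et ρ u f' := by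
  have c : ∀ x (y : ℂ), ind ρ u x * ((∑ g, f (ρ g x)) * y) = (∑ g, f (ρ g u)) * (ind ρ u x * y) := by
    intro x y
    unfold ind
    split_ifs with e
    · obtain ⟨k, rfl⟩ := e
      rw [← Equiv.sum_comp (Equiv.mulRight k) fun g => f (ρ g u)]
      simp
    · simp
  have e1 : ∀ f' : V → ℂ, et ρ u (fun x => (∑ g, f (ρ g x)) * f' x) = (∑ g, f (ρ g u)) * et ρ u f' :=
    fun f' => by unfold et; rw [mul_sum]; exact sum_congr rfl fun x _ => c x _
  have e2 : (∑ g, f (ρ g u)) * (St ρ u).index = Fintype.card G * et ρ u f := by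
    have := e1 fun _ => 1
    unfold et at this
    simp only [mul_one, sum_ind] at this
    rw [← this]
    simp only [mul_sum]
    rw [sum_comm]
    exact (sum_congr rfl fun g _ => et_g (ρ := ρ) (u := u) f g).trans (by simp)
  rw [e1, ← e2]; ring

theorem T_eq (h : Two ρ n u w) (h1 : ψ ≠ 1) (h2 : φ ≠ 1) :
    ((St ρ u).index * (St ρ w).index * p ^ n * #{g | ∀ x, ψ (ρ g x) = φ x} : ℂ) =
      Fintype.card G * be ((St ρ u).index : ℂ) (St ρ w).index (et ρ u ⇑ψ⁻¹) (et ρ u φ) := by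
  have s := sum_split h fun x => (∑ g, ψ⁻¹ (ρ g x)) * φ x
  have l : ∑ x, (∑ g, ψ⁻¹ (ρ g x)) * φ x = p ^ n * #{g | ∀ x, ψ (ρ g x) = φ x} := by
    simp only [sum_mul]
    rw [sum_comm, card_filter, Nat.cast_sum, mul_sum]
    refine sum_congr rfl fun g _ => ?_
    have := AddChar.sum_eq_ite (((ψ.compAddMonoidHom (ρ g).toAddMonoidHom)⁻¹ * φ : AddChar V ℂ))
    have e : ((ψ.compAddMonoidHom (ρ g).toAddMonoidHom)⁻¹ * φ = 0) ↔ ∀ x, ψ (ρ g x) = φ x :=
      (inv_mul_eq_one (a := ψ.compAddMonoidHom (ρ g).toAddMonoidHom)).trans DFunLike.ext_iff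
    rw [if_congr e rfl rfl, ← Nat.card_eq_fintype_card, h.card] at this
    refine (sum_congr rfl fun x _ => ?_).trans (this.trans (by split_ifs <;> simp))
    simp [AddChar.inv_apply]
  have a1 := et_F (ρ := ρ) (u := u) (⇑ψ⁻¹) φ
  have a2 := et_F (ρ := ρ) (u := w) (⇑ψ⁻¹) φ
  rw [et_sum h (inv_ne_one.2 h1), et_sum h h2] at a2
  simp only [map_zero, AddChar.map_zero_eq_one, sum_const, card_univ, nsmul_eq_mul, mul_one] at s
  rw [l] at s
  unfold be
  linear_combination ((St ρ u).index * (St ρ w).index : ℂ) * s + ((St ρ w).index : ℂ) * a1 +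
    ((St ρ u).index : ℂ) * a2

theorem be_zero (h : Two ρ n u w) (h1 : ψ ≠ 1) (h2 : φ ≠ 1) (e : et ρ u ψ ≠ et ρ u φ) :
    be ((St ρ u).index : ℂ) (St ρ w).index (et ρ u ⇑ψ⁻¹) (et ρ u φ) = 0 := by
  have := T_eq h h1 h2
  rw [filter_false_of_mem fun g _ c => e (by rw [← et_g ψ g]; exact congrArg _ (funext c)),
    card_empty, Nat.cast_zero, mul_zero] at this
  exact (mul_eq_zero.1 this.symm).resolve_left (by exact_mod_cast Fintype.card_ne_zero)

theorem be_self (h : Two ρ n u w) (h1 : ψ ≠ 1) : ∃ c : ℕ, c ∣ Nat.card G ∧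
    ((St ρ u).index * (St ρ w).index * p ^ n * c : ℂ) =
      Nat.card G * be ((St ρ u).index : ℂ) (St ρ w).index (et ρ u ⇑ψ⁻¹) (et ρ u ψ) := by
  let K : Subgroup G :=
    { carrier := {g | ∀ x, ψ (ρ g x) = ψ x}
      one_mem' := fun x => by simp
      mul_mem' := fun {a b} ha hb x => by rw [rho_mul, ha, hb]
      inv_mem' := fun {a} ha x => by rw [← ha, ← rho_mul, mul_inv_cancel]; simp }
  refine ⟨_, K.card_subgroup_dvd_card, ?_⟩
  rw [Nat.card_eq_fintype_card (α := G), ← T_eq h h1 h1]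
  congr 2
  rw [Nat.card_eq_fintype_card, Fintype.card_subtype]
  exact congrArg card (Finset.ext fun g => by simp [K])

theorem invf (h : Two ρ n u w) (s : ℂ) :
    ∑ ψ : AddChar V ℂ, (et ρ u ψ - s) * (ψ (-u) - ψ (-w)) = p ^ n := by
  have k : ∀ y, ∑ ψ : AddChar V ℂ, et ρ u ψ * ψ (-y) = p ^ n * ind ρ u y := fun y => by
    unfold et
    simp only [sum_mul]
    rw [sum_comm]
    simp only [mul_assoc, ← AddChar.map_add_eq_mul, ← mul_sum, AddChar.sum_apply_eq_ite,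
      add_neg_eq_zero, ← Nat.card_eq_fintype_card, h.card]
    simp [mul_comm]
  have hw : ind ρ u w = 0 := if_neg fun ⟨g, e⟩ => h.ne g e
  simp only [sub_mul, mul_sub, sum_sub_distrib, k, ← mul_sum, AddChar.sum_apply_eq_ite, neg_eq_zero,
    h.u0, h.w0, if_false, ind_self, hw]
  ring

theorem two_val (h : Two ρ n u w) : ∃ ψ φ : AddChar V ℂ, ψ ≠ 1 ∧ φ ≠ 1 ∧ et ρ u ψ ≠ et ρ u φ ∧
    ∀ χ : AddChar V ℂ, χ ≠ 1 → et ρ u χ = et ρ u ψ ∨ et ρ u χ = et ρ u φ := by
  have hp : p.Prime := Fact.out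
  have p0 : (p : ℂ) ^ n ≠ 0 := pow_ne_zero _ (by exact_mod_cast hp.ne_zero)
  obtain ⟨φ, h2⟩ := AddChar.exists_apply_ne_zero.2 h.u0
  replace h2 : φ ≠ 1 := by rintro rfl; exact h2 rfl
  obtain ⟨ψ, -, e⟩ := exists_ne_zero_of_sum_ne_zero ((invf h (et ρ u φ)).trans_ne p0)
  have h1 : ψ ≠ 1 := by rintro rfl; simp at e
  have h3 := sub_ne_zero.1 (left_ne_zero_of_mul e)
  refine ⟨ψ, φ, h1, h2, h3, fun χ h4 => ?_⟩
  by_contra! c
  obtain ⟨k, a, b⟩ := be_self h h4
  have b1 := be_zero h h4 h1 c.1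
  have b2 := be_zero h h4 h2 c.2
  have b3 : be ((St ρ u).index : ℂ) (St ρ w).index (et ρ u ⇑χ⁻¹) (et ρ u χ) = 0 := by
    refine mul_left_cancel₀ (sub_ne_zero.2 h3) ?_
    unfold be at b1 b2 ⊢
    linear_combination (et ρ u χ - et ρ u φ) * b1 + (et ρ u ψ - et ρ u χ) * b2
  rw [b3, mul_zero] at b
  exact mul_ne_zero (mul_ne_zero (mul_ne_zero (Nat.cast_ne_zero.2 Subgroup.FiniteIndex.index_ne_zero)
    (Nat.cast_ne_zero.2 Subgroup.FiniteIndex.index_ne_zero)) p0)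
    (Nat.cast_ne_zero.2 (ne_zero_of_dvd_ne_zero Nat.card_pos.ne' a)) b

theorem integral (p : ℕ) [Fact p.Prime] [Module (ZMod p) V] (ψ : AddChar V ℂ) (x : V) : IsIntegral ℤ (ψ x) := by
  have hp : p.Prime := Fact.out
  refine IsIntegral.of_pow hp.pos ?_
  rw [← AddChar.map_nsmul_eq_pow, ← Nat.cast_smul_eq_nsmul (ZMod p), ZMod.natCast_self, zero_smul,
    ψ.map_zero_eq_one]
  exact isIntegral_one

/-- the character `t ↦ ψ (t • x)` -/
def ln (p : ℕ) [Fact p.Prime] [Module (ZMod p) V] (ψ : AddChar V ℂ) (x : V) : AddChar (ZMod p) ℂ :=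
  ψ.compAddMonoidHom (LinearMap.toSpanSingleton (ZMod p) V x).toAddMonoidHom

theorem ln_apply (x : V) (t : ZMod p) : ln p ψ x t = ψ (t • x) := rfl

theorem sum_smul (f : V → ℂ) {t : ZMod p} (ht : t ≠ 0) : ∑ x, f (t • x) = ∑ x, f x :=
  Equiv.sum_comp (MulAction.toPerm (Units.mk0 t ht)) f

theorem sum_tw (f : V → ℂ) (c : ZMod p → ℂ) (c0 : c 0 = 0) (h : ∀ t ≠ 0, ∀ x, f (t • x) = c t * f x) :
    ((p - 1 : ℤ) : ℂ) * ∑ x, f x * ψ x = ∑ x, f x * ∑ t, c t * ln p ψ x t := by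
  simp only [ln_apply]
  rw [sum_congr rfl fun x _ => mul_sum univ (fun t => c t * ψ (t • x)) (f x)]
  rw [sum_comm, ← sum_erase (a := (0 : ZMod p)) _ (by simp [c0])]
  symm
  rw [sum_congr rfl (g := fun _ => ∑ x, f x * ψ x)]
  · rw [sum_const, card_erase_of_mem (mem_univ _), card_univ, ZMod.card, nsmul_eq_mul,
      Nat.cast_sub (Fact.out : p.Prime).one_le]
    simp
  intro t ht
  rw [← sum_smul (fun x => f x * ψ x) (ne_of_mem_erase ht)]
  exact sum_congr rfl fun x _ => by rw [h t (ne_of_mem_erase ht)]; ring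

theorem pow_tw {ω : (ZMod p)ˣ} (hω : ∀ x, x ∈ Subgroup.zpowers ω) (f : V → ℂ) (c : ZMod p →* ℂ)
    (h : ∀ x, f ((ω : ZMod p) • x) = c ω * f x) (t : ZMod p) (ht : t ≠ 0) (x : V) :
    f (t • x) = c t * f x := by
  obtain ⟨k, e⟩ := (mem_powers_iff_mem_zpowers.2 (hω (Units.mk0 t ht)))
  obtain rfl : (ω : ZMod p) ^ k = t := by simpa using congrArg Units.val e
  clear e ht
  induction k with
  | zero => simp
  | succ k ih => rw [pow_succ', mul_smul, h, ih, map_mul, mul_assoc]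

theorem case2 (h : Two ρ n u w) (hs : ∀ t : ZMod p, t ≠ 0 → ∀ x, ind ρ u (t • x) = ind ρ u x) :
    ∃ d, n = 2 * d ∧ (p ^ d - 1 ∣ (St ρ u).index ∧ p ^ d - 1 ∣ (St ρ w).index ∨
      p ^ d + 1 ∣ (St ρ u).index ∧ p ^ d + 1 ∣ (St ρ w).index) := by
  have hp : p.Prime := Fact.out
  have hi : ∀ ψ : AddChar V ℂ, ∃ r : ℤ, et ρ u ψ = r := fun ψ => by
    have e := sum_tw (ψ := ψ) (ind ρ u) (fun t : ZMod p => if t = (0 : ZMod p) then 0 else 1) (if_pos rfl)
      fun t ht x => by rw [hs t ht, if_neg ht, one_mul]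
    obtain ⟨m, hm⟩ : ∑ x, ind ρ u x * ∑ t, (if t = 0 then 0 else 1) * ln p ψ x t ∈
        (Int.castRingHom ℂ).range := by
      refine sum_mem fun x _ => mul_mem (by unfold ind; split_ifs; exacts [one_mem _, zero_mem _]) ?_
      have : ∑ t, (if t = 0 then 0 else 1) * ln p ψ x t = ∑ t, ln p ψ x t - 1 := by
        rw [← add_sum_erase _ _ (mem_univ 0), ← add_sum_erase _ (ln p ψ x) (mem_univ 0),
          (ln p ψ x).map_zero_eq_one, if_pos rfl, zero_mul, zero_add, add_sub_cancel_left]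
        exact sum_congr rfl fun t ht => by rw [if_neg (ne_of_mem_erase ht), one_mul]
      rw [this, AddChar.sum_eq_ite]
      exact sub_mem (by split_ifs; exacts [natCast_mem _ _, zero_mem _]) (one_mem _)
    refine int_of (IsIntegral.sum _ fun x _ => IsIntegral.mul ?_ (integral p ψ x))
      (by have := hp.two_le; omega) (e.trans hm.symm)
    unfold ind; split_ifs
    exacts [isIntegral_one, isIntegral_zero]
  have hv : ∀ ψ : AddChar V ℂ, et ρ u ⇑ψ⁻¹ = et ρ u ψ := fun ψ => by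
    unfold et
    rw [← sum_smul (fun x => ind ρ u x * ψ x) (t := (-1 : ZMod p)) (by simp)]
    exact sum_congr rfl fun x _ => by rw [hs _ (by simp), AddChar.inv_apply, neg_one_smul]
  obtain ⟨ψ, φ, h1, h2, h3, h4⟩ := two_val h
  obtain ⟨c1, a1, b1⟩ := be_self h h1
  obtain ⟨c2, a2, b2⟩ := be_self h h2
  have b3 := be_zero h h1 h2 h3
  have b4 := invf h (et ρ u φ)
  rw [← sum_filter_of_ne (p := fun χ : AddChar V ℂ => et ρ u χ = et ρ u ψ) fun χ _ e =>
    (h4 χ (by rintro rfl; simp at e)).resolve_right (sub_ne_zero.1 (left_ne_zero_of_mul e)),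
    sum_congr rfl fun χ e => congrArg (fun z => (z - et ρ u φ) * _) (mem_filter.1 e).2, ← mul_sum] at b4
  rw [hv] at b1 b2 b3
  obtain ⟨r, hr⟩ := hi ψ
  obtain ⟨s, hs⟩ := hi φ
  rw [hr] at b1 b3 h3
  rw [hs] at b2 b3 h3
  obtain ⟨θ, hθ⟩ := int_of (IsIntegral.sum _ fun χ _ => (integral p χ _).sub (integral p χ _))
    (k := r - s) (m := p ^ n) (sub_ne_zero.2 fun e => h3 (congrArg _ e))
    (by push_cast; rw [← hr, ← hs]; exact b4)
  rw [hθ, hr, hs] at b4
  unfold be at b1 b2 b3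
  exact arith (r := r) (s := s) (θ := θ) hp h.cop (Subgroup.index_dvd_card _) (Subgroup.index_dvd_card _)
    a1 a2 (H6.PR.two_sum h) (by unfold be; exact_mod_cast b1) (by unfold be; exact_mod_cast b2)
    (by unfold be; exact_mod_cast b3) (by exact_mod_cast b4)

theorem case1 (h : Two ρ n u w) (h2 : p ≠ 2) {ω : (ZMod p)ˣ} (hω : ∀ x, x ∈ Subgroup.zpowers ω)
    (hs : ∀ x, ind ρ w ((ω : ZMod p) • x) = ind ρ u x) :
    Odd n ∧ (St ρ u).index = (St ρ w).index := by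
  have hp : p.Prime := Fact.out
  have hs' : ∀ x, ind ρ u ((ω : ZMod p) • x) = ind ρ w x := fun x => by
    have a := part h x
    have b := part h ((ω : ZMod p) • x)
    simp only [smul_eq_zero, ω.ne_zero, false_or, hs] at b
    linear_combination b - a
  have ab : ((St ρ u).index : ℂ) = (St ρ w).index := by
    rw [← sum_ind, ← sum_ind, ← sum_smul (ind ρ w) ω.ne_zero]
    exact sum_congr rfl fun x _ => (hs x).symm
  refine ⟨?_, by exact_mod_cast ab⟩
  have hv : ((St ρ u).index : ℂ) + (St ρ w).index + 1 = p ^ n := by exact_mod_cast H6.PR.two_sum h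
  have a0 : ((St ρ w).index : ℂ) ≠ 0 := Nat.cast_ne_zero.2 Subgroup.FiniteIndex.index_ne_zero
  obtain ⟨ψ, φ, h1, h3, h4, h5⟩ := two_val h
  have tw : ∀ χ : AddChar V ℂ, χ ≠ 1 → -(1 + et ρ u χ) = et ρ u ψ ∨ -(1 + et ρ u χ) = et ρ u φ := by
    intro χ c
    have e : et ρ u (χ.compAddMonoidHom (DistribSMul.toAddMonoidHom V (ω : ZMod p))) = et ρ w χ := by
      unfold et
      rw [← sum_smul (fun x => ind ρ w x * χ x) ω.ne_zero]
      exact sum_congr rfl fun x _ => by rw [hs]; rfl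
    rw [← et_sum h c, ← e]
    refine h5 _ fun f => c (DFunLike.ext _ _ fun x => ?_)
    have : χ ((ω : ZMod p) • ((ω : ZMod p)⁻¹ • x)) = 1 := DFunLike.congr_fun f ((ω : ZMod p)⁻¹ • x)
    rwa [smul_inv_smul₀ ω.ne_zero] at this
  have rs : et ρ u φ = -(1 + et ρ u ψ) := by
    rcases tw ψ h1 with a | a
    · rcases tw φ h3 with b | b
      · exact absurd (by linear_combination b - a) h4
      · exact absurd (by linear_combination (b - a) / 2) h4
    · exact a.symm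
  have b3 := be_zero h h1 h3 h4
  rw [ab] at b3 hv
  unfold be at b3
  obtain ⟨ε, e1, e2⟩ : ∃ ε : ℤ, ε.natAbs = 1 ∧ (et ρ u ψ - et ρ w ψ) ^ 2 = ε * p ^ n := by
    rw [et_sum h h1]
    rcases h5 ψ⁻¹ (inv_ne_one.2 h1) with a | a <;> rw [a, rs] at b3
    · refine ⟨1, rfl, mul_left_cancel₀ a0 ?_⟩
      push_cast
      linear_combination (-2) * b3 + ((St ρ w).index : ℂ) * hv
    · refine ⟨-1, rfl, mul_left_cancel₀ a0 ?_⟩
      push_cast
      linear_combination 2 * b3 - ((St ρ w).index : ℂ) * hv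
  set c := (quadraticChar (ZMod p)).ringHomComp (Int.castRingHom ℂ) with hc
  have c1 : c ≠ 1 := (MulChar.ringHomComp_ne_one_iff (RingHom.injective_int _)).2
    (quadraticChar_ne_one (by rwa [ZMod.ringChar_zmod_n]))
  have c2 : c.IsQuadratic := (quadraticChar_isQuadratic _).comp _
  have c3 : c ω = -1 := by
    rcases c2 ω with a | a | a
    · exact absurd a (ω.isUnit.map c).ne_zero
    · refine absurd (MulChar.ext fun x => ?_) c1
      obtain ⟨k, rfl⟩ := (mem_powers_iff_mem_zpowers.2 (hω x))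
      simp [a]
    · exact a
  have e3 := sum_tw (ψ := ψ) (fun x => ind ρ u x - ind ρ w x) c c.map_zero
    (pow_tw hω (fun x => ind ρ u x - ind ρ w x) c.toMonoidHom fun x => by
      change _ - _ = c ω * (_ - _)
      rw [hs, hs', c3]; ring)
  obtain ⟨g, hg⟩ := IsAlgClosed.exists_pow_nat_eq (c (-1) * p : ℂ) two_pos
  obtain ⟨I, hI⟩ : ∑ x, (ind ρ u x - ind ρ w x) * ∑ t, c t * ln p ψ x t ∈ AddSubgroup.zmultiples g := by
    refine sum_mem fun x _ => ?_
    have m : ∑ t, c t * ln p ψ x t ∈ AddSubgroup.zmultiples g := by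
      change gaussSum c (ln p ψ x) ∈ _
      by_cases e : ln p ψ x = 1
      · rw [e, gaussSum_one_right c1]; exact zero_mem _
      have := gaussSum_sq c1 c2 (AddChar.IsPrimitive.of_ne_one e)
      rw [ZMod.card, ← hg] at this
      rcases sq_eq_sq_iff_eq_or_eq_neg.1 this with a | a <;> rw [a]
      exacts [AddSubgroup.mem_zmultiples g, neg_mem (AddSubgroup.mem_zmultiples g)]
    rw [sub_mul]
    refine sub_mem ?_ ?_ <;> unfold ind <;> split_ifs
    all_goals first | (rw [one_mul]; exact m) | (rw [zero_mul]; exact zero_mem _)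
  have e4 : ((p - 1 : ℤ) : ℂ) * (et ρ u ψ - et ρ w ψ) = I * g := by
    rw [← zsmul_eq_mul g I]
    refine Eq.trans ?_ (e3.trans hI.symm)
    simp only [et, sub_mul, sum_sub_distrib]
  have e5 : ((p - 1 : ℤ) : ℂ) ^ 2 * (ε * p ^ n) = I ^ 2 * (quadraticChar (ZMod p) (-1) * p) := by
    rw [← e2, ← mul_pow, e4, mul_pow, hg]; rfl
  have e6 : ((p - 1 : ℤ)) ^ 2 * (ε * p ^ n) = I ^ 2 * (quadraticChar (ZMod p) (-1) * p) := by
    exact_mod_cast e5
  have e7 : (quadraticChar (ZMod p) (-1)).natAbs = 1 := by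
    rcases quadraticChar_dichotomy (F := ZMod p) (a := -1) (by simp) with a | a <;> rw [a] <;> rfl
  have e8 := congrArg Int.natAbs e6
  have e9 : ((p : ℤ) - 1).natAbs = p - 1 := by have := hp.two_le; omega
  simp only [Int.natAbs_mul, Int.natAbs_pow, e1, e7, e9, one_mul, Int.natAbs_natCast] at e8
  exact odd_of hp e8

end

theorem sr : SR.{u} := by
  intro G V _ _ p n _ _ _ _ ρ u w h h2
  have := Fintype.ofFinite G
  have := Fintype.ofFinite V
  obtain ⟨ω, hω⟩ := IsCyclic.exists_generator (α := (ZMod p)ˣ)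
  rcases h.all ((ω : ZMod p) • u) (smul_ne_zero ω.ne_zero h.u0) with ⟨k, e⟩ | ⟨k, e⟩
  · refine .inr ⟨⟨k, ω, ?_, e⟩, case2 h fun t ht x => ?_⟩
    · rw [orderOf_eq_card_of_forall_mem_zpowers hω, Nat.card_eq_fintype_card, ZMod.card_units]
    · simpa using pow_tw hω (ind ρ u) 1 (fun x => by simpa using ind_sc ω.ne_zero e x) t ht x
  · exact .inl (case1 h h2 hω (ind_sc ω.ne_zero e))

end H21.PR
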