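import Cfsg.Agent.H1.SF0
import Cfsg.Agent.H1.PSolv
import Cfsg.Agent.H9.ZJCor
import Cfsg.Agent.H6.Elem
import Cfsg.Agent.H4.Basic
import Cfsg.Agent.H2.CoprimeAbelian

/-! `p`-solvable groups with a semi-extraspecial Sylow `p`-subgroup. -/

open Cfsg

namespace H21.SX
open Subgroup
open scoped Pointwise commutatorElement

variable {G G' : Type*} [Group G] [Group G'] {p : ℕ}

theorem ab {A : Subgroup G} (h : IsMulCommutative A) {x y : G} (hx : x ∈ A) (hy : y ∈ A) :
    x * y = y * x := setLike_mul_comm hx hy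

/-- `P` is semi-extraspecial over `Z`, with two conditions for `|P : Z| = p ^ 2`. -/
structure SE (p : ℕ) (P Z : Subgroup G) : Prop where
  le : Z ≤ P
  cent : ∀ z ∈ Z, ∀ x ∈ P, x * z = z * x
  pow : ∀ x ∈ P, x ^ p ∈ Z
  comm : ∀ x ∈ P, ∀ y ∈ P, ⁅x, y⁆ ∈ Z
  onto : ∀ a ∈ P, a ∉ Z → ∀ z ∈ Z, ∃ x ∈ P, ⁅a, x⁆ = z
  three : p = 3 → Z.relIndex P ≠ 9
  two : p = 2 → Z.relIndex P = 4 → ∀ x ∈ P, x ∉ Z → ∀ z ∈ Z, z = 1 ∨ z = x ^ 2

theorem cnt' [Finite G] {P Z : Subgroup G} (hc : ∀ z ∈ Z, ∀ x ∈ P, x * z = z * x)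
    (hm : ∀ x ∈ P, ∀ y ∈ P, ⁅x, y⁆ ∈ Z) {W : Subgroup G} (hW : W ≤ P) {a : G} (ha : a ∈ P) : ∃ Y ≤ Z,
    (∀ y ∈ Y, ∃ x ∈ W, ⁅a, x⁆ = y) ∧ (∀ x ∈ W, ⁅a, x⁆ ∈ Y) ∧
      Nat.card (W ⊓ centralizer {a} : Subgroup G) * Nat.card Y = Nat.card W := by
  let f : W →* G := MonoidHom.mk' (fun x => ⁅a, (x : G)⁆) fun x y => by
    have := hc _ (hm a ha y (hW y.2)) x (hW x.2)
    calc _ = ⁅a, (x : G)⁆ * (x * ⁅a, (y : G)⁆) * (x : G)⁻¹ := by
          simp only [commutatorElement_def, coe_mul]; group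
      _ = _ := by rw [this]; group
  refine ⟨f.range, ?_, ?_, fun x hx => ⟨⟨x, hx⟩, rfl⟩, ?_⟩
  · rintro _ ⟨x, rfl⟩
    exact hm a ha x (hW x.2)
  · rintro _ ⟨x, rfl⟩
    exact ⟨x, x.2, rfl⟩
  · rw [← f.ker.card_mul_index, index_ker, ← card_map_of_injective (K := f.ker) W.subtype_injective]
    congr 3
    ext x
    rw [mem_inf, mem_centralizer_singleton_iff, eq_comm, ← commutatorElement_eq_one_iff_mul_comm]
    exact ⟨fun h1 => ⟨⟨x, h1.1⟩, h1.2, rfl⟩, fun ⟨y, h1, h2⟩ => h2 ▸ ⟨y.2, h1⟩⟩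

namespace SE
variable {P Z : Subgroup G} (h : SE p P Z)
include h

theorem map (f : G →* G') (hk : f.ker ⊓ P ≤ Z) : SE p (P.map f) (Z.map f) := by
  have h1 : (Z.map f).relIndex (P.map f) = Z.relIndex P := by
    rw [← relIndex_comap, relIndex, relIndex]
    congr 1
    ext x
    refine ⟨fun ⟨z, hz, h1⟩ => ?_, fun hx => ⟨x, hx, rfl⟩⟩
    have : z⁻¹ * x ∈ Z := hk (mem_inf.2 ⟨by simp [h1], mul_mem (inv_mem (h.le hz)) x.2⟩)
    exact (mul_mem_cancel_left (inv_mem hz)).1 this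
  refine ⟨map_mono h.le, ?_, ?_, ?_, ?_, h1 ▸ h.three, ?_⟩
  · rintro _ ⟨z, hz, rfl⟩ _ ⟨x, hx, rfl⟩
    rw [← map_mul, h.cent z hz x hx, map_mul]
  · rintro _ ⟨x, hx, rfl⟩
    exact ⟨_, h.pow x hx, map_pow ..⟩
  · rintro _ ⟨x, hx, rfl⟩ _ ⟨y, hy, rfl⟩
    exact ⟨_, h.comm x hx y hy, map_commutatorElement ..⟩
  · rintro _ ⟨a, ha, rfl⟩ h2 _ ⟨z, hz, rfl⟩
    obtain ⟨x, hx, rfl⟩ := h.onto a ha (fun h3 => h2 ⟨a, h3, rfl⟩) z hz
    exact ⟨_, ⟨x, hx, rfl⟩, (map_commutatorElement ..).symm⟩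
  · rintro h2 h3 _ ⟨x, hx, rfl⟩ h4 _ ⟨z, hz, rfl⟩
    rcases h.two h2 (h1 ▸ h3) x hx (fun h5 => h4 ⟨x, h5, rfl⟩) z hz with rfl | rfl <;> simp

theorem top : SE p ⊤ (Z.subgroupOf P) :=
  ⟨le_top, fun z hz x _ => Subtype.ext (h.cent z hz x x.2), fun x _ => h.pow x x.2,
    fun x _ y _ => h.comm x x.2 y y.2, fun a _ ha z hz => by
      obtain ⟨x, hx, h1⟩ := h.onto a a.2 ha z hz
      exact ⟨⟨x, hx⟩, trivial, Subtype.ext h1⟩,
    by rw [relIndex_top_right]; exact h.three, by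
      rw [relIndex_top_right]
      exact fun h1 h2 x _ hx z hz => (h.two h1 h2 x x.2 hx z hz).imp Subtype.ext Subtype.ext⟩

theorem cnt [Finite G] {W : Subgroup G} (hW : W ≤ P) {a : G} (ha : a ∈ P) : ∃ Y ≤ Z,
    (∀ y ∈ Y, ∃ x ∈ W, ⁅a, x⁆ = y) ∧ (∀ x ∈ W, ⁅a, x⁆ ∈ Y) ∧
      Nat.card (W ⊓ centralizer {a} : Subgroup G) * Nat.card Y = Nat.card W :=
  cnt' h.cent h.comm hW ha

theorem count [Finite G] {V : Subgroup G} (h1 : Z ≤ V) (h2 : V ≤ P)
    (h3 : ∀ x ∈ V, ∀ y ∈ V, x * y = y * x) (h4 : Nat.card P * Nat.card Z ≤ Nat.card V ^ 2) :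
    (∀ a ∈ P, a ∉ V → ∀ z ∈ Z, ∃ x ∈ V, ⁅a, x⁆ = z) ∧
      (Z ≠ ⊥ → Nat.card P * Nat.card Z = Nat.card V ^ 2) := by
  classical
  haveI := Fintype.ofFinite G
  have hc : ∀ (W : Subgroup G) (a : G), (Nat.card (W ⊓ centralizer {a} : Subgroup G) : ℤ) =
      ∑ x with x ∈ W, if x * a = a * x then 1 else 0 := fun W a => by
    rw [Finset.sum_boole, Finset.filter_filter, Nat.card_eq_fintype_card, Fintype.card_subtype]
    simp only [mem_inf, mem_centralizer_singleton_iff]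
  have hk : ∀ W : Subgroup G, ((Finset.univ.filter (· ∈ W)).card : ℤ) = Nat.card W := fun W => by
    rw [Nat.card_eq_fintype_card, Fintype.card_subtype]
  have hs : ∀ {U W : Subgroup G}, U ≤ W → ∀ F : G → ℤ, ∑ x with x ∈ W, F x =
      ∑ x with x ∈ U, F x + ∑ x with x ∈ W ∧ x ∉ U, F x := fun {U W} hUW F => by
    rw [← Finset.sum_filter_add_sum_filter_not _ (· ∈ U), Finset.filter_filter, Finset.filter_filter]
    congr 2
    exact Finset.filter_congr fun x _ => and_iff_right_of_imp (@hUW x)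
  have e0 : ∑ v with v ∈ V, (Nat.card (P ⊓ centralizer {v} : Subgroup G) : ℤ) =
      ∑ a with a ∈ P, (Nat.card (V ⊓ centralizer {a} : Subgroup G) : ℤ) := by
    simp only [hc]
    rw [Finset.sum_comm]
    simp only [eq_comm]
  have e1 := hs h1 fun _ => 1
  have e2 := hs h2 fun _ => 1
  simp only [Finset.sum_const, hk, nsmul_eq_mul, mul_one] at e1 e2
  have e3 : ∑ v with v ∈ Z, (Nat.card (P ⊓ centralizer {v} : Subgroup G) : ℤ) =
      Nat.card Z * Nat.card P := by
    rw [← hk Z, ← nsmul_eq_mul, ← Finset.sum_const]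
    refine Finset.sum_congr rfl fun z hz => ?_
    rw [inf_eq_left.2 fun x hx => mem_centralizer_singleton_iff.2 (h.cent z (by simpa using hz) x hx)]
  have e4 : ∑ a with a ∈ V, (Nat.card (V ⊓ centralizer {a} : Subgroup G) : ℤ) =
      Nat.card V * Nat.card V := by
    nth_rw 1 [← hk V]
    rw [← nsmul_eq_mul, ← Finset.sum_const]
    refine Finset.sum_congr rfl fun z hz => ?_
    rw [inf_eq_left.2 fun x hx => mem_centralizer_singleton_iff.2 (h3 x hx z (by simpa using hz))]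
  have e5 : (∑ v with v ∈ V ∧ v ∉ Z, (Nat.card (P ⊓ centralizer {v} : Subgroup G) : ℤ)) *
      Nat.card Z = ∑ v with v ∈ V ∧ v ∉ Z, (Nat.card P : ℤ) := by
    rw [Finset.sum_mul]
    refine Finset.sum_congr rfl fun v hv => ?_
    simp only [Finset.mem_filter, Finset.mem_univ, true_and] at hv
    obtain ⟨Y, a1, -, a2, a3⟩ := h.cnt le_rfl (h2 hv.1)
    obtain rfl : Y = Z := le_antisymm a1 fun z hz => by
      obtain ⟨x, hx, rfl⟩ := h.onto v (h2 hv.1) hv.2 z hz
      exact a2 x hx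
    exact_mod_cast a3
  have e6 : ∀ a ∈ Finset.univ.filter fun a => a ∈ P ∧ a ∉ V,
      (0 : ℤ) ≤ Nat.card (V ⊓ centralizer {a} : Subgroup G) * Nat.card Z - Nat.card V := by
    intro a ha
    simp only [Finset.mem_filter, Finset.mem_univ, true_and] at ha
    obtain ⟨Y, a1, -, -, a3⟩ := h.cnt h2 ha.1
    rw [sub_nonneg, ← a3]
    exact_mod_cast Nat.mul_le_mul_left _ (card_le_of_le a1)
  have e7 := Finset.sum_nonneg e6
  have e8 := (Finset.sum_eq_zero_iff_of_nonneg e6).1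
  rw [Finset.sum_sub_distrib, ← Finset.sum_mul] at e7 e8
  rw [hs h1, hs h2, e3, e4] at e0
  simp only [Finset.sum_const, nsmul_eq_mul] at e5 e7 e8
  have e9 : (1 : ℤ) ≤ Nat.card Z := by exact_mod_cast Nat.card_pos
  have e10 : (Nat.card P : ℤ) * Nat.card Z ≤ Nat.card V ^ 2 := by exact_mod_cast h4
  generalize ∑ v with v ∈ V ∧ v ∉ Z, (Nat.card (P ⊓ centralizer {v} : Subgroup G) : ℤ) = s at *
  generalize ∑ a with a ∈ P ∧ a ∉ V, (Nat.card (V ⊓ centralizer {a} : Subgroup G) : ℤ) = t at *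
  generalize ((Finset.univ.filter fun x => x ∈ V ∧ x ∉ Z).card : ℤ) = c at *
  generalize ((Finset.univ.filter fun x => x ∈ P ∧ x ∉ V).card : ℤ) = d at *
  have e11 : t * Nat.card Z - d * Nat.card V =
      (Nat.card Z - 1) * (Nat.card P * Nat.card Z - Nat.card V ^ 2) := by
    linear_combination e5 - Nat.card Z * e0 - Nat.card P * e1 + Nat.card V * e2
  have e12 : t * Nat.card Z - d * Nat.card V = 0 := by nlinarith
  refine ⟨fun a ha h5 z hz => ?_, fun h5 => ?_⟩
  · obtain ⟨Y, a1, a2, -, a3⟩ := h.cnt h2 ha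
    have h6 := e8 e12 a (by simp [ha, h5])
    rw [sub_eq_zero, ← a3] at h6
    have h7 : Nat.card Z = Nat.card Y :=
      Nat.eq_of_mul_eq_mul_left Nat.card_pos (by exact_mod_cast h6)
    exact a2 z ((eq_of_le_of_card_ge a1 h7.le).ge hz)
  · have h6 := (one_lt_card_iff_ne_bot _).2 h5
    rw [e11, mul_eq_zero, sub_eq_zero, sub_eq_zero] at e12
    exact_mod_cast e12.resolve_left (by exact_mod_cast h6.ne')

end SE

section main
variable [Finite G] [hp : Fact p.Prime]

theorem bound (hG : IsPSolvable p G) (hV : IsElementaryAbelian p (pCore p G))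
    (hC : centralizer (pCore p G : Set G) ≤ pCore p G) : ∀ (n : ℕ) (A : Subgroup G), Nat.card A = n →
    pCore p G ≤ A → IsElementaryAbelian p (A.map (QuotientGroup.mk' (pCore p G))) →
    Nat.card A * Nat.card (pCore p G ⊓ centralizer (A : Set G) : Subgroup G) ≤
      Nat.card (pCore p G) ^ 2 := by
  intro n
  induction n using Nat.strong_induction_on with
  | _ n ih =>
  intro A hn h1 h2
  set V := pCore p G
  set f := QuotientGroup.mk' V
  have hf : ∀ {x}, f x = 1 ↔ x ∈ V := QuotientGroup.eq_one_iff _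
  have hV' : ∀ x ∈ V, ∀ y ∈ V, x * y = y * x := fun x hx y hy => ab hV.1 hx hy
  by_cases h3 : A.map f = ⊥
  · rw [le_antisymm (fun x hx => hf.1 (mem_bot.1 (h3.le ⟨x, hx, rfl⟩))) h1, sq]
    exact Nat.mul_le_mul_left _ (card_le_of_le inf_le_left)
  have h4 := H1.centralizer_pPrimeCore_le_of_isPSolvable (H1.isPSolvable_quotient hG V)
    H1.pCore_quotient_pCore
  have hA : IsPGroup p (A.map f) := fun x => ⟨1, Subtype.ext (by simpa using h2.2 x x.2)⟩
  obtain ⟨B, hB, h5⟩ : ∃ B, H1.Hyp p (A.map f) B ∧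
      ¬ pPrimeCore p (G ⧸ V) ⊓ centralizer (B : Set _) ≤ centralizer (A.map f : Set _) := by
    by_contra! h5
    have h6 := H1.le_of_hyp hp.out h2 h3 le_normalizer_of_normal
      ((H19.piN_compl_singleton hp.out).2 H1.not_dvd_card_pPrimeCore) h5
    exact h3 (H1.eq_bot_of_isPGroup_of_coprime hA (H1.pPrimeCore_coprime.of_dvd_left
      (card_dvd_of_le ((le_centralizer_iff.1 h6).trans h4))))
  have h6 : B.comap f ≤ A := fun x hx => by
    obtain ⟨y, hy, h6⟩ := hB.1 hx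
    have : y⁻¹ * x ∈ V := hf.1 (by simp [h6])
    exact (mul_mem_cancel_left (inv_mem hy)).1 (h1 this)
  have h7 : V ≤ B.comap f := fun x hx => by rw [mem_comap, hf.2 hx]; exact one_mem _
  have h8 : (B.comap f).map f = B := map_comap_eq_self_of_surjective (QuotientGroup.mk'_surjective V) B
  have h9 : Nat.card (B.comap f) * p = Nat.card A := by
    rw [← H1.relIndex_mul_card h7, ← H1.relIndex_mul_card h1, ← H1.card_map_mk', ← H1.card_map_mk', h8,
      ← hB.2]
    ring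
  have h10 := ih _ (by have := hp.out.one_lt; have : 0 < Nat.card (B.comap f) := Nat.card_pos; nlinarith)
    (B.comap f) rfl h7 (h8.symm ▸ ⟨⟨⟨fun x y => Subtype.ext
      (ab h2.1 (hB.1 x.2) (hB.1 y.2))⟩⟩, fun x hx => h2.2 x (hB.1 hx)⟩)
  have h11 : V ⊓ centralizer (A : Set G) < V ⊓ centralizer (B.comap f : Set G) := by
    refine lt_of_le_of_ne (inf_le_inf_left _ (centralizer_le h6)) fun h11 => h5 ?_
    rintro r ⟨hr, hr'⟩ _ ⟨a, ha, rfl⟩
    obtain ⟨r, rfl⟩ := QuotientGroup.mk'_surjective V r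
    have hN : ∀ {s}, f s ∈ centralizer (B : Set (G ⧸ V)) → ∀ b ∈ B.comap f, s * b * s⁻¹ ∈ B.comap f :=
      fun hs b hb => by rw [mem_comap, map_mul, map_mul, ← hs _ hb, map_inv]; simpa using hb
    have h12 : f ⁅a, r⁆ ∈ pPrimeCore p (G ⧸ V) := by
      rw [map_commutatorElement, commutatorElement_def]
      exact mul_mem (Normal.conj_mem inferInstance _ hr _) (inv_mem hr)
    obtain ⟨s, -, h13, h14⟩ := H3.exists_coprime_lift hp.out.ne_zero f ⁅a, r⁆
      (H1.pPrimeCore_coprime.of_dvd_left (Subgroup.orderOf_dvd_natCard _ h12))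
    have h15 : f s ∈ centralizer (B : Set (G ⧸ V)) := by
      have : f a ∈ centralizer (B : Set (G ⧸ V)) := fun b hb =>
        ab h2.1 (hB.1 hb) ⟨a, ha, rfl⟩
      rw [h14, map_commutatorElement, commutatorElement_def]
      exact mul_mem (mul_mem (mul_mem this hr') (inv_mem this)) (inv_mem hr')
    have h16 : ∀ w ∈ V ⊓ centralizer (B.comap f : Set G), s * w = w * s := fun w hw => by
      have a1 : r⁻¹ * w * r⁻¹⁻¹ ∈ V ⊓ centralizer (B.comap f : Set G) :=
        ⟨Normal.conj_mem inferInstance _ hw.1 _, fun b hb => by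
          have := hw.2 _ (hN hr' b hb)
          calc _ = r⁻¹ * (r * b * r⁻¹ * w) * r := by group
            _ = _ := by rw [this]; group⟩
      have a2 := (h11.ge hw).2 a⁻¹ (inv_mem ha)
      have a3 := (h11.ge hw).2 a ha
      have a4 := (h11.ge a1).2 a⁻¹ (inv_mem ha)
      have a5 : ⁅a, r⁆ * w = w * ⁅a, r⁆ := by
        calc _ = a * r * (a⁻¹ * (r⁻¹ * w * r⁻¹⁻¹)) * r⁻¹ := by rw [commutatorElement_def]; group
          _ = a * w * r * a⁻¹ * r⁻¹ := by rw [a4]; group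
          _ = _ := by rw [a3, commutatorElement_def]; group
      have a6 := hV' _ (hf.1 (by rw [map_mul, map_inv, h14, inv_mul_cancel]) : ⁅a, r⁆⁻¹ * s ∈ V) w hw.1
      calc _ = ⁅a, r⁆ * (⁅a, r⁆⁻¹ * s * w) := by group
        _ = ⁅a, r⁆ * w * (⁅a, r⁆⁻¹ * s) := by rw [a6]; group
        _ = _ := by rw [a5]; group
    haveI := hV.1
    have h17 := H2.centralizer_inf_commutator_eq_bot (A := zpowers s) (V := V) le_normalizer_of_normal
      (by rw [Nat.card_zpowers]; exact H2.coprime_card_of_isPGroup H1.pCore_isPGroup h13)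
    have h18 : ⁅V, zpowers s⁆ ≤ V := commutator_le_left _ _
    have h19 : ⁅V, zpowers s⁆ = ⊥ := by
      by_contra h19
      refine H1.inf_centralizer_ne_bot_of_isPGroup (K := B.comap f) ((hA.to_le hB.1).comap_of_ker_isPGroup
        f (by rw [QuotientGroup.ker_mk']; exact H1.pCore_isPGroup)) (H1.pCore_isPGroup.to_le h18)
        (fun b hb => mem_normalizer_fintype fun x hx => ?_) h19 (eq_bot_iff.2 (le_trans ?_ h17.le))
      · have : ⁅V, zpowers s⁆ ≤ ⁅V, zpowers s⁆.comap (MulAut.conj b).toMonoidHom :=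
          commutator_le.2 fun v hv t ht => by
            have a1 : b * t * b⁻¹ * t⁻¹ ∈ V := hf.1 (by
              have := (map_le_iff_le_comap.2 (zpowers_le.2 h15 :
                zpowers s ≤ (centralizer (B : Set (G ⧸ V))).comap f)) ⟨t, ht, rfl⟩ _ hb
              simp [this])
            have a2 : b * v * b⁻¹ ∈ V := Normal.conj_mem inferInstance _ hv _
            have a3 := hV' _ a1 _ (Normal.conj_mem inferInstance _ (inv_mem a2) t)
            have a4 : b * ⁅v, t⁆ * b⁻¹ = ⁅b * v * b⁻¹, t⁆ := by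
              calc _ = b * v * b⁻¹ * (b * t * b⁻¹ * t⁻¹ * (t * (b * v * b⁻¹)⁻¹ * t⁻¹)) *
                  (b * t * b⁻¹ * t⁻¹)⁻¹ := by rw [commutatorElement_def]; group
                _ = _ := by rw [a3, commutatorElement_def]; group
            change b * ⁅v, t⁆ * b⁻¹ ∈ ⁅V, zpowers s⁆
            rw [a4]
            exact commutator_mem_commutator a2 ht
        exact this hx
      · refine fun w hw => ⟨?_, hw.1⟩
        exact fun t ht => mem_centralizer_singleton_iff.1 ((zpowers_le.2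
          (mem_centralizer_singleton_iff.2 (h16 w ⟨h18 hw.1, hw.2⟩)) : zpowers s ≤ centralizer {w}) ht)
    have h20 := hC (le_centralizer_iff.1 (commutator_eq_bot_iff_le_centralizer.1 h19) (mem_zpowers s))
    rw [← hf, h14, map_commutatorElement] at h20
    exact commutatorElement_eq_one_iff_mul_comm.1 h20
  have h12 : Nat.card (V ⊓ centralizer (A : Set G) : Subgroup G) * p ≤
      Nat.card (V ⊓ centralizer (B.comap f : Set G) : Subgroup G) := by
    obtain ⟨i, hi⟩ := IsPGroup.iff_card.1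
      (H1.pCore_isPGroup.to_le (inf_le_left : V ⊓ centralizer (A : Set G) ≤ V))
    obtain ⟨j, hj⟩ := IsPGroup.iff_card.1
      (H1.pCore_isPGroup.to_le (inf_le_left : V ⊓ centralizer (B.comap f : Set G) ≤ V))
    have := H1.card_lt_of_lt h11
    rw [hi, hj] at this ⊢
    rw [← pow_succ]
    exact Nat.pow_le_pow_right hp.out.pos ((Nat.pow_lt_pow_iff_right hp.out.one_lt).1 this)
  refine le_trans ?_ h10
  rw [← h9, mul_assoc, mul_comm p]
  exact Nat.mul_le_mul_left _ h12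

theorem core (hG : IsPSolvable p G) (hV : IsElementaryAbelian p (pCore p G))
    (hC : centralizer (pCore p G : Set G) ≤ pCore p G) (P : Sylow p G) {Z : Subgroup G}
    (h : SE p P.1 Z) : P.1 ≤ pCore p G := by
  set V := pCore p G
  set f := QuotientGroup.mk' V
  have hf : ∀ {x}, f x = 1 ↔ x ∈ V := QuotientGroup.eq_one_iff _
  have hVP : V ≤ P.1 := H1.pCore_le_sylow P
  have hZ : Z ≤ V := fun z hz => hC fun v hv => h.cent z hz v (hVP hv)
  by_cases h5 : 5 ≤ p
  · intro a ha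
    have h1 := (H9.isActionPStable_of_not_involves_qd (by omega)
      (H9.not_involves_qd_of_isPSolvable h5 (H1.isPSolvable_subgroup hG ⊤))).1 V hV a (by
        have h1 := zpowers_le.2 ha
        rw [commutator_eq_bot_iff_le_centralizer]
        refine le_trans (commutator_le.2 fun v hv x hx => h.comm v (hVP hv) x (h1 hx))
          fun z hz x hx => h.cent z hz x (h1 hx))
    exact (H1.comap_pCore_quotient _ (H1.pCore_isPGroup.to_le hC)).le h1
  have hA : IsElementaryAbelian p (P.1.map f) := ⟨⟨⟨by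
      rintro ⟨_, x, hx, rfl⟩ ⟨_, y, hy, rfl⟩
      refine Subtype.ext (commutatorElement_eq_one_iff_mul_comm.1 ?_)
      rw [← map_commutatorElement]
      exact hf.2 (hZ (h.comm x hx y hy))⟩⟩, by
    rintro _ ⟨x, hx, rfl⟩
    rw [← map_pow]
    exact hf.2 (hZ (h.pow x hx))⟩
  have h1 := (Nat.mul_le_mul_left _ (card_le_of_le (le_inf hZ fun z hz x hx => h.cent z hz x hx :
    Z ≤ V ⊓ centralizer (P.1 : Set G)))).trans
    (bound hG hV hC _ P.1 rfl hVP hA)
  obtain ⟨h2, h3⟩ := h.count hZ hVP (fun x hx y hy => ab hV.1 hx hy) h1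
  by_contra h4
  have h6 : ¬ V ≤ Z := fun h6 => h4 fun x hx => hC fun v hv => (h.cent v (h6 hv) x hx).symm
  have h7 : Z ≠ ⊥ := fun h7 => h4 fun x hx => hC fun v hv =>
    commutatorElement_eq_one_iff_mul_comm.1 (mem_bot.1 (h7 ▸ h.comm v (hVP hv) x hx))
  by_cases h8 : IsCyclic (P.1.map f)
  · have h9 : Nat.card (P.1.map f) = p := by
      refine ((Nat.dvd_prime hp.out).1 ?_).resolve_left fun h9 =>
        h4 fun x hx => hf.1 (mem_bot.1 ((card_eq_one.1 h9).le ⟨x, hx, rfl⟩))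
      rw [← IsCyclic.exponent_eq_card]
      exact Monoid.exponent_dvd_of_forall_pow_eq_one fun g => Subtype.ext (hA.2 _ g.2)
    rw [H1.card_map_mk'] at h9
    have h10 := H1.relIndex_mul_card hVP
    have h11 := H1.relIndex_mul_card h.le
    obtain ⟨u, hu, h12⟩ := SetLike.not_le_iff_exists.1 h6
    obtain ⟨Y, a1, -, a2, a3⟩ := h.cnt le_rfl (hVP hu)
    obtain rfl : Y = Z := le_antisymm a1 fun z hz => by
      obtain ⟨x, hx, rfl⟩ := h.onto u (hVP hu) h12 z hz
      exact a2 x hx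
    have h13 := h3 h7
    rw [← h10, h9, sq, mul_right_comm, Nat.mul_left_inj Nat.card_pos.ne'] at h13
    rw [← h10, h9, ← h13, ← mul_assoc, Nat.mul_left_inj Nat.card_pos.ne'] at h11
    have h14 := hp.out.two_le
    have h15 : p ≠ 4 := fun h => by have := hp.out; rw [h] at this; exact absurd this (by decide)
    have h16 : p = 2 ∨ p = 3 := by omega
    rcases h16 with h16 | h16
    · refine h7 (eq_bot_iff.2 fun z hz => ?_)
      have := h.two h16 (by simp [h11, h16]) u (hVP hu) h12 z hz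
      rwa [← h16, hV.2 u hu, or_self] at this
    · exact h.three h16 (by simp [h11, h16])
  let D : Subgroup G :=
    { carrier := {d | (∀ v ∈ V, ⁅d, v⁆ ∈ Z) ∧ ∀ z ∈ Z, d * z = z * d}
      one_mem' := ⟨by simp, by simp⟩
      mul_mem' := fun {d e} hd he => ⟨fun v hv => by
        have : ⁅d * e, v⁆ = ⁅e, v⁆ * ⁅d, v⁆ := by
          calc _ = d * ⁅e, v⁆ * d⁻¹ * ⁅d, v⁆ := by simp only [commutatorElement_def]; group
            _ = _ := by rw [hd.2 _ (he.1 v hv)]; group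
        rw [this]
        exact mul_mem (he.1 v hv) (hd.1 v hv), fun z hz => by
          rw [mul_assoc, he.2 z hz, ← mul_assoc, hd.2 z hz, mul_assoc]⟩
      inv_mem' := fun {d} hd => ⟨fun v hv => by
        have : ⁅d⁻¹, v⁆ = ⁅d, v⁆⁻¹ := by
          calc _ = d⁻¹ * (⁅d, v⁆⁻¹ * d) := by simp only [commutatorElement_def]; group
            _ = _ := by rw [← hd.2 _ (inv_mem (hd.1 v hv))]; group
        rw [this]
        exact inv_mem (hd.1 v hv), fun z hz => by
          rw [inv_mul_eq_iff_eq_mul, ← mul_assoc, hd.2 z hz, mul_inv_cancel_right]⟩ }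
  have hD : D = P.1 := P.3 (fun ⟨d, hd⟩ => ⟨2, Subtype.ext (by
    have h9 : d ^ p ∈ V := hC fun v hv => by
      have h9 : ∀ k : ℕ, d ^ k * v = ⁅d, v⁆ ^ k * v * d ^ k := fun k => by
        induction k with
        | zero => simp
        | succ k ih =>
          have := hd.2 _ (pow_mem (hd.1 v hv) k)
          calc _ = d * (d ^ k * v) := by rw [pow_succ', mul_assoc]
            _ = (d * ⁅d, v⁆ ^ k) * v * d ^ k := by rw [ih]; group
            _ = _ := by rw [this, pow_succ ⁅d, v⁆, pow_succ' d, commutatorElement_def]; group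
      rw [h9, hV.2 _ (hZ (hd.1 v hv)), one_mul]
    change d ^ p ^ 2 = 1
    rw [sq, pow_mul, hV.2 _ h9])⟩) fun x hx =>
      ⟨fun v hv => h.comm x hx v (hVP hv), fun z hz => h.cent z hz x hx⟩
  have h9 : normalizer (Z : Set G) ≤ normalizer (P.1 : Set G) := fun g hg =>
    mem_normalizer_fintype fun d hd => hD.le ⟨fun v hv => by
      have := (mem_normalizer_iff.1 hg _).1
        ((hD.ge hd).1 _ (Normal.conj_mem inferInstance v hv g⁻¹))
      convert this using 1
      simp only [commutatorElement_def]; group, fun z hz => by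
      have := (hD.ge hd).2 _ ((mem_normalizer_iff.1 (inv_mem hg) _).1 hz)
      calc _ = g * (d * (g⁻¹ * z * g⁻¹⁻¹)) * g⁻¹ := by group
        _ = _ := by rw [this]; group⟩
  haveI := hA.1
  have hA' : IsPGroup p (P.1.map f) := P.2.map f
  have h10 := H2.le_of_centralizer_le (K := pPrimeCore p (G ⧸ V)) (J := (normalizer (Z : Set G)).map f) h8
    le_normalizer_of_normal (H2.coprime_card_of_isPGroup hA' H1.pPrimeCore_coprime).symm (by
      rintro _ ⟨a, ha, rfl⟩ h10 c ⟨-, hc⟩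
      obtain ⟨c, rfl⟩ := QuotientGroup.mk'_surjective V c
      refine ⟨c, mem_normalizer_fintype fun z hz => ?_, rfl⟩
      obtain ⟨v, hv, rfl⟩ := h2 a ha (fun h => h10 (hf.2 h)) z hz
      have a1 : a⁻¹ * (c * a * c⁻¹) ∈ V := hf.1 (by
        have : f c * f a = f a * f c := mem_centralizer_singleton_iff.1 hc
        simp [this])
      have a2 : c * v * c⁻¹ ∈ V := Normal.conj_mem inferInstance _ hv _
      have a3 := ab hV.1 a1 a2
      suffices a4 : c * ⁅a, v⁆ * c⁻¹ = ⁅a, c * v * c⁻¹⁆ from a4 ▸ h.comm a ha _ (hVP a2)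
      calc _ = a * (a⁻¹ * (c * a * c⁻¹) * (c * v * c⁻¹)) * (c * a * c⁻¹)⁻¹ * (c * v * c⁻¹)⁻¹ := by
            rw [commutatorElement_def]; group
        _ = _ := by rw [a3, commutatorElement_def]; group)
  have h11 : P.1.map f ≤ centralizer (pPrimeCore p (G ⧸ V) : Set (G ⧸ V)) := by
    rintro x hx r hr
    obtain ⟨g, hg, rfl⟩ := h10 hr
    have a1 : ⁅f g, x⁆ ∈ P.1.map f ⊓ pPrimeCore p (G ⧸ V) := mem_inf.2 ⟨by
      obtain ⟨y, hy, rfl⟩ := hx
      exact ⟨_, mul_mem ((mem_normalizer_iff.1 (h9 hg) y).1 hy) (inv_mem hy), by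
        simp [commutatorElement_def]⟩, by
      simpa only [commutatorElement_def, mul_assoc, inv_inv] using
        mul_mem hr (Normal.conj_mem inferInstance _ (inv_mem hr) x)⟩
    rw [H1.inf_eq_bot_of_isPGroup_of_coprime hA' H1.pPrimeCore_coprime, mem_bot] at a1
    exact commutatorElement_eq_one_iff_mul_comm.1 a1
  have h12 := H1.eq_bot_of_isPGroup_of_coprime hA' (H1.pPrimeCore_coprime.of_dvd_left (card_dvd_of_le
    (h11.trans (H1.centralizer_pPrimeCore_le_of_isPSolvable (H1.isPSolvable_quotient hG V)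
      H1.pCore_quotient_pCore))))
  exact h4 fun x hx => hf.1 (mem_bot.1 (h12.le ⟨x, hx, rfl⟩))

theorem core' (hG : IsPSolvable p G) (hO : pPrimeCore p G = ⊥) (P : Sylow p G) {Z : Subgroup G}
    (h : SE p P.1 Z) : P.1 ≤ pCore p G := by
  set V := pCore p G
  have hC := H1.centralizer_pCore_le_of_isPSolvable hG hO
  have hVP : V ≤ P.1 := H1.pCore_le_sylow P
  let N := ⁅V, V⁆ ⊔ closure {y | ∃ x ∈ V, x ^ p = y}
  haveI : (closure {y | ∃ x ∈ V, x ^ p = y}).Normal := normalizer_eq_top_iff.1 (eq_top_iff.2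
    (le_trans (fun g _ => mem_normalizer_fintype (by
      rintro _ ⟨x, hx, rfl⟩
      exact ⟨_, Normal.conj_mem inferInstance x hx g, conj_pow⟩)) (normalizer_le_normalizer_closure _)))
  have h1 : N ≤ Z := sup_le (commutator_le.2 fun x hx y hy => h.comm x (hVP hx) y (hVP hy))
    ((closure_le _).2 fun _ ⟨x, hx, h1⟩ => h1 ▸ h.pow x (hVP hx))
  have h2 : N ≤ (frattini V).map V.subtype :=
    sup_le (H1.commutator_le_frattiniOf_of_isNilpotent H1.pCore_isPGroup.isNilpotent)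
      ((closure_le _).2 fun _ ⟨x, hx, h1⟩ => ⟨_, H4.pow_mem_frattini H1.pCore_isPGroup ⟨x, hx⟩, h1⟩)
  have h3 : N ≤ V := h2.trans (map_subtype_le _)
  have h4 := H1.pCore_quotient N (H1.pCore_isPGroup.to_le h3)
  set f := QuotientGroup.mk' N
  have hf : ∀ {x}, f x = 1 ↔ x ∈ N := QuotientGroup.eq_one_iff _
  have h5 : pPrimeCore p (G ⧸ N) = ⊥ := eq_bot_iff.2 fun y hy => by
    obtain ⟨y, rfl⟩ := QuotientGroup.mk'_surjective N y
    obtain ⟨s, -, h5, h6⟩ := H3.exists_coprime_lift hp.out.ne_zero f y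
      (H1.pPrimeCore_coprime.of_dvd_left (Subgroup.orderOf_dvd_natCard _ hy))
    have h7 := H2.le_centralizer_of_frattini (A := zpowers s) (K := V) (by
      rw [Nat.card_zpowers]
      exact H2.coprime_card_of_isPGroup (H1.pCore_isPGroup.to_subgroup _) h5)
      (le_trans (commutator_le.2 fun v hv t ht => hf.1 (by
        rw [map_commutatorElement, ← mem_bot, ← H1.commutator_pCore_pPrimeCore (p := p)]
        exact commutator_mem_commutator (h4.ge ⟨v, hv, rfl⟩)
          ((zpowers_le.2 (mem_comap.2 (h6 ▸ hy)) : zpowers s ≤ (pPrimeCore p (G ⧸ N)).comap f) ht))) h2)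
    have h8 := H1.eq_bot_of_isPGroup_of_coprime (H1.pCore_isPGroup.to_le (h7.trans hC))
      (by rwa [Nat.card_zpowers])
    rw [← h6, zpowers_eq_bot.1 h8, map_one]
    exact one_mem _
  have h6 := core (H1.isPSolvable_quotient hG N) ⟨⟨⟨by
      rintro ⟨x, hx'⟩ ⟨y, hy'⟩
      obtain ⟨x, hx, rfl⟩ := h4.le hx'
      obtain ⟨y, hy, rfl⟩ := h4.le hy'
      refine Subtype.ext (commutatorElement_eq_one_iff_mul_comm.1 ?_)
      rw [← map_commutatorElement]
      exact hf.2 (mem_sup_left (commutator_mem_commutator hx hy))⟩⟩, fun x hx' => by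
      obtain ⟨x, hx, rfl⟩ := h4.le hx'
      rw [← map_pow]
      exact hf.2 (mem_sup_right (subset_closure ⟨x, hx, rfl⟩))⟩
    (H1.centralizer_pCore_le_of_isPSolvable (H1.isPSolvable_quotient hG N) h5)
    (P.mapSurjective (QuotientGroup.mk'_surjective N))
    (h.map f (by rw [QuotientGroup.ker_mk']; exact inf_le_left.trans h1))
  exact (map_le_iff_le_comap.1 h6).trans (H1.comap_pCore_quotient N (H1.pCore_isPGroup.to_le h3)).le

theorem plen (hG : IsPSolvable p G) (P : Sylow p G) {Z : Subgroup G} (h : SE p P.1 Z) :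
    PLengthLE p 1 G := by
  rw [← H1.pLengthLE_quotient_iff (pPrimeCore p G) H1.pPrimeCore_coprime]
  let Q := P.mapSurjective (QuotientGroup.mk'_surjective (pPrimeCore p G))
  have := core' (H1.isPSolvable_quotient hG _) H1.pPrimeCore_quotient_pPrimeCore Q
    (h.map _ (by
      rw [QuotientGroup.ker_mk', inf_comm,
        H1.inf_eq_bot_of_isPGroup_of_coprime P.2 H1.pPrimeCore_coprime]
      exact bot_le))
  exact H1.pLengthLE_one_of_normal_sylow Q
    (le_antisymm this (H1.pCore_le_sylow Q) ▸ inferInstance)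

theorem idx2 {H K : Subgroup G} (h : H.relIndex K = 2) {a b : G} (ha : a ∈ K) (hb : b ∈ K)
    (h1 : a ∉ H) (h2 : b ∉ H) : a⁻¹ * b ∈ H :=
  (mul_mem_iff_of_index_two (H := H.subgroupOf K) h (a := ⟨a, ha⟩⁻¹) (b := ⟨b, hb⟩)).2
    (iff_of_false (fun h => h1 (inv_mem_iff.1 h)) h2)

theorem se_of_min {P : Subgroup G} [P.Normal] (hP : IsPGroup p P) {y : G} {r : ℕ} [hr : Fact r.Prime]
    (hrp : r ≠ p) (hy : IsPGroup r (zpowers y)) (h1 : ¬ P ≤ centralizer (zpowers y : Set G))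
    (h2 : ∀ x ∈ P, y ^ r * x = x * y ^ r)
    (h3 : ∀ U ≤ P, zpowers y ≤ normalizer (U : Set G) → U ≠ P → U ≤ centralizer (zpowers y : Set G)) :
    SE p P ⁅P, P⁆ := by
  have hc : (Nat.card (zpowers y)).Coprime p := H1.coprime_card_of_isPGroup_of_ne hy hrp
  have hc' := H2.coprime_card_of_isPGroup hP hc
  have hP0 : P ≠ ⊥ := fun h => h1 (h ▸ bot_le)
  have h4 : ⁅P, zpowers y⁆ = P := by
    by_contra h4
    exact h1 (le_centralizer_iff.1 (H2.le_centralizer_of_commutator_le_centralizer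
      le_normalizer_of_normal hc' (h3 _ (commutator_le_left _ _)
        (H2.le_normalizer_commutator le_normalizer_of_normal le_normalizer) h4)))
  have hm : ∀ x ∈ P, ∀ w ∈ P, ⁅x, w⁆ ∈ ⁅P, P⁆ := fun x hx w hw => commutator_mem_commutator hx hw
  set Z := ⁅P, P⁆ with hZ
  have h5 : Z ≤ centralizer (zpowers y : Set G) := h3 _ (commutator_le_left _ _) le_normalizer_of_normal
    (H1.commutator_lt_of_isPGroup hP hP le_normalizer hP0).ne
  have h6 : ∀ x ∈ P, x ∈ centralizer (zpowers y : Set G) → x ∈ Z := fun x hx h6 => by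
    let f := QuotientGroup.mk' Z
    haveI : IsMulCommutative (P.map f) := ⟨⟨by
      rintro ⟨_, u, hu, rfl⟩ ⟨_, v, hv, rfl⟩
      refine Subtype.ext (commutatorElement_eq_one_iff_mul_comm.1 ?_)
      rw [← map_commutatorElement]
      exact (QuotientGroup.eq_one_iff _).2 (hm u hu v hv)⟩⟩
    haveI := Normal.map ‹P.Normal› f (QuotientGroup.mk'_surjective Z)
    have h7 := H2.centralizer_inf_commutator_eq_bot (A := (zpowers y).map f) (V := P.map f)
      le_normalizer_of_normal ((hc'.of_dvd_left (card_map_dvd _ _)).of_dvd_right (card_map_dvd _ _))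
    rw [← map_commutator, h4] at h7
    refine (QuotientGroup.eq_one_iff _).1 (mem_bot.1 (h7.le ⟨?_, x, hx, rfl⟩))
    rintro _ ⟨t, ht, rfl⟩
    exact (map_mul f t x).symm.trans ((congrArg f (h6 t ht)).trans (map_mul f x t))
  have h7 : ∀ z ∈ Z, ∀ x ∈ P, x * z = z * x := fun z hz x hx =>
    ((h4.ge.trans ((commutator_mono le_rfl (le_centralizer_iff.1 h5)).trans
      (commutator_le_right _ _))) hx z hz).symm
  have h8 : ∀ U ≤ P, (∀ u ∈ U, y * u * y⁻¹ ∈ U) → U ≠ P → U ≤ Z := fun U a1 a2 a3 u hu =>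
    h6 u (a1 hu) (h3 U a1 (zpowers_le.2 (mem_normalizer_fintype a2)) a3 hu)
  have hZy : ∀ z ∈ Z, y * z * y⁻¹ = z := fun z hz => by
    rw [h5 hz y (mem_zpowers y), mul_inv_cancel_right]
  have h9 : ∀ x ∈ P, x ^ p ∈ Z := fun x hx =>
    h8 ((frattini P).map P.subtype) (map_subtype_le _)
      (fun u hu => Normal.conj_mem inferInstance u hu y) (fun h => by
        haveI := (Subgroup.nontrivial_iff_ne_bot P).2 hP0
        exact H1.frattini_ne_top (map_injective P.subtype_injective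
          (h.trans (by rw [← MonoidHom.range_eq_map, range_subtype]))))
      ⟨_, H4.pow_mem_frattini hP ⟨x, hx⟩, rfl⟩
  have h10 : ∀ a ∈ P, a ∉ Z → ∀ z ∈ Z, ∃ x ∈ P, ⁅a, x⁆ = z := fun a ha h10 z hz => by
    obtain ⟨Y, a1, a2, a3, -⟩ := cnt' h7 hm le_rfl ha
    let T : Subgroup G :=
      { carrier := {x | x ∈ P ∧ ∀ w ∈ P, ⁅x, w⁆ ∈ Y}
        one_mem' := ⟨one_mem _, by simp⟩
        mul_mem' := fun {d e} hd he => ⟨mul_mem hd.1 he.1, fun v hv => by
          have : ⁅d * e, v⁆ = ⁅e, v⁆ * ⁅d, v⁆ := by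
            calc _ = d * ⁅e, v⁆ * d⁻¹ * ⁅d, v⁆ := by simp only [commutatorElement_def]; group
              _ = _ := by rw [h7 _ (hm e he.1 v hv) d hd.1]; group
          rw [this]
          exact mul_mem (he.2 v hv) (hd.2 v hv)⟩
        inv_mem' := fun {d} hd => ⟨inv_mem hd.1, fun v hv => by
          have : ⁅d⁻¹, v⁆ = ⁅d, v⁆⁻¹ := by
            calc _ = d⁻¹ * (⁅d, v⁆⁻¹ * d) := by simp only [commutatorElement_def]; group
              _ = _ := by rw [← h7 _ (inv_mem (hm d hd.1 v hv)) d hd.1]; group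
          rw [this]
          exact inv_mem (hd.2 v hv)⟩ }
    have a4 : T = P := by
      by_contra a4
      refine h10 (h8 T (fun _ h => h.1) (fun u hu => ⟨Normal.conj_mem inferInstance _ hu.1 _,
        fun w hw => ?_⟩) a4 ⟨ha, a3⟩)
      have a5 := hu.2 _ (Normal.conj_mem inferInstance _ hw y⁻¹)
      rw [← hZy _ (a1 a5)] at a5
      convert a5 using 1
      simp only [commutatorElement_def]; group
    exact a2 z (commutator_le.2 (fun u hu w hw => (a4.ge hu).2 w hw) hz)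
  have hZP : Z ≤ P := commutator_le_left _ _
  have h11 : ∀ x ∈ P, x ∉ Z → Nat.card (zpowers x ⊔ Z : Subgroup G) = p * Nat.card Z :=
    fun x hx h11 => H1.card_sup_zpowers (le_normalizer_of_normal (mem_top x)) h11 (h9 x hx)
  have h12 : Z.relIndex P = p * p → ∀ x ∈ P, x ∉ Z → y * x * y⁻¹ ∉ zpowers x ⊔ Z := by
    intro a1 x hx a2 a3
    refine a2 (h8 _ (sup_le (zpowers_le.2 hx) hZP) (fun u hu => ?_) (fun a4 => ?_)
      (mem_sup_left (mem_zpowers x)))
    · exact (sup_le (zpowers_le.2 a3) fun z hz => mem_sup_right (Normal.conj_mem inferInstance z hz y) :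
        zpowers x ⊔ Z ≤ (zpowers x ⊔ Z).comap (MulAut.conj y).toMonoidHom) hu
    · have a5 := H1.relIndex_mul_card hZP
      rw [a1, ← a4, h11 x hx a2, Nat.mul_left_inj Nat.card_pos.ne', mul_eq_left₀ hp.out.ne_zero] at a5
      exact hp.out.one_lt.ne' a5
  have hy' : ∀ x ∈ P, y * x * y⁻¹ ∈ P := fun x hx => Normal.conj_mem inferInstance _ hx _
  obtain ⟨x₀, hx₀, hx₀'⟩ := SetLike.not_le_iff_exists.1 fun h : P ≤ Z => h1 (h.trans h5)
  refine ⟨hZP, h7, h9, hm, h10, fun h13 h14 => ?_, fun h13 h14 x hx h15 z hz => ?_⟩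
  · subst h13
    have a1 := H1.card_modEq_card_inf_centralizer hy (L := P) le_normalizer_of_normal
    rw [← H1.relIndex_mul_card hZP, h14,
      le_antisymm (fun x hx => h6 x hx.1 hx.2) (le_inf hZP h5)] at a1
    have a2 : r ∣ 2 ^ 3 * Nat.card Z := by
      have := (Nat.modEq_iff_dvd' (by omega)).1 a1.symm
      convert this using 1
      omega
    obtain rfl : r = 2 := by
      rcases (Nat.Prime.dvd_mul hr.out).1 a2 with a3 | a3
      · exact (Nat.prime_dvd_prime_iff_eq hr.out Nat.prime_two).1 (hr.out.dvd_of_dvd_pow a3)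
      · exact (hrp (H1.isPGroup_iff_forall_prime.1 (hP.to_le hZP) r hr.out a3)).elim
    by_cases a3 : x₀ * (y * x₀ * y⁻¹) ∈ Z
    · refine h12 h14 x₀ hx₀ hx₀' ?_
      simpa using mul_mem (mem_sup_left (inv_mem (mem_zpowers x₀))) (mem_sup_right a3 : _ ∈ zpowers x₀ ⊔ Z)
    · refine h12 h14 _ (mul_mem hx₀ (hy' _ hx₀)) a3 ?_
      have a4 : y * (x₀ * (y * x₀ * y⁻¹)) * y⁻¹ =
          x₀ * (y * x₀ * y⁻¹) * ⁅(y * x₀ * y⁻¹)⁻¹, x₀⁻¹⁆ := by
        calc _ = y * x₀ * y⁻¹ * (y ^ 2 * x₀) * y⁻¹ * y⁻¹ := by rw [sq]; group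
          _ = _ := by rw [h2 _ hx₀, sq, commutatorElement_def]; group
      rw [a4]
      exact mul_mem (mem_sup_left (mem_zpowers _))
        (mem_sup_right (hm _ (inv_mem (hy' _ hx₀)) _ (inv_mem hx₀)))
  subst h13
  have a0 := H1.relIndex_mul_card hZP
  have a1 : ∀ x ∈ P, x ∉ Z → (zpowers x ⊔ Z).relIndex P = 2 ∧ Z.relIndex (zpowers x ⊔ Z) = 2 :=
    fun x hx h => by
      have b1 := H1.relIndex_mul_card (sup_le (zpowers_le.2 hx) hZP)
      have b2 := H1.relIndex_mul_card (le_sup_right : Z ≤ zpowers x ⊔ Z)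
      rw [h11 x hx h] at b1 b2
      rw [← a0, h14, ← mul_assoc, Nat.mul_left_inj Nat.card_pos.ne'] at b1
      exact ⟨by omega, Nat.eq_of_mul_eq_mul_right Nat.card_pos b2⟩
  have a2 : zpowers x ⊔ Z ≤ P ⊓ centralizer {x} := le_inf (sup_le (zpowers_le.2 hx) hZP)
    (sup_le (zpowers_le.2 (mem_centralizer_singleton_iff.2 rfl))
      fun z hz => mem_centralizer_singleton_iff.2 (h7 z hz x hx).symm)
  by_contra! a3
  have a4 : Nat.card Z ≤ 2 := by
    obtain ⟨Y, b1, -, b2, b3⟩ := cnt' h7 hm le_rfl hx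
    obtain rfl : Y = Z := le_antisymm b1 fun z hz => by
      obtain ⟨x, hx, rfl⟩ := h10 x hx h15 z hz
      exact b2 x hx
    have b4 := card_le_of_le a2
    rw [← a0, h14, Nat.mul_left_inj Nat.card_pos.ne'] at b3
    rw [h11 x hx h15] at b4
    omega
  have a5 : Nat.card Z = 2 := le_antisymm a4
    ((one_lt_card_iff_ne_bot _).2 fun h => a3.1 (mem_bot.1 (h ▸ hz)))
  have a6 : ∀ u ∈ Z, u ≠ 1 → u = z := fun u hu b1 => by
    have := idx2 (H := ⊥) (K := Z) (by rw [relIndex_bot_left, a5]) hu hz b1 a3.1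
    exact inv_mul_eq_one.1 this
  have a7 : x ^ 2 = 1 := by_contra fun h => a3.2 (a6 _ (h9 x hx) h).symm
  have a8 : ∀ u ∈ P, u ∉ Z → y * u * y⁻¹ ∉ Z := fun u hu b1 b2 => h12 h14 u hu b1 (mem_sup_right b2)
  set x' := y * x * y⁻¹ with hx'
  have b1 : x' ∈ P := hy' x hx
  have b2 : x' ∉ zpowers x ⊔ Z := h12 h14 x hx h15
  have b3 : x' ∉ Z := a8 x hx h15
  have b4 := h12 h14 x' b1 b3
  have b5 : x * x' = x' * x := by
    by_cases c1 : y * x' * y⁻¹ ∈ zpowers x ⊔ Z
    · have c2 := idx2 (a1 x hx h15).2 (mem_sup_left (mem_zpowers x)) c1 h15 (a8 _ b1 b3)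
      refine (h12 h14 _ (mul_mem hx b1) (fun c3 => b2 ?_) ?_).elim
      · simpa using mul_mem (mem_sup_left (inv_mem (mem_zpowers x))) (mem_sup_right c3 : _ ∈ zpowers x ⊔ Z)
      · have c3 : y * (x * x') * y⁻¹ = x * x' * (⁅x'⁻¹, x⁻¹⁆ * (x⁻¹ * (y * x' * y⁻¹))) := by
          rw [commutatorElement_def]
          calc _ = y * x * y⁻¹ * (y * x' * y⁻¹) := by group
            _ = _ := by rw [← hx']; group
        rw [c3]
        exact mul_mem (mem_sup_left (mem_zpowers _))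
          (mem_sup_right (mul_mem (hm _ (inv_mem b1) _ (inv_mem hx)) c2))
    · have c2 := idx2 (a1 x hx h15).1 b1 (hy' _ b1) b2 c1
      have c3 := idx2 (a1 x hx h15).2 (mem_sup_left (mem_zpowers x)) c2 h15 fun c3 => b4 (by
        simpa using mul_mem (mem_sup_left (mem_zpowers x')) (mem_sup_right c3 : _ ∈ zpowers x' ⊔ Z))
      generalize hw : x⁻¹ * (x'⁻¹ * (y * x' * y⁻¹)) = w at c3
      have c4 : y * x' * y⁻¹ = x' * x * w := by rw [← hw]; group
      have c5 : x' ^ 2 = 1 := by rw [hx', conj_pow, a7]; group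
      have c6 : (x' * x * w) ^ 2 = 1 := by rw [← c4, conj_pow, c5]; group
      have c7 : w ^ 2 = 1 := by
        rw [← a5]; exact congrArg Subtype.val (pow_card_eq_one' (x := (⟨w, c3⟩ : Z)))
      rw [Commute.mul_pow (h7 w c3 _ (mul_mem b1 hx)), c7, mul_one, sq] at c6
      rw [sq] at a7 c5
      calc x * x' = x' * x' * (x * x') * (x * x) := by rw [a7, c5, one_mul, mul_one]
        _ = x' * (x' * x * (x' * x)) * x := by group
        _ = _ := by rw [c6, mul_one]
  obtain ⟨u, hu, c1⟩ := h10 x hx h15 z hz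
  refine a3.1 (c1 ▸ commutatorElement_eq_one_iff_mul_comm.2 ?_)
  by_cases c2 : u ∈ zpowers x ⊔ Z
  · exact (mem_centralizer_singleton_iff.1 (a2 c2).2).symm
  · have c3 := mem_centralizer_singleton_iff.1 (a2 (idx2 (a1 x hx h15).1 b1 hu b2 c2)).2
    calc x * u = x * x' * (x'⁻¹ * u) := by group
      _ = _ := by rw [b5, mul_assoc, ← c3]; group

theorem se_schmidt (hX : IsMinimalNonNilpotent G) (P : Sylow p G) (hn : P.1.Normal) (h1 : P.1 ≠ ⊥) :
    SE p P.1 ⁅P.1, P.1⁆ := by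
  obtain ⟨r, q, hr, hq, hrq, R, Q, h2, h3, h4⟩ := H6.El.schmidt hX.1 hX.2
  haveI := Fact.mk hr
  haveI := Fact.mk hq
  have hrp : r ≠ p := by
    rintro rfl
    haveI := Sylow.unique_of_normal P hn
    obtain rfl : R = P := Subsingleton.elim _ _
    have := H1.isNilpotent_sup_of_normal R.1 Q.1 R.2.isNilpotent Q.2.isNilpotent
    rw [h4] at this
    exact hX.1 (Group.nilpotent_of_mulEquiv topEquiv)
  obtain rfl : q = p := by
    by_contra h5
    have h6 := H2.card_sup_mul_card_inf (N := Q.1) (H := R.1) le_normalizer_of_normal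
    rw [sup_comm, h4, card_top] at h6
    have h7 : p ∣ Nat.card Q * Nat.card R := h6 ▸ Dvd.dvd.mul_right
      ((H28.dvd_card_of_isPGroup_ne_bot P.2 le_rfl h1).trans (card_subgroup_dvd_card _)) _
    rcases (Nat.Prime.dvd_mul hp.out).1 h7 with h8 | h8
    · exact h5 (H1.isPGroup_iff_forall_prime.1 Q.2 p hp.out h8).symm
    · exact hrp (H1.isPGroup_iff_forall_prime.1 R.2 p hp.out h8).symm
  haveI := Sylow.unique_of_normal P hn
  obtain rfl : Q = P := Subsingleton.elim _ _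
  obtain ⟨y, hy⟩ := (Subgroup.isCyclic_iff_exists_zpowers_eq_top R.1).1 h2
  have hc : ∀ {U A : Subgroup G}, U ≤ Q.1 → A ≤ R.1 → U ⊔ A ≠ ⊤ → U ≤ centralizer (A : Set G) :=
    fun hU hA h => commutator_eq_bot_iff_le_centralizer.1
      (H1.commutator_eq_bot_of_isNilpotent_of_coprime (hX.2 _ h) le_sup_left le_sup_right
        (IsPGroup.coprime_card_of_ne q r (Ne.symm hrp) _ _ (Q.2.to_le hU) (R.2.to_le hA)))
  have hd : Q.1 ⊓ R.1 = ⊥ := (IsPGroup.disjoint_of_ne q r (Ne.symm hrp) _ _ Q.2 R.2).eq_bot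
  have h5 : ¬ Q.1 ≤ centralizer (zpowers y : Set G) := fun h5 => by
    rw [hy] at h5
    haveI : R.1.Normal := normalizer_eq_top_iff.1 (eq_top_iff.2 (h4.ge.trans (sup_le le_normalizer
      (h5.trans (centralizer_le_normalizer _)))))
    have := H1.isNilpotent_sup_of_normal R.1 Q.1 R.2.isNilpotent Q.2.isNilpotent
    rw [h4] at this
    exact hX.1 (Group.nilpotent_of_mulEquiv topEquiv)
  refine se_of_min Q.2 hrp (hy ▸ R.2) h5 (fun x hx => ?_) fun U h6 h7 h8 => hc h6 hy.le fun h9 => h8 ?_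
  · have h6 : zpowers (y ^ r) ≤ R.1 := hy ▸ zpowers_le.2 (pow_mem (mem_zpowers y) r)
    refine hc le_rfl h6 (fun h7 => h5 ?_) hx _ (mem_zpowers _)
    have h8 : y ∈ Q.1 ⊔ zpowers (y ^ r) := h7 ▸ mem_top y
    rw [← SetLike.mem_coe, normal_mul] at h8
    obtain ⟨u, hu, t, ht, h8⟩ := h8
    have h9 : u ∈ Q.1 ⊓ R.1 := ⟨hu, (mul_mem_cancel_right (h6 ht)).1 (by
      rw [show u * t = y from h8, ← hy]; exact mem_zpowers y)⟩
    rw [hd, mem_bot] at h9
    simp only [h9, one_mul] at h8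
    rw [h8, SetLike.mem_coe, mem_zpowers_pow_iff] at ht
    obtain ⟨k, hk⟩ := IsPGroup.iff_card.1 (hy ▸ R.2 : IsPGroup r (zpowers y))
    rw [Nat.card_zpowers] at hk
    rw [hk] at ht
    rcases k with _ | k
    · rw [pow_zero, orderOf_eq_one_iff] at hk
      simp [hk]
    · rw [pow_succ', Nat.gcd_mul_right_right] at ht
      exact absurd ht hr.one_lt.ne'
  · refine le_antisymm h6 fun x hx => ?_
    have h10 : x ∈ U ⊔ zpowers y := h9 ▸ mem_top x
    rw [← SetLike.mem_coe, coe_mul_of_right_le_normalizer_left _ _ h7] at h10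
    obtain ⟨u, hu, t, ht, rfl⟩ := h10
    have h11 : t ∈ Q.1 ⊓ R.1 := ⟨(mul_mem_cancel_left (h6 hu)).1 hx, hy.le ht⟩
    rw [hd, mem_bot] at h11
    simpa [h11] using hu

end main

end H21.SX
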