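import Cfsg.Agent.H21.SymSyl

/-! Elements of `S_n` lying in a unique Sylow `2`-subgroup. -/

open Cfsg

namespace H21.US
open Subgroup Equiv Equiv.Perm SemidirectProduct H8 Function
open scoped Pointwise Nat

variable {α β : Type*}

/-- At most two fixed points. -/
def F (x : Perm α) : Prop := ∀ a b c, x a = a → x b = b → x c = c → a = b ∨ a = c ∨ b = c

/-- Nontrivial cycles have different lengths. -/
def D (x : Perm α) : Prop :=
  ∀ a b, x a ≠ a → (∀ i : ℕ, (x ^ i) a = a ↔ (x ^ i) b = b) → ∃ i : ℕ, (x ^ i) a = b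

theorem exists_per [Finite α] (x : Perm α) (a : α) :
    ∃ r, 0 < r ∧ ∀ i : ℕ, (x ^ i) a = a ↔ r ∣ i :=
  ⟨MulAction.period x a, MulAction.period_pos_of_orderOf_pos (orderOf_pos x) a,
    fun _ => MulAction.pow_smul_eq_iff_period_dvd (m := x) (a := a)⟩

section
variable (e : Cp 2 × β ↪ α) (w : Wr (Cp 2) β)

theorem pow_apply (i : ℕ) (c : Cp 2) (b : β) :
    ∃ c', (wrEmb e w ^ i) (e (c, b)) = e (c', (w.right ^ i) b) := by
  rw [← map_pow, wrEmb.apply]
  exact ⟨_, by rw [← rightHom_eq_right, map_pow, rightHom_eq_right]⟩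

theorem pow_shift {i : ℕ} {c c' : Cp 2} {b b' : β}
    (h : (wrEmb e w ^ i) (e (c, b)) = e (c', b')) :
    (wrEmb e w ^ i) (e (t2 * c, b)) = e (t2 * c', b') :=
  wrEmb.shift e (pow_mem (MonoidHom.mem_range.2 ⟨w, rfl⟩) i) h t2

variable {e w}

theorem typeS (hD : D (wrEmb e w)) {c : Cp 2} {b : β} (h : wrEmb e w (e (c, b)) ≠ e (c, b)) {r : ℕ}
    (hr : ∀ i : ℕ, (w.right ^ i) b = b ↔ r ∣ i) :
    (wrEmb e w ^ r) (e (c, b)) = e (t2 * c, b) ∧
      ∀ i : ℕ, (wrEmb e w ^ i) (e (c, b)) = e (c, b) ↔ 2 * r ∣ i := by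
  have h0 : ∀ {i c'}, (wrEmb e w ^ i) (e (c, b)) = e (c', b) → r ∣ i := fun {i c'} hi => by
    obtain ⟨k, hk⟩ := pow_apply e w i c b
    rw [hk] at hi
    exact (hr i).1 (Prod.mk.inj (e.injective hi)).2
  have h1 : (wrEmb e w ^ r) (e (c, b)) = e (t2 * c, b) := by
    obtain ⟨k, hk⟩ := pow_apply e w r c b
    rw [(hr r).2 dvd_rfl] at hk
    rcases t2_cases c k with rfl | rfl
    · obtain ⟨i, hi⟩ := hD _ (e (t2 * k, b)) h fun i => ⟨pow_shift e w, fun h' => by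
        simpa only [t2_t2] using pow_shift e w h'⟩
      obtain ⟨j, rfl⟩ := h0 hi
      rw [pow_mul, pow_apply_eq_self_of_apply_eq_self hk] at hi
      exact (t2_mul_ne k (Prod.mk.inj (e.injective hi)).1.symm).elim
    · exact hk
  have h2 : (wrEmb e w ^ (2 * r)) (e (c, b)) = e (c, b) := by
    rw [two_mul, pow_add, Perm.mul_apply, h1, pow_shift e w h1, t2_t2]
  refine ⟨h1, fun i => ⟨fun hi => ?_, ?_⟩⟩
  · obtain ⟨j, rfl⟩ := h0 hi
    rcases Nat.even_or_odd' j with ⟨k, rfl | rfl⟩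
    · exact ⟨k, by ring⟩
    · rw [show r * (2 * k + 1) = r + 2 * r * k by ring, pow_add, Perm.mul_apply, pow_mul,
        pow_apply_eq_self_of_apply_eq_self h2, h1] at hi
      exact (t2_mul_ne c (Prod.mk.inj (e.injective hi)).1).elim
  · rintro ⟨k, rfl⟩
    rw [pow_mul, pow_apply_eq_self_of_apply_eq_self h2]

theorem sc (hD : D (wrEmb e w)) {b b' : β} (h : wrEmb e w (e (1, b)) ≠ e (1, b))
    (h' : wrEmb e w (e (1, b')) ≠ e (1, b')) {r : ℕ} (hr : ∀ i : ℕ, (w.right ^ i) b = b ↔ r ∣ i)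
    (hr' : ∀ i : ℕ, (w.right ^ i) b' = b' ↔ r ∣ i) : ∃ i : ℕ, (w.right ^ i) b = b' := by
  obtain ⟨i, hi⟩ := hD _ (e (1, b')) h fun i => by rw [(typeS hD h hr).2, (typeS hD h' hr').2]
  obtain ⟨k, hk⟩ := pow_apply e w i 1 b
  rw [hk] at hi
  exact ⟨i, (Prod.mk.inj (e.injective hi)).2⟩

theorem moved {b : β} (h : w.right b ≠ b) : wrEmb e w (e (1, b)) ≠ e (1, b) := fun h' => by
  rw [wrEmb.apply] at h'
  exact h (Prod.mk.inj (e.injective h')).2

theorem D_right [Finite β] (hD : D (wrEmb e w)) : D w.right := fun a b ha h => by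
  obtain ⟨r, -, hr⟩ := exists_per w.right a
  refine sc hD (moved ha) (moved fun hb => ha ?_) hr fun i => (h i).symm.trans (hr i)
  simpa using (h 1).2 (by simpa using hb)

theorem F_right (hF : F (wrEmb e w)) (hD : D (wrEmb e w)) : F w.right := by
  have h1 : ∀ a b, w.right a = a → w.right b = b →
      (wrEmb e w (e (1, a)) = e (1, a) ↔ wrEmb e w (e (1, b)) = e (1, b)) → a = b := by
    intro a b ha hb h
    by_cases h2 : wrEmb e w (e (1, a)) = e (1, a)
    · have h3 := wrEmb.shift e ⟨w, rfl⟩ h2 t2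
      rcases hF _ _ _ h2 h3 (h.1 h2) with h4 | h4 | h4
      · exact (t2_mul_ne 1 (Prod.mk.inj (e.injective h4)).1.symm).elim
      · exact (Prod.mk.inj (e.injective h4)).2
      · exact (Prod.mk.inj (e.injective h4)).2
    · obtain ⟨i, hi⟩ := sc hD h2 (fun h3 => h2 (h.2 h3)) (r := 1)
        (fun i => by simp [pow_apply_eq_self_of_apply_eq_self ha])
        (fun i => by simp [pow_apply_eq_self_of_apply_eq_self hb])
      rwa [pow_apply_eq_self_of_apply_eq_self ha] at hi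
  intro a b c ha hb hc
  have h2 := h1 a b ha hb
  have h3 := h1 a c ha hc
  have h4 := h1 b c hb hc
  tauto

end

variable [Fintype α] [DecidableEq α]

theorem pair_eq [Fintype β] (hβ : Fintype.card β = Fintype.card α / 2) {e e' : Cp 2 × β ↪ α}
    {w w' : Wr (Cp 2) β} (h : wrEmb e w = wrEmb e' w') (hF : F (wrEmb e w)) (hD : D (wrEmb e w))
    (c : Cp 2) (b : β) : ∃ c' b', e (c, b) = e' (c', b') ∧ e (t2 * c, b) = e' (t2 * c', b') := by
  by_cases h1 : wrEmb e w (e (c, b)) = e (c, b)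
  · have h2 := wrEmb.shift e ⟨w, rfl⟩ h1 t2
    have h3 : e (c, b) ≠ e (t2 * c, b) := fun h4 =>
      t2_mul_ne c (Prod.mk.inj (e.injective h4)).1.symm
    have h4 : e (c, b) ∈ Set.range e' := by
      by_contra h4
      have h5 : (Set.range e)ᶜ.ncard ≠ 0 := by
        rw [card_compl_range e hβ, ← card_compl_range e' hβ]
        exact Set.ncard_ne_zero_of_mem (a := e (c, b)) h4
      obtain ⟨z, hz⟩ := Set.nonempty_of_ncard_ne_zero h5
      rcases hF _ _ _ h1 h2 (wrEmb.apply_of_notMem e w hz) with h6 | h6 | h6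
      · exact h3 h6
      · exact hz ⟨_, h6⟩
      · exact hz ⟨_, h6⟩
    obtain ⟨⟨c', b'⟩, h5⟩ := h4
    refine ⟨c', b', h5.symm, ?_⟩
    have h6 : wrEmb e w (e' (t2 * c', b')) = e' (t2 * c', b') :=
      wrEmb.shift e' ⟨w', h.symm⟩ (by rw [h5, h1]) t2
    rcases hF _ _ _ h1 h2 h6 with h7 | h7 | h7
    · exact (h3 h7).elim
    · exact (t2_mul_ne c' (Prod.mk.inj (e'.injective (h5.trans h7))).1.symm).elim
    · exact h7
  · have h4 : e (c, b) ∈ Set.range e' := by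
      by_contra h4
      exact h1 (by rw [h, wrEmb.apply_of_notMem e' w' h4])
    obtain ⟨⟨c', b'⟩, h5⟩ := h4
    refine ⟨c', b', h5.symm, ?_⟩
    obtain ⟨r, hr0, hr⟩ := exists_per w.right b
    obtain ⟨r', hr0', hr'⟩ := exists_per w'.right b'
    obtain ⟨h6, h7⟩ := typeS hD h1 hr
    rw [← h5, h] at h1
    obtain ⟨h8, h9⟩ := typeS (h ▸ hD) h1 hr'
    rw [← h, h5] at h8 h9
    have : 2 * r = 2 * r' := Nat.dvd_antisymm ((h7 _).1 ((h9 _).2 dvd_rfl)) ((h9 _).1 ((h7 _).2 dvd_rfl))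
    rw [← h6, ← h8, show r = r' by omega]

theorem unique_step (ih : ∀ y : Perm (Fin (Fintype.card α / 2)), F y → D y →
      ∀ P Q : Sylow 2 (Perm (Fin (Fintype.card α / 2))), y ∈ P.1 → y ∈ Q.1 → P = Q)
    (x : Perm α) (hF : F x) (hD : D x) (P Q : Sylow 2 (Perm α)) (hP : x ∈ P.1) (hQ : x ∈ Q.1) :
    P = Q := by
  obtain ⟨e, R, h1⟩ := exists_wr P
  obtain ⟨e', R', h2⟩ := exists_wr Q
  rw [h1] at hP
  obtain ⟨w, hw, rfl⟩ := hP
  have hQ' := hQ
  rw [h2] at hQ'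
  obtain ⟨w', -, h⟩ := hQ'
  have h3 : Q.1 ≤ (wrEmb e).range := by
    rw [h2]
    rintro _ ⟨g, -, rfl⟩
    refine mem_range_two e (Fintype.card_fin _) fun b => ?_
    obtain ⟨c', b', h4, h5⟩ := pair_eq (Fintype.card_fin _) h.symm hF hD 1 b
    rw [mul_one] at h5
    obtain ⟨c, a, h6, h7⟩ := pair_eq (Fintype.card_fin _) h (h ▸ hF) (h ▸ hD)
      (g.left (g.right b') * c') (g.right b')
    refine ⟨c, a, by rw [h4, wrEmb.apply, h6], ?_⟩
    rw [h5, wrEmb.apply, ← h7, mul_left_comm]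
  obtain ⟨T, hT⟩ := (((Q.2.comap_of_injective (wrEmb e) (wrEmb.inj e))).map rightHom).exists_le_sylow
  have h4 : Q.1 ≤ (T.1.comap rightHom).map (wrEmb e) := fun g hg => by
    obtain ⟨u, rfl⟩ := h3 hg
    exact ⟨u, hT ⟨u, hg, rfl⟩, rfl⟩
  have h5 := Q.3 (wrEmb.isPGroup e T.2) h4
  have h6 := ih w.right (F_right hF hD) (D_right hD) R T hw (hT ⟨w, hQ, rfl⟩)
  ext1
  rw [h1, h6, h5]

theorem unique_fin (n : ℕ) : ∀ x : Perm (Fin n), F x → D x →
    ∀ P Q : Sylow 2 (Perm (Fin n)), x ∈ P.1 → x ∈ Q.1 → P = Q := by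
  induction n using Nat.strong_induction_on with
  | _ n ih =>
  rcases Nat.eq_zero_or_pos n with rfl | hn
  · exact fun _ _ _ P Q _ _ => Sylow.ext (Subsingleton.elim _ _)
  · exact unique_step (ih _ (by rw [Fintype.card_fin]; omega))

omit [Fintype α] in
theorem swap_pgroup {x : Perm α} (hx : IsPGroup 2 (zpowers x)) {a b : α}
    (h1 : ∀ i : ℤ, (x ^ i) a = a ↔ (x ^ i) b = b) (h2 : ∀ i : ℤ, (x ^ i) a ≠ b) :
    ∃ R : Subgroup (Perm α), IsPGroup 2 R ∧ x ∈ R ∧ swap a b ∈ R := by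
  let S : Set (Perm α) := Set.range fun i : ℤ => swap ((x ^ i) a) ((x ^ i) b)
  have h3 : ∀ (i j : ℤ) (u v : α), (x ^ i) u = (x ^ j) v ↔ (x ^ (-j + i)) u = v := fun i j u v => by
    rw [zpow_add, Perm.mul_apply, zpow_neg, Perm.inv_eq_iff_eq]
  have hS : ∀ s ∈ S, ∀ t ∈ S, s * t = t * s := by
    rintro _ ⟨i, rfl⟩ _ ⟨j, rfl⟩
    by_cases h : (x ^ i) a = (x ^ j) a
    · simp only
      rw [h, (h3 i j b b).2 ((h1 _).1 ((h3 i j a a).1 h))]
    · have h4 : (x ^ i) b ≠ (x ^ j) b := fun h' => h ((h3 i j a a).2 ((h1 _).2 ((h3 i j b b).1 h')))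
      have h5 : (x ^ i) a ≠ (x ^ j) b := fun h' => h2 _ ((h3 _ _ _ _).1 h')
      have h6 : (x ^ j) a ≠ (x ^ i) b := fun h' => h2 _ ((h3 _ _ _ _).1 h')
      simp only
      rw [mul_swap_eq_swap_mul, swap_apply_of_ne_of_ne (Ne.symm h) h6,
        swap_apply_of_ne_of_ne h5.symm h4.symm]
  have hE : IsPGroup 2 (closure S) := by
    rintro ⟨g, hg⟩
    refine ⟨1, Subtype.ext ?_⟩
    change g ^ 2 ^ 1 = 1
    rw [pow_one]
    induction hg using closure_induction with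
    | mem s hs => obtain ⟨i, rfl⟩ := hs; rw [pow_two, swap_mul_self]
    | one => simp
    | mul s t hs ht h h' =>
      have : Commute s t := by
        haveI := Subgroup.isMulCommutative_closure hS
        exact setLike_mul_comm hs ht
      rw [this.mul_pow, h, h', one_mul]
    | inv s hs h => rw [inv_pow, h, inv_one]
  refine ⟨closure S ⊔ zpowers x, hE.to_sup_of_normal_left' hx ?_,
    mem_sup_right (mem_zpowers x), mem_sup_left (subset_closure ⟨0, by simp⟩)⟩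
  refine le_trans ?_ (Subgroup.normalizer_le_normalizer_closure S)
  rintro _ ⟨k, rfl⟩ s
  constructor
  · rintro ⟨i, rfl⟩
    exact ⟨k + i, by simp only [zpow_add, Perm.mul_apply, swap_apply_apply]⟩
  · rintro ⟨i, hi⟩
    refine ⟨-k + i, ?_⟩
    simp only [zpow_add, Perm.mul_apply, swap_apply_apply (x ^ (-k))] at hi ⊢
    rw [hi]
    group

theorem not_unique {x : Perm α} (hx : IsPGroup 2 (zpowers x)) {P : Sylow 2 (Perm α)}
    (hP : ∀ Q : Sylow 2 (Perm α), x ∈ Q → Q = P) {a b c : α} (hbc : b ≠ c)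
    (h1 : ∀ i : ℤ, (x ^ i) a = a ↔ (x ^ i) b = b) (h2 : ∀ i : ℤ, (x ^ i) a ≠ b)
    (h3 : ∀ i : ℤ, (x ^ i) a = a ↔ (x ^ i) c = c) (h4 : ∀ i : ℤ, (x ^ i) a ≠ c) : False := by
  have key : ∀ b, (∀ i : ℤ, (x ^ i) a = a ↔ (x ^ i) b = b) → (∀ i : ℤ, (x ^ i) a ≠ b) →
      swap a b ∈ P.1 := fun b h1 h2 => by
    obtain ⟨R, h5, h6, h7⟩ := swap_pgroup hx h1 h2
    obtain ⟨Q, hQ⟩ := h5.exists_le_sylow
    exact hP Q (hQ h6) ▸ hQ h7
  obtain ⟨k, hk⟩ := IsPGroup.iff_orderOf.1 P.2 ⟨_, mul_mem (key b h1 h2) (key c h3 h4)⟩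
  rw [orderOf_mk, (isThreeCycle_swap_mul_swap_same (a := a) (h2 0) (h4 0) hbc).orderOf] at hk
  have := (Nat.Prime.pow_eq_iff Nat.prime_three).1 hk.symm
  omega

theorem F_iff {x : Perm α} : F x ↔ Fintype.card α ≤ x.support.card + 2 := by
  have h := Finset.card_add_card_compl x.support
  rw [← h, add_le_add_iff_left, ← not_lt, Finset.two_lt_card]
  simp only [Finset.mem_compl, Perm.notMem_support, F]
  constructor
  · rintro h ⟨a, ha, b, hb, c, hc, h1⟩
    have := h a b c ha hb hc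
    tauto
  · intro h a b c ha hb hc
    by_contra h1
    exact h ⟨a, ha, b, hb, c, hc, by tauto⟩

theorem pow_iff {x : Perm α} {a : α} (h : x a ≠ a) (i : ℕ) :
    (x ^ i) a = a ↔ (x.cycleOf a).support.card ∣ i :=
  (isCycleOn_support_cycleOf x a).pow_apply_eq ((mem_support_cycleOf_iff' h).2 (SameCycle.refl _ _))

theorem D_iff {x : Perm α} : D x ↔ x.cycleType.Nodup := by
  rw [cycleType_def, Multiset.nodup_map_iff_inj_on x.cycleFactorsFinset.nodup]
  constructor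
  · intro h c hc d hd hcd
    obtain ⟨a, ha⟩ := (mem_cycleFactorsFinset_iff.1 hc).1.nonempty_support
    obtain ⟨b, hb⟩ := (mem_cycleFactorsFinset_iff.1 hd).1.nonempty_support
    obtain rfl := cycle_is_cycleOf ha hc
    obtain rfl := cycle_is_cycleOf hb hd
    have h1 := mem_support.1 (cycleOf_mem_cycleFactorsFinset_iff.1 hc)
    have h2 := mem_support.1 (cycleOf_mem_cycleFactorsFinset_iff.1 hd)
    obtain ⟨i, hi⟩ := h a b h1 fun i => by
      rw [pow_iff h1, pow_iff h2]; exact Iff.of_eq (congrArg (· ∣ i) hcd)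
    exact SameCycle.cycleOf_eq ⟨i, by simpa using hi⟩
  · intro h a b ha hab
    have hb : x b ≠ b := fun hb => ha (by simpa using (hab 1).2 (by simpa using hb))
    have h1 := h _ (cycleOf_mem_cycleFactorsFinset_iff.2 (mem_support.2 ha)) _
      (cycleOf_mem_cycleFactorsFinset_iff.2 (mem_support.2 hb)) (Nat.dvd_antisymm
        ((pow_iff ha _).1 ((hab _).2 ((pow_iff hb _).2 dvd_rfl)))
        ((pow_iff hb _).1 ((hab _).1 ((pow_iff ha _).2 dvd_rfl))))
    obtain ⟨i, -, hi⟩ := ((sameCycle_iff_cycleOf_eq_of_mem_support (mem_support.2 ha)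
      (mem_support.2 hb)).2 h1).exists_pow_eq'
    exact ⟨i, hi⟩

theorem FD_of_unique {x : Perm α} (hx : IsPGroup 2 (zpowers x)) {P : Sylow 2 (Perm α)}
    (hP : ∀ Q : Sylow 2 (Perm α), x ∈ Q → Q = P) : F x ∧ D x := by
  constructor
  · intro a b c ha hb hc
    by_contra h
    refine not_unique hx hP (a := a) (b := b) (c := c) (by tauto) (fun i => ?_) (fun i => ?_)
      (fun i => ?_) (fun i => ?_) <;>
    simp only [zpow_apply_eq_self_of_apply_eq_self ha, zpow_apply_eq_self_of_apply_eq_self hb,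
      zpow_apply_eq_self_of_apply_eq_self hc] <;> tauto
  · intro a b ha hab
    by_contra h
    have hb : x b ≠ b := fun hb => ha (by simpa using (hab 1).2 (by simpa using hb))
    have h1 : ∀ i : ℤ, ∃ j : ℕ, x ^ i = x ^ j := fun i =>
      ⟨(i % orderOf x).toNat, by
        rw [← zpow_natCast, Int.toNat_of_nonneg (Int.emod_nonneg _ (by
          exact_mod_cast (orderOf_pos x).ne')), zpow_mod_orderOf]⟩
    have h2 : ∀ i : ℤ, (x ^ i) a ≠ b := fun i hi => by
      obtain ⟨j, hj⟩ := h1 i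
      exact h ⟨j, hj ▸ hi⟩
    have h3 : ∀ i : ℤ, (x ^ i) a = a ↔ (x ^ i) b = b := fun i => by
      obtain ⟨j, hj⟩ := h1 i
      rw [hj, hab]
    refine not_unique hx hP (a := a) (b := b) (c := x b) hb.symm h3 h2 (fun i => ?_) fun i hi => ?_
    · rw [h3, ← Perm.mul_apply (x ^ i) x, ← (Commute.self_zpow x i).eq, Perm.mul_apply,
        x.injective.eq_iff]
    · exact h2 (-1 + i) (by rw [zpow_add, Perm.mul_apply, hi]; simp)

end H21.US
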