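import Cfsg.Agent.H21.SymSyl3
import Cfsg.Agent.H1.Fitting
import Cfsg.Prelude.Def_TwoFusion

/-! Direct decompositions of the Sylow `2`-subgroups of the alternating groups. -/

open Cfsg

namespace H21.DS
open Subgroup Equiv Equiv.Perm SemidirectProduct H8 Function MulAction
open scoped Pointwise Nat

/-- `R` is a direct product of two nontrivial subgroups. -/
def Dec {G : Type*} [Group G] (R : Subgroup G) : Prop :=
  ∃ S₁ S₂ : Subgroup G, S₁ ≠ ⊥ ∧ S₂ ≠ ⊥ ∧ IsInternalDirectProduct S₁ S₂ R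

section general
variable {G H : Type*} [Group G] [Group H]

theorem dec_map {f : G →* H} (hf : Injective f) {R : Subgroup G} : Dec (R.map f) ↔ Dec R := by
  constructor
  · rintro ⟨S, T, h1, h2, h3, h4, h5, h6, h7⟩
    have h8 : S ≤ f.range := h3.trans (map_le_range f R)
    have h9 : T ≤ f.range := h4.trans (map_le_range f R)
    refine ⟨S.comap f, T.comap f, fun h => h1 ?_, fun h => h2 ?_, ?_, ?_, fun a ha b hb => hf ?_, ?_, ?_⟩
    · rw [← map_comap_eq_self h8, h, Subgroup.map_bot]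
    · rw [← map_comap_eq_self h9, h, Subgroup.map_bot]
    · exact (comap_mono h3).trans (comap_map_eq_self_of_injective hf R).le
    · exact (comap_mono h4).trans (comap_map_eq_self_of_injective hf R).le
    · rw [map_mul, map_mul, h5 _ ha _ hb]
    · rw [← comap_inf, h6, MonoidHom.comap_bot, (MonoidHom.ker_eq_bot_iff f).2 hf]
    · rw [comap_sup_eq_of_le_range f h8 h9, h7, comap_map_eq_self_of_injective hf]
  · rintro ⟨S, T, h1, h2, h3, h4, h5, h6, h7⟩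
    refine ⟨S.map f, T.map f, fun h => h1 ((map_eq_bot_iff_of_injective _ hf).1 h),
      fun h => h2 ((map_eq_bot_iff_of_injective _ hf).1 h), map_mono h3, map_mono h4, ?_, ?_, ?_⟩
    · rintro _ ⟨a, ha, rfl⟩ _ ⟨b, hb, rfl⟩
      rw [← map_mul, h5 a ha b hb, map_mul]
    · rw [← map_inf _ _ _ hf, h6, Subgroup.map_bot]
    · rw [← Subgroup.map_sup, h7]

theorem dec_klein [IsKleinFour G] : Dec (⊤ : Subgroup G) := by
  haveI : Finite G := Nat.finite_of_card_ne_zero (by rw [IsKleinFour.card_four]; norm_num)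
  haveI : Nontrivial G := Finite.one_lt_card_iff_nontrivial.1 (by rw [IsKleinFour.card_four]; norm_num)
  have h0 : ∀ x : G, x ≠ 1 → Nat.card (zpowers x) = 2 := fun x hx => by
    rw [Nat.card_zpowers]
    exact orderOf_eq_prime (by rw [pow_two, IsKleinFour.mul_self]) hx
  obtain ⟨x, hx⟩ := exists_ne (1 : G)
  obtain ⟨y, hy⟩ : ∃ y, y ∉ zpowers x := by
    by_contra! h
    have := h0 x hx
    rw [(eq_top_iff' _).2 h, card_top, IsKleinFour.card_four] at this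
    omega
  have hy1 : y ≠ 1 := fun h => hy (h ▸ one_mem _)
  refine ⟨zpowers x, zpowers y, by simpa using hx, by simpa using hy1, le_top, le_top,
    fun a _ b _ => mul_comm_of_exponent_two IsKleinFour.exponent_two a b, ?_, ?_⟩
  · by_contra h
    have h1 := card_le_of_le (inf_le_right : zpowers x ⊓ zpowers y ≤ _)
    have h2 := (one_lt_card_iff_ne_bot _).2 h
    have h3 := eq_of_le_of_card_ge (inf_le_right : zpowers x ⊓ zpowers y ≤ _) (by rw [h0 y hy1]; omega)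
    exact hy (h3.ge (mem_zpowers y)).1
  · have h1 := card_subgroup_dvd_card (zpowers x ⊔ zpowers y)
    have h2 : 2 < Nat.card (zpowers x ⊔ zpowers y : Subgroup G) := by
      by_contra h
      have := eq_of_le_of_card_ge (le_sup_left : zpowers x ≤ zpowers x ⊔ zpowers y)
        (by rw [h0 x hx]; omega)
      exact hy (this.ge (mem_sup_right (mem_zpowers y)))
    rw [← card_eq_iff_eq_top, IsKleinFour.card_four (G := G)]
    rw [IsKleinFour.card_four (G := G)] at h1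
    have := Nat.le_of_dvd (by norm_num) h1
    generalize Nat.card (zpowers x ⊔ zpowers y : Subgroup G) = m at *
    interval_cases m <;> omega

theorem cent_of [Finite G] {R M : Subgroup G} (hR : IsPGroup 2 R) (h : M ≤ R)
    (hn : ∀ r ∈ R, ∀ m ∈ M, r * m * r⁻¹ ∈ M) (hM : M ≠ ⊥) :
    ∃ c ∈ M, c ≠ 1 ∧ ∀ r ∈ R, r * c = c * r := by
  have := H1.inf_centralizer_ne_bot_of_isPGroup hR (hR.to_le h)
    (fun r hr => mem_normalizer_fintype (hn r hr)) hM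
  obtain ⟨⟨c, h1, h2⟩, h3⟩ := ne_bot_iff_exists_ne_one.1 this
  exact ⟨c, h1, fun h => h3 (Subtype.ext h), h2⟩

theorem idp_symm {S T R : Subgroup G} (h : IsInternalDirectProduct S T R) :
    IsInternalDirectProduct T S R :=
  ⟨h.2.1, h.1, fun a ha b hb => (h.2.2.1 b hb a ha).symm, inf_comm S T ▸ h.2.2.2.1,
    sup_comm S T ▸ h.2.2.2.2⟩

theorem idp_exists {S T R : Subgroup G} (h : IsInternalDirectProduct S T R) {r : G} (hr : r ∈ R) :
    ∃ s ∈ S, ∃ t ∈ T, s * t = r := by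
  rw [← h.2.2.2.2, ← SetLike.mem_coe, coe_mul_of_left_le_normalizer_right] at hr
  · exact hr
  · intro s hs t
    have := h.2.2.1 s hs
    constructor
    · intro ht
      rwa [this t ht, mul_inv_cancel_right]
    · intro ht
      have h1 := this _ ht
      rw [inv_mul_cancel_right, mul_right_inj] at h1
      exact h1 ▸ ht

theorem idp_norm {S T R : Subgroup G} (h : IsInternalDirectProduct S T R) :
    ∀ r ∈ R, ∀ m ∈ S, r * m * r⁻¹ ∈ S := fun r hr m hm => by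
  obtain ⟨s, hs, t, ht, rfl⟩ := idp_exists h hr
  have : s * t * m * (s * t)⁻¹ = s * m * s⁻¹ := by
    rw [mul_assoc s t m, ← h.2.2.1 m hm t ht]; group
  rw [this]
  exact mul_mem (mul_mem hs hm) (inv_mem hs)

end general

variable {α β : Type*} [Fintype α] [DecidableEq α]

/-- `h` is the restriction of `g` to `s`. -/
def Res (s : Set α) (g h : Perm α) : Prop := (∀ x ∈ s, h x = g x) ∧ ∀ x ∉ s, h x = x

theorem exists_res {p : ℕ} [Fact p.Prime] (P : Sylow p (Perm α)) {s : Set α}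
    (hs : ∀ g ∈ P.1, ∀ x, g x ∈ s ↔ x ∈ s) {g : Perm α} (hg : g ∈ P.1) : ∃ h ∈ P.1, Res s g h := by
  classical
  let H : Subgroup (Perm α) :=
    { carrier := {u | ∃ a ∈ P.1, ∃ b ∈ P.1, (∀ x ∈ s, u x = a x) ∧ ∀ x ∉ s, u x = b x}
      one_mem' := ⟨1, one_mem _, 1, one_mem _, fun _ _ => rfl, fun _ _ => rfl⟩
      mul_mem' := by
        rintro u v ⟨a, ha, b, hb, h1, h2⟩ ⟨c, hc, d, hd, h3, h4⟩
        refine ⟨_, mul_mem ha hc, _, mul_mem hb hd, fun x hx => ?_, fun x hx => ?_⟩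
        · rw [Perm.mul_apply, h3 x hx, h1 _ ((hs c hc x).2 hx), Perm.mul_apply]
        · rw [Perm.mul_apply, h4 x hx, h2 _ fun h => hx ((hs d hd x).1 h), Perm.mul_apply]
      inv_mem' := by
        rintro u ⟨a, ha, b, hb, h1, h2⟩
        refine ⟨_, inv_mem ha, _, inv_mem hb, fun x hx => ?_, fun x hx => ?_⟩
        · rw [Perm.inv_eq_iff_eq, h1 _ ((hs _ (inv_mem ha) x).2 hx)]; simp
        · rw [Perm.inv_eq_iff_eq, h2 _ fun h => hx ((hs _ (inv_mem hb) x).1 h)]; simp }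
  have h1 : IsPGroup p H := by
    rintro ⟨u, a, ha, b, hb, h1, h2⟩
    obtain ⟨i, hi⟩ := P.2 ⟨a, ha⟩
    obtain ⟨j, hj⟩ := P.2 ⟨b, hb⟩
    have hi' : a ^ p ^ (i + j) = 1 := by
      rw [pow_add, pow_mul, show a ^ p ^ i = 1 from congrArg Subtype.val hi, one_pow]
    have hj' : b ^ p ^ (i + j) = 1 := by
      rw [pow_add, mul_comm, pow_mul, show b ^ p ^ j = 1 from congrArg Subtype.val hj, one_pow]
    have h3 : ∀ n : ℕ, (∀ x ∈ s, (u ^ n) x = (a ^ n) x) ∧ ∀ x ∉ s, (u ^ n) x = (b ^ n) x := by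
      intro n
      induction n with
      | zero => simp
      | succ n ih =>
        refine ⟨fun x hx => ?_, fun x hx => ?_⟩
        · rw [pow_succ, pow_succ, Perm.mul_apply, Perm.mul_apply, h1 x hx, ih.1 _ ((hs a ha x).2 hx)]
        · rw [pow_succ, pow_succ, Perm.mul_apply, Perm.mul_apply, h2 x hx,
            ih.2 _ fun h => hx ((hs b hb x).1 h)]
    refine ⟨i + j, Subtype.ext (Equiv.ext fun x => ?_)⟩
    change (u ^ p ^ (i + j)) x = x
    by_cases hx : x ∈ s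
    · rw [(h3 _).1 x hx, hi']; rfl
    · rw [(h3 _).2 x hx, hj']; rfl
  have h2 := P.3 h1 fun u hu => ⟨u, hu, u, hu, fun _ _ => rfl, fun _ _ => rfl⟩
  have h3 : Res s g (ofSubtype (g.subtypePerm (p := (· ∈ s)) (hs g hg))) :=
    ⟨fun x hx => ofSubtype_subtypePerm_of_mem _ hx, fun x hx => ofSubtype_subtypePerm_of_not_mem _ hx⟩
  exact ⟨_, h2.le ⟨g, hg, 1, one_mem _, h3.1, h3.2⟩, h3⟩

omit [Fintype α] [DecidableEq α] in
theorem orbit_inv (P : Subgroup (Perm α)) (y : α) : ∀ g ∈ P, ∀ x, g x ∈ orbit P y ↔ x ∈ orbit P y :=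
  fun g hg x => ⟨fun h => by simpa [Subgroup.smul_def] using mem_orbit_of_mem_orbit (⟨g, hg⟩⁻¹ : P) h,
    mem_orbit_of_mem_orbit (⟨g, hg⟩ : P)⟩

theorem mem_of_res {p : ℕ} [Fact p.Prime] (P : Sylow p (Perm α)) (H : Subgroup (Perm α)) :
    ∀ (n : ℕ) (g : Perm α), g.support.card = n → g ∈ P.1 →
      (∀ x, g x ≠ x → ∀ h ∈ P.1, Res (orbit P.1 x) g h → h ∈ H) → g ∈ H := by
  intro n
  induction n using Nat.strong_induction_on with
  | _ n ih =>
  intro g hn hg h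
  by_cases h1 : g = 1
  · exact h1 ▸ one_mem H
  obtain ⟨x, hx⟩ : ∃ x, g x ≠ x := by
    by_contra! h2
    exact h1 (Equiv.ext h2)
  obtain ⟨u, hu, h2⟩ := exists_res P (orbit_inv P.1 x) hg
  have h3 : ∀ y ∈ orbit P.1 x, (u⁻¹ * g) y = y := fun y hy => by
    rw [Perm.mul_apply, ← h2.1 y hy]; simp
  have h4 : ∀ y ∉ orbit P.1 x, (u⁻¹ * g) y = g y := fun y hy => by
    rw [Perm.mul_apply, Perm.inv_eq_iff_eq, h2.2 _ fun h => hy ((orbit_inv P.1 x g hg y).1 h)]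
  have h5 := ih _ ?_ (u⁻¹ * g) rfl (mul_mem (inv_mem hu) hg) fun y hy v hv h6 => ?_
  · simpa using mul_mem (h x hx u hu h2) h5
  · rw [← hn]
    refine Finset.card_lt_card ⟨fun y hy => ?_, fun h => ?_⟩
    · rw [Perm.mem_support] at hy ⊢
      rwa [← h4 y fun h => hy (h3 y h)]
    · exact Perm.mem_support.1 (h (Perm.mem_support.2 hx)) (h3 x (mem_orbit_self x))
  · have h7 : y ∉ orbit P.1 x := fun h => hy (h3 y h)
    refine h y (by rwa [← h4 y h7]) v hv ⟨fun z hz => ?_, h6.2⟩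
    rw [h6.1 z hz, h4 z fun h => h7 (orbit_eq_iff.1 ((orbit_eq_iff.2 hz).symm.trans (orbit_eq_iff.2 h)))]

/-- The setting: a Sylow `2`-subgroup with its pairing. -/
structure St (P : Sylow 2 (Perm α)) (e : Cp 2 × β ↪ α) : Prop where
  le : P.1 ≤ (wrEmb e).range
  tau : ∀ b, tau e b ∈ P.1
  three : ∀ a b : β, ∃ c, c ≠ a ∧ c ≠ b

/-- The even elements of `P`. -/
abbrev R (P : Sylow 2 (Perm α)) : Subgroup (Perm α) := P.1 ⊓ alternatingGroup α

/-- The even elements of `P` supported on the orbit of `x`. -/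
def K (P : Sylow 2 (Perm α)) (x : α) : Subgroup (Perm α) :=
  R P ⊓ fixingSubgroup (Perm α) (orbit P.1 x)ᶜ

theorem mem_K {P : Sylow 2 (Perm α)} {x : α} {g : Perm α} :
    g ∈ K P x ↔ g ∈ R P ∧ ∀ y ∉ orbit P.1 x, g y = y := by
  rw [K, mem_inf, mem_fixingSubgroup_iff]; rfl

theorem K_norm (P : Sylow 2 (Perm α)) (x : α) : ∀ r ∈ R P, ∀ m ∈ K P x, r * m * r⁻¹ ∈ K P x :=
  fun r hr m hm => mem_K.2 ⟨mul_mem (mul_mem hr (mem_K.1 hm).1) (inv_mem hr), fun y hy => by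
    rw [Perm.mul_apply, Perm.mul_apply,
      (mem_K.1 hm).2 _ fun h => hy ((orbit_inv P.1 x _ (inv_mem hr.1) y).1 h)]
    simp⟩

theorem R_pg (P : Sylow 2 (Perm α)) : IsPGroup 2 (R P) := P.2.to_le inf_le_left

theorem sign_cases (g : Perm α) : g ∈ alternatingGroup α ∨ sign g = -1 := by
  rw [mem_alternatingGroup]; exact Int.units_eq_one_or _

theorem exists_moved {g : Perm α} (h : g ≠ 1) : ∃ x, g x ≠ x := by
  by_contra! h2
  exact h (Equiv.ext h2)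

namespace St
variable {P : Sylow 2 (Perm α)} {e : Cp 2 × β ↪ α} (h : St P e)
include h

theorem tt (a b : β) : H21.tau e a * H21.tau e b ∈ R P :=
  ⟨mul_mem (h.tau a) (h.tau b), by simp [mem_alternatingGroup, sign_tau]⟩

theorem mem_range {g : Perm α} (hg : g ∈ P.1) {x : α} (hx : g x ≠ x) : ∃ k b, x = e (k, b) := by
  obtain ⟨w, rfl⟩ := h.le hg
  by_contra h1
  exact hx (wrEmb.apply_of_notMem e w fun ⟨⟨k, b⟩, h2⟩ => h1 ⟨k, b, h2.symm⟩)

theorem base {c : Perm α} (hc : c ∈ P.1) (h1 : ∀ r ∈ R P, r * c = c * r) {k k' : Cp 2} {b b' : β}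
    (h2 : c (e (k, b)) = e (k', b')) : b' = b := by
  by_contra h3
  obtain ⟨a, h4, h5⟩ := h.three b b'
  have h6 := Equiv.congr_fun (h1 _ (h.tt a b)) (e (k, b))
  simp only [Perm.mul_apply] at h6
  rw [h2, tau_apply, tau_apply_ne e h3, tau_apply_ne e h5.symm, tau_apply_ne e h4.symm,
    wrEmb.shift e (h.le hc) h2 t2] at h6
  exact t2_mul_ne k' (Prod.mk.inj (e.injective h6)).1.symm

theorem trans {x y : α} (hy : y ∈ orbit P.1 x) : ∃ r ∈ R P, r x = y := by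
  obtain ⟨⟨g, hg⟩, rfl⟩ := hy
  rcases sign_cases g with h1 | h1
  · exact ⟨g, ⟨hg, h1⟩, rfl⟩
  by_cases h2 : g x = x
  · exact ⟨1, one_mem _, h2.symm⟩
  obtain ⟨k, b, rfl⟩ := h.mem_range hg h2
  obtain ⟨a, h3, -⟩ := h.three b b
  refine ⟨g * H21.tau e a, ⟨mul_mem hg (h.tau a), by simp [mem_alternatingGroup, sign_tau, h1]⟩, ?_⟩
  rw [Perm.mul_apply, tau_apply_ne e h3.symm]; rfl

theorem agree {c d : Perm α} (hc : c ∈ P.1) (hd : d ∈ P.1) (h1 : ∀ r ∈ R P, r * c = c * r)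
    (h2 : ∀ r ∈ R P, r * d = d * r) {x u v : α} (hu : u ∈ orbit P.1 x) (hv : v ∈ orbit P.1 x)
    (h3 : c u ≠ u) (h4 : d v ≠ v) : ∀ y ∈ orbit P.1 x, c y = d y := by
  have key : ∀ {c : Perm α}, c ∈ P.1 → (∀ r ∈ R P, r * c = c * r) → ∀ {u}, u ∈ orbit P.1 x →
      c u ≠ u → ∀ y ∈ orbit P.1 x, c y ≠ y ∧ ∀ k b, y = e (k, b) → c y = e (t2 * k, b) := by
    intro c hc h1 u hu h3 y hy
    obtain ⟨r, hr, rfl⟩ := h.trans (x := u) (y := y) (by rwa [orbit_eq_iff.2 hu])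
    have h5 : c (r u) ≠ r u := by
      rw [← Perm.mul_apply, ← h1 r hr, Perm.mul_apply]
      exact fun h => h3 (r.injective h)
    refine ⟨h5, fun k b h6 => ?_⟩
    rw [h6] at h5 ⊢
    obtain ⟨w, hw⟩ := h.le hc
    have h7 := wrEmb.apply e w k b
    rw [hw] at h7
    rw [h.base hc h1 h7] at h7
    rcases t2_cases k (w.left b * k) with h8 | h8
    · exact (h5 (by rw [h7, h8])).elim
    · rw [h7, h8]
  intro y hy
  obtain ⟨h5, h6⟩ := key hc h1 hu h3 y hy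
  obtain ⟨k, b, h7⟩ := h.mem_range hc h5
  rw [h6 k b h7, (key hd h2 hv h4 y hy).2 k b h7]

theorem pair_mem (k k' : Cp 2) (b : β) : e (k', b) ∈ orbit P.1 (e (k, b)) := by
  rcases t2_cases k k' with rfl | rfl
  · exact mem_orbit_self _
  · exact ⟨⟨_, h.tau b⟩, tau_apply e b k⟩

theorem tau_fix {x : α} {k : Cp 2} {a : β} (h1 : e (k, a) ∉ orbit P.1 x) :
    ∀ y ∈ orbit P.1 x, H21.tau e a y = y := fun y hy =>
  tau_apply_of_ne e fun c hc => h1 (by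
    rw [← orbit_eq_iff.2 hy, hc]; exact h.pair_mem c k a)

theorem tau_fix' {x : α} {k : Cp 2} {a : β} (h1 : e (k, a) ∈ orbit P.1 x) :
    ∀ y ∉ orbit P.1 x, H21.tau e a y = y := fun y hy =>
  tau_apply_of_ne e fun c hc => hy (by
    rw [← orbit_eq_iff.2 h1, hc]; exact h.pair_mem k c a)

section A
variable (hA : ∀ b, ∃ g ∈ P.1, ∃ k b', b' ≠ b ∧ g (e (1, b)) = e (k, b'))
include hA

theorem K_noncentral (k : Cp 2) (b : β) :
    ∃ u ∈ K P (e (k, b)), ¬ ∀ r ∈ R P, r * u = u * r := by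
  obtain ⟨g, hg, k', b', h1, h2⟩ := hA b
  obtain ⟨u, hu, h3⟩ := exists_res P (orbit_inv P.1 (e (k, b))) hg
  rw [← h3.1 _ (h.pair_mem k 1 b)] at h2
  rcases sign_cases u with h4 | h4
  · exact ⟨u, mem_K.2 ⟨⟨hu, h4⟩, h3.2⟩, fun h5 => h1 (h.base hu h5 h2)⟩
  · refine ⟨u * H21.tau e b, mem_K.2 ⟨⟨mul_mem hu (h.tau b), by
      simp [mem_alternatingGroup, sign_tau, h4]⟩, fun y hy => ?_⟩,
      fun h5 => h1 (h.base (mul_mem hu (h.tau b)) h5 (k := t2 * 1) (k' := k') ?_)⟩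
    · rw [Perm.mul_apply, h.tau_fix' (mem_orbit_self _) y hy, h3.2 y hy]
    · rw [Perm.mul_apply, tau_apply, t2_t2, h2]

variable {S T : Subgroup (Perm α)} (hS : IsInternalDirectProduct S T (R P))
include hS

omit h hA in
theorem comm_K {x : α} (h1 : K P x ⊓ S = ⊥) {u s : Perm α} (hu : u ∈ K P x) (hs : s ∈ S) :
    s * u = u * s := by
  have : s * u * s⁻¹ * u⁻¹ ∈ K P x ⊓ S := mem_inf.2 ⟨mul_mem (K_norm P x s (hS.1 hs) u hu) (inv_mem hu), by
    have := idp_norm hS u (mem_K.1 hu).1 _ (inv_mem hs)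
    simpa only [mul_assoc] using mul_mem hs this⟩
  rw [h1, mem_bot, mul_inv_eq_one, mul_inv_eq_iff_eq_mul] at this
  exact this

omit hA in
theorem exists_cent {x : α} (h1 : K P x ⊓ S ≠ ⊥) : ∃ c ∈ K P x, c ∈ S ∧
    (∀ r ∈ R P, r * c = c * r) ∧ ∃ u ∈ orbit P.1 x, c u ≠ u := by
  obtain ⟨c, hc, h2, h3⟩ := cent_of (R_pg P) (inf_le_right.trans hS.1)
    (fun r hr m hm => ⟨K_norm P x r hr m hm.1, idp_norm hS r hr m hm.2⟩) h1
  obtain ⟨u, hu⟩ := exists_moved h2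
  exact ⟨c, hc.1, hc.2, h3, u, by_contra fun h4 => hu ((mem_K.1 hc.1).2 u h4), hu⟩

omit hA in
theorem claim1 (x : α) : K P x ⊓ S = ⊥ ∨ K P x ⊓ T = ⊥ := by
  by_contra! h1
  obtain ⟨c, a1, a2, a3, u, a4, a5⟩ := h.exists_cent hS h1.1
  obtain ⟨d, b1, b2, b3, v, b4, b5⟩ := h.exists_cent (idp_symm hS) h1.2
  have h2 := h.agree (mem_K.1 a1).1.1 (mem_K.1 b1).1.1 a3 b3 a4 b4 a5 b5
  have h3 : c = d := Equiv.ext fun y => by
    by_cases hy : y ∈ orbit P.1 x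
    · exact h2 y hy
    · rw [(mem_K.1 a1).2 y hy, (mem_K.1 b1).2 y hy]
  have h4 : c ∈ S ⊓ T := ⟨a2, h3 ▸ b2⟩
  rw [hS.2.2.2.1, mem_bot] at h4
  exact a5 (by rw [h4]; rfl)

theorem claim4 (k : Cp 2) (b : β) (h1 : K P (e (k, b)) ⊓ S = ⊥) : K P (e (k, b)) ⊓ T ≠ ⊥ := by
  intro h2
  obtain ⟨u, hu, h3⟩ := h.K_noncentral hA k b
  refine h3 fun r hr => ?_
  obtain ⟨s, hs, t, ht, rfl⟩ := idp_exists hS hr
  rw [mul_assoc, comm_K (idp_symm hS) h2 hu ht, ← mul_assoc, comm_K hS h1 hu hs, mul_assoc]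

theorem claim2 {x : α} (h1 : K P x ⊓ S = ⊥) {s g : Perm α} (hs : s ∈ S) (hg : g ∈ P.1)
    (h2 : Res (orbit P.1 x) s g) : g ∈ alternatingGroup α := by
  refine (sign_cases g).resolve_right fun h3 => ?_
  have hI := orbit_inv P.1 x
  have h4 : ∀ u ∈ K P x, u * g = g * u := fun u hu => Equiv.ext fun y => by
    by_cases hy : y ∈ orbit P.1 x
    · rw [Perm.mul_apply, Perm.mul_apply, h2.1 y hy, h2.1 _ ((hI u (mem_K.1 hu).1.1 y).2 hy),
        ← Perm.mul_apply, ← comm_K hS h1 hu hs, Perm.mul_apply]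
    · rw [Perm.mul_apply, Perm.mul_apply, h2.2 y hy, (mem_K.1 hu).2 y hy, h2.2 y hy]
  have h5 : ∀ r ∈ R P, r * g = g * r := fun r hr => by
    obtain ⟨u, hu, h5⟩ := exists_res P hI hr.1
    have h6 : u * g = g * u := by
      rcases sign_cases u with h6 | h6
      · exact h4 u (mem_K.2 ⟨⟨hu, h6⟩, h5.2⟩)
      · have := h4 (u * g) (mem_K.2 ⟨⟨mul_mem hu hg, by simp [mem_alternatingGroup, h6, h3]⟩,
          fun y hy => by rw [Perm.mul_apply, h2.2 y hy, h5.2 y hy]⟩)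
        rwa [← mul_assoc, mul_left_inj] at this
    refine Equiv.ext fun y => ?_
    by_cases hy : y ∈ orbit P.1 x
    · rw [Perm.mul_apply, Perm.mul_apply, ← h5.1 y hy, ← h5.1 _ ((hI g hg y).2 hy),
        ← Perm.mul_apply, h6, Perm.mul_apply]
    · rw [Perm.mul_apply, Perm.mul_apply, h2.2 y hy, h2.2 _ fun h => hy ((hI r hr.1 y).1 h)]
  obtain ⟨y, hy⟩ := exists_moved (g := g) (by rintro rfl; simp at h3)
  have h6 : y ∈ orbit P.1 x := by_contra fun h => hy (h2.2 y h)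
  obtain ⟨k, b, rfl⟩ := h.mem_range hg hy
  have h7 : K P (e (k, b)) = K P x := by rw [K, K, orbit_eq_iff.2 h6]
  obtain ⟨c, a1, -, a3, u, a4, a5⟩ := h.exists_cent (idp_symm hS) (h7 ▸ h.claim4 hA hS k b (h7 ▸ h1))
  have h8 := h.agree (mem_K.1 a1).1.1 hg a3 h5 a4 h6 a5 hy
  have h9 : c = g := Equiv.ext fun y => by
    by_cases hy : y ∈ orbit P.1 x
    · exact h8 y hy
    · rw [(mem_K.1 a1).2 y hy, h2.2 y hy]
  have := mem_alternatingGroup.1 (mem_K.1 a1).1.2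
  rw [h9, h3] at this
  exact absurd this (by decide)

omit hA in
theorem claim5 (hT : T ≠ ⊥) : ∃ k b, K P (e (k, b)) ⊓ S = ⊥ := by
  by_contra! h1
  obtain ⟨c, hc, h2, h3⟩ := cent_of (R_pg P) hS.2.1 (idp_norm (idp_symm hS)) hT
  have h4 := (hS.2.1 hc).1
  have h5 : c ∈ S := mem_of_res P S _ c rfl h4 fun x hx g hg h5 => by
    obtain ⟨k, b, rfl⟩ := h.mem_range h4 hx
    obtain ⟨d, a1, a2, a3, u, a4, a5⟩ := h.exists_cent hS (h1 k b)
    have h6 := h.agree h4 (mem_K.1 a1).1.1 h3 a3 (mem_orbit_self _) a4 hx a5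
    have h7 : g = d := Equiv.ext fun y => by
      by_cases hy : y ∈ orbit P.1 (e (k, b))
      · rw [h5.1 y hy, h6 y hy]
      · rw [(mem_K.1 a1).2 y hy, h5.2 y hy]
    exact h7 ▸ a2
  have h6 : c ∈ S ⊓ T := ⟨h5, hc⟩
  rw [hS.2.2.2.1, mem_bot] at h6
  exact h2 h6

omit hS in
theorem not_dec_A : ¬ Dec (R P) := by
  rintro ⟨S, T, h1, h2, hS⟩
  obtain ⟨k, a, ha⟩ := h.claim5 hS h2
  obtain ⟨l, b, hb⟩ := h.claim5 (idp_symm hS) h1
  obtain ⟨s, hs, t, ht, h3⟩ := idp_exists hS (h.tt b a)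
  have h4 : H21.tau e b * s = H21.tau e a * t⁻¹ := by
    rw [eq_mul_inv_iff_mul_eq, mul_assoc, h3, ← mul_assoc, H21.tau, swap_mul_self, one_mul]
  have h5 := mem_of_res P (alternatingGroup α) _ (H21.tau e b * s) rfl
    (mul_mem (h.tau b) (hS.1 hs).1) fun x _ g hg h5 => by
      rcases h.claim1 hS x with h6 | h6
      · refine h.claim2 hA hS h6 hs hg ⟨fun y hy => ?_, h5.2⟩
        rw [h5.1 y hy, Perm.mul_apply, h.tau_fix (k := l) _ _ ((orbit_inv P.1 x s (hS.1 hs).1 y).2 hy)]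
        intro h7
        refine h.claim4 hA (idp_symm hS) l b hb ?_
        rwa [K, orbit_eq_iff.2 h7]
      · refine h.claim2 hA (idp_symm hS) h6 (inv_mem ht) hg ⟨fun y hy => ?_, h5.2⟩
        rw [h5.1 y hy, h4, Perm.mul_apply,
          h.tau_fix (k := k) _ _ ((orbit_inv P.1 x _ (inv_mem (hS.2.1 ht).1) y).2 hy)]
        intro h7
        refine h.claim4 hA hS k a ha ?_
        rwa [K, orbit_eq_iff.2 h7]
  rw [mem_alternatingGroup, map_mul, sign_tau, mem_alternatingGroup.1 (hS.1 hs).2] at h5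
  exact absurd h5 (by decide)

end A

section B
variable {a₀ : β} (h₀ : ∀ g ∈ P.1, ∃ u, ∀ k, g (e (k, a₀)) = e (u * k, a₀))
include h₀

theorem eq_one {g : Perm α} (hg : g ∈ R P) (h1 : ∀ k b, b ≠ a₀ → g (e (k, b)) = e (k, b)) : g = 1 := by
  obtain ⟨u, hu⟩ := h₀ g hg.1
  have h2 : ∀ y, (∀ k, y ≠ e (k, a₀)) → g y = y := fun y hy => by
    by_contra h2
    obtain ⟨k, b, rfl⟩ := h.mem_range hg.1 h2
    exact h2 (h1 k b fun h3 => hy k (by rw [h3]))
  rcases t2_cases 1 u with rfl | rfl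
  · refine Equiv.ext fun y => ?_
    by_cases hy : ∃ k, y = e (k, a₀)
    · obtain ⟨k, rfl⟩ := hy
      rw [hu, one_mul]; rfl
    · exact h2 y (by simpa using hy)
  · have h3 : g = H21.tau e a₀ := Equiv.ext fun y => by
      by_cases hy : ∃ k, y = e (k, a₀)
      · obtain ⟨k, rfl⟩ := hy
        rw [hu, mul_one, tau_apply]
      · rw [h2 y (by simpa using hy), tau_apply_of_ne e (by simpa using hy)]
    have := mem_alternatingGroup.1 hg.2
    rw [h3, sign_tau] at this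
    exact absurd this (by decide)

theorem not_dec_B {x : α} (hx : ∀ k b, b ≠ a₀ → e (k, b) ∈ orbit P.1 x) : ¬ Dec (R P) := by
  rintro ⟨S, T, h1, h2, hS⟩
  obtain ⟨c, hc, a1, a2⟩ := cent_of (R_pg P) hS.1 (idp_norm hS) h1
  obtain ⟨d, hd, b1, b2⟩ := cent_of (R_pg P) hS.2.1 (idp_norm (idp_symm hS)) h2
  have key : ∀ g ∈ R P, g ≠ 1 → ∃ u ∈ orbit P.1 x, g u ≠ u := fun g hg h3 => by
    by_contra! h4
    exact h3 (h.eq_one h₀ hg fun k b hb => h4 _ (hx k b hb))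
  obtain ⟨u, a3, a4⟩ := key c (hS.1 hc) a1
  obtain ⟨v, b3, b4⟩ := key d (hS.2.1 hd) b1
  have h3 := h.agree (hS.1 hc).1 (hS.2.1 hd).1 a2 b2 a3 b3 a4 b4
  have h4 := h.eq_one h₀ (mul_mem (inv_mem (hS.1 hc)) (hS.2.1 hd)) fun k b hb => by
    rw [Perm.mul_apply, ← h3 _ (hx k b hb)]; simp
  have h5 : c ∈ S ⊓ T := ⟨hc, inv_mul_eq_one.1 h4 ▸ hd⟩
  rw [hS.2.2.2.1, mem_bot] at h5
  exact a1 h5

theorem dec_C {a b : β} (ha : a ≠ a₀) (hb : b ≠ a₀) (hab : e (1, b) ∉ orbit P.1 (e (1, a))) :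
    Dec (R P) := by
  set O := orbit P.1 (e (1, a))
  have hI : ∀ g ∈ P.1, ∀ y, g y ∈ O ↔ y ∈ O := orbit_inv P.1 _
  have h0 : ∀ k, e (k, a₀) ∉ O := fun k hk => by
    obtain ⟨⟨g, hg⟩, h1⟩ := (orbit_eq_iff.2 hk).ge (mem_orbit_self _)
    obtain ⟨u, hu⟩ := h₀ g hg
    exact ha (Prod.mk.inj (e.injective ((hu k).symm.trans h1))).2.symm
  have h1 : ∀ g ∈ P.1, ∀ y, (∀ k, y ≠ e (k, a₀)) → ∀ k, g y ≠ e (k, a₀) := fun g hg y hy k h2 => by
    obtain ⟨u, hu⟩ := h₀ _ (inv_mem hg)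
    exact hy _ (by rw [← hu k, ← h2]; simp)
  let S := R P ⊓ fixingSubgroup (Perm α) {y | y ∉ O ∧ ∀ k, y ≠ e (k, a₀)}
  let T := R P ⊓ fixingSubgroup (Perm α) O
  have hS : ∀ {g}, g ∈ S ↔ g ∈ R P ∧ ∀ y ∉ O, (∀ k, y ≠ e (k, a₀)) → g y = y := fun {g} => by
    rw [mem_inf, mem_fixingSubgroup_iff]
    exact and_congr_right fun _ => ⟨fun h y h1 h2 => h y ⟨h1, h2⟩, fun h y h1 => h y h1.1 h1.2⟩
  have hT : ∀ {g}, g ∈ T ↔ g ∈ R P ∧ ∀ y ∈ O, g y = y := fun {g} => by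
    rw [mem_inf, mem_fixingSubgroup_iff]; rfl
  have h2 : ∀ c, c ≠ a₀ → H21.tau e c * H21.tau e a₀ ≠ 1 := fun c hc h2 => by
    have := Equiv.congr_fun h2 (e (1, c))
    rw [Perm.mul_apply, tau_apply_ne e hc, tau_apply] at this
    exact t2_mul_ne 1 (Prod.mk.inj (e.injective this)).1
  refine ⟨S, T, ne_bot_iff_exists_ne_one.2 ⟨⟨_, hS.2 ⟨h.tt a a₀, fun y h3 h4 => ?_⟩⟩,
      fun h3 => h2 a ha (congrArg Subtype.val h3)⟩,
    ne_bot_iff_exists_ne_one.2 ⟨⟨_, hT.2 ⟨h.tt b a₀, fun y h3 => ?_⟩⟩,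
      fun h3 => h2 b hb (congrArg Subtype.val h3)⟩, inf_le_left, inf_le_left,
    fun s hs t ht => Equiv.ext fun y => ?_, eq_bot_iff.2 fun g hg => ?_,
    le_antisymm (sup_le inf_le_left inf_le_left) fun g hg => ?_⟩
  · rw [Perm.mul_apply, tau_apply_of_ne e h4, h.tau_fix' (mem_orbit_self _) y h3]
  · rw [Perm.mul_apply, h.tau_fix (h0 1) y h3, h.tau_fix hab y h3]
  · obtain ⟨a1, a2⟩ := hS.1 hs
    obtain ⟨b1, b2⟩ := hT.1 ht
    rw [Perm.mul_apply, Perm.mul_apply]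
    by_cases hy : y ∈ O
    · rw [b2 y hy, b2 _ ((hI s a1.1 y).2 hy)]
    by_cases hy' : ∃ k, y = e (k, a₀)
    · obtain ⟨k, rfl⟩ := hy'
      obtain ⟨u, hu⟩ := h₀ s a1.1
      obtain ⟨v, hv⟩ := h₀ t b1.1
      rw [hu, hv, hu, hv, mul_left_comm]
    · push Not at hy'
      rw [a2 y hy hy', a2 _ (fun h => hy ((hI t b1.1 y).1 h)) (h1 t b1.1 y hy')]
  · refine h.eq_one h₀ hg.1.1 fun k c hc => ?_
    by_cases hy : e (k, c) ∈ O
    · exact (hT.1 hg.2).2 _ hy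
    · exact (hS.1 hg.1).2 _ hy fun l h3 => hc (Prod.mk.inj (e.injective h3)).2
  · obtain ⟨u, hu, h3⟩ := exists_res P hI hg.1
    obtain ⟨s, hs, h4⟩ : ∃ s ∈ S, ∀ y ∈ O, s y = g y := by
      rcases sign_cases u with h4 | h4
      · exact ⟨u, hS.2 ⟨⟨hu, h4⟩, fun y hy _ => h3.2 y hy⟩, h3.1⟩
      · refine ⟨u * H21.tau e a₀, hS.2 ⟨⟨mul_mem hu (h.tau a₀), by
          simp [mem_alternatingGroup, sign_tau, h4]⟩, fun y hy h5 => ?_⟩, fun y hy => ?_⟩
        · rw [Perm.mul_apply, tau_apply_of_ne e h5, h3.2 y hy]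
        · rw [Perm.mul_apply, h.tau_fix (h0 1) y hy, h3.1 y hy]
    have h5 : s⁻¹ * g ∈ T := hT.2 ⟨mul_mem (inv_mem hs.1) hg, fun y hy => by
      rw [Perm.mul_apply, ← h4 y hy]; simp⟩
    simpa using mul_mem (mem_sup_left hs) (mem_sup_right h5 : _ ∈ S ⊔ T)

end B

end St

theorem main (h6 : 6 ≤ Fintype.card α) (P : Sylow 2 (Perm α)) :
    Dec (R P) ↔ Odd (Fintype.card α / 2) ∧ ∀ r, Fintype.card α / 2 ≠ 2 ^ r + 1 := by
  obtain ⟨e, Q, hP⟩ := exists_wr P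
  have h : St P e := ⟨hP.le.trans (map_le_range _ _), fun b => hP.ge (tau_mem e _ b), fun a b => by
    obtain ⟨c, hc⟩ := H12.exists_not_mem_list [a, b] (by simp; omega)
    exact ⟨c, by grind, by grind⟩⟩
  have hr : ∀ q ∈ Q.1, ∃ g ∈ P.1, ∀ k b, ∃ l, g (e (k, b)) = e (l, q b) := fun q hq => by
    obtain ⟨w, rfl, hw⟩ := exists_right_eq e q hq
    exact ⟨_, hP.ge hw, fun k b => ⟨_, wrEmb.apply e w k b⟩⟩
  rcases Nat.even_or_odd (Fintype.card α / 2) with h1 | h1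
  · refine iff_of_false (h.not_dec_A fun b => ?_) fun h2 => Nat.not_even_iff_odd.2 h2.1 h1
    obtain ⟨e', Q', hQ⟩ := exists_wr Q
    obtain ⟨q, hq, h2⟩ := exists_move e' Q'.1
    obtain ⟨g, hg, h3⟩ := hr q (hQ.ge hq)
    obtain ⟨l, hl⟩ := h3 1 b
    exact ⟨g, hg, l, _, h2 b (surjective_of_dvd e' (Fintype.card_fin _)
      (by rw [Fintype.card_fin]; exact Nat.even_iff.1 h1) b), hl⟩
  obtain ⟨-, a₀, -, -, h2⟩ := exists_fix_two Q (by rwa [Fintype.card_fin])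
  have h₀ : ∀ g ∈ P.1, ∃ u, ∀ k, g (e (k, a₀)) = e (u * k, a₀) := fun g hg => by
    obtain ⟨w, hw, rfl⟩ := hP.le hg
    exact ⟨w.left a₀, fun k => by rw [wrEmb.apply, h2 w.right hw]⟩
  obtain ⟨a, ha, -⟩ := h.three a₀ a₀
  have h3 : ({a₀}ᶜ : Set _).ncard + 1 = Fintype.card α / 2 := by
    have := Set.ncard_add_ncard_compl ({a₀} : Set _)
    rw [Set.ncard_singleton, Nat.card_eq_fintype_card, Fintype.card_fin] at this
    omega
  rw [and_iff_right h1]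
  constructor
  · intro h4 r h5
    refine h.not_dec_B h₀ (x := e (1, a)) (fun k b hb => ?_) h4
    have h7 : orbit (stabilizer (Perm (Fin (Fintype.card α / 2))) a₀) a = {a₀}ᶜ := by
      refine Set.ext fun u => ⟨?_, fun hu => ?_⟩
      · rintro ⟨⟨g, hg⟩, rfl⟩ e
        exact ha (g.injective (e.trans hg.symm))
      · exact ⟨⟨swap a u, swap_apply_of_ne_of_ne ha.symm (Ne.symm hu)⟩, swap_apply_left a u⟩
    have h8 := orbit_eq_of_not_dvd Nat.prime_two (R := Q.1) (H := stabilizer (Perm _) a₀) h2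
      (fun h => Q.not_dvd_index (h.trans (relIndex_dvd_index_of_le h2))) (y := a) (j := r)
      (by rw [h7]; omega)
    obtain ⟨⟨q, hq⟩, h9⟩ := (h8.trans h7).ge hb
    obtain ⟨g, hg, h10⟩ := hr q hq
    obtain ⟨l, hl⟩ := h10 1 a
    rw [← orbit_eq_iff.2 (show g (e (1, a)) ∈ orbit P.1 _ from ⟨⟨g, hg⟩, rfl⟩), hl,
      show q a = b from h9]
    exact h.pair_mem l k b
  · intro h4
    by_contra h5
    have h7 : orbit Q.1 a = {a₀}ᶜ := by
      refine Set.ext fun u => ⟨?_, fun hu => ?_⟩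
      · rintro ⟨⟨g, hg⟩, rfl⟩ e
        exact ha (g.injective (e.trans (h2 g hg).symm))
      · by_contra h8
        refine h5 (h.dec_C h₀ ha hu ?_)
        rintro ⟨⟨g, hg⟩, h9⟩
        obtain ⟨w, hw, rfl⟩ := hP.le hg
        exact h8 ⟨⟨w.right, hw⟩, (Prod.mk.inj (e.injective ((wrEmb.apply e w 1 a).symm.trans h9))).2⟩
    obtain ⟨r, h8⟩ := Q.2.index (stabilizer Q.1 a)
    rw [index_stabilizer, h7] at h8
    exact h4 r (by omega)

end H21.DS
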