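/-
Doubly transitive groups of even degree whose two-point stabilizers have cyclic, quaternion or dihedral
Sylow 2-subgroups: all chunks put together.
-/
import Cfsg.Agent.H21.T25
import Cfsg.Agent.H21.T26
import Cfsg.Agent.H29.T2D
import Cfsg.Agent.H29.T2E
import Cfsg.Agent.H8.T2A
import Cfsg.Agent.H8.T2B
import Cfsg.Agent.H8.T2C
import Cfsg.Agent.H8.T2E
import Cfsg.Agent.H11.T2a
import Cfsg.Agent.H11.T2b
import Cfsg.Agent.H11.T2c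
import Cfsg.Agent.H11.T2d
import Cfsg.Agent.H26.TW1
import Cfsg.Agent.H26.TW3
import Cfsg.Agent.H5.T2b
import Cfsg.Agent.H5.T2e
import Cfsg.Agent.H5.T2f
import Cfsg.Agent.H9.TI2
import Cfsg.Agent.H3.TI3
import Cfsg.Agent.H3.TK3
import Cfsg.Agent.H22.TL3
import Cfsg.Agent.H9.TB4
import Cfsg.Agent.H16.T2C
import Cfsg.Agent.H18.T21
import Cfsg.Agent.H18.T23
import Cfsg.Agent.H18.T25
import Cfsg.Agent.H19.T2A
import Cfsg.Agent.H19.T2B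
import Cfsg.Agent.H19.T2C
import Cfsg.Agent.H19.T2D
import Cfsg.Agent.H23.T2C
import Cfsg.Agent.H10.T2.A
import Cfsg.Agent.H10.T2.C
import Cfsg.Agent.H10.T2.D
import Cfsg.Agent.H10.T2.E
import Cfsg.Agent.H28.T2b
import Cfsg.Agent.H28.T2c
import Cfsg.Agent.H28.T2e
import Cfsg.Agent.H14.T2B
import Cfsg.Agent.H14.T2C
import Cfsg.Agent.H14.T2E
import Cfsg.Agent.H4.T2B
import Cfsg.Agent.H4.T2C
import Cfsg.Agent.H4.T2D
import Cfsg.Agent.H25.T2D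
import Cfsg.Agent.H12.T2C
import Cfsg.Agent.H22.TL2
import Cfsg.Agent.H2.T2D
import Cfsg.Agent.H2.T2E
import Cfsg.Agent.H7.T2E
import Cfsg.Agent.H15.T2D
import Cfsg.Agent.H0.T2B1
import Cfsg.Agent.H3.HKF

set_option autoImplicit false

namespace H21.T2
universe u

theorem all : MAIN.{u} :=
  have fx := H11.T2.fx
  have uc := H8.T2.uc
  have zu := H5.T2.zu
  have af := H10.T2.af1
  have rs := H4.T2.rs
  have cl := H25.T2.cl
  have v4c := H29.T2.v4c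
  have fu := H5.T2.fu
  have fv := H5.T2.fv
  have np := H5.T2.np
  have bf := H5.T2.bf
  have ns := H5.T2.ns H3.HK.mf fx zu
  have xt := H18.T2.xt fx uc af rs np
  have xa := H18.T2.xa af np
  have v4x := H29.T2.v4x xt xa cl rs H18.T2.avl v4c
  have ra := H14.T2.ra xt af
  have rz := H14.T2.rz xt rs ra H14.T2.rb
  have lgs := H19.T2.lgs ns uc
  have lgp := H2.T2.lgp rs v4c H14.T2.rb
  have as := H11.T2.adg H11.T2.ad (H18.T2.ad1 bf H14.T2.num H5.T2.n56) (H29.T2.ad2 bf H14.T2.num)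
    (H10.T2.ad3 bf) (H4.T2.ad4 bf)
  have bva := H15.T2.bva H3.HK.mf fx fv xt rs lgs fun _ _ _ _ _ _ _ _ _ _ _ _ _ _ _ => H19.T2.bva3 fv np lgs
  have k4 := H9.T2.k4 (H4.T2.l1 af v4c) (H2.T2.vo af np fv) H4.T2.qf (H10.T2.s0 fv np) H28.K.T2.j1 H28.K.T2.sm
  have bl := H0.T2.bl (fun _ _ _ _ _ _ _ _ _ _ _ _ _ _ _ _ => H8.T2.pe8 fv np af)
    (fun _ _ _ _ _ _ _ _ _ _ _ _ _ _ _ _ h l n s _ => H8.T2.pn8 fx uc lgs fv np af h l n s) k4
  have cz := H3.TK.cz af np fv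
  have xu := H22.T2.xu fv np fx af cz
  have kc := H3.TK.kc fv cz xu
  have f2k := H14.T2.f2k fv bva bl kc (H0.T2.e1 fv xu)
  have ez := H12.T2.ez fv f2k
  main (H29.T2.mk1 H29.T2.ty H29.T2.up H8.T2.sr) H11.T2.id2 H26.T2.ida H26.T2.idb H26.T2.gs H29.T2.sh
    (H28.K.T2.n2 H11.T2.iso) H5.T2.i1 H9.T2.i2 (H3.T2.i3 ns) (H29.T2.ii0 fx) (H23.T2.iie rs cl) H19.T2.iia1
    (H19.T2.iia2 cl) H10.T2.afs (H7.T2.iib ns uc zu fx) H29.T2.spl H29.T2.as0 as.1 as.2 H28.K.T2.as7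
    (H8.T2.lc1 fx zu uc ns fu fv H11.T2.seb v4x rz) (H19.T2.lb4 v4c fv v4x) (H19.T2.lb8 fu xt rs xa rz)
    (H12.T2.lg4 fv v4x xt xa lgp) (H22.T2.lg8 fu fv xt xa rs rz ra lgp) (bv4 fv v4c k4) bva
    (H0.T2.bvb bl (H0.T2.en1 fv bva bl kc f2k ez) (H16.T2.en2 fv uc xt xa cz kc f2k ez))

end H21.T2
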