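import Cfsg.Agent.H3.Transfer
import Cfsg.Agent.H2.Gaschutz
import Cfsg.Agent.H4.Basic
import Cfsg.Agent.H1.GFitting
import Cfsg.Agent.H1.Frattini

/-! Groups with a two-generated nonabelian Sylow subgroup whose Frattini subgroup is core-free. -/

open Cfsg

namespace H21.TG
open Subgroup
open scoped Pointwise commutatorElement

variable {G : Type*} [Group G] [Finite G] {p : ℕ} [hp : Fact p.Prime]

theorem gen (h : (frattini G).index = p ^ 2) {X : Subgroup G} (hX : ¬ X ≤ frattini G) :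
    ∃ y, X ⊔ zpowers y = ⊤ := by
  have key : ∀ {A B : Subgroup G} {k : ℕ}, A < B → A.index ∣ p ^ (k + 1) → B.index ∣ p ^ k := by
    intro A B k hAB hA
    obtain ⟨j, hj, h1⟩ := (Nat.dvd_prime_pow hp.out).1 ((index_dvd_of_le hAB.le).trans hA)
    rw [h1]
    refine pow_dvd_pow p (Nat.le_of_lt_succ (lt_of_le_of_ne hj fun h2 => ?_))
    have h3 := index_strictAnti hAB
    have h4 := Nat.le_of_dvd (pow_pos hp.out.pos _) hA
    rw [h1, h2] at h3
    exact absurd h4 (not_le.2 h3)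
  by_cases h1 : X ⊔ frattini G = ⊤
  · exact ⟨1, by rw [H1.eq_top_of_sup_of_le_frattini le_rfl h1, top_sup_eq]⟩
  obtain ⟨y, hy⟩ : ∃ y, y ∉ X ⊔ frattini G := by
    by_contra! h2
    exact h1 ((eq_top_iff' _).2 h2)
  have h2 := key (right_lt_sup.2 hX) (k := 1) h.dvd
  have h3 := key (left_lt_sup.2 (by simpa using hy) : X ⊔ frattini G < _ ⊔ zpowers y) (k := 0) h2
  rw [pow_zero, Nat.dvd_one, index_eq_one, sup_right_comm] at h3
  exact ⟨y, H1.eq_top_of_sup_of_le_frattini le_rfl h3⟩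

omit [Finite G] hp in
theorem commutator_le {X : Subgroup G} [X.Normal] {y : G} (h : X ⊔ zpowers y = ⊤) :
    _root_.commutator G ≤ X := by
  have h1 := congrArg (map (QuotientGroup.mk' X)) h
  rw [Subgroup.map_sup, QuotientGroup.map_mk'_self, bot_sup_eq, MonoidHom.map_zpowers,
    map_top_of_surjective _ (QuotientGroup.mk'_surjective X)] at h1
  haveI : IsCyclic (G ⧸ X) := isCyclic_iff_exists_zpowers_eq_top.2 ⟨_, h1⟩
  exact Normal.quotient_commutative_iff_commutator_le.1 IsCyclic.isMulCommutative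

/-- The Frattini subgroup of `P`, inside `G`. -/
abbrev Fr (P : Sylow p G) : Subgroup G := (frattini P.1).map P.1.subtype

theorem tate (P : Sylow p G) {N : Subgroup G} (hn : P.1 ≤ normalizer (N : Set G))
    (h : N ⊓ P.1 ≤ Fr P) : HasNormalPComplement p N := by
  have hS := H28.isSylowIn_of_sylow_le P (le_sup_right : (P : Subgroup G) ≤ N ⊔ P)
  refine H3.hasNPC_of_le (H3.hasNPC_of_inf_le_frattini hS.toSylow ?_) le_sup_left
  rw [← Subgroup.map_subtype_le_map_subtype, Subgroup.map_inf _ _ _ (Subgroup.subtype_injective _),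
    hS.map_toSylow]
  have h1 : (pResidual p ↥(N ⊔ P)).map (N ⊔ (P : Subgroup G)).subtype ≤ N := by
    change pResidualOf p _ ≤ N
    rw [sup_comm]
    exact H28.pResidualOf_sup_le P.isPGroup' hn
  refine (inf_le_inf_right _ h1).trans (h.trans ?_)
  rw [hS.coe_toSylow, ← H1.map_frattini_equiv (Subgroup.subgroupOfEquivOfLe hS.le).symm,
    Subgroup.map_map, Subgroup.map_map]
  exact le_of_eq rfl

structure Hyp (P : Sylow p G) : Prop where
  na : ¬ IsMulCommutative P.1
  gen : (frattini P.1).index = p ^ 2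
  core : pPrimeCore p G = ⊥
  fr : (Fr P).normalCore = ⊥

namespace Hyp
variable {P : Sylow p G} (h : Hyp P)
include h

theorem exists_gen {A : Subgroup G} (hA : ¬ A ⊓ P.1 ≤ Fr P) :
    ∃ y : P.1, A.subgroupOf P.1 ⊔ zpowers y = ⊤ :=
  TG.gen h.gen fun h1 => hA fun x hx => ⟨⟨x, hx.2⟩, h1 hx.1, rfl⟩

theorem inf_ne {A B : Subgroup G} (nA : P.1 ≤ normalizer (A : Set G))
    (nB : P.1 ≤ normalizer (B : Set G)) (hA : ¬ A ⊓ P.1 ≤ Fr P) (hB : ¬ B ⊓ P.1 ≤ Fr P) :
    A ⊓ B ≠ ⊥ := fun h1 => by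
  obtain ⟨y, hy⟩ := h.exists_gen hA
  obtain ⟨z, hz⟩ := h.exists_gen hB
  haveI := normal_subgroupOf_of_le_normalizer nA
  haveI := normal_subgroupOf_of_le_normalizer nB
  refine h.na ⟨⟨fun a b => ?_⟩⟩
  have h2 := commutator_mem_commutator (mem_top a) (mem_top b)
  have h3 : ((⁅a, b⁆ : P.1) : G) ∈ A ⊓ B := ⟨commutator_le hy h2, commutator_le hz h2⟩
  rw [h1, mem_bot, OneMemClass.coe_eq_one] at h3
  exact commutatorElement_eq_one_iff_mul_comm.1 h3

theorem eq_bot {N : Subgroup G} [N.Normal] (h1 : N ≤ Fr P) : N = ⊥ :=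
  eq_bot_iff.2 (h.fr ▸ normal_le_normalCore.2 h1)

theorem not_le {N : Subgroup G} [N.Normal] (hN : N ≠ ⊥) : ¬ N ⊓ P.1 ≤ Fr P := fun h1 => by
  have h2 := H3.hasNPC_iff_coprime.1 (tate P le_normalizer_of_normal h1)
  have h3 := H1.le_pPrimeCore inferInstance h2
  rw [H1.pPrimeCore_eq_bot_of_subnormal ‹N.Normal›.isSubnormal h.core, le_bot_iff] at h3
  have h4 : IsPGroup p N := by
    have := H3.isPGroup_quotient_pResidual (G := N) hp.out.ne_zero
    exact this.of_injective (QuotientGroup.mk' _) (by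
      rw [← MonoidHom.ker_eq_bot_iff, QuotientGroup.ker_mk', h3])
  have h5 := H1.le_sylow_of_le_normalizer P h4 le_normalizer_of_normal
  exact hN (h.eq_bot ((le_inf le_rfl h5).trans h1))

theorem not_le_comp {K N : Subgroup G} (hK : IsComponent K) (h1 : K ≤ N)
    (hn : P.1 ≤ normalizer (N : Set G)) : ¬ N ⊓ P.1 ≤ Fr P := fun h2 => by
  have h3 := H3.hasNPC_iff_coprime.1 (H3.hasNPC_of_le (tate P hn h2) h1)
  have h4 := H1.le_pPrimeCore inferInstance h3
  rw [H1.pPrimeCore_eq_bot_of_subnormal hK.1 h.core, le_bot_iff] at h4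
  have h5 : IsPGroup p K := by
    have := H3.isPGroup_quotient_pResidual (G := K) hp.out.ne_zero
    exact this.of_injective (QuotientGroup.mk' _) (by
      rw [← MonoidHom.ker_eq_bot_iff, QuotientGroup.ker_mk', h4])
  haveI := h5.isNilpotent
  exact H1.Quasisimple.not_isSolvable hK.2 inferInstance

theorem exists_min : ∃ N : Subgroup G, N.Normal ∧ N ≠ ⊥ ∧ ∀ K : Subgroup G, K.Normal → K ≠ ⊥ → N ≤ K := by
  haveI : Nontrivial G := by
    by_contra h1
    haveI := not_nontrivial_iff_subsingleton.1 h1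
    exact h.na ⟨⟨fun _ _ => Subsingleton.elim _ _⟩⟩
  obtain ⟨N, h1, h2, h3⟩ := H1.exists_minimal_normal (G := G)
  refine ⟨N, h1, h2, fun K hK h4 => ?_⟩
  exact inf_eq_left.1 ((h3 (N ⊓ K) inferInstance inf_le_left).resolve_left
    (h.inf_ne le_normalizer_of_normal le_normalizer_of_normal (h.not_le h2) (h.not_le h4)))

theorem gf_eq {N : Subgroup G} [N.Normal] (h1 : N ≠ ⊥)
    (h2 : ∀ K : Subgroup G, K.Normal → K ≠ ⊥ → N ≤ K) : generalizedFittingSubgroup G = N := by
  by_cases hO : pCore p G = ⊥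
  · rw [H1.gf_eq_layer_sup_pCore h.core, hO, sup_bot_eq]
    refine le_antisymm (H1.layer_le_iff.2 fun K hK => ?_) ?_
    · refine (H1.component_le_or_le_centralizer hK ‹N.Normal›.isSubnormal).resolve_right fun h3 => ?_
      have h4 := h2 (centralizer (N : Set G)) inferInstance fun h4 =>
        H1.Quasisimple.not_isSolvable hK.2 (by rw [eq_bot_iff.2 (h3.trans h4.le)]; infer_instance)
      have h5 := H1.le_fitting ‹_› (H1.isNilpotent_of_isMulCommutative
        ((le_centralizer_iff_isMulCommutative).1 h4))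
      rw [H1.fitting_eq_pCore_of_pPrimeCore_eq_bot h.core, hO, le_bot_iff] at h5
      exact h1 h5
    · have h3 := H1.minimal_normal_le_gf N fun K hK h3 =>
        (em _).imp_right fun h4 => le_antisymm h3 (h2 K hK h4)
      rwa [H1.gf_eq_layer_sup_pCore h.core, hO, sup_bot_eq] at h3
  have hNO := h2 _ inferInstance hO
  have hOP := H1.pCore_le_sylow P
  have hE : layer G = ⊥ := by
    by_contra hE
    have h3 := h2 _ inferInstance hE
    obtain ⟨S, hS⟩ := H1.exists_sylow_map_eq_inf_of_normal P (layer G)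
    refine h1 (h.eq_bot fun x hx => ?_)
    have h4 := H3.inf_commutator_inf_center_le (H := S.1) (S.card_coprime_index)
      (x := ⟨x, h3 hx⟩) ⟨⟨?_, ?_⟩, ?_⟩
    · have h5 : x ∈ ⁅P.1, P.1⁆ := by
        refine commutator_mono (hS.le.trans inf_le_left) (hS.le.trans inf_le_left) ?_
        rw [← map_commutator]
        exact ⟨_, h4, rfl⟩
      exact H1.commutator_le_frattiniOf_of_isNilpotent P.2.isNilpotent h5
    · obtain ⟨y, hy, h5⟩ := hS.ge ⟨hOP (hNO hx), h3 hx⟩
      exact (Subtype.ext h5 : y = ⟨x, h3 hx⟩) ▸ hy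
    · have h5 := H1.layer_perfect.ge (h3 hx)
      rw [← map_subtype_commutator] at h5
      obtain ⟨y, hy, h5⟩ := h5
      exact (Subtype.ext h5 : y = ⟨x, h3 hx⟩) ▸ hy
    · exact mem_center_iff.2 fun y =>
        Subtype.ext (H1.layer_le_centralizer_pCore y.2 x (hNO hx)).symm
  rw [H1.gf_eq_layer_sup_pCore h.core, hE, bot_sup_eq]
  refine le_antisymm ?_ hNO
  set O := pCore p G
  have h3 : ∀ a ∈ O, ∀ b ∈ O, a * b = b * a := fun a ha b hb => by
    have := h.eq_bot ((commutator_mono hOP hOP).trans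
      (H1.commutator_le_frattiniOf_of_isNilpotent P.2.isNilpotent))
    exact commutatorElement_eq_one_iff_mul_comm.1
      (mem_bot.1 (this ▸ commutator_mem_commutator ha hb))
  have h4 : ∀ a ∈ O, a ^ p = 1 := fun a ha => by
    have := h.eq_bot (N := normalClosure {a ^ p}) ((closure_le _).2 fun x hx => by
      obtain ⟨_, rfl, h4⟩ := Group.mem_conjugatesOfSet_iff.1 hx
      obtain ⟨g, rfl⟩ := isConj_iff.1 h4
      exact ⟨_, H4.pow_mem_frattini P.2 ⟨_, hOP (Normal.conj_mem inferInstance a ha g)⟩, by simp⟩)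
    exact mem_bot.1 (this ▸ subset_normalClosure rfl)
  obtain ⟨y, hy⟩ := h.exists_gen (h.not_le h1)
  have h5 : N ⊔ zpowers (y : G) = P.1 := by
    have := congrArg (map P.1.subtype) hy
    rwa [Subgroup.map_sup, subgroupOf_map_subtype, inf_eq_left.2 (hNO.trans hOP), MonoidHom.map_zpowers,
      ← MonoidHom.range_eq_map, range_subtype] at this
  by_contra h6
  have h7 : zpowers (y : G) ⊓ N = ⊥ := by
    by_contra h7
    obtain ⟨a, ha, h8⟩ := SetLike.not_le_iff_exists.1 h6
    have h9 := h5.ge (hOP ha)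
    rw [← SetLike.mem_coe, normal_mul] at h9
    obtain ⟨u, hu, d, hd, rfl⟩ := h9
    have h10 : d ∈ O := (mul_mem_cancel_left (hNO hu)).1 ha
    obtain ⟨⟨c, h11, h12⟩, h13⟩ := ne_bot_iff_exists_ne_one.1 h7
    haveI := isCyclic_of_le (inf_le_right : O ⊓ zpowers (y : G) ≤ _)
    have h14 : zpowers c = O ⊓ zpowers (y : G) := by
      refine eq_of_le_of_card_ge (zpowers_le.2 ⟨hNO h12, h11⟩) ?_
      rw [Nat.card_zpowers, orderOf_eq_prime (h4 c (hNO h12)) fun h => h13 (Subtype.ext h),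
        ← IsCyclic.exponent_eq_card]
      exact Nat.le_of_dvd hp.out.pos
        (Monoid.exponent_dvd_of_forall_pow_eq_one fun g => Subtype.ext (h4 _ g.2.1))
    exact h8 (mul_mem hu (zpowers_le.2 h12 (h14.ge ⟨h10, hd⟩)))
  haveI : IsMulCommutative N := ⟨⟨fun a b => Subtype.ext (h3 _ (hNO a.2) _ (hNO b.2))⟩⟩
  obtain ⟨H, hH⟩ := H2.gaschutz_exists N P.1 (hNO.trans hOP)
    (H1.coprime_card_of_isPGroup (P.2.to_le (hNO.trans hOP))
      (H1.coprime_iff_not_dvd.2 P.not_dvd_index)) _ h7 h5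
  haveI := H1.inf_normal_of_sup_eq_top (A := O) (H := H)
    ⟨⟨fun a b => Subtype.ext (h3 _ a.2 _ b.2)⟩⟩
    (eq_top_iff.2 (hH.sup_eq_top.ge.trans (sup_le (hNO.trans le_sup_right) le_sup_left)))
  have h8 := h2 (O ⊓ H) this fun h8 => h6 fun a ha => by
    obtain ⟨⟨u, v⟩, rfl⟩ := hH.2 a
    have h9 : (v : G) ∈ O ⊓ H := ⟨(mul_mem_cancel_left (hNO u.2)).1 ha, v.2⟩
    rw [h8, mem_bot] at h9
    simp [h9]
  exact h1 (eq_bot_iff.2 ((le_inf le_rfl (h8.trans inf_le_right)).trans hH.disjoint.eq_bot.le))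

theorem comp_conj (hO : pCore p G = ⊥) {K L : Subgroup G} (hK : IsComponent K) (hL : IsComponent L) :
    ∃ x ∈ P.1, L = K.map (MulAut.conj x).toMonoidHom := by
  by_contra! h1
  let A := ⨆ x : P.1, K.map (MulAut.conj (x : G)).toMonoidHom
  have h2 : ∀ x : G, IsComponent (K.map (MulAut.conj x).toMonoidHom) := H1.isComponent_conj hK
  have hA : P.1 ≤ normalizer (A : Set G) := fun g hg => mem_normalizer_fintype fun a ha => by
    have : A.map (MulAut.conj g).toMonoidHom ≤ A := by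
      rw [Subgroup.map_iSup]
      refine iSup_le fun x => le_iSup_of_le (⟨g, hg⟩ * x) (le_of_eq ?_)
      rw [map_map]
      congr 1
      ext u
      simp [mul_assoc]
    exact this ⟨a, ha, rfl⟩
  have hAE : A ≤ layer G := iSup_le fun x => H1.le_layer (h2 x)
  have h3 : L ≤ centralizer (A : Set G) := by
    rw [le_centralizer_iff]
    exact iSup_le fun x => commutator_eq_bot_iff_le_centralizer.1
      (H1.commutator_eq_bot_of_component_ne (h2 x) hL (h1 x x.2).symm)
  have hC := hA.trans (H1.normalizer_le_normalizer_centralizer A)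
  refine h.inf_ne hA hC (h.not_le_comp hK (le_iSup_of_le 1 fun x hx => ⟨x, hx, by simp⟩) hA) (h.not_le_comp hL h3 hC) ?_
  have h4 : layer G ≤ normalizer (A : Set G) :=
    (le_iInf fun x : P.1 => H1.layer_le_normalizer_component (h2 x)).trans (iInf_normalizer_le_normalizer_iSup _)
  have h5 := H1.le_fitting_of_subnormal (H := A ⊓ centralizer (A : Set G)) ?_
    (H1.isNilpotent_of_isMulCommutative ⟨⟨fun a b => Subtype.ext (b.2.2 _ a.2.1)⟩⟩)
  · rwa [H1.fitting_eq_pCore_of_pPrimeCore_eq_bot h.core, hO, le_bot_iff] at h5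
  · exact H1.isSubnormal_of_le_normalizer (inf_le_left.trans hAE)
      (H1.le_normalizer_inf h4 (h4.trans (H1.normalizer_le_normalizer_centralizer A)))
      (Normal.isSubnormal inferInstance)

end Hyp

end H21.TG
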