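import Cfsg.Agent.H21.UM0
import Cfsg.Agent.H0.ES1

/-! Theorem A of the unique-maximal-2-local theorem: the independent chunks (notes/UMA.md). -/

set_option autoImplicit false
set_option linter.unusedVariables false
set_option linter.unusedSectionVars false

namespace H21.UM
open H9 hiding zj
open Cfsg Subgroup H28 H29 H29.PU H29.BB H28.GC Equiv
open scoped commutatorElement

universe u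
variable {X : Type u} [Group X]

/-- simple groups with `O₂(C(z)) = F*(C(z))` extraspecial of order 32 have small Sylow subgroups -/
def K32 : Prop := ∀ (X : Type u) [Group X] [Finite X] (z : X), IsSimpleGroup X → ¬ IsMulCommutative X →
  IsCharP 2 (𝐜 z) → H0.ES (O₂ (𝐜 z)) z → # (O₂ (𝐜 z)) = 32 → ¬ 256 ∣ # X

/-- the involution `(0 1)(2 3)` -/
def τ₀ : Perm (Fin 5) := swap 0 1 * swap 2 3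

/-- the `A₅`-block configuration in coordinates -/
structure A5 (T M S G L B Q V : Subgroup X) (x : X) (π : X → Perm (Fin 5)) (ψ : X → Fin 5 → ZMod 2) : Prop
    extends Inst T M S G where
  cp : IsCharP 2 G
  xT : x ∈ T
  xN : x ∈ 𝐍 S
  xS : x ∉ S
  x2 : x * x ∈ S
  xB : x ∈ 𝐍 B
  πm : ∀ a ∈ G, ∀ b ∈ G, π (a * b) = π a * π b
  πs : ∀ σ, ∃ g ∈ G, π g = σ
  πk : ∀ g ∈ G, π g = 1 ↔ g ∈ Q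
  πL : ∀ σ : Perm (Fin 5), Perm.sign σ = 1 → ∃ l ∈ L, π l = σ
  πL' : ∀ l ∈ L, Perm.sign (π l) = 1
  πS : ∀ g ∈ G, g ∈ S ↔ π g * τ₀ = τ₀ * π g
  πB : ∀ g ∈ G, g ∈ B ↔ ∀ i, π g i = i ∨ π g i = τ₀ i
  LG : L ≤ G
  nL : G ≤ 𝐍 L
  BG : B ≤ G
  QG : Q ≤ G
  ea : IsElementaryAbelian 2 Q
  VQ : V ≤ Q
  VL : V ≤ L
  LQ : L ⊓ Q ≤ V
  nV : G ≤ 𝐍 V
  VV : V ≤ ⁅V, L⁆
  QL : ⁅Q, L⁆ ≤ V
  cB : Q ⊓ 𝐂 L ≤ 𝐂 B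
  ψm : ∀ u ∈ V, ∀ v ∈ V, ψ (u * v) = ψ u + ψ v
  ψk : ∀ v ∈ V, ψ v = 0 ↔ v ∈ 𝐂 L
  ψs : ∀ w : Fin 5 → ZMod 2, ∑ i, w i = 0 → ∃ v ∈ V, ψ v = w
  ψe : ∀ v ∈ V, ∑ i, ψ v i = 0
  ψc : ∀ g ∈ G, ∀ v ∈ V, ∀ i, ψ (g * v * g⁻¹) (π g i) = ψ v i
  tv : ∃ a ∈ G, π a = swap 0 1 ∧ (𝐜 a).relIndex Q ≤ 2
  cov : ∀ y ∈ T, y ∈ 𝐍 S → y ∉ S → y * y ∈ S → B ≤ cj y V ⊔ Q

/-- `Q = V × D` with `D` central in `G` -/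
structure A5D (G Q V D : Subgroup X) (ψ : X → Fin 5 → ZMod 2) : Prop where
  DQ : D ≤ Q
  cD : G ≤ 𝐂 D
  dec : ∀ q ∈ Q, ∃ v ∈ V, ∃ d ∈ D, q = v * d
  ψi : ∀ v ∈ V, ψ v = 0 → v = 1

/-- the module splits -/
def A5S : Prop := ∀ (X : Type u) [Group X] [Finite X] (T M S G L B Q V : Subgroup X) (x : X) π ψ,
  A5 T M S G L B Q V x π ψ → A5D G Q V (Q ⊓ 𝐂 L) ψ

/-- the `A₅`-block configuration does not occur -/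
def A5X : Prop := ∀ (X : Type u) [Group X] [Finite X] (T M S G L B Q V D : Subgroup X) (x : X) π ψ,
  A5 T M S G L B Q V x π ψ → ¬ A5D G Q V D ψ

/-- one linear block over a field with at least four elements -/
structure H4 (F : Type) [Field F] (T M B C A₁ A₂ : Subgroup X) (z : X) : Prop extends Cx T M where
  hs : Nonempty (Hs F B C A₁ A₂)
  q4 : 4 ≤ # F
  BT : B ≤ T
  nB : 𝐍 B ≤ M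
  sw : ¬ T ≤ 𝐍 A₁
  c₁ : ∀ a ∈ A₁, ∃ h ∈ 𝐍 A₁, a ∈ cj h C
  c₂ : ∀ a ∈ A₂, ∃ h ∈ 𝐍 A₂, a ∈ cj h C
  s₁ : S2 B (𝐍 A₁)
  s₂ : S2 B (𝐍 A₂)
  zC : z ∈ C
  z1 : z ≠ 1
  zT : T ≤ 𝐜 z
  z₁ : ∀ a ∈ A₁, a ∉ C → ∀ b ∈ A₂, b ∉ C → ∃ g, ⁅a, b⁆ = g * z * g⁻¹
  z₂ : ∀ f ∈ 𝐍 B, f ∉ 𝐍 A₁ → ∀ c ∈ C, c ≠ 1 → c ∈ 𝐜 f → ∃ g, c = g * z * g⁻¹
  tor : ∃ h ∈ 𝐍 A₁ ⊓ 𝐍 A₂, (∀ a ∈ A₁, ⁅h, a⁆ ∈ C → a ∈ C) ∧ # C = # F * # ↥(C ⊓ 𝐜 h) ∧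
    ∀ y ∈ 𝐍 B, y ∉ 𝐍 A₁ → C ⊓ 𝐜 h ⊓ cj y (C ⊓ 𝐜 h) = ⊥

/-- the centralizer of `z` normalizes `B` -/
def HA : Prop := ∀ (X : Type u) [Group X] [Finite X] (F : Type) [Field F] [Finite F] (T M B C A₁ A₂ : Subgroup X) (z : X),
  H4 F T M B C A₁ A₂ z → M ≤ 𝐍 B

/-- conjugates of `z` normalizing `B` lie in `B` -/
def HB : Prop := ∀ (X : Type u) [Group X] [Finite X] (F : Type) [Field F] [Finite F] (T M B C A₁ A₂ : Subgroup X) (z : X),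
  H4 F T M B C A₁ A₂ z → 𝐜 z ≤ 𝐍 B → ∀ g, g * z * g⁻¹ ∈ 𝐍 B → g * z * g⁻¹ ∈ B

/-- transfer -/
def HC : Prop := ∀ (X : Type u) [Group X] [Finite X] (F : Type) [Field F] [Finite F] (T M B C A₁ A₂ : Subgroup X) (z : X),
  H4 F T M B C A₁ A₂ z → 𝐜 z ≤ 𝐍 B → ¬ ∀ g, g * z * g⁻¹ ∈ 𝐍 B → g * z * g⁻¹ ∈ B

end H21.UM
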