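import Cfsg.Agent.H21.UM1

/-! Theorem A: pairs of linear blocks, instances of type (A). -/

set_option autoImplicit false
set_option linter.unusedVariables false
set_option linter.unusedSectionVars false

namespace H21.UM
open H9 hiding zj
open Matrix hiding mul_inv_rev
open Cfsg Subgroup H28 H13.SL2 MatrixGroups H29 H29.PU H29.BB H28.GC Equiv
open scoped commutatorElement

universe u
variable {X : Type u} [Group X] [Finite X] {A B C C' D E E' E₁ E₂ G H K L M N P Q R S T U V W W' Y : Subgroup X}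
  {a b d e g h s t u v w x y z : X} {n : ℕ} {F F' : Type} [Field F] [Finite F] [Field F'] [Finite F']

theorem pc_conj (p : Pc n B W C) (hg : g ∈ 𝐍 B) : Pc n B (cj g W) (cj g C) := by
  rw [← cj_eq_self hg]
  exact (pc_map (conj_injective' g)).2 (by rwa [comap_map_eq_self_of_injective (conj_injective' g)])

theorem nc_symm (k : ¬ W' ≤ 𝐂 W) : ¬ W ≤ 𝐂 W' := mt le_centralizer_comm.1 k

theorem nc_conj (k : ¬ W' ≤ 𝐂 W) (g : X) : ¬ cj g W' ≤ 𝐂 (cj g W) := by rwa [← cj_centralizer, cj_le_cj]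

/-- an elementary subgroup centralizes one of two partners -/
theorem choice (p : Pc n B W C) (p' : Pc n B W' C') (k : ¬ W' ≤ 𝐂 W) (l : A ≤ B) (hA : IsElementaryAbelian 2 A) :
    A ≤ 𝐂 W ∨ A ≤ 𝐂 W' := le_of_two fun a ha => by
  obtain ⟨x, hx, e⟩ := p.cover p' k (l ha)
  have m := mul_mem (inv_mem (p'.le hx)) (l ha)
  obtain ⟨w, hw, e'⟩ := p'.cover p (nc_symm k) m
  have d1 : w⁻¹ * (x⁻¹ * a) ∈ B ⊓ 𝐂 W := mem_inf.2
    ⟨mul_mem (inv_mem (p.le hw)) m, mul_mem (inv_mem (ea_le_centralizer p.ea hw)) e⟩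
  obtain ⟨d, hd⟩ : ∃ d, d = w⁻¹ * (x⁻¹ * a) := ⟨_, rfl⟩
  rw [← hd] at d1 e'
  obtain rfl : a = x * w * d := by rw [hd]; group
  have cm : Commute (x * w) d := Commute.mul_left (mem_centralizer'.1 e' x hx) (mem_centralizer'.1 d1.2 w hw)
  have := sq_of_ea hA ha
  rw [← pow_two, cm.mul_pow, pow_two, pow_two, mul_eq_one_iff_eq_inv] at this
  refine (p.ti x (p'.le hx) w hw ?_).imp (fun k => mul_mem (mul_mem k (ea_le_centralizer p.ea hw)) d1.2) fun k =>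
    mul_mem (mul_mem (ea_le_centralizer p'.ea hx) (centralizer_anti p'.le k)) e'
  rw [commutatorElement_def, inv_of_ea p'.ea hx, inv_of_ea p.ea hw, mul_assoc (x * w), this]
  exact inv_mem (p.sq d d1)

/-- the centralizer of a block centralizes the partner -/
theorem dq (p : Pc n B W C) (p' : Pc n B W' C') (k : ¬ W' ≤ 𝐂 W) (nC : B ≤ 𝐍 C) (hd : d ∈ B) (h : d ∈ C) :
    d ∈ 𝐂 W' := by
  obtain ⟨w, hw, e⟩ := p'.cover p (nc_symm k) hd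
  obtain ⟨u, u1, u2⟩ := SetLike.not_le_iff_exists.1 k
  have := comm_mem_of' (nC (p'.le u1)) h
  rw [← mul_inv_cancel_left w d, comm_mul_right, mem_c_comm.1 (cen_le_c u1 e), mul_one, mul_inv_cancel, mul_one] at this
  exact mul_inv_cancel_left w d ▸ mul_mem (centralizer_anti p'.le ((p.ti u (p'.le u1) w hw this).resolve_left u2)) e

theorem not_le_sup (p : Pc n B W C) (nC : B ≤ 𝐍 C) (h0 : ¬ B ≤ 𝐂 W) (l : U ≤ W ⊔ 𝐂 B) (h : U ≤ C) : U ≤ 𝐂 B :=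
  fun u hu => by
  obtain ⟨b, b1, b2⟩ := SetLike.not_le_iff_exists.1 h0
  obtain ⟨w, hw, c, hc, rfl⟩ := (mem_sup_of_le_normalizer (p.le.trans (le_normalizer_centralizer le_normalizer))).1 (l hu)
  have := comm_mem_of' (nC b1) (h hu)
  rw [comm_mul_right, mem_c_comm.1 (cen_le_c b1 hc), mul_one, mul_inv_cancel, mul_one] at this
  exact mul_mem ((p.ti b b1 w hw this).resolve_left b2) hc

/-- simultaneous covering -/
theorem cover {I : Set X} {W W' C C' : X → Subgroup X} (p : ∀ i ∈ I, Pc n B (W i) (C i))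
    (p' : ∀ i ∈ I, Pc n B (W' i) (C' i)) (k : ∀ i ∈ I, ¬ W' i ≤ 𝐂 (W i)) (hU : ∀ i ∈ I, W i ≤ U) (UB : U ≤ B)
    (hb : b ∈ B) : ∃ w ∈ U, ∀ i ∈ I, w⁻¹ * b ∈ 𝐂 (W' i) := by
  refine Set.Finite.induction_on_subset (motive := fun J _ => ∃ w ∈ U, ∀ i ∈ J, w⁻¹ * b ∈ 𝐂 (W' i)) I I.toFinite
    ⟨1, one_mem _, fun _ h => h.elim⟩ ?_
  rintro s J hs hJ - ⟨w, hw, h⟩
  have m := mul_mem (inv_mem (UB hw)) hb
  by_cases c : w⁻¹ * b ∈ 𝐂 (W' s)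
  · exact ⟨w, hw, Set.forall_mem_insert.2 ⟨c, h⟩⟩
  obtain ⟨u, hu, e⟩ := (p' s hs).cover (p s hs) (nc_symm (k s hs)) m
  refine ⟨w * u, mul_mem hw (hU s hs hu), Set.forall_mem_insert.2 ⟨by rwa [mul_inv_rev, mul_assoc], fun j hj => ?_⟩⟩
  rw [mul_inv_rev, mul_assoc]
  refine mul_mem (inv_mem (by_contra fun n => c ?_)) (h j hj)
  refine centralizer_anti ((p s hs).nb (p' j (hJ hj)) (p' s hs) (nc_symm fun l => n (l hu)) (k s hs)) ?_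
  rw [centralizer_sup]
  exact ⟨h j hj, le_centralizer_comm.1 le_rfl m⟩

/-- a maximal elementary subgroup centralizing commuting modules -/
theorem maxab {I : Set X} {W C : X → Subgroup X} (p : ∀ i ∈ I, Pc n B (W i) (C i))
    (k : ∀ i ∈ I, ∀ j ∈ I, W i ≤ 𝐂 (W j)) : ∃ A, MaxAb 2 B A ∧ ∀ i ∈ I, A ≤ 𝐂 (W i) := by
  refine Set.Finite.induction_on_subset (motive := fun J _ => ∃ A, MaxAb 2 B A ∧ ∀ i ∈ J, A ≤ 𝐂 (W i)) I I.toFinite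
    (let ⟨A, h⟩ := exists_maxAb 2 B; ⟨A, h, fun _ h => h.elim⟩) ?_
  rintro s J hs hJ - ⟨A, hA, h⟩
  by_cases c : A ≤ 𝐂 (W s)
  · exact ⟨A, hA, Set.forall_mem_insert.2 ⟨c, h⟩⟩
  have q := p s hs
  exact ⟨_, maxAb_sup_cen hA q.le q.ea ((idx_mono hA.le).trans (q.i1.trans (q.i2.trans (idx_le_of
    (inf_comm _ (W s) ▸ q.cen hA.le c))))), Set.forall_mem_insert.2 ⟨sup_le inf_le_right (k s hs s hs), fun j hj =>
      sup_le (inf_le_left.trans (h j hj)) (k s hs j (hJ hj))⟩⟩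

theorem hit (k : Bk F B E) (hu : u ∈ B) (n : u ∉ 𝐂 (W₂ E)) (hw : w ∈ W₂ E) (c : w ∈ 𝐂 B) :
    ∃ v ∈ W₂ E, ⁅u, v⁆⁻¹ * w ∈ 𝐂 E := by
  let D := k.lb
  have n1 := nrmW (p := 2) k.nrm hu
  have n2 := nrmW' (p := 2) k.nrm hu
  obtain ⟨t, ht⟩ := D.up u hu
  have t0 : t ≠ 0 := fun c => n (k.blk.mem_cen (k.nrm hu) ((D.act_triv n1 n2).1 fun m => by
    rw [ht, c, x_zero, one_smul]))
  obtain ⟨v, hv, e1⟩ := D.onto ![0, D.ψ w 0 / t]
  exact ⟨v, hv, ((D.eq_iff (comm_mem_of' n1 hv) hw).1 (by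
    rw [D.act_comm n1 n2 hv, e1, ht, smul_eq, x_mulVec]
    exact vext (by simp [mul_div_cancel₀ _ t0]) (by simpa using (D.snd_zero k.blk k.amb le_sup_left hw c).symm))).2⟩

theorem bk_pc (k : Bk F B E) : ∃ n, Pc n B (W₂ E) (𝐂 E) := LBk.pc' k.blk k.lbk.lin k.amb le_sup_left

theorem bk_idx (k : Bk F B E) : (𝐂 (W₂ E)).relIndex B = # F := by
  have := card_idx (𝐂 (W₂ E)) B
  rw [inf_comm, k.eqQ, k.card_B] at this
  exact Nat.eq_of_mul_eq_mul_right Nat.card_pos this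

theorem sb_idx {ι : Type} [Fintype ι] [DecidableEq ι] (D : SB 2 ι B E) (h : Blk 2 B E) :
    3 ≤ (𝐂 (W₂ E)).relIndex B := by
  obtain ⟨i, hi, -⟩ := D.exists_far D.o
  obtain ⟨j, j1, j2, j3⟩ := D.exists_far i
  obtain ⟨a, a1, a2⟩ := D.swap_mem h hi
  obtain ⟨b, b1, b2⟩ := D.swap_mem h j1
  have k := fun {g} (hg : g ∈ B) => D.one_iff h (h.nrm hg)
  have l := fun {g} (hg : g ∈ B) => D.le_gam' h (h.nrm hg)
  refine three_le a1 b1 (fun e => D.τ_ne hi (swap_eq_one_iff.1 (a2 ▸ (k a1).2 e)).symm)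
    (fun e => D.τ_ne j1 (swap_eq_one_iff.1 (b2 ▸ (k b1).2 e)).symm) fun e => ?_
  have := (k (mul_mem (inv_mem a1) b1)).2 e
  rw [D.π'_mul D.irr (l (inv_mem a1)) (l b1), D.π'_inv D.irr (l a1), inv_mul_eq_one, a2, b2] at this
  have := congrArg (· j) this
  simp only [swap_apply_left, swap_apply_of_ne_of_ne j2 j3] at this
  exact D.τ_ne j1 this.symm

section CM
variable (c : CM 2 H B M)
include c

theorem cm_bk (hE : E ≤ H) (h : LBk 2 B E) (n : ¬ E ≤ M) : ∃ (F : Type) (_ : Field F) (_ : Finite F), Bk F B E := by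
  obtain ⟨F, _, _, k⟩ := h.lin
  obtain ⟨D⟩ := h.lb k c.toAmb hE
  exact ⟨F, _, ‹_›, h.toBlk, k, h.amb c.toAmb hE, (pushing_up (D.vx h.toBlk c.toAmb hE).toRk1
    (D.syl h.toBlk c.toAmb hE) (c.nc (sup_le hE c.le) fun e => n (le_sup_left.trans e))).resolve_right
      fun ⟨_, _, _, _, _, k⟩ => by simpa using k.three⟩

theorem cm_sbk (k : Bk F B E) (hE : E ≤ H) (n : ¬ E ≤ M) : ∃ L, SBk 2 H B M L ∧ E ≤ L ∧
    (L = E ∨ # F = 2 ∧ ∃ m, 2 ≤ m ∧ Nonempty (SB 2 (Fin (2 * m + 1)) B L)) := by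
  obtain ⟨L, h, l⟩ := c.sub E ⟨k.blk, hE, n⟩
  exact ⟨L, h, l, (h.ls c.toAmb h.le).imp (fun ⟨_, _, _, _, ⟨D⟩⟩ => (D.eq_of_le h.toBlk c.toAmb h.le k.blk l).symm)
    fun ⟨m, h1, ⟨D⟩⟩ => ⟨D.two' h.toBlk c.toAmb h.le k.lb k.blk l, m, h1.le, ⟨D⟩⟩⟩

theorem cm_cen (h : Blk 2 B E) (h' : Blk 2 B E') (hE : E ≤ H) (hE' : E' ≤ H) : W₂ E ≤ 𝐂 (W₂ E') :=
  (h.W_le_P c.toAmb hE).trans (h'.P_cen c.toAmb hE')

/-- a block whose core is normal is subnormal -/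
theorem cm_sn (k : Bk F B E) (hE : E ≤ H) (n : ¬ E ≤ M) (hN : H ≤ 𝐍 (O₂ (E ⊔ B))) : SBk 2 H B M E := by
  obtain ⟨L, h, l, rfl | ⟨q, m, -, ⟨D⟩⟩⟩ := cm_sbk c k hE n
  · exact h
  have h1 := sb_idx D h.toBlk
  have h2 := idx_le_of (H := 𝐂 (W₂ E)) (K := B) (inf_comm B _ ▸ k.eqQ.le.trans ((le_pCoreOf (isPGroup_pCoreOf _ _)
    (k.QB.trans c.le) hN).trans (h.P_cen c.toAmb h.le)))
  rw [bk_idx k] at h2
  omega

/-- a linear block is determined by its module modulo the centre of `B` -/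
theorem cm_uq (k : Bk F B E) (k' : Bk F' B E') (hE : E ≤ H) (hE' : E' ≤ H) (n : ¬ E ≤ M) (n' : ¬ E' ≤ M)
    (l : W₂ E' ≤ W₂ E ⊔ 𝐂 B) (l' : W₂ E ≤ W₂ E' ⊔ 𝐂 B) : E' = E := by
  have f : ∀ {W W' : Subgroup X}, W' ≤ W ⊔ 𝐂 B → B ⊓ 𝐂 W ≤ B ⊓ 𝐂 W' := fun l => le_inf inf_le_left
    (le_centralizer_comm.1 (l.trans (sup_le (le_centralizer_comm.1 inf_le_right) (centralizer_anti inf_le_left))))
  have e : O₂ (E' ⊔ B) = O₂ (E ⊔ B) := by rw [← k.eqQ, ← k'.eqQ]; exact le_antisymm (f l') (f l)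
  have a := c.inf_normalizer (isPGroup_pCoreOf 2 (E ⊔ B)) (le_sup_right.trans k.nQ) (k.QB.trans c.le)
  have c' := c.mono a.le inf_le_left a.cp
  have s := cm_sn c' k (le_inf hE (le_sup_left.trans k.nQ)) n inf_le_right
  have s' := cm_sn c' k' (le_inf hE' (le_sup_left.trans (e ▸ k'.nQ))) n' (e ▸ inf_le_right)
  obtain ⟨m, p⟩ := bk_pc k
  exact (s'.eq_or s c').resolve_right fun e => k'.blk.not_B (le_centralizer_comm.1 (not_le_sup p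
    (le_normalizer_centralizer k.nrm) k.blk.not_B l (W_le_E.trans (H28.commutator_eq_bot_iff.1 e))))

end CM

/-- instances of type (A) -/
structure IA (T M S H : Subgroup X) (x : X) : Prop extends Inst T M S H where
  cp : IsCharP 2 H
  xT : x ∈ T
  xN : x ∈ 𝐍 S
  xS : x ∉ S
  x2 : x * x ∈ S

theorem Inst.ia (i : Inst T M S H) (h : IsCharP 2 H) : ∃ x, IA T M S H x :=
  let ⟨x, a, b, c, d⟩ := i.exx; ⟨x, i, h, a, b, c, d⟩

namespace IA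
variable (i : IA T M S H x)
include i

theorem tr (hK : IsCharP 2 K) (l : S ≤ K) (n : ¬ K ≤ M) : IA T M S K x := ⟨i.toA hK l n, hK, i.xT, i.xN, i.xS, i.x2⟩
theorem cjS (hs : s ∈ S) : x * s * x⁻¹ ∈ S := conj_mem_of_mem_normalizer i.xN hs
theorem cjS' (hs : s ∈ S) : x⁻¹ * s * x ∈ S := conj_mem_of_mem_normalizer' i.xN hs
theorem mul (hs : s ∈ S) : IA T M S H (s * x) := ⟨i.toInst, i.cp, mul_mem (i.ST hs) i.xT, mul_mem (le_normalizer hs) i.xN,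
  mt (mul_mem_cancel_left hs).1 i.xS, by
    rw [show s * x * (s * x) = s * (x * s * x⁻¹) * (x * x) by group]; exact mul_mem (mul_mem hs (i.cjS hs)) i.x2⟩
theorem star (hK : IsCharP 2 K) (l : S ≤ K) (n : ¬ K ≤ M) (hU : IsPGroup 2 U) (h : K ≤ 𝐍 U) (hx : x ∈ 𝐍 U) : U = ⊥ :=
  by_contra fun h0 => i.xS (IsSylowIn.mem_of (i.p2 hK l n hU h0 h) hx i.xN (isPGroup_iff_mem.1 i.pg x i.xT))
theorem cp' (h1 : S ≤ K) (h2 : K ≤ H) : IsCharP 2 K := i.cp.of_sylow_le i.sylH h2 h1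
theorem star' (hE : E ≤ H) (n : ¬ E ≤ M) (hU : IsPGroup 2 U) (h1 : E ≤ 𝐍 U) (h2 : S ≤ 𝐍 U) (hx : x ∈ 𝐍 U) : U = ⊥ :=
  i.star (i.cp' le_sup_right (sup_le hE i.SH)) le_sup_right (fun l => n (le_sup_left.trans l)) hU (sup_le h1 h2) hx
theorem cm : CM 2 H (bm 2 S) M := cm_of i.cp i.sylH i.S_ne fun D h0 h1 h2 => by_contra fun n =>
  have l := le_inf i.SH (le_normalizer.trans h2)
  h0 (i.star (i.cp' l inf_le_left) l n (i.pS.to_le h1) inf_le_right (h2 i.xN))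
theorem xB : x ∈ 𝐍 (bm 2 S) := nrm_bm le_rfl i.xN
theorem SB : S ≤ 𝐍 (bm 2 S) := nrm_bm le_normalizer
theorem pB : IsPGroup 2 (bm 2 S) := i.pS.to_le bm_le
theorem exz' : ∃ z ∈ Ω₂ S, TC z ∧ T ≤ 𝐜 z :=
  let ⟨z, a, b, c, d⟩ := i.exz
  ⟨z, mem_omegaOneCenter.2 ⟨i.zS a d, le_c_iff.1 (i.ST.trans d), by rw [sq, b]⟩, i.tc b c d, d⟩
theorem nB : 𝐍 (bm 2 S) ≤ M := by_contra fun n =>
  let ⟨_, a, b, _⟩ := i.exz'
  bm_ne i.pS i.S_ne (i.star (i.ch i.pB (Ω_le_bm a) b) i.SB n i.pB le_rfl i.xB)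

theorem exists_bk : ∃ (E : Subgroup X) (F : Type) (_ : Field F) (_ : Finite F), Bk F (bm 2 S) E ∧ E ≤ H ∧ ¬ E ≤ M :=
  let ⟨E, e1, e2, e3⟩ := i.cm.exists_blk i.nm
  let ⟨F, _, _, k⟩ := cm_bk i.cm e1 e3 e2
  ⟨E, F, _, ‹_›, k, e1, e2⟩

end IA

end H21.UM
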