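import Cfsg.Agent.H21.UM2

/-! Theorem A: the general structure of an instance of type (A). -/

set_option autoImplicit false
set_option linter.unusedVariables false
set_option linter.unusedSectionVars false

namespace H21.UM
open H9 hiding zj
open Matrix hiding mul_inv_rev
open Cfsg Subgroup H28 H13.SL2 MatrixGroups H29 H29.PU H29.BB H28.GC Equiv
open scoped commutatorElement

universe u
variable {X : Type u} [Group X] [Finite X] {A B C C' D E E' E₁ E₂ G H K L M N P Q R S T U V W W' Y : Subgroup X}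
  {b d e g s t u v w x y z : X} {n : ℕ} {F F' : Type} [Field F] [Finite F] [Field F'] [Finite F']

theorem mem_cen_ncl : y ∈ 𝐂 (nclIn W S) ↔ ∀ s ∈ S, y ∈ 𝐂 (cj s W) := by
  rw [← zpowers_le, le_centralizer_comm, nclIn_le_iff]
  simp only [le_centralizer_comm (H := cj _ W), zpowers_le]

/-- the module generated by the conjugates of a block module -/
def WW (S E : Subgroup X) : Subgroup X := nclIn (W₂ E) S
/-- its centralizer in the Baumann subgroup -/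
def QQ (S E : Subgroup X) : Subgroup X := bm 2 S ⊓ 𝐂 (WW S E)

/-- an instance of type (A) with a linear block whose partner is its conjugate -/
structure A0 (F : Type) [Field F] (T M S H E : Subgroup X) (x : X) : Prop extends IA T M S H x where
  bk : Bk F (bm 2 S) E
  EH : E ≤ H
  EM : ¬ E ≤ M
  nc : ¬ cj x (W₂ E) ≤ 𝐂 (W₂ E)

theorem nW : S ≤ 𝐍 (WW S E) := le_normalizer_nclIn _ _
theorem nQ : S ≤ 𝐍 (QQ S E) := le_normalizer_inf (nrm_bm le_normalizer) (le_normalizer_centralizer nW)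
theorem QB : QQ S E ≤ bm 2 S := inf_le_left
theorem W_le (hs : s ∈ S) : cj s (W₂ E) ≤ WW S E := cj_le_nclIn _ hs
theorem mem_Q : v ∈ QQ S E ↔ v ∈ bm 2 S ∧ ∀ s ∈ S, v ∈ 𝐂 (cj s (W₂ E)) := and_congr_right' mem_cen_ncl

namespace IA
variable (i : IA T M S H x)
include i

theorem cjW : cj x (WW S E) = nclIn (cj x (W₂ E)) S := by rw [WW, cj_nclIn, cj_eq_self i.xN]
theorem W_le' (hs : s ∈ S) : cj (s * x) (W₂ E) ≤ cj x (WW S E) := by rw [i.cjW, ← cj_cj]; exact cj_le_nclIn _ hs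
theorem mem_Q' : v ∈ cj x (QQ S E) ↔ v ∈ bm 2 S ∧ ∀ s ∈ S, v ∈ 𝐂 (cj (s * x) (W₂ E)) := by
  rw [QQ, cj_inf, cj_eq_self i.xB, cj_centralizer, i.cjW, mem_inf, mem_cen_ncl]; simp only [cj_cj]
theorem nrm' (h : S ≤ 𝐍 U) : S ≤ 𝐍 (cj x U) := by
  rw [← cj_normalizer, ← cj_eq_self i.xN]; exact cj_mono x h
theorem cj2 (h : S ≤ 𝐍 U) : cj x (cj x U) = U := by rw [cj_cj, cj_eq_self (h i.x2)]
theorem xsup (h : S ≤ 𝐍 U) : x ∈ 𝐍 (U ⊔ cj x U : Subgroup X) := by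
  rw [mem_normalizer_iff_cj, cj_sup, i.cj2 h, sup_comm]
theorem xinf (h : S ≤ 𝐍 U) : x ∈ 𝐍 (U ⊓ cj x U : Subgroup X) := by
  rw [mem_normalizer_iff_cj, cj_inf, i.cj2 h, inf_comm]
theorem sxB (hs : s ∈ S) : s * x ∈ 𝐍 (bm 2 S) := mul_mem (i.SB hs) i.xB

variable (k : Bk F (bm 2 S) E) (hE : E ≤ H)
include k hE
theorem WV : WW S E ≤ Ω₂ (O₂ H) := nclIn_le (k.blk.W_le_V i.cm.toAmb hE)
  (le_normalizer_omegaOneCenter (i.SH.trans (le_normalizer_pCoreOf _ _)))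
theorem eaW : IsElementaryAbelian 2 (WW S E) := ea_of_le (ea_omegaOneCenter _ _) (i.WV k hE)
theorem WB : WW S E ≤ bm 2 S := nclIn_le k.WB i.SB
theorem WB' : cj x (WW S E) ≤ bm 2 S := cj_le_of_mem_normalizer (i.WB k hE) i.xB

theorem a0 (n : ¬ E ≤ M) : ∃ s ∈ S, A0 F T M S H E (s * x) := by
  by_contra! c
  have l : cj x (WW S E) ≤ 𝐂 (W₂ E) := by
    rw [i.cjW, nclIn_le_iff]
    exact fun s hs => cj_cj s x _ ▸ by_contra fun e => c s hs ⟨i.mul hs, k, hE, n, e⟩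
  have l1 := sup_le (i.WB k hE) (i.WB' k hE)
  have l2 : W₂ E ≤ WW S E := le_nclIn _ _
  exact k.W_ne (le_bot_iff.1 ((l2.trans le_sup_left).trans (i.star' hE n (i.pB.to_le l1) (k.nrm_of (k.leQ l1
    (sup_le ((ea_le_centralizer (i.eaW k hE)).trans (centralizer_anti l2)) l)) (l2.trans le_sup_left))
      (le_normalizer_sup nW (i.nrm' nW)) (i.xsup nW)).le))

end IA

namespace A0
variable (a : A0 F T M S H E x)
include a

theorem tr (hK : IsCharP 2 K) (l : S ≤ K) (n : E ≤ K) : A0 F T M S K E x :=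
  ⟨a.toIA.tr hK l fun e => a.EM (n.trans e), a.bk, n, a.EM, a.nc⟩
theorem bks (hs : s ∈ S) : Bk F (bm 2 S) (cj s E) := a.bk.conj' (a.SB hs)
theorem bkx (hs : s ∈ S) : Bk F (bm 2 S) (cj (s * x) E) := a.bk.conj' (a.sxB hs)
theorem EHs (hs : s ∈ S) : cj s E ≤ H := cj_le_of_mem a.EH (a.SH hs)
theorem EMs (hs : s ∈ S) : ¬ cj s E ≤ M := fun e => a.EM (by rwa [← cj_eq_self_of_mem (a.SM hs), cj_le_cj] at e)
theorem pc : ∃ n, ∀ g ∈ 𝐍 (bm 2 S), Pc n (bm 2 S) (cj g (W₂ E)) (𝐂 (cj g E)) :=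
  let ⟨n, p⟩ := bk_pc a.bk; ⟨n, fun g hg => cj_centralizer g E ▸ pc_conj p hg⟩
theorem ncs (hs : s ∈ S) : ¬ cj (s * x) (W₂ E) ≤ 𝐂 (cj s (W₂ E)) := cj_cj s x _ ▸ nc_conj a.nc s
theorem eW : IsElementaryAbelian 2 (WW S E) := a.eaW a.bk a.EH
theorem WQ : WW S E ≤ QQ S E := le_inf (a.WB a.bk a.EH) (ea_le_centralizer a.eW)
theorem QB' : cj x (QQ S E) ≤ bm 2 S := cj_le_of_mem_normalizer QB a.xB

theorem cov (hb : b ∈ bm 2 S) : ∃ w ∈ WW S E, w⁻¹ * b ∈ cj x (QQ S E) :=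
  let ⟨_, p⟩ := a.pc
  let ⟨w, hw, h⟩ := cover (I := S) (fun s hs => p s (a.SB hs)) (fun s hs => p _ (a.sxB hs)) (fun _ => a.ncs)
    (fun _ => W_le) (a.WB a.bk a.EH) hb
  ⟨w, hw, a.mem_Q'.2 ⟨mul_mem (inv_mem (a.WB a.bk a.EH hw)) hb, h⟩⟩

theorem cov' (hb : b ∈ bm 2 S) : ∃ w ∈ cj x (WW S E), w⁻¹ * b ∈ QQ S E :=
  let ⟨_, p⟩ := a.pc
  let ⟨w, hw, h⟩ := cover (I := S) (fun s hs => p _ (a.sxB hs)) (fun s hs => p s (a.SB hs))
    (fun _ hs => nc_symm (a.ncs hs)) (fun _ => a.W_le') (a.WB' a.bk a.EH) hb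
  ⟨w, hw, mem_Q.2 ⟨mul_mem (inv_mem (a.WB' a.bk a.EH hw)) hb, h⟩⟩

theorem B_le : bm 2 S ≤ cj x (WW S E) ⊔ QQ S E := fun b hb =>
  let ⟨w, h1, h2⟩ := a.cov' hb; mul_inv_cancel_left w b ▸ mul_mem_sup h1 h2

theorem d0 (hd : d ∈ bm 2 S) (h1 : ∀ s ∈ S, d ∈ 𝐂 (cj s E)) (h2 : ∀ s ∈ S, d ∈ 𝐂 (cj (s * x) E)) : d = 1 := by
  have n : S ≤ 𝐍 (bm 2 S ⊓ 𝐂 (nclIn E S) : Subgroup X) :=
    le_normalizer_inf a.SB (le_normalizer_centralizer (le_normalizer_nclIn _ _))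
  refine mem_bot.1 ((a.star' a.EH a.EM (a.pB.to_le (inf_le_left.trans inf_le_left)) (le_normalizer_of_le_centralizer
    (le_centralizer_comm.1 (inf_le_left.trans (inf_le_right.trans (centralizer_anti (le_nclIn _ _))))))
    (le_normalizer_inf n (a.nrm' n)) (a.xinf n)).le ⟨⟨hd, mem_cen_ncl.2 h1⟩, ?_⟩)
  rw [SetLike.mem_coe, cj_inf, cj_eq_self a.xB, cj_centralizer, cj_nclIn, cj_eq_self a.xN]
  exact ⟨hd, mem_cen_ncl.2 fun s hs => cj_cj s x _ ▸ h2 s hs⟩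

theorem ea : IsElementaryAbelian 2 (QQ S E) := GC.ea_of_sq fun v hv => by
  obtain ⟨n, p⟩ := a.pc
  obtain ⟨w, hw, h⟩ := a.cov hv.1
  have h1 := mul_mem (inv_mem (a.WQ hw)) hv
  have := a.d0 (mul_mem h1.1 h1.1) (fun s hs => (p s (a.SB hs)).sq _ ⟨h1.1, (mem_Q.1 h1).2 s hs⟩)
    fun s hs => (p _ (a.sxB hs)).sq _ ⟨h1.1, (a.mem_Q'.1 h).2 s hs⟩
  rwa [inv_of_ea a.eW hw, mul_assoc, ← mul_assoc v, ← mem_centralizer'.1 hv.2 w hw, ← mul_assoc, ← mul_assoc,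
    sq_of_ea a.eW hw, one_mul] at this

theorem mxB : MaxAb 2 (bm 2 S) (QQ S E) := by
  obtain ⟨n, p⟩ := a.pc
  obtain ⟨A, hA, h⟩ := maxab (I := S) (fun s hs => p s (a.SB hs)) fun s hs t ht =>
    (W_le hs).trans ((ea_le_centralizer a.eW).trans (centralizer_anti (W_le ht)))
  exact hA.of_card_le QB (abE_iff_ea.2 a.ea) (card_le_of_le' fun v hv => mem_Q.2 ⟨hA.le hv, fun s hs => h s hs hv⟩)
theorem mxS : MaxAb 2 S (QQ S E) := (a.cm.maxAb a.pS bm_le a.SH).1 a.mxB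

theorem un (hs : s ∈ S) (ht : t ∈ S) (l : cj s (W₂ E) ≤ cj t (W₂ E) ⊔ 𝐂 (bm 2 S))
    (l' : cj t (W₂ E) ≤ cj s (W₂ E) ⊔ 𝐂 (bm 2 S)) : cj s E = cj t E :=
  cm_uq a.cm (a.bks ht) (a.bks hs) (a.EHs ht) (a.EHs hs) (a.EMs ht) (a.EMs hs) (by rwa [← cj_W, ← cj_W])
    (by rwa [← cj_W, ← cj_W])

theorem un' (hs : s ∈ S) (ht : t ∈ S) (l : cj (s * x) (W₂ E) ≤ cj (t * x) (W₂ E) ⊔ 𝐂 (bm 2 S))
    (l' : cj (t * x) (W₂ E) ≤ cj (s * x) (W₂ E) ⊔ 𝐂 (bm 2 S)) : cj (s * x) E = cj (t * x) E := by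
  have f : ∀ {s t}, cj (s * x) (W₂ E) ≤ cj (t * x) (W₂ E) ⊔ 𝐂 (bm 2 S) →
      cj (x⁻¹ * s * x) (W₂ E) ≤ cj (x⁻¹ * t * x) (W₂ E) ⊔ 𝐂 (bm 2 S) := fun l => by
    have := cj_mono x⁻¹ l
    rwa [cj_sup, cj_cj, cj_cj, cj_centralizer, cj_eq_self (inv_mem a.xB), ← mul_assoc, ← mul_assoc] at this
  have := congrArg (cj x ·) (a.un (a.cjS' hs) (a.cjS' ht) (f l) (f l'))
  rwa [cj_cj, cj_cj, ← mul_assoc, ← mul_assoc, ← mul_assoc, ← mul_assoc, mul_inv_cancel, one_mul, one_mul] at this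

/-- the partner is unique -/
theorem par (hs : s ∈ S) (ht : t ∈ S) (hu : u ∈ S) (k1 : ¬ cj (s * x) (W₂ E) ≤ 𝐂 (cj u (W₂ E)))
    (k2 : ¬ cj (t * x) (W₂ E) ≤ 𝐂 (cj u (W₂ E))) : cj (s * x) E = cj (t * x) E :=
  let ⟨_, p⟩ := a.pc
  a.un' hs ht ((p u (a.SB hu)).nb (p _ (a.sxB ht)) (p _ (a.sxB hs)) k2 k1)
    ((p u (a.SB hu)).nb (p _ (a.sxB hs)) (p _ (a.sxB ht)) k1 k2)
theorem par' (hs : s ∈ S) (ht : t ∈ S) (hu : u ∈ S) (k1 : ¬ cj s (W₂ E) ≤ 𝐂 (cj (u * x) (W₂ E)))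
    (k2 : ¬ cj t (W₂ E) ≤ 𝐂 (cj (u * x) (W₂ E))) : cj s E = cj t E :=
  let ⟨_, p⟩ := a.pc
  a.un hs ht ((p _ (a.sxB hu)).nb (p _ (a.SB ht)) (p _ (a.SB hs)) k2 k1)
    ((p _ (a.sxB hu)).nb (p _ (a.SB hs)) (p _ (a.SB ht)) k1 k2)

theorem cenS (hy : y ∈ S) (h : y ∈ 𝐂 (WW S E)) : y ∈ bm 2 S := by
  obtain ⟨n, p⟩ := a.pc
  refine ⟨hy, mem_centralizer'.2 fun e he => (comm_eq_one.1 ?_).symm⟩
  have eB : e ∈ bm 2 S := JJ_le_bm (omegaOneCenter_le _ _ he)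
  have eC : e ∈ 𝐂 (bm 2 S) := le_centralizer_comm.1 (inf_le_right : bm 2 S ≤ _) he
  have f : ∀ {E : Subgroup X} {w : X}, y ∈ 𝐍 E → w ∈ 𝐜 y → w ∈ 𝐍 E → w⁻¹ * e ∈ 𝐂 E → ⁅y, e⁆ ∈ 𝐂 E := fun h1 h2 h3 h4 => by
    rw [← mul_inv_cancel_left _ e, comm_mul_right, mem_c_comm.1 h2, one_mul]
    exact conj_mem_of_mem_normalizer (le_normalizer_centralizer le_rfl h3)
      (comm_mem_of' (le_normalizer_centralizer le_rfl h1) h4)
  refine a.d0 (comm_mem_of' (a.SB hy) eB) (fun s hs => ?_) fun s hs => ?_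
  · have k := a.bks hs
    have c := mem_cen_ncl.1 h s hs
    rw [cj_W] at c
    obtain ⟨w, hw, e'⟩ := k.dec (k.memQ eB (centralizer_anti k.WB eC))
    exact f (k.blk.cen_nrm a.cm.toAmb (a.EHs hs) ⟨a.SH hy, c⟩) (mem_c_symm.1 (cen_le_c hw c)) (k.nrm (k.WB hw)) e'
  · have k := a.bkx hs
    have c := mem_cen_ncl.1 h s hs
    obtain ⟨w, hw, e'⟩ := k.dec (k.memQ eB (centralizer_anti k.WB eC))
    obtain ⟨u, u1, u2⟩ := SetLike.not_le_iff_exists.1 (nc_symm (a.ncs hs))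
    have uB := (p s (a.SB hs)).le u1
    have q := p _ (a.sxB hs)
    rw [cj_W] at q u2
    have wC : w ∈ 𝐂 (bm 2 S) := (q.ti u uB w hw (by
      have := comm_mem_of' (le_normalizer_centralizer k.nrm uB) (inv_mem e')
      rwa [mul_inv_rev, inv_inv, ← mem_centralizer'.1 (inv_mem eC) w (k.WB hw), comm_mul_right,
        mem_c_comm.1 (cen_le_c uB (inv_mem eC)), mul_one, mul_inv_cancel, mul_one] at this)).resolve_left u2
    obtain ⟨v, hv, e2⟩ := hit k uB u2 hw wC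
    have m : ⁅u, v⁆ ∈ cj s (W₂ E) := commutatorElement_mem_comm.1 (comm_mem_of'
      (by rw [cj_W]; exact nrmW (a.bks hs).nrm (k.WB hv)) u1)
    refine f (mem_normalizer_iff_cj.2 ?_) (mem_c_symm.1 (cen_le_c m c)) (k.nrm ((p s (a.SB hs)).le m)) ?_
    · rw [cj_cj, ← mul_assoc]
      refine a.par (mul_mem hy hs) hs hs ?_ (a.ncs hs)
      rw [← cj_eq_self (centralizer_le_normalizer _ c), mul_assoc, ← cj_cj]
      exact nc_conj (a.ncs hs) y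
    · rw [← mul_inv_cancel_left w e, ← mul_assoc]; exact mul_mem e2 e'

theorem eqO : O₂ H = QQ S E := by
  have c : O₂ H ≤ 𝐂 (WW S E) := le_centralizer_comm.1 ((a.WV a.bk a.EH).trans (omegaOneCenter_le_centralizer _ _))
  have l : O₂ H ≤ QQ S E := fun y hy => ⟨a.cenS (a.OS hy) (c hy), c hy⟩
  exact le_antisymm l ((le_inf (QB.trans (bm_le.trans a.SH)) ((ea_le_centralizer a.ea).trans (centralizer_anti l))).trans
    a.cp)

theorem HN : H ≤ 𝐍 (QQ S E) := a.eqO ▸ le_normalizer_pCoreOf _ _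
theorem ZQ : Ω₂ S ≤ QQ S E := a.mxS.omegaOneCenter_le
theorem nrm : A0 F T M S (𝐍 (QQ S E)) E x :=
  let ⟨_, h1, h2, _⟩ := a.exz'
  a.tr (a.ch (ea_isPGroup a.ea) (a.ZQ h1) h2) nQ (a.EH.trans a.HN)
theorem cQ : 𝐂 (QQ S E) ≤ QQ S E := by
  have := a.nrm.cp
  rw [IsCharP, a.nrm.eqO] at this
  exact (le_inf (centralizer_le_normalizer _) le_rfl).trans this

end A0

end H21.UM
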