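import Cfsg.Agent.H21.UM3

/-! Theorem A: one linear block. -/

set_option autoImplicit false
set_option linter.unusedVariables false
set_option linter.unusedSectionVars false

namespace H21.UM
open H9 hiding zj
open Matrix hiding mul_inv_rev
open Cfsg Subgroup H28 H13.SL2 MatrixGroups H29 H29.PU H29.BB H28.GC Equiv
open scoped commutatorElement

universe u
variable {X : Type u} [Group X] [Finite X] {A B C D E E' E₁ E₂ G H K L M N P Q R S T U V W Y : Subgroup X}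
  {a c d e f g h s t u v w x y z : X} {F F' : Type} [Field F] [Finite F] [Field F'] [Finite F']

theorem cenL (hd : d ∈ 𝐂 E) (h : d ∈ 𝐂 B) (hg : g ∈ E ⊔ B) : g * d * g⁻¹ = d :=
  mem_c''.1 (mem_c_symm.1 (cen_le_c hg (by rw [centralizer_sup]; exact ⟨hd, h⟩)))

/-- the torus is transitive on the fixed line -/
theorem torus (k : Bk F B E) (hD : B ⊓ 𝐂 E ≤ 𝐂 B) (hu : u ∈ O₂ (E ⊔ B)) (u1 : u ∈ 𝐂 B) (u2 : u ∉ 𝐂 E)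
    (hv : v ∈ O₂ (E ⊔ B)) (v1 : v ∈ 𝐂 B) (v2 : v ∉ 𝐂 E) : ∃ h ∈ E ⊔ B, h ∈ 𝐍 B ∧ (h * u * h⁻¹)⁻¹ * v ∈ 𝐂 E := by
  let D := k.lb
  have f : ∀ {u}, u ∈ O₂ (E ⊔ B) → u ∈ 𝐂 B → u ∉ 𝐂 E → ∃ w ∈ W₂ E, ∃ d ∈ B ⊓ 𝐂 E, w * d = u ∧ D.ψ w 1 = 0 ∧ D.ψ w 0 ≠ 0 :=
    fun hu u1 u2 => by
    obtain ⟨w, hw, d, hd, rfl⟩ := k.dec' hu
    have e := D.snd_zero k.blk k.amb le_sup_left hw ((mul_mem_cancel_right (hD hd)).1 u1)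
    exact ⟨w, hw, d, hd, rfl, e, fun c => u2 (mul_mem ((D.ker w hw).1 (vext c e)).2 hd.2)⟩
  obtain ⟨w, hw, d, hd, rfl, e1, e2⟩ := f hu u1 u2
  obtain ⟨w', hw', d', hd', rfl, e3, e4⟩ := f hv v1 v2
  have l0 : D.ψ w' 0 / D.ψ w 0 ≠ 0 := div_ne_zero e4 e2
  obtain ⟨h, hh, e⟩ := D.surjL k.blk k.amb le_sup_left (mk2 (D.ψ w' 0 / D.ψ w 0) 0 0 (D.ψ w' 0 / D.ψ w 0)⁻¹ (by simp [e2, e4]))
  have g := D.L_le k.blk hh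
  refine ⟨h, hh, D.mem_nrm k.blk k.amb le_sup_left hh (e ▸ rfl), ?_⟩
  have m := conj_mem_of_mem_normalizer g.1 hw
  have := ((D.eq_iff m hw').1 (by
    rw [← D.act_ψ g.1 g.2.1 hw, D.act_gam g, e, smul_vec]
    exact vext (by simp [e2]) (by simp [e1, e3]))).2
  rw [show h * (w * d) * h⁻¹ = h * w * h⁻¹ * (h * d * h⁻¹) by group, cenL hd.2 (hD hd) hh, mul_inv_rev, mul_assoc,
    ← mul_assoc _ w']
  exact mul_mem (inv_mem (mem_inf.1 hd).2) (mul_mem this hd'.2)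

theorem pr_comm (r : Pr F F' B E₁ E₂) (ha : a ∈ O₂ (E₁ ⊔ B)) (a1 : a ∉ O₂ (E₂ ⊔ B)) (hc : c ∈ O₂ (E₂ ⊔ B))
    (c1 : c ∉ O₂ (E₁ ⊔ B)) : ⁅a, c⁆ ∉ 𝐂 E₂ := fun h => by
  obtain ⟨w, hw, d, hd, rfl⟩ := r.k₂.dec' hc
  rw [comm_mul_right, mem_c_comm.1 (cen_le_c (r.k₁.QB ha) (r.symm.DC hd)), mul_one, mul_inv_cancel, mul_one] at h
  exact (r.or_Ω (r.k₁.QB ha) hw h).elim a1 fun e => c1 (mul_mem (r.k₁.ΩQ e) (r.DQ hd))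

/-- two conjugate linear blocks -/
structure PM (F : Type) [Field F] (B E : Subgroup X) (g : X) : Prop where
  r : Pr F F B E (cj g E)
  gN : g ∈ 𝐍 B
  nE : 𝐍 (O₂ (E ⊔ B)) ≤ 𝐍 E
  cA : 𝐂 (O₂ (E ⊔ B)) ≤ O₂ (E ⊔ B)

namespace PM
variable (b : PM F B E g)
include b
set_option hygiene false in
local notation "𝐀₁" => Cfsg.pCoreOf 2 (E ⊔ B)
set_option hygiene false in
local notation "𝐀₂" => Cfsg.pCoreOf 2 (cj g E ⊔ B)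

theorem eL : cj g (E ⊔ B) = cj g E ⊔ B := by rw [cj_sup, cj_eq_self b.gN]
theorem eA : cj g 𝐀₁ = 𝐀₂ := by rw [cj_pCoreOf, b.eL]
theorem nE₂ : 𝐍 𝐀₂ ≤ 𝐍 (cj g E) := by rw [← b.eA, ← cj_normalizer, ← cj_normalizer]; exact cj_mono g b.nE
theorem hs : Nonempty (Hs F B (𝐀₁ ⊓ 𝐀₂) 𝐀₁ 𝐀₂) := b.r.k₁.hs' b.r.ea b.r.DC b.cA b.nE b.r.symm.ea b.r.eB
  (b.r.k₁.QB.trans (le_sup_right.trans b.r.k₂.nQ)) (b.r.k₂.leQ (inf_le_left.trans b.r.k₁.QB) (inf_le_right.trans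
    (centralizer_anti b.r.k₂.WB))) (or_iff_not_imp_right.2 fun q => b.r.D_le (fun e => q (e ▸ b.r.cardD)) b.nE)
theorem cardC : # ↥(𝐀₁ ⊓ 𝐀₂) = # F * # ↥(B ⊓ 𝐂 E) := by
  obtain ⟨D⟩ := b.hs
  exact Nat.eq_of_mul_eq_mul_left Nat.card_pos (D.card₁.symm.trans (b.r.k₁.cardQ.trans (mul_assoc _ _ _)))
theorem gA : g ∉ 𝐍 𝐀₁ := fun e => b.hs.some.not_le ((cj_eq_self e).symm.trans b.eA).le
theorem c₁ (a) (ha : a ∈ 𝐀₁) : ∃ h ∈ 𝐍 𝐀₁, a ∈ cj h (𝐀₁ ⊓ 𝐀₂) :=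
  let ⟨e, he, h⟩ := b.r.toC ha; ⟨e, b.r.k₁.nQ (mem_sup_left he), h⟩
theorem c₂ (a) (ha : a ∈ 𝐀₂) : ∃ h ∈ 𝐍 𝐀₂, a ∈ cj h (𝐀₁ ⊓ 𝐀₂) :=
  let ⟨e, he, h⟩ := b.r.symm.toC ha; ⟨e, b.r.k₂.nQ (mem_sup_left he), inf_comm 𝐀₂ 𝐀₁ ▸ h⟩
theorem DC : B ⊓ 𝐂 E ≤ 𝐀₁ ⊓ 𝐀₂ := le_inf b.r.k₁.DQ b.r.symm.DQ

theorem swE (h1 : u ∈ 𝐍 B) (h2 : u ∉ 𝐍 𝐀₁) : cj u E = cj g E := by
  rw [← mul_inv_cancel_left g u, ← cj_cj, cj_eq_self (b.nE (b.hs.some.two_N _ (inv_mem b.gN) u h1 (mt inv_mem_iff.1 b.gA) h2))]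
theorem swE' (h1 : u ∈ 𝐍 B) (h2 : u ∉ 𝐍 𝐀₁) : cj u (cj g E) = E := by
  rw [cj_cj, cj_eq_self (b.nE (b.hs.some.two_N _ h1 g b.gN h2 b.gA))]
theorem fix1 (h1 : u ∈ 𝐍 B) (h2 : u ∉ 𝐍 𝐀₁) (hd : d ∈ B) (h : d ∈ 𝐂 E ∨ d ∈ 𝐂 (cj g E)) (c : d ∈ 𝐜 u) : d = 1 := by
  have f : ∀ {Y : Subgroup X}, d ∈ 𝐂 Y → d ∈ 𝐂 (cj u Y) := fun h => by
    rw [← cj_centralizer, ← mem_c'.1 c]; exact conj_mem_cj h
  exact h.elim (fun h => b.r.eq_one ⟨hd, h⟩ (b.swE h1 h2 ▸ f h)) fun h => b.r.eq_one ⟨hd, b.swE' h1 h2 ▸ f h⟩ h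

/-- transitivity on the elements outside the two centralizers -/
theorem trans (hz : z ∈ 𝐀₁ ⊓ 𝐀₂) (z1 : z ∉ 𝐂 E) (z2 : z ∉ 𝐂 (cj g E)) (hc : c ∈ 𝐀₁ ⊓ 𝐀₂) (c1 : c ∉ 𝐂 E)
    (c2 : c ∉ 𝐂 (cj g E)) : ∃ y, c = y * z * y⁻¹ := by
  obtain ⟨D⟩ := b.hs
  have r := b.r
  have cB := le_centralizer_comm.1 D.cenC
  obtain ⟨h, h1, h2, h3⟩ := torus r.k₁ r.DC hz.1 (cB hz) z1 hc.1 (cB hc) c1
  have m := (D.conj_memC h2).2 hz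
  have mB := D.CB (mul_mem (inv_mem m) hc)
  by_cases e : (h * z * h⁻¹)⁻¹ * c = 1
  · exact ⟨h, (inv_mul_eq_one.1 e).symm⟩
  have n2 := le_normalizer_centralizer b.nE₂ (D.n₂_of h2 (r.k₁.nQ h1))
  obtain ⟨k, k1, k2, k3⟩ := torus r.k₂ r.symm.DC m.2 (cB m) (mt (Q5.mem_iff' n2).1 z2) hc.2 (cB hc) c2
  have m' := (D.conj_memC k2).2 m
  have n1 := le_normalizer_centralizer b.nE (D.symm.n₂_of k2 (r.k₂.nQ k1))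
  obtain ⟨j, j1, j2, j3⟩ := torus r.k₂ r.symm.DC (r.symm.DQ ⟨mB, h3⟩) (r.DC ⟨mB, h3⟩) (fun k => e (r.eq_one ⟨mB, h3⟩ k))
    hc.2 (cB hc) c2
  have j4 := conj_mem_of_mem_normalizer (le_normalizer_centralizer b.nE (D.symm.n₂_of j2 (r.k₂.nQ j1))) h3
  have j5 := mul_mem (inv_mem (conj_mem_of_mem_normalizer j2 mB)) (D.CB hc)
  have kc : k * c * k⁻¹ * c⁻¹ ∈ 𝐂 E := by
    have := cenL j3 (r.symm.DC ⟨j5, j3⟩) k1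
    have e' := mul_mem (conj_mem_of_mem_normalizer n1 j4) (inv_mem j4)
    generalize j * ((h * z * h⁻¹)⁻¹ * c) * j⁻¹ = d at this e'
    rwa [show k * c * k⁻¹ * c⁻¹ = k * d * k⁻¹ * (k * (d⁻¹ * c) * k⁻¹ * c⁻¹) by group, this, mul_inv_cancel_right]
  refine ⟨k * h, (inv_mul_eq_one.1 ((r.eq_one ⟨D.CB (mul_mem (inv_mem m') hc), ?_⟩ k3).symm ▸ by group)).symm⟩
  have := mul_mem (conj_mem_of_mem_normalizer n1 h3) (inv_mem (conj_mem_of_mem_normalizer'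
    (le_normalizer_centralizer r.k₁.nrm (D.CB hc)) kc))
  simpa [mul_assoc] using this

theorem two (q : # F = 2) (hT : IsSylowIn 2 T ⊤) (l : B ≤ T) (hO : pResidual 2 X = ⊤) : B ⊓ 𝐂 E = ⊥ := by_contra fun h0 => by
  obtain ⟨D⟩ := b.hs
  have c1 := b.r.cardD
  have c2 := b.cardC
  have c3 := D.card₁
  have c4 := (one_lt_card_iff_ne_bot _).2 h0
  have p := isPGroup_iff_mem.1 hT.isPGroup
  have key : ∀ A ≤ T ⊓ 𝐍 B, IsElementaryAbelian 2 A → # 𝐀₁ ≤ # A → A ≤ B := fun A l hA c => by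
    have l1 : A ⊓ 𝐍 𝐀₁ ≤ B := fun y hy => D.mem_two q hy.2 (D.n₂_of (l hy.1).2 hy.2) (p y (l hy.1).1)
    refine (le_inf le_rfl (by_contra fun k => ?_)).trans l1
    obtain ⟨u, u1, u2⟩ := SetLike.not_le_iff_exists.1 k
    have e1 := (D.two_N.mono (l.trans inf_le_right)).card_le inf_le_left
    have e2 := eq_of_le_of_card_le (fun y hy => D.mem_of_sw (l u1).2 u2 (l1 hy) (sq_of_ea hA hy.1)
      (mem_c.2 (comm_of_ea hA u1 hy.1)) : A ⊓ 𝐍 𝐀₁ ≤ 𝐀₁ ⊓ 𝐀₂) (by rw [q] at *; omega)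
    exact h0 ((eq_bot_iff_forall _).2 fun d hd => b.fix1 (l u1).2 u2 hd.1 (.inl hd.2)
      (mem_c.2 (comm_of_ea hA (e2.ge (b.DC hd)).1 u1)))
  have wc : ∀ y, cj y B ≤ T ⊓ 𝐍 B → y ∈ 𝐍 B := fun y hy => mem_normalizer_of_cj_le (by
    conv_lhs => rw [← D.eB, cj_sup]
    exact sup_le (key _ ((cj_mono y D.le₁).trans hy) (ea_cj D.ea₁ y) (card_cj _ _).ge)
      (key _ ((cj_mono y D.le₂).trans hy) (ea_cj D.ea₂ y) (D.card_eq.trans (card_cj _ _).symm).le))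
  have hN : T ≤ 𝐍 B := (eq_of_inf_normalizer_le hT.isPGroup (inf_le_left : T ⊓ 𝐍 B ≤ T) (inf_le_inf_left _ fun y hy =>
    wc y (cj_le_of_mem_normalizer (le_inf l le_normalizer) hy))).ge.trans inf_le_right
  exact D.o3 q (by rw [q] at *; omega) hT l hN hO fun y hy => wc y (le_inf hy (hy.trans hN))

theorem h4 (q : 4 ≤ # F) (c : Cx T M) (l : B ≤ T) (nB : 𝐍 B ≤ M) (gT : g ∈ T) (hz : z ∈ 𝐀₁) (z1 : z ≠ 1) (zT : T ≤ 𝐜 z) :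
    H4 F T M B (𝐀₁ ⊓ 𝐀₂) 𝐀₁ 𝐀₂ z := by
  obtain ⟨D⟩ := b.hs
  have r := b.r
  have zC : z ∈ 𝐀₁ ⊓ 𝐀₂ := ⟨hz, by rw [← b.eA, ← mem_c''.1 (zT gT)]; exact conj_mem_cj hz⟩
  have zz := fun h => z1 (b.fix1 b.gN b.gA (D.CB zC) h (mem_c_symm.1 (zT gT)))
  have tr := fun {c} => b.trans (c := c) zC (fun h => zz (.inl h)) (fun h => zz (.inr h))
  obtain ⟨h, h1, h2, h3, h4, -⟩ := r.k₁.tor (by omega)
  have k1 : ∀ w, ∀ d ∈ B ⊓ 𝐂 E, ⁅h, w * d⁆ = ⁅h, w⁆ := fun w d hd => by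
    rw [comm_mul_right, commutatorElement_def h d, cenL hd.2 (r.DC hd) h1]; simp
  have eD : 𝐀₁ ⊓ 𝐀₂ ⊓ 𝐜 h = B ⊓ 𝐂 E := le_antisymm (fun v hv => by
    obtain ⟨w, hw, d, hd, rfl⟩ := r.k₁.dec' hv.1.1
    exact mul_mem ⟨r.k₁.WB hw, h3 w hw (by rw [← k1 w d hd, mem_c_comm.1 hv.2]; exact one_mem _)⟩ hd)
    fun d hd => ⟨b.DC hd, mem_c'.2 (cenL hd.2 (r.DC hd) h1)⟩
  refine ⟨c, ⟨D⟩, q, l, nB, fun e => b.gA (e gT), b.c₁, b.c₂, s2_syl r.k₁.syl (r.k₁.nL q b.nE),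
    s2_syl r.k₂.syl (r.k₂.nL q b.nE₂), zC, z1, zT, fun a ha a1 c hc c1 => tr (D.comm_mem ha hc) (fun e => ?_)
      (pr_comm r ha (fun e => a1 ⟨ha, e⟩) hc fun e => c1 ⟨e, hc⟩), fun f f1 f2 c hc c1 e => tr hc
      (fun k => c1 (b.fix1 f1 f2 (D.CB hc) (.inl k) e)) fun k => c1 (b.fix1 f1 f2 (D.CB hc) (.inr k) e),
    h, ⟨r.k₁.nQ h1, D.n₂_of h2 (r.k₁.nQ h1)⟩, fun a ha e => ?_, by rw [eD, b.cardC], fun y y1 y2 => ?_⟩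
  · exact pr_comm r.symm hc (fun e => c1 ⟨e, hc⟩) ha (fun e => a1 ⟨ha, e⟩) (commutatorElement_mem_comm.1 e)
  · obtain ⟨w, hw, d, hd, rfl⟩ := r.k₁.dec' ha
    exact mul_mem (D.mem_Ω.1 (h4 w hw (k1 w d hd ▸ le_centralizer_comm.1 D.cenC e))) (b.DC hd)
  · rw [eD, cj_inf, cj_centralizer, b.swE y1 y2]
    exact le_bot_iff.1 ((inf_le_inf_left _ inf_le_right).trans r.d0.le)

end PM

namespace A0
variable (i : A0 F T M S H E x) (n : S ≤ 𝐍 E)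
include i n

omit i in
theorem eW₁ : WW S E = W₂ E := le_antisymm (nclIn_le le_rfl (nrmW n)) (le_nclIn _ _)
theorem eQ₁ : QQ S E = O₂ (E ⊔ bm 2 S) := by rw [QQ, eW₁ n, i.bk.eqQ]

theorem pm : PM F (bm 2 S) E x := by
  have r : Pr F F (bm 2 S) E (cj x E) := ⟨i.bk, i.bk.conj' i.xB, by rw [← cj_W]; exact nc_symm i.nc, (eq_bot_iff_forall _).2 fun d hd =>
    i.d0 hd.1.1 (fun s hs => (cj_eq_self (n hs)).symm ▸ hd.1.2) fun s hs => by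
      rw [← cj_cj, cj_eq_self (i.nrm' n hs)]; exact hd.2⟩
  refine ⟨r, i.xB, ?_, i.eQ₁ n ▸ i.cQ⟩
  have c := i.nrm.cm
  have h := cm_sn c i.bk i.nrm.EH i.EM (i.eQ₁ n ▸ le_rfl)
  rw [← i.eQ₁ n]
  refine le_normalizer_of_cj_eq fun g hg => ?_
  have h' := h.conj c hg
  exact (h'.eq_or h c).resolve_right fun e => h'.not_B (le_centralizer_comm.1 ((le_inf (h'.W_le_B c.toAmb h'.le)
    (W_le_E.trans (H28.commutator_eq_bot_iff.1 e))).trans r.DC))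

theorem lin (ha : HA.{u}) (hb : HB.{u}) (hc : HC.{u}) : Dn X := by
  have b := i.pm n
  have := i.bk.lin.char
  have l : bm 2 S ≤ T := bm_le.trans i.ST
  rcases q_cases F with q | q
  · have e := b.two q.1 i.syl l i.res
    have c := i.bk.cardQ
    rw [e, card_bot, q.1] at c
    refine .inr ⟨T, i.syl, dih i.pg b.r.ea c (i.bk.QB.trans l) (inf_le_right.trans b.cA), ?_⟩
    have c1 := i.bk.card_B
    have c2 := card_le_of_le' (bm_le : bm 2 S ≤ S)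
    obtain ⟨k, c3⟩ := card_dvd_of_le i.ST
    have c4 := card_lt_of_lt i.lt
    rw [c, q.1] at c1
    rcases k with _ | _ | k <;> nlinarith
  obtain ⟨z, z1, z2, z3⟩ := i.exz'
  have h := b.h4 (by omega) i.toCx l i.nB i.xT (i.eQ₁ n ▸ i.ZQ z1) z2.2.1 z3
  have k := (i.cz z2.1 z2.2.1 z3).trans (ha X F _ _ _ _ _ _ _ h)
  exact (hc X F _ _ _ _ _ _ _ h k (hb X F _ _ _ _ _ _ _ h k)).elim

end A0

end H21.UM
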