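import Cfsg.Agent.H21.UM4

/-! Theorem A: quasithinness and the subnormal blocks. -/

set_option autoImplicit false
set_option linter.unusedVariables false
set_option linter.unusedSectionVars false

namespace H21.UM
open H9 hiding zj
open Matrix hiding mul_inv_rev
open Cfsg Subgroup H28 H13.SL2 MatrixGroups H29 H29.PU H29.BB H28.GC Equiv
open scoped commutatorElement

universe u
variable {X : Type u} [Group X] [Finite X] {A B C D E E' E₁ E₂ G H K L M N P Q R S T U V W Y : Subgroup X}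
  {a b d e f g s t u v w x y z : X} {F F' : Type} [Field F] [Finite F] [Field F'] [Finite F'] {p : ℕ}

theorem mul_card_le [Fact p.Prime] (hP : IsPGroup p P) (h : A < P) : p * # A ≤ # P := by
  obtain ⟨m, e⟩ := IsPGroup.iff_card.1 hP
  obtain ⟨n, e'⟩ := IsPGroup.iff_card.1 (hP.to_le h.le)
  have := card_lt_of_lt h
  rw [e, e'] at *
  rw [← pow_succ']
  exact Nat.pow_le_pow_right (Fact.out : p.Prime).pos ((Nat.pow_lt_pow_iff_right (Fact.out : p.Prime).one_lt).1 this)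

/-- no elementary section of odd rank three above a 2-group -/
theorem Cx.qt3 (c : Cx T M) (hp : p.Prime) (h2 : p ≠ 2) (hU : IsPGroup 2 U) (h0 : U ≠ ⊥) (hR : IsPGroup 2 R)
    (ha : a ∈ 𝐍 U ⊓ 𝐍 R) (hb : b ∈ 𝐍 U ⊓ 𝐍 R) (hd : d ∈ 𝐍 U ⊓ 𝐍 R) (a1 : a ^ p ∈ R) (b1 : b ^ p ∈ R) (d1 : d ^ p ∈ R)
    (ab : ⁅a, b⁆ ∈ R) (ad : ⁅a, d⁆ ∈ R) (bd : ⁅b, d⁆ ∈ R) (l : R ≤ C ⊓ D) (a2 : a ∉ R) (a3 : a ∈ C ⊓ D) (b2 : b ∉ C)
    (b3 : b ∈ D) (d2 : d ∉ D) : False := by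
  have := Fact.mk hp
  have : (R.subgroupOf (𝐍 R)).Normal := normal_in_normalizer
  let f := QuotientGroup.mk' (R.subgroupOf (𝐍 R))
  have k : ∀ y : 𝐍 R, f y = 1 ↔ y.1 ∈ R := fun y => QuotientGroup.eq_one_iff y
  let I : Set (𝐍 R) := {⟨a, ha.2⟩, ⟨b, hb.2⟩, ⟨d, hd.2⟩}
  have cm : ∀ u v : 𝐍 R, ⁅u.1, v.1⁆ ∈ R → f u * f v = f v * f u := fun u v h => by
    rw [← comm_eq_one, ← map_commutatorElement, k]; exact h
  have hA : IsElementaryAbelian p ((closure I).map f) := by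
    rw [MonoidHom.map_closure]
    refine ea_closure ?_ ?_
    · rintro _ ⟨u, rfl | rfl | rfl, rfl⟩ _ ⟨v, rfl | rfl | rfl, rfl⟩
      exacts [rfl, cm _ _ ab, cm _ _ ad, (cm _ _ ab).symm, rfl, cm _ _ bd, (cm _ _ ad).symm, (cm _ _ bd).symm, rfl]
    · rintro _ ⟨u, rfl | rfl | rfl, rfl⟩ <;> rw [← map_pow, k] <;> assumption
  obtain ⟨P, hP⟩ := exists_isSylowIn p (closure I)
  have e := (hP.map f).max _ (ea_isPGroup hA) (hP.map f).le le_rfl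
  have o : ∀ y ∈ P, f y = 1 → y = 1 := fun y hy h => Subtype.ext (eq_one_of_coprime_of_mem hR (by
    obtain ⟨i, hi⟩ := exists_orderOf_eq_pow hP.isPGroup hy
    rw [orderOf_coe, hi]
    exact ((Nat.coprime_primes hp Nat.prime_two).2 h2).pow_left _) ((k y).1 h))
  have m : ∀ y ∈ P, f y ∈ (closure I).map f := fun y hy => mem_map_of_mem f (hP.le hy)
  have eP : IsElementaryAbelian p P := isElementaryAbelian_iff.2 ⟨fun u hu => mem_centralizer'.2 fun v hv =>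
    comm_eq_one.1 (o _ (comm_mem_of' (le_normalizer hv) hu) (by
      rw [map_commutatorElement, comm_eq_one]; exact mem_centralizer'.1 (ea_le_centralizer hA (m u hu)) _ (m v hv))),
    fun u hu => o _ (pow_mem hu p) (by rw [map_pow]; exact (isElementaryAbelian_iff.1 hA).2 _ (m u hu))⟩
  have q := c.qt hp h2 hU h0 (ea_map eP (𝐍 R).subtype) (map_le_iff_le_comap.2 (hP.le.trans ((closure_le _).2 (by
    rintro _ (rfl | rfl | rfl); exacts [ha.1, hb.1, hd.1]))))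
  have g : ∀ y ∈ I, ∃ u ∈ P.map (𝐍 R).subtype, u⁻¹ * y.1 ∈ R := fun y hy => by
    obtain ⟨u, hu, e'⟩ := e.le (mem_map_of_mem f (subset_closure hy))
    exact ⟨u, mem_map_of_mem _ hu, (k (u⁻¹ * y)).1 (by rw [map_mul, map_inv, e', inv_mul_cancel])⟩
  obtain ⟨u, u1, u2⟩ := g _ (.inl rfl)
  obtain ⟨v, v1, v2⟩ := g _ (.inr (.inl rfl))
  obtain ⟨w, w1, w2⟩ := g _ (.inr (.inr rfl))
  have j : ∀ {u y : X} {Y : Subgroup X}, u⁻¹ * y ∈ R → R ≤ Y → (u ∈ Y ↔ y ∈ Y) := fun h l =>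
    ⟨fun k => (mul_mem_cancel_left (inv_mem k)).1 (l h), fun k => inv_mem_iff.1 ((mul_mem_cancel_right k).1 (l h))⟩
  have pg := ea_isPGroup (ea_map eP (𝐍 R).subtype)
  generalize P.map (𝐍 R).subtype = P' at *
  have l1 := mul_card_le (A := P' ⊓ D) pg (lt_of_le_of_ne inf_le_left fun e => d2 ((j w2 (l.trans inf_le_right)).1 (e.ge w1).2))
  have l2 := mul_card_le (A := P' ⊓ (C ⊓ D)) (P := P' ⊓ D) (pg.to_le inf_le_left) (lt_of_le_of_ne (inf_le_inf_left _ inf_le_right)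
    fun e => b2 ((j v2 (l.trans inf_le_left)).1 (e.ge ⟨v1, (j v2 (l.trans inf_le_right)).2 b3⟩).2.1))
  have l3 := mul_card_le (A := ⊥) (P := P' ⊓ (C ⊓ D)) (pg.to_le inf_le_left) (bot_lt_iff_ne_bot.2 fun e =>
    a2 ((j u2 le_rfl).1 (bot_le (a := R) (e.le ⟨u1, (j u2 l).2 a3⟩))))
  have := hp.two_le
  rw [card_bot] at l3
  nlinarith [Nat.mul_le_mul_left p l2, Nat.mul_le_mul_left (p * p) l3]

theorem blk_odd (h : Blk 2 B E) : ∃ p : ℕ, p.Prime ∧ p ≠ 2 ∧ ∃ e ∈ E, e ^ p = 1 ∧ e ≠ 1 ∧ e ∉ 𝐂 (W₂ E) := by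
  obtain ⟨p, hp, p1, p2⟩ : ∃ p : ℕ, p.Prime ∧ p ∣ # E ∧ p ≠ 2 := by_contra fun n => h.not_pg (IsPGroup.of_card
    (Nat.eq_prime_pow_of_unique_prime_dvd Nat.card_pos.ne' fun {d} h1 h2 => by_contra fun k => n ⟨d, h1, h2, k⟩))
  have := Fact.mk hp
  obtain ⟨e, he, o⟩ := cauchy p p1
  have e1 := ne_of_ord o hp.ne_one
  exact ⟨p, hp, p2, e, he, o ▸ pow_orderOf_eq_one e, e1, fun c => e1 (eq_one_of_coprime_of_mem (isPGroup_pCoreOf 2 E)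
    (o ▸ (Nat.coprime_primes hp Nat.prime_two).2 p2) (h.cenE.le ⟨he, c⟩))⟩

theorem cen_of_comm (h : ⁅K, L⁆ = ⊥) (hk : g ∈ K) : g ∈ 𝐂 (W₂ L) :=
  centralizer_anti W_le_E (H28.commutator_eq_bot_iff.1 h hk)

theorem exists_three_cyc {m : ℕ} (h : 4 ≤ m) : ∃ (α β γ : Perm (Fin (2 * m + 1))) (j k : Fin (2 * m + 1)),
    (α ∈ alternatingGroup _ ∧ β ∈ alternatingGroup _ ∧ γ ∈ alternatingGroup _) ∧ (α ^ 3 = 1 ∧ β ^ 3 = 1 ∧ γ ^ 3 = 1) ∧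
    (⁅α, β⁆ = 1 ∧ ⁅α, γ⁆ = 1 ∧ ⁅β, γ⁆ = 1) ∧ α ≠ 1 ∧ α j = j ∧ α k = k ∧ β j ≠ j ∧ β k = k ∧ γ k ≠ k := by
  obtain ⟨ι⟩ : Nonempty (Fin 9 ↪ Fin (2 * m + 1)) := ⟨Fin.castLEEmb (by omega)⟩
  obtain ⟨ψ, s, ap⟩ : ∃ ψ : Perm (Fin 9) →* Perm (Fin (2 * m + 1)), (∀ σ, Perm.sign (ψ σ) = Perm.sign σ) ∧
      ∀ σ i, ψ σ (ι i) = ι (σ i) := ⟨Perm.extendDomainHom ι.toEquivRange, fun σ => Perm.sign_extendDomain σ _,
    fun σ i => Perm.viaFintypeEmbedding_apply_image σ ι i⟩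
  have k : ∀ a b c : Fin 9, a ≠ b → b ≠ c → ψ (swap a b * swap b c) ∈ alternatingGroup _ := fun a b c h1 h2 => by
    rw [Perm.mem_alternatingGroup, s]; simp [h1, h2]
  have k1 : ∀ σ, σ ^ 3 = 1 → ψ σ ^ 3 = 1 := fun σ e => by rw [← map_pow, e, map_one]
  have k2 : ∀ σ τ, σ * τ = τ * σ → ⁅ψ σ, ψ τ⁆ = 1 := fun σ τ e => by rw [comm_eq_one, ← map_mul, e, map_mul]
  have k3 : ∀ σ i, ψ σ (ι i) = ι i ↔ σ i = i := fun σ i => by rw [ap, ι.apply_eq_iff_eq]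
  refine ⟨_, _, _, ι 3, ι 6, ⟨k 0 1 2 (by decide) (by decide), k 3 4 5 (by decide) (by decide), k 6 7 8 (by decide) (by decide)⟩,
    ⟨k1 _ (by decide), k1 _ (by decide), k1 _ (by decide)⟩, ⟨k2 _ _ (by decide), k2 _ _ (by decide), k2 _ _ (by decide)⟩,
    fun e => absurd ((k3 _ 0).1 (by rw [e]; rfl)) (by decide), (k3 _ _).2 (by decide), (k3 _ _).2 (by decide),
    mt (k3 _ _).1 (by decide), (k3 _ _).2 (by decide), mt (k3 _ _).1 (by decide)⟩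

namespace A0
variable (i : A0 F T M S H E x)
include i

theorem Q_ne : QQ S E ≠ ⊥ := fun e => i.bk.W_ne (le_bot_iff.1 ((le_nclIn _ _).trans (i.WQ.trans e.le)))
theorem pQ : IsPGroup 2 (QQ S E) := ea_isPGroup i.ea

variable (h : SBk 2 H (bm 2 S) M L)
include h

theorem orb : Two H (𝐍 L) := fun a ha b hb a1 b1 => by_contra fun n => by
  have c := i.cm
  have h1 := h.conj c (inv_mem ha)
  have h2 := h.conj c hb
  have c1 := (h.eq_or h1 c).resolve_left fun e => a1 (inv_mem_iff.1 (mem_normalizer_iff_cj.2 e.symm))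
  have c2 := (h.eq_or h2 c).resolve_left fun e => b1 (mem_normalizer_iff_cj.2 e.symm)
  have c3 := (h1.eq_or h2 c).resolve_left fun e => n (mem_normalizer_iff_cj.2 (by rw [← cj_cj, ← e, cj_cj, mul_inv_cancel, cj_one]))
  obtain ⟨p, hp, p2, e, he, e1, e2, e3⟩ := blk_odd h.toBlk
  have m1 := conj_mem_cj (g := a⁻¹) he
  have m2 := conj_mem_cj (g := b) he
  have nb : ∀ {y}, y ∈ H → y ∈ 𝐍 (QQ S E) ⊓ 𝐍 (⊥ : Subgroup X) := fun hy => ⟨i.HN hy, by rw [normalizer_bot]; trivial⟩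
  have cj3 : ∀ g : X, g * e * g⁻¹ ∉ 𝐂 (W₂ (cj g L)) := fun g k => e3 (by
    rwa [← cj_W, ← cj_centralizer, conj_mem_cj_iff] at k)
  exact i.qt3 hp p2 i.pQ i.Q_ne IsPGroup.of_bot (nb (h.le he)) (nb (h1.le m1)) (nb (h2.le m2)) e1
    (by rw [conj_pow, e1]; simp) (by rw [conj_pow, e1]; simp) (c1.le (commutator_mem_commutator he m1))
    (c2.le (commutator_mem_commutator he m2)) (c3.le (commutator_mem_commutator m1 m2)) bot_le e2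
    ⟨cen_of_comm c1 he, cen_of_comm c2 he⟩ (cj3 _) (cen_of_comm c3 m1) (cj3 _)

theorem deg {m : ℕ} (D : SB 2 (Fin (2 * m + 1)) (bm 2 S) L) : m = 2 := by
  obtain ⟨n, e⟩ := h.deg i.cm i.sylH bm_le ⟨i.bk.blk, i.EH, i.EM⟩ i.bk.lbk (fun D c l => .inl ((map_eq_bot_iff_of_injective _
    S.subtype_injective).1 (i.star' i.EH i.EM (i.pS.to_le (map_subtype_le D)) (le_normalizer_of_le_centralizer l)
      (le_normalizer.trans (nrm_char c)) (nrm_char c i.xN)))) m (D.quot D.irr h.ker')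
  have m2 := D.four
  rw [Fintype.card_fin] at m2
  by_contra! n2
  have m4 : 4 ≤ m := by
    rcases n with _ | _ | _ | n
    iterate 3 omega
    have : 2 ^ 3 ≤ 2 ^ (n + 1 + 1 + 1) := Nat.pow_le_pow_right two_pos (by omega)
    omega
  obtain ⟨α, β, γ, j, k, ⟨a1, b1, c1⟩, ⟨a2, b2, c2⟩, ⟨ab, ac, bc⟩, a3, a4, a5, b3, b4, c3⟩ := exists_three_cyc m4
  obtain ⟨a, ha, rfl⟩ := D.surj _ a1
  obtain ⟨b, hb, rfl⟩ := D.surj _ b1
  obtain ⟨c, hc, rfl⟩ := D.surj _ c1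
  have ker : ∀ {y}, y ∈ L → (D.π y = 1 ↔ y ∈ O₂ L) := fun hy =>
    (D.π_eq_one D.irr hy).trans ⟨fun e => h.ker'.le ⟨hy, e⟩, fun e => (h.ker'.ge e).2⟩
  have nb : ∀ {y}, y ∈ L → y ∈ 𝐍 (QQ S E) ⊓ 𝐍 (O₂ L) := fun hy => ⟨i.HN (h.le hy), le_normalizer_pCoreOf _ _ hy⟩
  have pw : ∀ {y}, y ∈ L → D.π y ^ 3 = 1 → y ^ 3 ∈ O₂ L := fun hy e => (ker (pow_mem hy 3)).1 (by rwa [D.π_pow hy])
  have cm : ∀ {y z}, y ∈ L → z ∈ L → ⁅D.π y, D.π z⁆ = 1 → ⁅y, z⁆ ∈ O₂ L := fun hy hz e =>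
    (ker (comm_mem_of' (le_normalizer hy) hz)).1 (by rwa [D.π_comm hy hz])
  have st : ∀ {y} j, y ∈ L → (y ∈ D.cimg D.irr (MulAction.stabilizer _ j) ↔ D.π y j = j) := fun j hy => by
    rw [D.mem_cimg, and_iff_right (D.le_gam hy), D.π'_E D.irr hy]; rfl
  have lo : ∀ j, O₂ L ≤ D.cimg D.irr (MulAction.stabilizer _ j) := fun j y hy =>
    (st j (pCoreOf_le _ _ hy)).2 (by rw [(ker (pCoreOf_le _ _ hy)).2 hy]; rfl)
  exact i.qt3 Nat.prime_three (by decide) i.pQ i.Q_ne (isPGroup_pCoreOf 2 L) (nb ha) (nb hb) (nb hc) (pw ha a2) (pw hb b2)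
    (pw hc c2) (cm ha hb ab) (cm ha hc ac) (cm hb hc bc) (le_inf (lo j) (lo k)) (mt (ker ha).2 a3)
    ⟨(st j ha).2 a4, (st k ha).2 a5⟩ (mt (st j hb).1 b3) ((st k hb).2 b4) (mt (st k hc).1 c3)

end A0

end H21.UM
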