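import Cfsg.Agent.H21.UM5

/-! Theorem A: coordinates for an `A₅`-block; the case of one such block. -/

set_option autoImplicit false
set_option linter.unusedVariables false
set_option linter.unusedSectionVars false

namespace H21.UM
open H9 hiding zj
open Matrix hiding mul_inv_rev
open Cfsg Subgroup H28 H13.SL2 MatrixGroups H29 H29.PU H29.BB H28.GC Equiv
open scoped commutatorElement

universe u
variable {X : Type u} [Group X] [Finite X] {A B C D E E' E₁ E₂ G H K L M N P Q R S T U V W Y : Subgroup X}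
  {a b d e f g s t u v w x y z : X} {F F' : Type} [Field F] [Finite F] [Field F'] [Finite F']
  {π : X → Perm (Fin 5)} {ψ : X → Fin 5 → ZMod 2}

theorem sb_comm {ι : Type} [Fintype ι] [DecidableEq ι] (D : SB 2 ι B L) (h : Blk 2 B L) (hR : IsPGroup 2 R) (h1 : B ≤ R)
    (h2 : R ≤ 𝐍 L) (hy : y ∈ R) (i : ι) : D.π' y (D.τ i) = D.τ (D.π' y i) := by
  have l := h2.trans (D.le_gam' h)
  have p := D.pg_img D.irr l hR
  have sw : ∀ i ≠ D.o, swap i (D.τ i) ∈ D.img D.irr R := fun i hi =>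
    let ⟨b, b1, b2⟩ := D.swap_mem h hi; (D.mem_img D.irr l).2 ⟨b, h1 b1, b2⟩
  have m := (D.mem_img D.irr l).2 ⟨y, hy, rfl⟩
  obtain ⟨o, ho⟩ := exists_fixed p D.odd
  obtain rfl : o = D.o := by_contra fun n => D.τ_ne n (by simpa using ho _ (sw o n))
  by_cases hi : i = D.o
  · rw [hi, D.τ_o, ho _ m, D.τ_o]
  have n : D.π' y i ≠ D.o := fun e => hi ((D.π' y).injective (e.trans (ho _ m).symm))
  exact swap_disj p (by rw [swap_apply_apply]; exact mul_mem (mul_mem m (sw i hi)) (inv_mem m)) (sw _ n)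
    (fun e => D.τ_ne hi ((D.π' y).injective e).symm) (D.τ_ne n).symm

/-- an `A₅`-block in coordinates -/
structure C5 (B L : Subgroup X) (π : X → Perm (Fin 5)) (ψ : X → Fin 5 → ZMod 2) : Prop extends Blk 2 B L where
  eq : O₂ L = W₂ L
  πm : ∀ a ∈ 𝐍 L, ∀ b ∈ 𝐍 L, π (a * b) = π a * π b
  πk : ∀ g ∈ 𝐍 L, π g = 1 ↔ g ∈ 𝐂 (W₂ L)
  πL : ∀ σ : Perm (Fin 5), Perm.sign σ = 1 → ∃ l ∈ L, π l = σ
  πL' : ∀ l ∈ L, Perm.sign (π l) = 1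
  up : ∀ b ∈ B, ∀ i, π b i = i ∨ π b i = τ₀ i
  off : ∀ i ≠ 4, ∃ A, MaxAb 2 B A ∧ (∃ a ∈ A, π a = swap i (τ₀ i)) ∧ ∀ a ∈ A, π a = 1 ∨ π a = swap i (τ₀ i)
  cτ : ∀ R : Subgroup X, IsPGroup 2 R → B ≤ R → R ≤ 𝐍 L → ∀ y ∈ R, π y * τ₀ = τ₀ * π y
  ψm : ∀ u ∈ W₂ L, ∀ v ∈ W₂ L, ψ (u * v) = ψ u + ψ v
  ψk : ∀ v ∈ W₂ L, ψ v = 0 ↔ v ∈ 𝐂 L
  ψs : ∀ w : Fin 5 → ZMod 2, ∑ i, w i = 0 → ∃ v ∈ W₂ L, ψ v = w
  ψe : ∀ v ∈ W₂ L, ∑ i, ψ v i = 0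
  ψc : ∀ g ∈ 𝐍 L, ∀ v ∈ W₂ L, ∀ i, ψ (g * v * g⁻¹) (π g i) = ψ v i

theorem exists_rho : ∀ (τ : Perm (Fin 5)) (o : Fin 5), (∀ i, τ i = i ↔ i = o) → (∀ i, τ (τ i) = i) →
    ∃ ρ : Perm (Fin 5), ρ o = 4 ∧ ∀ i, ρ (τ i) = τ₀ (ρ i) := by
  unfold τ₀; decide +kernel

theorem exists_c5 (D : SB 2 (Fin 5) B L) (h : Blk 2 B L) : ∃ π ψ, C5 B L π ψ := by
  obtain ⟨ρ, r1, r2⟩ := exists_rho _ _ D.τo D.ττ
  have r3 : ∀ i, ρ (D.τ (ρ⁻¹ i)) = τ₀ i := fun i => by simp [r2]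
  have g := D.le_gam' h
  have k : ∀ σ : Perm (Fin 5), ρ * σ * ρ⁻¹ = 1 ↔ σ = 1 := fun σ => conj_eq_one_iff
  have sw : ∀ i, ρ * swap (ρ⁻¹ i) (D.τ (ρ⁻¹ i)) * ρ⁻¹ = swap i (τ₀ i) := fun i => by
    rw [← swap_apply_apply, r3]; simp
  refine ⟨fun g => ρ * D.π' g * ρ⁻¹, fun v => (ρ • D.ψ v).1, h, D.eqQ, fun a ha b hb => ?_, fun a ha => ?_, fun σ e => ?_,
    fun l hl => ?_, fun b hb i => ?_, fun i hi => ?_, fun R h1 h2 h3 y hy => Equiv.ext fun i => ?_, fun u hu v hv => ?_,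
    fun v hv => ?_, fun w e => ?_, fun v hv => EW.sum _, fun a ha v hv i => ?_⟩
  · rw [D.π'_mul D.irr (g ha) (g hb)]; group
  · rw [k, D.one_iff h ha]
  · obtain ⟨l, hl, e'⟩ := D.surj (ρ⁻¹ * σ * ρ) (by simp [Perm.mem_alternatingGroup, e])
    exact ⟨l, hl, by rw [D.π'_E D.irr hl, e']; group⟩
  · have := D.mem l hl
    rw [Perm.mem_alternatingGroup, ← D.π'_E D.irr hl] at this
    simp [this]
  · exact (D.up b hb (ρ⁻¹ i)).imp (fun e => by simp only [Perm.mul_apply, e]; simp) fun e => by simp only [Perm.mul_apply, e, r3]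
  · obtain ⟨A, h1, ⟨a, h2, h3⟩, h4⟩ := D.off (ρ⁻¹ i) fun e => hi (by rw [← r1, ← e]; simp)
    exact ⟨A, h1, ⟨a, h2, by rw [h3, sw]⟩, fun a ha => (h4 a ha).imp (k _).2 fun e => by rw [e, sw]⟩
  · simp only [Perm.mul_apply]
    rw [← r3, Perm.inv_eq_iff_eq.2 rfl, sb_comm D h h1 h2 h3 hy, r2]
  · rw [D.mul u hu v hv, smul_add]; rfl
  · exact (ZeroMemClass.coe_eq_zero.trans (smul_eq_zero_iff_eq ρ)).trans ((D.ker v hv).trans (and_iff_right hv))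
  · obtain ⟨v, hv, e'⟩ := D.onto (ρ⁻¹ • ⟨w, e⟩)
    exact ⟨v, hv, by rw [e', smul_inv_smul]⟩
  · rw [← D.act_ψ (nrmW le_rfl ha) (nrmW' le_rfl ha) hv, D.act_gam (g ha)]
    simp

theorem d5a : ∀ σ : Perm (Fin 5), (∀ i, σ i = i ∨ σ i = τ₀ i) →
    σ = 1 ∨ σ = swap 0 (τ₀ 0) ∨ σ = swap 2 (τ₀ 2) ∨ σ = swap 0 (τ₀ 0) * swap 2 (τ₀ 2) := by unfold τ₀; decide +kernel
theorem d5b : ∀ σ : Perm (Fin 5), σ * τ₀ = τ₀ * σ → σ ^ 2 ^ 2 = 1 := by unfold τ₀; decide +kernel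
theorem d5c : ∀ σ : Perm (Fin 5), (∀ i, σ i = i ∨ σ i = τ₀ i) → σ * τ₀ = τ₀ * σ := by unfold τ₀; decide +kernel
theorem d5d : ∀ σ : Perm (Fin 5), σ * τ₀ = τ₀ * σ → ¬ (∀ i, σ i = i ∨ σ i = τ₀ i) → ∀ ρ : Perm (Fin 5), ρ * τ₀ = τ₀ * ρ →
    ¬ (∀ i, ρ i = i ∨ ρ i = τ₀ i) → ∀ i, (σ * ρ) i = i ∨ (σ * ρ) i = τ₀ i := by unfold τ₀; decide +kernel

namespace C5
variable (c : C5 B L π ψ)
include c

theorem π1 : π 1 = 1 := (c.πk 1 (one_mem _)).2 (one_mem _)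
theorem πi (ha : a ∈ 𝐍 L) : π a⁻¹ = (π a)⁻¹ :=
  eq_inv_of_mul_eq_one_left (by rw [← c.πm _ (inv_mem ha) _ ha, inv_mul_cancel, c.π1])
theorem πp (ha : a ∈ 𝐍 L) (n : ℕ) : π (a ^ n) = π a ^ n := by
  induction n with
  | zero => simpa using c.π1
  | succ n ih => rw [pow_succ, c.πm _ (pow_mem ha n) _ ha, ih, pow_succ]
theorem cen (ha : a ∈ 𝐍 L) (hb : b ∈ 𝐍 L) (e : π a = π b) : a⁻¹ * b ∈ 𝐂 (W₂ L) :=
  (c.πk _ (mul_mem (inv_mem ha) hb)).1 (by rw [c.πm _ (inv_mem ha) _ hb, c.πi ha, e, inv_mul_cancel])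
theorem LN : L ⊔ B ≤ 𝐍 L := sup_le le_normalizer c.nrm
theorem exB {σ : Perm (Fin 5)} (h : ∀ i, σ i = i ∨ σ i = τ₀ i) : ∃ b ∈ B, π b = σ := by
  obtain ⟨A, h1, ⟨a, h2, h3⟩, -⟩ := c.off 0 (by decide)
  obtain ⟨A', k1, ⟨b, k2, k3⟩, -⟩ := c.off 2 (by decide)
  rcases d5a σ h with rfl | rfl | rfl | rfl
  exacts [⟨1, one_mem _, c.π1⟩, ⟨a, h1.le h2, h3⟩, ⟨b, k1.le k2, k3⟩, ⟨a * b, mul_mem (h1.le h2) (k1.le k2), by
    rw [c.πm _ (c.nrm (h1.le h2)) _ (c.nrm (k1.le k2)), h3, k3]⟩]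
theorem surj (σ : Perm (Fin 5)) : ∃ g ∈ L ⊔ B, π g = σ := by
  obtain ⟨b, h1, h2⟩ := c.exB (σ := swap 0 1) (by unfold τ₀; decide)
  rcases Int.units_eq_one_or (Perm.sign σ) with e | e
  · obtain ⟨l, hl, rfl⟩ := c.πL σ e
    exact ⟨l, mem_sup_left hl, rfl⟩
  · obtain ⟨l, hl, e'⟩ := c.πL (σ * swap 0 1) (by simp [e])
    exact ⟨l * b, mul_mem_sup hl h1, by rw [c.πm _ (le_normalizer hl) _ (c.nrm h1), e', h2]; simp⟩

/-- the preimage of the centralizer of `τ₀` -/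
def ct : Subgroup X where
  carrier := {y | y ∈ L ∧ π y * τ₀ = τ₀ * π y}
  mul_mem' := fun h k => ⟨mul_mem h.1 k.1, by
    rw [c.πm _ (le_normalizer h.1) _ (le_normalizer k.1), mul_assoc, k.2, ← mul_assoc, h.2, mul_assoc]⟩
  one_mem' := ⟨one_mem _, by rw [c.π1, one_mul, mul_one]⟩
  inv_mem' := fun h => ⟨inv_mem h.1, by rw [c.πi (le_normalizer h.1)]; exact (Commute.inv_left h.2 : _)⟩

theorem memS (hS : IsSylowIn 2 (S ⊓ L) L) (p : IsPGroup 2 S) (l : B ≤ S) (hy : y ∈ L ⊔ B) (e : π y * τ₀ = τ₀ * π y) :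
    y ∈ S := by
  obtain ⟨a, ha, b, hb, rfl⟩ := (mem_sup_of_le_normalizer' c.nrm).1 hy
  refine mul_mem ((hS.max c.ct (isPGroup_iff_mem.2 fun y hy => ⟨3, ?_⟩) (fun y hy => ⟨hy.2, c.cτ (S ⊓ 𝐍 L)
    (p.to_le inf_le_left) (le_inf l c.nrm) inf_le_right y ⟨hy.1, le_normalizer hy.2⟩⟩) fun _ h => h.1).le ⟨ha, ?_⟩).1 (l hb)
  · have := c.eq.le (c.cenE.le ⟨pow_mem hy.1 _, (c.πk _ (le_normalizer (pow_mem hy.1 _))).1
      ((c.πp (le_normalizer hy.1) _).trans (d5b _ hy.2))⟩)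
    rw [pow_succ, pow_mul, sq, sq_of_ea eaW this]
  · rw [c.πm _ (le_normalizer ha) _ (c.nrm hb)] at e
    exact (by simpa using Commute.mul_left e (Commute.inv_left (d5c _ (c.up b hb))) : Commute (π a) τ₀)

end C5

namespace A0
variable (i : A0 F T M S H E x) (h : SBk 2 H (bm 2 S) M L) (l : E ≤ L)
include i h l

theorem WL : W₂ E ≤ W₂ L := by
  rw [← i.bk.blk.comm_V i.cm.toAmb i.EH, ← h.comm_V i.cm.toAmb h.le]; exact commutator_mono le_rfl l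

theorem a5 (c : C5 (bm 2 S) L π ψ) (n : S ≤ 𝐍 L) : A5 T M S (L ⊔ bm 2 S) L (bm 2 S) (QQ S E) (W₂ L) x π ψ := by
  have am := i.cm.toAmb
  have mS := fun {y} => c.memS (y := y) (h.sn.isSylowIn_inf i.sylH) i.pS bm_le
  have cS := c.cτ S i.pS bm_le n
  have lW : WW S E ≤ W₂ L := nclIn_le (i.WL h l) (nrmW n)
  have SG : S ≤ L ⊔ bm 2 S := fun y hy => by
    obtain ⟨g, hg, e⟩ := c.surj (π y)
    have := i.cenS (mul_mem (inv_mem (mS hg (e ▸ cS y hy))) hy) (centralizer_anti lW (c.cen (c.LN hg) (n hy) e))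
    exact mul_inv_cancel_left g y ▸ mul_mem hg (mem_sup_right this)
  have am' := h.amb am h.le
  have j := i.tr am'.cp SG (l.trans le_sup_left)
  have πk : ∀ g ∈ L ⊔ bm 2 S, π g = 1 ↔ g ∈ QQ S E := fun g hg => by
    rw [c.πk g (c.LN hg), ← j.eqO, ← h.kerL am h.le]; exact (and_iff_right hg).symm
  have QG : QQ S E ≤ L ⊔ bm 2 S := QB.trans le_sup_right
  refine ⟨j.toInst, j.cp, i.xT, i.xN, i.xS, i.x2, i.xB, fun a ha b hb => c.πm a (c.LN ha) b (c.LN hb), c.surj, πk, c.πL, c.πL',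
    fun g hg => ⟨cS g, mS hg⟩, fun g hg => ⟨c.up g, fun e => ?_⟩, le_sup_left, c.LN, le_sup_right, QG, i.ea,
    j.eqO ▸ h.W_le_P am' le_sup_left, W_le_E, fun y hy => c.eq.le (h.cenE.le ⟨hy.1, (c.πk y (le_normalizer hy.1)).1
      ((πk y (mem_sup_left hy.1)).2 hy.2)⟩), nrmW c.LN, h.WW.ge, j.eqO ▸ c.eq ▸ h.comm_P am' le_sup_left, fun d hd => ?_,
    c.ψm, c.ψk, c.ψs, c.ψe, fun g hg => c.ψc g (c.LN hg), ?_, fun y y1 y2 y3 y4 => ?_⟩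
  · obtain ⟨b, hb, e⟩ := c.exB e
    have m := mul_mem (inv_mem (mem_sup_right hb)) hg
    exact mul_inv_cancel_left b g ▸ mul_mem hb (QB ((πk _ m).1 ((c.πk _ (c.LN m)).2 (c.cen (c.nrm hb) (c.LN hg) e))))
  · obtain ⟨m, p⟩ := i.pc
    refine le_c_iff.1 (i.B_le.trans (sup_le (le_c_iff.2 ?_) ((ea_le_centralizer i.ea).trans (cen_le_c hd.1))))
    rw [i.cjW, mem_cen_ncl]
    exact fun s hs => cj_cj s x _ ▸ dq (p s (i.SB hs)) (p _ (i.sxB hs)) (i.ncs hs) (le_normalizer_centralizer (i.bks hs).nrm)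
      hd.1.1 (centralizer_anti (cj_le_of_mem_normalizer l (n hs)) hd.2)
  · obtain ⟨A, hA, ⟨a, a1, a2⟩, a3⟩ := c.off 0 (by decide)
    have nA := hA.le.trans c.nrm
    have k : ∀ y ∈ A, π y = 1 → y ∈ 𝐂 (QQ S E) := fun y hy e => ea_le_centralizer i.ea ((πk y (mem_sup_right (hA.le hy))).1 e)
    refine ⟨a, mem_sup_right (hA.le a1), a2, (idx_anti (cen_le_c a1)).trans ((MaxAb.relIndex_le hA QB i.ea).trans
      (two_idx fun u hu v hv u1 v1 => k _ (mul_mem hu hv) ?_))⟩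
    rw [c.πm _ (nA hu) _ (nA hv), (a3 u hu).resolve_left (mt (k u hu) u1), (a3 v hv).resolve_left (mt (k v hv) v1),
      Equiv.swap_mul_self]
  · have k : IA T M S H y := ⟨i.toInst, i.cp, y1, y2, y3, y4⟩
    obtain ⟨s, hs, j⟩ := k.a0 i.bk i.EH i.EM
    refine j.B_le.trans (sup_le_sup_right ?_ _)
    rw [← cj_cj, cj_eq_self (k.nrm' nW hs)]
    exact cj_mono y lW

end A0

end H21.UM
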