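import Cfsg.Agent.H21.UM6

/-! Theorem A: several blocks; the assembly. -/

set_option autoImplicit false
set_option linter.unusedVariables false
set_option linter.unusedSectionVars false

namespace H21.UM
open H9 hiding zj
open Matrix hiding mul_inv_rev
open Cfsg Subgroup H28 H13.SL2 MatrixGroups H29 H29.PU H29.BB H28.GC Equiv
open scoped commutatorElement

universe u
variable {X : Type u} [Group X] [Finite X] {A B C D E E' E₁ E₂ G H K L M N P Q R S T U V W Y : Subgroup X}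
  {a b d e f g s t u v w x y z : X} {F F' : Type} [Field F] [Finite F] [Field F'] [Finite F']
  {π : X → Perm (Fin 5)} {ψ : X → Fin 5 → ZMod 2}

theorem g3 (k : Bk F B E) (q : # F = 2) :
    (∀ e ∈ E, e ^ 3 ∈ W₂ E) ∧ ∀ a ∈ 𝐍 E, a ^ 3 = 1 → ∀ e ∈ E, ⁅a, e⁆ ∈ W₂ E := by
  let D := k.lb
  have := k.lin.char
  have ker : ∀ {y}, y ∈ E → D.π y = 1 → y ∈ W₂ E := fun hy e => k.QE.le (k.blk.ker'.le ⟨hy, (D.π_eq_one irr_lin hy).1 e⟩)
  have c3 := card_comm_two q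
  refine ⟨fun e he => ker (pow_mem he 3) ((D.π_pow he 3).trans (congrArg Subtype.val
    (c3 ▸ pow_card_eq_one' : (⟨_, D.mem e he⟩ : commutator _) ^ 3 = 1))), fun a ha a3 e he => ?_⟩
  have n1 := nrmW (p := 2) le_rfl ha
  have n2 := nrmW' (p := 2) le_rfl ha
  have lin := D.semi_small (by omega) n1 n2
  have g : a ∈ D.gam := ⟨n1, n2, exists_of_lin _ (D.act_add n1 n2) lin ((two_cases q _).resolve_left fun c => by
    have := D.dt_act n1 n2 (σ := RingHom.id F) lin (D.act a⁻¹ ![1, 0]) (D.act a⁻¹ ![0, 1])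
    rw [D.act_inv' n1 n2, D.act_inv' n1 n2, c] at this
    simp [dt] at this)⟩
  have m : D.π' a ∈ commutator SL(2, F) := ((pResidualOf_top 2).trans res_eq).le
    (mem_pResidualOf trivial (Nat.Coprime.coprime_dvd_left (orderOf_dvd_of_pow_eq_one (n := 3) (by
      rw [← D.π'_pow irr_lin g, a3, D.π'_one irr_lin])) (by decide)))
  have := Fact.mk Nat.prime_three
  have := isCyclic_of_prime_card c3
  let := IsCyclic.commGroup (α := commutator SL(2, F))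
  refine ker (comm_mem_of' ha he) ?_
  rw [← D.toGA.π'_E irr_lin (comm_mem_of' ha he), D.π'_comm irr_lin g (D.le_gam he), D.toGA.π'_E irr_lin he, comm_eq_one]
  exact congrArg Subtype.val (mul_comm (⟨_, m⟩ : commutator _) ⟨_, D.mem e he⟩)

theorem two_cube (h : Two H K) (ha : a ∈ H) (a3 : a ^ 3 = 1) : a ∈ K := by_contra fun n =>
  n (by simpa [mul_assoc, show a * (a * a) = 1 by rw [← a3, pow_three]] using mul_mem (h a ha a ha n n) (h a ha a ha n n))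

theorem exists_t (c : C5 B L π ψ) (hS : IsSylowIn 2 (S ⊓ L) L) (p : IsPGroup 2 S) (l : B ≤ S) :
    ∃ t ∈ S ⊓ L, ¬ ∀ i, π t i = i ∨ π t i = τ₀ i :=
  let ⟨t, h, e⟩ := c.πL (swap 0 2 * swap 1 3) (by decide)
  ⟨t, ⟨c.memS hS p l (mem_sup_left h) (by rw [e]; unfold τ₀; decide), h⟩, by rw [e]; unfold τ₀; decide⟩

namespace A0
variable (i : A0 F T M S H E x)
include i

theorem pc1 : ∃ n, Pc n (bm 2 S) (W₂ E) (𝐂 E) ∧ ∀ g ∈ 𝐍 (bm 2 S), Pc n (bm 2 S) (cj g (W₂ E)) (𝐂 (cj g E)) :=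
  let ⟨n, p⟩ := i.pc; ⟨n, by simpa only [cj_one] using p 1 (one_mem _), p⟩
theorem W1 : W₂ E ≤ WW S E := le_nclIn _ _
theorem QC : QQ S E ≤ 𝐂 (W₂ E) := inf_le_right.trans (centralizer_anti i.W1)
theorem p1 (hs : s ∈ S) (n : s ∉ 𝐍 E) : cj (s * x) (W₂ E) ≤ 𝐂 (W₂ E) := by_contra fun k => n (mem_normalizer_iff_cj.2
  ((i.par' hs (one_mem _) hs (nc_symm (i.ncs hs)) (by rw [cj_one]; exact nc_symm k)).trans (cj_one _)))
theorem p2' (hs : s ∈ S) (n : s ∉ 𝐍 E) : cj s (W₂ E) ≤ 𝐂 (cj x (W₂ E)) := by_contra fun k => n (mem_normalizer_iff_cj.2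
  ((i.par' hs (one_mem _) (one_mem _) (by rwa [one_mul]) (by rw [cj_one, one_mul]; exact nc_symm i.nc)).trans (cj_one _)))
theorem x2E : x * x ∈ 𝐍 E := by_contra fun n => nc_conj i.nc x (cj_cj x x _ ▸ i.p2' i.x2 n)
theorem xS1 : x ∈ 𝐍 (S ⊓ 𝐍 E : Subgroup X) := mem_normalizer_of_cj_le (by
  rintro _ ⟨s, hs, rfl⟩
  refine ⟨i.cjS hs.1, by_contra fun n => i.nc ?_⟩
  have := i.p1 (i.cjS hs.1) n
  rwa [inv_mul_cancel_right, ← cj_cj, cj_eq_self (nrmW le_rfl hs.2)] at this)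

theorem noa (hs : s ∈ S) (h : ∀ v ∈ bm 2 S, v * v = 1 → v * (s * x * v * (s * x)⁻¹) = s * x * v * (s * x)⁻¹ * v) : False := by
  obtain ⟨n, p0, p⟩ := i.pc1
  obtain ⟨v, v1, v2⟩ := SetLike.not_le_iff_exists.1 (nc_symm i.bk.blk.not_B)
  have aB := i.sxB hs
  have m : (s * x)⁻¹ * x ∈ S := by rw [mul_inv_rev]; exact i.cjS' (inv_mem hs)
  generalize s * x = a at *
  have q := p a aB
  have m1 := conj_mem_cj (g := a) v1
  have h2 := h v (p0.le v1) (sq_of_ea p0.ea v1)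
  by_cases k : cj a (W₂ E) ≤ 𝐂 (W₂ E)
  swap
  · exact v2 ((p0.ti _ (q.le m1) v v1 (by rw [comm_eq_one.2 h2.symm]; exact one_mem _)).elim (fun e =>
      (Q5.mem_iff' (le_normalizer_centralizer le_rfl aB)).1 (q.cen p0.le (nc_symm k) ⟨m1, e⟩)) id)
  obtain ⟨w, w1, w2⟩ := SetLike.not_le_iff_exists.1 i.nc
  have m2 : a⁻¹ * w * a ∈ WW S E := W_le m (by rw [← cj_cj]; simpa using conj_mem_cj (g := a⁻¹) w1)
  have m3 := mul_mem (i.W1 v1) m2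
  have h1 := h _ (QB (i.WQ m3)) (sq_of_ea i.eW m3)
  have h3 := h _ (QB (i.WQ m2)) (sq_of_ea i.eW m2)
  have c := p0.cm _ ⟨QB (i.WQ m2), i.QC (i.WQ m2)⟩ _ ⟨q.le m1, k m1⟩
  have n := le_normalizer_centralizer i.bk.nrm
  have c' := conj_mem_of_mem_normalizer' (n (q.le m1)) (inv_mem (conj_mem_of_mem_normalizer (n (p0.le v1)) c))
  rw [show a * (v * (a⁻¹ * w * a)) * a⁻¹ = a * v * a⁻¹ * w by group] at h1
  rw [show a * (a⁻¹ * w * a) * a⁻¹ = w by group] at h3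
  refine (p0.ti w ((p x i.xB).le w1) v v1 (commutatorElement_mem_comm.1 ?_)).elim w2 v2
  generalize a⁻¹ * w * a = u at *
  generalize a * v * a⁻¹ = y at *
  have e : v * ⁅u, y⁆ * v⁻¹ * y * ⁅v, w⁆ = y := calc
    _ = v * u * (y * w) * ((u * w)⁻¹ * ((v * y)⁻¹ * (y * v)) * (w * u)) * (v * u)⁻¹ * w⁻¹ := by
      simp only [commutatorElement_def]; group
    _ = y := by rw [h1, h2, h3]; group
  rwa [eq_inv_mul_of_mul_eq e, mul_inv_rev]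

theorem noQ (h0 : bm 2 S ≤ R) (h1 : R ≤ S) (hx : x ∈ 𝐍 R) (x2 : x * x ∈ R) (hA : MaxAb 2 (zpowers x ⊔ R) A)
    (n : zpowers x ⊔ R ≤ 𝐍 A) : False := by
  have l : A ≤ S := fun a ha => (mem_ext hx x2 (hA.le ha)).elim (@h1 a) fun e => (i.noa (inv_mem (h1 e)) fun v hv v2 => by
    rw [mul_inv_rev, inv_mul_cancel_right, inv_of_ea hA.ea ha]
    have := sq_of_ea hA.ea (comm_mem_of (zpowers_le.2 (n (mem_sup_right (h0 hv)))) ha (mem_zpowers v))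
    have e : a * v * a⁻¹ * (a * v * a⁻¹) = 1 := conj_sq v2
    rw [commutatorElement_def, inv_eq_of_mul_eq_one_right v2, mul_eq_one_iff_eq_inv, mul_inv_rev,
      inv_eq_of_mul_eq_one_right v2, inv_eq_of_mul_eq_one_right e] at this
    exact this.symm).elim
  have m := (i.cm.maxAb i.pS bm_le i.SH).2 (i.mxS.of_card_le l hA.abE
    (hA.card_le (QB.trans (h0.trans le_sup_right)) i.mxS.abE))
  obtain ⟨_, p0, p⟩ := i.pc1
  have e := cj_eq_self (n (mem_sup_left (mem_zpowers x)))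
  have f : ∀ {Y : Subgroup X}, A ≤ 𝐂 Y → A ≤ 𝐂 (cj x Y) := fun h => by rw [← cj_centralizer, ← e]; exact cj_mono x h
  have k : A ≤ 𝐂 (W₂ E) ∧ A ≤ 𝐂 (cj x (W₂ E)) := (choice p0 (p x i.xB) i.nc m.le m.ea).elim (fun h => ⟨h, f h⟩) fun h =>
    ⟨by simpa only [cj_cj, cj_eq_self (nrmW le_rfl i.x2E)] using f h, h⟩
  exact i.nc fun w hw => k.1 (m.mem_of_mem_centralizer ((p x i.xB).le hw) (by rw [sq, sq_of_ea (p x i.xB).ea hw])
    (le_centralizer_comm.1 k.2 hw))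

theorem ib (h0 : bm 2 S ≤ R) (h1 : R ≤ S) (hx : x ∈ 𝐍 R) (x2 : x * x ∈ R) (j : Inst T M (zpowers x ⊔ R) K) :
    IB T M (zpowers x ⊔ R) K := ⟨j, fun K a b => by_contra fun n =>
  let ⟨_, k⟩ := (j.toA a b n).ia a
  let ⟨_, _, _, _, e1, e2, e3⟩ := k.exists_bk
  let ⟨_, _, m⟩ := k.a0 e1 e2 e3
  i.noQ h0 h1 hx x2 m.mxS nQ⟩

theorem pp' (hs : s ∈ S) : PP M (cj s E ⊔ bm 2 S) :=
  have k := i.bks hs
  have l : QQ S E ≤ O₂ (cj s E ⊔ bm 2 S) := k.leQ QB (by rw [← cj_W]; exact fun y hy => (mem_Q.1 hy).2 s hs)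
  ⟨k.amb.cp, fun e => i.EMs hs (le_sup_left.trans e), k.QB.trans (bm_le.trans i.SM),
    inf_le_right.trans ((centralizer_anti l).trans (i.cQ.trans l))⟩

theorem idxB (hs : s ∈ S) (n : s ∉ 𝐍 E) : # F * 2 ≤ (QQ S E).relIndex (bm 2 S) := by
  obtain ⟨_, p⟩ := i.pc
  refine le_trans ?_ (idx_mul (inf_le_left.trans i.QC) (le_inf (i.p1 hs n) (p _ (i.sxB hs)).le))
  rw [bk_idx i.bk]
  exact Nat.mul_le_mul_left _ (two_le fun e => i.ncs hs fun y hy => (mem_Q.1 (e hy)).2 s hs)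

theorem tb1 (hs : s ∈ S) (n : s ∉ 𝐍 E) (h0 : A ≠ QQ S E) (hA : MaxAb 2 S A) (hN : S ≤ 𝐍 A) :
    ∃ A', MaxAb 2 S A' ∧ A' ≤ QQ S E ⊔ A ∧ A' ≠ QQ S E ∧ A' ≠ A := by
  obtain ⟨_, p0, p⟩ := i.pc1
  have am := i.cm.maxAb (A := A) i.pS bm_le i.SH
  have m := am.2 hA
  have f : ∀ {Y : Subgroup X} {t}, t ∈ S → A ≤ 𝐂 Y → A ≤ 𝐂 (cj t Y) := fun ht h => by
    rw [← cj_centralizer, ← cj_eq_self (hN ht)]; exact cj_mono _ h
  have k := (choice p0 (p x i.xB) i.nc m.le m.ea).resolve_left fun h => h0 (eq_of_le_of_card_le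
    (fun y hy => mem_Q.2 ⟨m.le hy, fun t ht => f ht h hy⟩) (hA.card_eq i.mxS).ge)
  have q := p x i.xB
  have l : cj x (W₂ E) ≤ A := fun w hw => m.mem_of_mem_centralizer (q.le hw) (by rw [sq, sq_of_ea q.ea hw])
    (le_centralizer_comm.1 k hw)
  refine ⟨_, (i.cm.maxAb i.pS bm_le i.SH).1 (maxAb_sup_cen i.mxB q.le q.ea ((idx_mono QB).trans (q.i1.trans (q.i2.trans
    (idx_le_of (inf_comm _ (cj x (W₂ E)) ▸ q.cen QB fun e => nc_symm i.nc (i.W1.trans (i.WQ.trans e)))))))),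
    sup_le_sup inf_le_left l, fun e => i.nc (le_sup_right.trans (e.le.trans i.QC)), fun e => nc_symm (i.ncs hs) ?_⟩
  exact (le_inf ((W_le hs).trans i.WQ) (i.p2' hs n)).trans (le_sup_left.trans (e.le.trans (cj_cj s x _ ▸ f hs k)))

variable (h : SBk 2 H (bm 2 S) M L) (l : E ≤ L)
include h l

theorem nEL (hg : g ∈ H) (n : g ∈ 𝐍 E) : g ∈ 𝐍 L := mem_normalizer_iff_cj.2 (((h.conj i.cm hg).eq_or h i.cm).resolve_right
  fun e => i.bk.blk.not_comm ((cj_eq_self n).ge.trans (cj_mono g l)) (le_bot_iff.1 ((commutator_mono le_rfl l).trans e.le)))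
omit l in
theorem cL (hg : g ∈ H) (n : g ∉ 𝐍 L) : L ≤ 𝐂 (cj g L) := H28.commutator_eq_bot_iff.1
  ((h.eq_or (h.conj i.cm hg) i.cm).resolve_left fun e => n (mem_normalizer_iff_cj.2 e.symm))

theorem xS0 (c : C5 (bm 2 S) L π ψ) : x ∈ 𝐍 (S ⊓ 𝐍 L : Subgroup X) := by
  have l1 : S ⊓ 𝐍 E ≤ S ⊓ 𝐍 L := fun y hy => ⟨hy.1, i.nEL h l (i.SH hy.1) hy.2⟩
  by_cases e : S ⊓ 𝐍 L ≤ 𝐍 E
  · exact le_antisymm l1 (le_inf inf_le_left e) ▸ i.xS1
  have op : ∀ y ∈ S ⊓ 𝐍 L, (∀ j, π y j = j ∨ π y j = τ₀ j) → y ∈ 𝐍 E := fun y hy k => by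
    obtain ⟨b, hb, e⟩ := c.exB k
    exact mul_inv_cancel_left b y ▸ mul_mem (i.bk.nrm hb) (i.bk.blk.cen_nrm i.cm.toAmb i.EH ⟨i.SH (mul_mem (inv_mem (bm_le hb)) hy.1),
      centralizer_anti (i.WL h l) (c.cen (c.nrm hb) hy.2 e)⟩)
  have cτ := c.cτ _ (i.pS.to_le inf_le_left) (le_inf bm_le c.nrm) inf_le_right
  have tw : ∀ y ∈ S ⊓ 𝐍 L, ∀ z ∈ S ⊓ 𝐍 L, (¬ ∀ j, π y j = j ∨ π y j = τ₀ j) → z ∉ 𝐍 E → y * z ∈ 𝐍 E := fun y hy z hz y1 z1 =>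
    op _ (mul_mem hy hz) (c.πm y hy.2 z hz.2 ▸ d5d _ (cτ y hy) y1 _ (cτ z hz) (mt (op z hz) z1))
  obtain ⟨t, t1, t2⟩ := exists_t c (h.sn.isSylowIn_inf i.sylH) i.pS bm_le
  have t3 : t ∉ 𝐍 E := fun k => e fun z hz => by_contra fun n =>
    n ((mul_mem_cancel_left k).1 (tw t ⟨t1.1, le_normalizer t1.2⟩ z hz t2 n))
  suffices k : S ⊓ 𝐍 L = S ⊓ 𝐍 (S ⊓ 𝐍 E : Subgroup X) from
    k ▸ le_normalizer_inf (zpowers_le.2 i.xN) (zpowers_le.2 (le_normalizer i.xS1)) (mem_zpowers x)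
  refine le_antisymm (fun y hy => ⟨hy.1, mem_normalizer_of_cj_le ?a⟩) fun y hy => mem_inf.2 ⟨hy.1, by_contra fun n => t3 ?b⟩
  case a =>
    rintro _ ⟨u, hu, rfl⟩
    have u2 := (mem_inf.1 hu).2
    refine mem_inf.2 ⟨conj_mem_of_mem_normalizer (le_normalizer hy.1) hu.1, (em (y ∈ 𝐍 E)).elim (fun k => mul_mem (mul_mem k u2) (inv_mem k))
      fun k => tw _ (mul_mem hy (l1 hu)) _ (inv_mem hy) (fun j => k ((mul_mem_cancel_right u2).1 (op _ (mul_mem hy (l1 hu)) j)))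
        (mt inv_mem_iff.1 k)⟩
  case b =>
    refine (mem_inf.1 ((Q5.mem_iff (H := S ⊓ 𝐍 E) (mem_inf.1 hy).2).1 (mem_inf.2
      ⟨conj_mem_of_mem_normalizer' (le_normalizer hy.1) t1.1, ?_⟩))).2
    rw [← mem_cj, cj_normalizer]
    exact centralizer_le_normalizer _ (centralizer_anti (cj_mono y l) (i.cL h (i.SH hy.1) n t1.2))

variable (ty : L = E ∨ ∃ π ψ, C5 (bm 2 S) L π ψ) (hs : s ∈ S) (n : s ∉ 𝐍 L)
include ty hs n

theorem toB : ∃ T' S' H', IB T' M S' H' := by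
  have hx : x ∈ 𝐍 (S ⊓ 𝐍 L : Subgroup X) := ty.elim (fun e => e ▸ i.xS1) fun ⟨_, _, c⟩ => i.xS0 h l c
  have x2 : x * x ∈ S ⊓ 𝐍 L := ⟨i.x2, i.nEL h l (i.SH i.x2) i.x2E⟩
  have lB : bm 2 S ≤ S ⊓ 𝐍 L := le_inf bm_le h.nrm
  have n1 : S ⊓ 𝐍 L ≤ 𝐍 (W₂ L) := nrmW inf_le_right
  have n2 : S ⊓ 𝐍 L ≤ 𝐍 (W₂ L ⊓ cj x (W₂ L) : Subgroup X) := le_normalizer_inf n1 (by
    rw [← cj_normalizer, ← cj_eq_self hx]; exact cj_mono x n1)
  obtain ⟨_, p0, p⟩ := i.pc1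
  refine ⟨T, _, _, i.ib lB inf_le_left hx x2 (i.new' (gam_of (U := W₂ L ⊓ cj x (W₂ L)) ((ea_isPGroup eaW).to_le inf_le_left)
    (fun e => i.nc (H28.commutator_eq_bot_iff.1 (le_bot_iff.1 (le_trans ?_ e.le)))) (i.pp' hs) (sup_le ?_ (lB.trans n2)))
    (sup_le (zpowers_le.2 i.xT) (inf_le_left.trans i.ST)) (sup_le (zpowers_le.2 ?_) n2) ?_)⟩
  · refine le_trans (le_inf (commutator_le.2 fun u hu v hv => comm_mem_of' (nrmW i.bk.nrm ((p x i.xB).le hu)) hv)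
      (commutator_le.2 fun u hu v hv => comm_mem_of ?_ hu (p0.le hv))) (inf_le_inf (i.WL h l) (cj_mono x (i.WL h l)))
    rw [cj_W]; exact nrmW (i.bk.conj' i.xB).nrm
  · exact le_normalizer_of_le_centralizer ((cj_mono s l).trans ((le_centralizer_comm.1 (i.cL h (i.SH hs) n)).trans
      (centralizer_anti (inf_le_left.trans W_le_E))))
  · rw [mem_normalizer_iff_cj, cj_inf, cj_cj, cj_eq_self (n1 x2), inf_comm]
  · have := Fact.mk Nat.prime_two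
    exact (((i.orb h).mono i.SH).card_le inf_le_left).trans (mul_card_le (i.pg.to_le (sup_le (zpowers_le.2 i.xT)
      (inf_le_left.trans i.ST))) (lt_of_le_of_ne le_sup_right fun e => i.xS (e.ge (mem_sup_left (mem_zpowers x))).1))

theorem nex : ¬ Ex S H := by
  have n' : s ∉ 𝐍 E := mt (i.nEL h l (i.SH hs)) n
  have q : 2 ≤ # F := Finite.one_lt_card
  have i1 := i.idxB hs n'
  have i2 := two_le (H := bm 2 S) fun e : S ≤ _ => n' (i.bk.nrm (e hs))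
  have i3 := relIndex_mul_relIndex (QQ S E) _ S QB bm_le
  have c := i.cL h (i.SH hs) n
  rintro (k | ⟨A, e, k1, k2, k⟩)
  · have c1 := card_idx (QQ S E) S
    have c2 := card_idx (𝐂 E) (QQ S E)
    have c3 := card_idx (𝐂 E) (W₂ E)
    have c4 := idx_mono (H := 𝐂 E) (i.W1.trans i.WQ)
    have c5 := card_le_of_le' (le_inf ((cj_mono s (W_le_E.trans l)).trans ((le_centralizer_comm.1 c).trans
      (centralizer_anti l))) ((W_le hs).trans i.WQ))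
    have c6 : 0 < # ↥(𝐂 E ⊓ W₂ E) := Nat.card_pos
    rw [card_cj] at c5
    rw [inf_of_le_left (QB.trans bm_le)] at c1
    rw [i.bk.idxW] at c3 c4
    have c7 : 4 ≤ # F * # F := Nat.mul_le_mul q q
    have c8 : 4 * 4 ≤ # (QQ S E) := c2 ▸ Nat.mul_le_mul (c7.trans c4) (by nlinarith)
    have c9 : 4 * 2 ≤ (QQ S E).relIndex S := i3 ▸ Nat.mul_le_mul (by omega) i2
    nlinarith
  have lA : A ≤ QQ S E := i.eqO ▸ le_pCoreOf (ea_isPGroup k2) (e ▸ le_normalizer) e.le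
  obtain rfl : A = QQ S E := le_antisymm lA (((ea_le_centralizer i.ea).trans (centralizer_anti lA)).trans k1)
  rcases k with ⟨A, a1, a2, a3, a4⟩ | ⟨k, a, ha, b, hb, a3, b3, ab⟩
  · obtain ⟨A', b1, b2, b3, b4⟩ := i.tb1 hs n' a1 a2 a3
    exact (a4 A' b1 b2).elim b3 b4
  rcases ty with rfl | ⟨π, ψ, c⟩
  swap
  · obtain ⟨t, t1, t2⟩ := exists_t c (h.sn.isSylowIn_inf i.sylH) i.pS bm_le
    have := three_le (H := bm 2 S) t1.1 hs (mt (c.up t) t2) (fun e => n (c.nrm e)) fun e =>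
      n ((mul_mem_cancel_left (inv_mem (le_normalizer t1.2))).1 (c.nrm e))
    nlinarith
  replace q : # F = 2 := by nlinarith
  have h' := h.conj i.cm (i.SH hs)
  obtain ⟨g1, g2⟩ := g3 i.bk q
  obtain ⟨g3, g4⟩ := g3 (i.bks hs) q
  have l1 := i.W1.trans i.WQ
  have l2 : W₂ (cj s L) ≤ QQ S L := by rw [← cj_W]; exact (W_le hs).trans i.WQ
  obtain ⟨u, u1, u2⟩ := SetLike.not_le_iff_exists.1 h.not_cen'
  obtain ⟨v, v1, v2⟩ := SetLike.not_le_iff_exists.1 h'.not_cen'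
  have f1 := fun y (hy : y ∈ 𝐍 (QQ S L)) y3 => l1 (g2 y (two_cube (i.orb h) (e.ge hy) y3) y3 u u1)
  have f2 := fun y (hy : y ∈ 𝐍 (QQ S L)) y3 => l2 (g4 y (two_cube (i.orb h') (e.ge hy) y3) y3 v v1)
  have m1 := i.HN (h.le u1)
  have m2 := i.HN (h'.le v1)
  exact i.qt3 (C := 𝐂 (W₂ (cj s L))) (D := fm a (QQ S L)) Nat.prime_three (by decide) i.pQ i.Q_ne i.pQ ⟨m1, m1⟩ ⟨m2, m2⟩ ⟨hb, hb⟩
    (l1 (g1 u u1)) (l2 (g3 v v1)) (b3 ▸ one_mem _) (mem_c_comm'.1 (cen_le_c v1 (c u1)) ▸ one_mem _)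
    (commutatorElement_mem_comm.1 (f1 b hb b3)) (commutatorElement_mem_comm.1 (f2 b hb b3))
    (le_inf ((ea_le_centralizer i.ea).trans (centralizer_anti l2)) fun y hy => ⟨le_normalizer hy, comm_mem_of' ha hy⟩)
    (fun k => u2 (i.QC k)) ⟨centralizer_anti W_le_E (c u1), m1, f1 a ha a3⟩ v2 ⟨m2, f2 a ha a3⟩ fun k => ab k.2

end A0

theorem tha (k : K32.{u}) (a5s : A5S.{u}) (a5x : K32.{u} → A5X.{u}) (ha : HA.{u}) (hb : HB.{u}) (hc : HC.{u}) : ThA.{u} :=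
  fun X _ _ T M S H j cp => by
  obtain ⟨x, j⟩ := j.ia cp
  obtain ⟨E, F, _, _, e1, e2, e3⟩ := j.exists_bk
  obtain ⟨s, -, i⟩ := j.a0 e1 e2 e3
  by_cases n : S ≤ 𝐍 E
  · exact .inl (i.lin n ha hb hc)
  obtain ⟨L, h, l, ty⟩ := cm_sbk i.cm e1 e2 e3
  replace ty : L = E ∨ ∃ π ψ, C5 (bm 2 S) L π ψ := ty.imp_right fun ⟨_, m, _, ⟨D⟩⟩ => by
    obtain rfl := i.deg h D
    exact exists_c5 D h.toBlk
  by_cases n' : S ≤ 𝐍 L
  · obtain ⟨π, ψ, c⟩ := ty.resolve_left fun e => n (e ▸ n')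
    have := i.a5 h l c n'
    exact (a5x k X _ _ _ _ _ _ _ _ _ _ _ _ this (a5s X _ _ _ _ _ _ _ _ _ _ _ this)).elim
  obtain ⟨t, t1, t2⟩ := SetLike.not_le_iff_exists.1 n'
  exact .inr ⟨i.nex h l ty t1 t2, i.toB h l ty t1 t2⟩

end H21.UM
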